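import Mathlib
import Cfsg.Agent.Lib.Helper87.FusionAlperin

set_option autoImplicit false

namespace Cfsg.Agent.Helper85

open Cfsg Cfsg.FusionSystem Cfsg.Agent.Helper87

variable {Ω : Type*} [Group Ω] {S : Subgroup Ω}

/-- Alperin-type induction principle with the inductive hypothesis for larger subgroups available in the
automorphism step (proof adapted from `Cfsg.Agent.Helper87.alperin`). -/
theorem alperin_ind {p : ℕ} [Fact p.Prime] [Finite S] (hS : IsPGroup p S) {F : FusionSystem S}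
    (hF : F.IsSaturated p) (C : Subgroup Ω → (Ω → Ω) → Prop) (hC : AlperinClosed F C)
    (haut : ∀ R : Subgroup Ω, F.IsFullyNormalized R →
      (∀ (P' : Subgroup Ω) (f' : Ω → Ω), Mor F P' f' → Nat.card R < Nat.card P' → C P' f') →
      ∀ α : Ω → Ω, Iso F R R α → C R α) :
    ∀ (P : Subgroup Ω) (f : Ω → Ω), Mor F P f → C P f := by
  classical
  suffices H : ∀ n : ℕ, ∀ (P : Subgroup Ω) (f : Ω → Ω), Mor F P f →
      Nat.card S - Nat.card P = n → C P f from fun P f h => H _ P f h rfl
  intro n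
  induction n using Nat.strong_induction_on with
  | _ n ih =>
  intro P f hf hn
  have hPle := Subgroup.card_le_of_le hf.le
  have IH : ∀ (P' : Subgroup Ω) (f' : Ω → Ω), Mor F P' f' → Nat.card P < Nat.card P' → C P' f' := by
    intro P' f' hf' hlt
    have hle := Subgroup.card_le_of_le hf'.le
    exact ih (Nat.card S - Nat.card P') (by omega) P' f' hf' rfl
  have stepC : ∀ (Pst : Subgroup Ω) (α : Ω → Ω), F.IsFullyNormalized Pst →
      Nat.card Pst = Nat.card P → Iso F Pst Pst α → C Pst α := by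
    intro Pst α hfn hcard hα
    exact haut Pst hfn (fun P' f' hf' hlt => IH P' f' hf' (hcard ▸ hlt)) α hα
  by_cases hPS : P = S
  · subst hPS
    have hiso : Iso F P P f := iso_of_card_le hf le_rfl (fun n hn => hf.mem hn) le_rfl
    exact stepC P f (fullyNormalized_self F) rfl hiso
  · obtain ⟨Pst, hconj, hfn⟩ := exists_fullyNormalized_conj F hf.le
    have hQ : Iso F P hf.image f := Iso.of_mor hf
    obtain ⟨ψ1, hψ1, hψ1i⟩ := exists_map_normalizer_to_fullyNormalized hS hF hfn hconj
    have hconj2 : F.IsConj hf.image Pst :=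
      isConj_trans (isConj_symm (isConj_iff.2 ⟨f, hQ⟩)) hconj
    obtain ⟨ψ2, hψ2, hψ2i⟩ := exists_map_normalizer_to_fullyNormalized hS hF hfn hconj2
    obtain ⟨n1, hn1, hn1P⟩ := exists_normalizer_not_mem hS hf.le hPS
    have hlt1 : Nat.card P < Nat.card (normalizerIn S P) :=
      card_lt_of_not_mem (le_normalizerIn hf.le) inf_le_left hn1 hn1P
    have hcardQ : Nat.card P = Nat.card hf.image := hQ.card_eq
    have hQS : hf.image ≠ S := by
      intro h
      have h1 : Nat.card P = Nat.card S := by rw [hcardQ, h]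
      exact hPS (Subgroup.eq_of_le_of_card_ge hf.le (le_of_eq h1.symm))
    obtain ⟨n2, hn2, hn2Q⟩ := exists_normalizer_not_mem hS hf.image_le hQS
    have hlt2 : Nat.card P < Nat.card (normalizerIn S hf.image) := by
      rw [hcardQ]
      exact card_lt_of_not_mem (le_normalizerIn hf.image_le) inf_le_left hn2 hn2Q
    have C1 : C (normalizerIn S P) ψ1 := IH _ _ hψ1 hlt1
    have hM : Iso F (normalizerIn S hf.image) hψ2.image ψ2 := Iso.of_mor hψ2
    obtain ⟨ψ2', hψ2', e1, e2⟩ := hM.symm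
    have hlt3 : Nat.card P < Nat.card hψ2.image := by
      rw [← hM.card_eq]; exact hlt2
    have C3 : C hψ2.image ψ2' := IH _ _ hψ2'.1 hlt3
    obtain ⟨ψ1', hψ1', d1, d2⟩ := hψ1i.symm
    have hα : Iso F Pst Pst (fun x => ψ2 (f (ψ1' x))) := (hψ1'.comp hQ).comp hψ2i
    have hcardPst : Nat.card Pst = Nat.card P := hψ1i.card_eq.symm
    have Cα := stepC Pst _ hfn hcardPst hα
    have hPstM : Pst ≤ hψ2.image := by
      intro y hy
      obtain ⟨x, hx, rfl⟩ := hψ2i.surj hy
      exact ⟨x, le_normalizerIn hf.image_le hx, rfl⟩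
    have CP1 : C P ψ1 := hC.restrict hψ1 C1 (le_normalizerIn hf.le)
    have CPst3 : C Pst ψ2' := hC.restrict hψ2'.1 C3 hPstM
    have step1 := hC.comp hψ1i.1 hα.1 (fun x hx => hψ1i.map_mem hx) CP1 Cα
    have hmor1 : Mor F P (fun x => (fun x => ψ2 (f (ψ1' x))) (ψ1 x)) :=
      hψ1i.1.comp hα.1 (fun x hx => hψ1i.map_mem hx)
    have step2 := hC.comp hmor1 (hψ2'.1.restrict hPstM)
      (fun x hx => hα.map_mem (hψ1i.map_mem hx)) step1 CPst3
    refine hC.congr step2 (fun x hx => ?_)
    show ψ2' (ψ2 (f (ψ1' (ψ1 x)))) = f x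
    rw [d1 x hx]
    exact e1 _ (le_normalizerIn hf.image_le (hQ.map_mem hx))

end Cfsg.Agent.Helper85
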