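import Cfsg.Prelude.Def_FusionComponents
import Mathlib

set_option autoImplicit false
open Cfsg

namespace Cfsg.Agent.Helper85

variable {Ω : Type*} [Group Ω] {S : Subgroup Ω}

/-- restriction of a map of the system to a smaller subgroup is a map of the system -/
theorem restrict_mem (F : FusionSystem S) {P R : Subgroup Ω} {φ : P →* Ω} (hφ : φ ∈ F.Hom P) (hRP : R ≤ P) :
    φ.comp (Subgroup.inclusion hRP) ∈ F.Hom R := by
  have hPS := (F.le_of_mem hφ).1
  have h1 : conjHom R (1 : Ω) ∈ F.Hom R := F.conj_mem (hRP.trans hPS) S.one_mem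
  have hval : ∀ x : R, conjHom R (1 : Ω) x ∈ P := by
    intro x
    show (1 : Ω) * x * (1 : Ω)⁻¹ ∈ P
    simpa using hRP x.2
  have h2 := F.comp_mem h1 hφ hval
  have : φ.comp ((conjHom R (1 : Ω)).codRestrict P hval) = φ.comp (Subgroup.inclusion hRP) := by
    ext x
    simp only [MonoidHom.comp_apply]
    congr 1
    apply Subtype.ext
    show (1 : Ω) * x * (1 : Ω)⁻¹ = x
    simp
  rwa [this] at h2

/-- the inclusion of a subgroup of `S` is a map of the system -/
theorem subtype_mem (F : FusionSystem S) {P : Subgroup Ω} (hP : P ≤ S) : P.subtype ∈ F.Hom P := by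
  have h1 : conjHom P (1 : Ω) ∈ F.Hom P := F.conj_mem hP S.one_mem
  have : conjHom P (1 : Ω) = P.subtype := by
    ext x
    show (1 : Ω) * x * (1 : Ω)⁻¹ = x
    simp
  rwa [this] at h1

/-- subgroups of a finite subgroup form a finite set -/
theorem finite_le [Finite S] : {Q : Subgroup Ω | Q ≤ S}.Finite := by
  refine Set.Finite.subset (Set.finite_range (fun Q : Subgroup S => Q.map S.subtype)) ?_
  intro Q hQ
  exact ⟨Q.subgroupOf S, Subgroup.map_subgroupOf_eq_of_le hQ⟩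

theorem map_subgroupOf_eq_iff {P Q Q' : Subgroup Ω} (ψ : P →* Ω) :
    (Q.subgroupOf P).map ψ = Q' ↔
      (∀ x : P, (x : Ω) ∈ Q → ψ x ∈ Q') ∧ ∀ y ∈ Q', ∃ x : P, (x : Ω) ∈ Q ∧ ψ x = y := by
  constructor
  · rintro rfl
    refine ⟨fun x hx => ⟨x, Subgroup.mem_subgroupOf.2 hx, rfl⟩, ?_⟩
    rintro y ⟨x, hx, rfl⟩
    exact ⟨x, Subgroup.mem_subgroupOf.1 hx, rfl⟩
  · rintro ⟨h1, h2⟩
    apply le_antisymm
    · rintro y ⟨x, hx, rfl⟩
      exact h1 x (Subgroup.mem_subgroupOf.1 hx)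
    · intro y hy
      obtain ⟨x, hx, rfl⟩ := h2 y hy
      exact ⟨x, Subgroup.mem_subgroupOf.2 hx, rfl⟩

end Cfsg.Agent.Helper85
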