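import Cfsg.Prelude.Def_FusionComponents
import Mathlib
import Cfsg.Agent.Lib.Helper85.FusionBasic

set_option autoImplicit false
open Cfsg

namespace Cfsg.Agent.Helper85

variable {Ω : Type*} [Group Ω] {S : Subgroup Ω} {Ω' : Type*} [Group Ω']

theorem mem_preimageAlong {θ : S →* Ω'} {P' : Subgroup Ω'} {x : Ω} :
    x ∈ FusionSystem.preimageAlong θ P' ↔ ∃ h : x ∈ S, θ ⟨x, h⟩ ∈ P' := by
  unfold FusionSystem.preimageAlong
  constructor
  · rintro ⟨y, hy, rfl⟩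
    exact ⟨y.2, hy⟩
  · rintro ⟨h, hx⟩
    exact ⟨⟨x, h⟩, hx, rfl⟩

theorem preimageAlong_le (θ : S →* Ω') (P' : Subgroup Ω') : FusionSystem.preimageAlong θ P' ≤ S :=
  fun _ hx => (mem_preimageAlong.1 hx).1

theorem preimageAlong_mono (θ : S →* Ω') {P' Q' : Subgroup Ω'} (h : P' ≤ Q') :
    FusionSystem.preimageAlong θ P' ≤ FusionSystem.preimageAlong θ Q' := by
  intro x hx
  obtain ⟨hxS, hx'⟩ := mem_preimageAlong.1 hx
  exact mem_preimageAlong.2 ⟨hxS, h hx'⟩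

/-- strongly closed subgroups are preserved by the maps of the system, in both directions -/
theorem stronglyClosed_mem_iff (F : FusionSystem S) {S₀ : Subgroup Ω} (hS₀ : F.StronglyClosed S₀)
    {P : Subgroup Ω} {φ : P →* Ω} (hφ : φ ∈ F.Hom P) (x : P) : φ x ∈ S₀ ↔ (x : Ω) ∈ S₀ := by
  constructor
  · intro hx
    obtain ⟨ψ, hψ, hinv⟩ := F.inv_mem hφ
    have hle : φ.range ⊓ S₀ ≤ φ.range := inf_le_left
    have hψ' := restrict_mem F hψ hle
    have := hS₀.2 (φ.range ⊓ S₀) inf_le_right _ hψ' ⟨φ x, ⟨⟨x, rfl⟩, hx⟩⟩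
    simp only [MonoidHom.comp_apply] at this
    have e : Subgroup.inclusion hle ⟨φ x, ⟨⟨x, rfl⟩, hx⟩⟩ = ⟨φ x, ⟨x, rfl⟩⟩ := rfl
    rw [e, hinv] at this
    exact this
  · intro hx
    have hle : P ⊓ S₀ ≤ P := inf_le_left
    have hφ' := restrict_mem F hφ hle
    exact hS₀.2 (P ⊓ S₀) inf_le_right _ hφ' ⟨x, ⟨x.2, hx⟩⟩

/-- a map of the system whose source contains a finite strongly closed subgroup maps it onto itself -/
theorem stronglyClosed_surj [Finite S] (F : FusionSystem S) {S₀ : Subgroup Ω} (hS₀ : F.StronglyClosed S₀)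
    {P : Subgroup Ω} {φ : P →* Ω} (hφ : φ ∈ F.Hom P) (hle : S₀ ≤ P) (y : Ω) (hy : y ∈ S₀) :
    ∃ x : P, (x : Ω) ∈ S₀ ∧ φ x = y := by
  have : Finite S₀ := Finite.of_injective (fun x : S₀ => (⟨x, hS₀.1 x.2⟩ : S))
    (fun a b h => Subtype.ext (congrArg (fun z : S => (z : Ω)) h))
  let f : S₀ → S₀ := fun x => ⟨φ ⟨x, hle x.2⟩, (stronglyClosed_mem_iff F hS₀ hφ ⟨x, hle x.2⟩).2 x.2⟩
  have hinj : Function.Injective f := by
    intro a b hab
    have h1 : φ ⟨a, hle a.2⟩ = φ ⟨b, hle b.2⟩ := congrArg Subtype.val hab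
    have h2 := F.injective_of_mem hφ h1
    exact Subtype.ext (congrArg (fun z : P => (z : Ω)) h2)
  have hsurj := Finite.surjective_of_injective hinj
  obtain ⟨x, hx⟩ := hsurj ⟨y, hy⟩
  exact ⟨⟨x, hle x.2⟩, x.2, congrArg Subtype.val hx⟩

section factor

variable (F : FusionSystem S) (S₀ : Subgroup Ω) (θ : S →* Ω') (S' : Subgroup Ω')

/-- the maps of the factor system -/
def factorHom (P' : Subgroup Ω') : Set (P' →* Ω') :=
  {φ' | P' ≤ S' ∧ ∃ φ ∈ F.Hom (FusionSystem.preimageAlong θ P'), FusionSystem.InducedAlong θ φ φ'}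

variable {F S₀ θ S'}

theorem exists_preimage (hrange : θ.range = S') {P' : Subgroup Ω'} (hP' : P' ≤ S') (y : P') :
    ∃ (x : Ω) (hx : x ∈ FusionSystem.preimageAlong θ P'), θ ⟨x, preimageAlong_le θ P' hx⟩ = y := by
  have hy : (y : Ω') ∈ θ.range := hrange ▸ hP' y.2
  obtain ⟨s, hs⟩ := hy
  refine ⟨s, mem_preimageAlong.2 ⟨s.2, ?_⟩, hs⟩
  rw [show (⟨(s : Ω), s.2⟩ : S) = s from rfl, hs]
  exact y.2

theorem factorHom_injective (hker : ∀ s : S, θ s = 1 ↔ (s : Ω) ∈ S₀) (hrange : θ.range = S')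
    (hS₀ : F.StronglyClosed S₀) {P' : Subgroup Ω'} {φ' : P' →* Ω'} (h : φ' ∈ factorHom F θ S' P') :
    Function.Injective φ' := by
  obtain ⟨hP', φ, hφ, hP, hφS, hPP', hind⟩ := h
  rw [injective_iff_map_eq_one]
  intro y hy
  obtain ⟨x, hx, hxy⟩ := exists_preimage hrange hP' y
  have h1 := hind ⟨x, hx⟩
  have e : (⟨θ ⟨x, hP hx⟩, hPP' ⟨x, hx⟩⟩ : P') = y := Subtype.ext hxy
  rw [e, hy] at h1
  have h2 : φ ⟨x, hx⟩ ∈ S₀ := (hker _).1 h1.symm
  have h3 : x ∈ S₀ := (stronglyClosed_mem_iff F hS₀ hφ ⟨x, hx⟩).1 h2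
  have h4 : θ ⟨x, hP hx⟩ = 1 := (hker _).2 h3
  apply Subtype.ext
  rw [← hxy]
  exact h4

theorem ker_le_preimageAlong (hker : ∀ s : S, θ s = 1 ↔ (s : Ω) ∈ S₀) (hS₀S : S₀ ≤ S) (P' : Subgroup Ω') :
    S₀ ≤ FusionSystem.preimageAlong θ P' := by
  intro x hx
  refine mem_preimageAlong.2 ⟨hS₀S hx, ?_⟩
  rw [(hker ⟨x, hS₀S hx⟩).2 hx]
  exact P'.one_mem

/-- the factor system of `F` modulo a strongly closed subgroup `S₀`, read through `θ` -/
def factorSystem [Finite S] (F : FusionSystem S) (S₀ : Subgroup Ω) (θ : S →* Ω') (S' : Subgroup Ω')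
    (hker : ∀ s : S, θ s = 1 ↔ (s : Ω) ∈ S₀) (hrange : θ.range = S')
    (hS₀ : F.StronglyClosed S₀) : FusionSystem S' where
  Hom P' := factorHom F θ S' P'
  le_of_mem := by
    rintro P' φ' ⟨hP', φ, hφ, hP, hφS, hPP', hind⟩
    refine ⟨hP', fun y => ?_⟩
    obtain ⟨x, hx, hxy⟩ := exists_preimage hrange hP' y
    have h1 := hind ⟨x, hx⟩
    have e : (⟨θ ⟨x, hP hx⟩, hPP' ⟨x, hx⟩⟩ : P') = y := Subtype.ext hxy
    rw [e] at h1
    rw [h1, ← hrange]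
    exact ⟨_, rfl⟩
  injective_of_mem := fun h => factorHom_injective hker hrange hS₀ h
  conj_mem := by
    intro P' g' hP' hg'
    have hg'' : g' ∈ θ.range := hrange ▸ hg'
    obtain ⟨g, rfl⟩ := hg''
    refine ⟨hP', conjHom _ (g : Ω), F.conj_mem (preimageAlong_le θ P') g.2, preimageAlong_le θ P', ?_, ?_, ?_⟩
    · intro x
      exact S.mul_mem (S.mul_mem g.2 (preimageAlong_le θ P' x.2)) (S.inv_mem g.2)
    · intro x
      exact (mem_preimageAlong.1 x.2).2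
    · intro x
      show θ g * θ ⟨x, _⟩ * (θ g)⁻¹ = θ ⟨(g : Ω) * x * (g : Ω)⁻¹, _⟩
      rw [← map_inv, ← map_mul, ← map_mul]
      rfl
  comp_mem := by
    rintro P' Q' φ' ψ' ⟨hP', φ, hφ, hP, hφS, hPP', hind⟩ ⟨hQ', ψ, hψ, hQ, hψS, hQQ', hind'⟩ hval
    have hv : ∀ x : FusionSystem.preimageAlong θ P', φ x ∈ FusionSystem.preimageAlong θ Q' := by
      intro x
      refine mem_preimageAlong.2 ⟨hφS x, ?_⟩
      rw [← hind x]
      exact hval _
    refine ⟨hP', _, F.comp_mem hφ hψ hv, hP, fun x => hψS _, hPP', fun x => ?_⟩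
    simp only [MonoidHom.comp_apply]
    have e : (φ'.codRestrict Q' hval) ⟨θ ⟨x, hP x.2⟩, hPP' x⟩ = ⟨θ ⟨φ x, hφS x⟩, hQQ' ⟨φ x, hv x⟩⟩ := by
      apply Subtype.ext
      exact hind x
    rw [e]
    exact hind' ⟨φ x, hv x⟩
  inv_mem := by
    intro P' φ' hφ'
    have hinj := factorHom_injective hker hrange hS₀ hφ'
    obtain ⟨hP', φ, hφ, hP, hφS, hPP', hind⟩ := hφ'
    obtain ⟨ψ, hψ, hinv⟩ := F.inv_mem hφ
    have hS₀P : S₀ ≤ FusionSystem.preimageAlong θ P' := ker_le_preimageAlong hker hS₀.1 P'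
    have hle : FusionSystem.preimageAlong θ φ'.range ≤ φ.range := by
      intro z hz
      obtain ⟨hzS, y, hy⟩ := mem_preimageAlong.1 hz
      obtain ⟨x, hx, hxy⟩ := exists_preimage hrange hP' y
      have h1 := hind ⟨x, hx⟩
      have e : (⟨θ ⟨x, hP hx⟩, hPP' ⟨x, hx⟩⟩ : P') = y := Subtype.ext hxy
      rw [e, hy] at h1
      -- θ z = θ (φ x), so z * (φ x)⁻¹ ∈ S₀
      have h2 : θ (⟨z, hzS⟩ * ⟨φ ⟨x, hx⟩, hφS ⟨x, hx⟩⟩⁻¹) = 1 := by
        rw [map_mul, map_inv, h1, mul_inv_cancel]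
      have h3 : z * (φ ⟨x, hx⟩)⁻¹ ∈ S₀ := (hker _).1 h2
      obtain ⟨w, hw, hwz⟩ := stronglyClosed_surj F hS₀ hφ hS₀P _ h3
      refine ⟨w * ⟨x, hx⟩, ?_⟩
      rw [map_mul, hwz]
      group
    have hφ'range : φ'.range ≤ S' := by
      rintro _ ⟨y, rfl⟩
      obtain ⟨x, hx, hxy⟩ := exists_preimage hrange hP' y
      have h1 := hind ⟨x, hx⟩
      have e : (⟨θ ⟨x, hP hx⟩, hPP' ⟨x, hx⟩⟩ : P') = y := Subtype.ext hxy
      rw [e] at h1
      rw [h1, ← hrange]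
      exact ⟨_, rfl⟩
    let e' : P' ≃* φ'.range := MonoidHom.ofInjective hinj
    refine ⟨P'.subtype.comp e'.symm.toMonoidHom, ⟨hφ'range, ψ.comp (Subgroup.inclusion hle),
      restrict_mem F hψ hle, preimageAlong_le θ _, ?_, ?_, ?_⟩, ?_⟩
    · intro z
      exact (F.le_of_mem hψ).2 _
    · intro z
      exact (mem_preimageAlong.1 z.2).2
    · intro z
      obtain ⟨x, hx⟩ := hle z.2
      simp only [MonoidHom.comp_apply]
      have hz1 : Subgroup.inclusion hle z = ⟨φ x, ⟨x, rfl⟩⟩ := Subtype.ext hx.symm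
      have hz2 : (⟨θ ⟨z, preimageAlong_le θ _ z.2⟩, (mem_preimageAlong.1 z.2).2⟩ : φ'.range) =
          e' ⟨θ ⟨x, hP x.2⟩, hPP' x⟩ := by
        apply Subtype.ext
        show θ ⟨z, _⟩ = φ' ⟨θ ⟨x, hP x.2⟩, hPP' x⟩
        rw [hind x]
        congr 1
        exact Subtype.ext hx.symm
      have hz3 : (⟨ψ (Subgroup.inclusion hle z), (F.le_of_mem hψ).2 _⟩ : S) = ⟨x, hP x.2⟩ := by
        apply Subtype.ext
        show ψ (Subgroup.inclusion hle z) = x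
        rw [hz1, hinv]
      rw [hz3]
      show ((e'.symm ⟨θ ⟨z, _⟩, _⟩ : P') : Ω') = _
      rw [hz2, MulEquiv.symm_apply_apply]
    · intro y
      show ((e'.symm ⟨φ' y, _⟩ : P') : Ω') = y
      have : (⟨φ' y, ⟨y, rfl⟩⟩ : φ'.range) = e' y := rfl
      rw [this, MulEquiv.symm_apply_apply]

theorem factorSystem_isFactorSystem [Finite S] (F : FusionSystem S) (S₀ : Subgroup Ω) (θ : S →* Ω') (S' : Subgroup Ω')
    (hker : ∀ s : S, θ s = 1 ↔ (s : Ω) ∈ S₀) (hrange : θ.range = S')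
    (hS₀ : F.StronglyClosed S₀) :
    F.IsFactorSystem S₀ θ (factorSystem F S₀ θ S' hker hrange hS₀) :=
  ⟨hS₀.1, hker, hrange, fun _ _ => Iff.rfl⟩

end factor

end Cfsg.Agent.Helper85
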