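import Mathlib
import Cfsg.Agent.Lib.Helper85.FactorSystem

set_option autoImplicit false

namespace Cfsg.Agent.Helper85

open Cfsg Cfsg.FusionSystem

variable {Ω : Type*} [Group Ω] {S : Subgroup Ω} {Ω' : Type*} [Group Ω']

theorem mem_imageAlong {θ : S →* Ω'} {P : Subgroup Ω} {y : Ω'} :
    y ∈ imageAlong θ P ↔ ∃ (x : Ω) (hx : x ∈ S), x ∈ P ∧ θ ⟨x, hx⟩ = y := by
  unfold imageAlong
  constructor
  · rintro ⟨s, hs, rfl⟩
    exact ⟨s, s.2, Subgroup.mem_subgroupOf.1 hs, rfl⟩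
  · rintro ⟨x, hx, hxP, rfl⟩
    exact ⟨⟨x, hx⟩, Subgroup.mem_subgroupOf.2 hxP, rfl⟩

/-- a map `ψ` of the system on `A ≤ S` induces, along a homomorphism `θ` on `S` whose kernel is strongly closed,
a homomorphism on the image of `A` -/
theorem exists_inducedAlong (F : FusionSystem S) {S₀ : Subgroup Ω} (θ : S →* Ω')
    (hker : ∀ s : S, θ s = 1 ↔ (s : Ω) ∈ S₀) (hS₀ : F.StronglyClosed S₀) {A : Subgroup Ω} {ψ : A →* Ω}
    (hψ : ψ ∈ F.Hom A) :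
    ∃ φ' : imageAlong θ A →* Ω', ∀ (x : A) (hx : (x : Ω) ∈ S) (hx' : θ ⟨x, hx⟩ ∈ imageAlong θ A)
      (hψx : ψ x ∈ S), φ' ⟨θ ⟨x, hx⟩, hx'⟩ = θ ⟨ψ x, hψx⟩ := by
  have hA : A ≤ S := (F.le_of_mem hψ).1
  have hψS : ∀ x : A, ψ x ∈ S := (F.le_of_mem hψ).2
  let θA : A →* imageAlong θ A := (θ.comp (Subgroup.inclusion hA)).codRestrict (imageAlong θ A)
    (fun x => mem_imageAlong.2 ⟨x, hA x.2, x.2, rfl⟩)
  have hsurj : Function.Surjective θA := by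
    rintro ⟨y, hy⟩
    obtain ⟨x, hxS, hxA, rfl⟩ := mem_imageAlong.1 hy
    exact ⟨⟨x, hxA⟩, rfl⟩
  let g : A →* Ω' := θ.comp (ψ.codRestrict S hψS)
  have hle : θA.ker ≤ g.ker := by
    intro x hx
    rw [MonoidHom.mem_ker] at hx ⊢
    have h1 : θ ⟨x, hA x.2⟩ = 1 := congrArg Subtype.val hx
    have h2 : (x : Ω) ∈ S₀ := (hker _).1 h1
    have h3 : ψ x ∈ S₀ := (stronglyClosed_mem_iff F hS₀ hψ x).2 h2
    exact (hker ⟨ψ x, hψS x⟩).2 h3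
  refine ⟨θA.liftOfSurjective hsurj ⟨g, hle⟩, fun x hx hx' hψx => ?_⟩
  have := MonoidHom.liftOfRightInverse_comp_apply θA _ (Function.rightInverse_surjInv hsurj) ⟨g, hle⟩ x
  exact this

end Cfsg.Agent.Helper85
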