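import Mathlib
import Cfsg.Agent.Lib.Helper85.AlperinInd

set_option autoImplicit false

namespace Cfsg.Agent.Helper85

open Cfsg Cfsg.FusionSystem Cfsg.Agent.Helper87

variable {Ω : Type*} [Group Ω] {S : Subgroup Ω}

/-- maps of the system preserve a strongly closed subgroup -/
theorem Mor.map_stronglyClosed {F : FusionSystem S} {T : Subgroup Ω} (hT : F.StronglyClosed T)
    {P : Subgroup Ω} {f : Ω → Ω} (hf : Mor F P f) {x : Ω} (hxP : x ∈ P) (hxT : x ∈ T) : f x ∈ T := by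
  obtain ⟨φ, hφ, e⟩ := hf.restrict (inf_le_left : P ⊓ T ≤ P)
  have := hT.2 (P ⊓ T) inf_le_right φ hφ ⟨x, ⟨hxP, hxT⟩⟩
  rwa [e] at this

/-- a strongly closed subgroup is normalized by `S` -/
theorem stronglyClosed_le_normalizer {F : FusionSystem S} {T : Subgroup Ω} (hT : F.StronglyClosed T) :
    S ≤ Subgroup.normalizer (T : Set Ω) := by
  have key : ∀ s ∈ S, ∀ t ∈ T, s * t * s⁻¹ ∈ T := by
    intro s hs t ht
    have h : Mor F T (fun x => s * x * s⁻¹) := Mor.conj hT.1 hs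
    exact Mor.map_stronglyClosed hT h ht ht
  intro s hs
  rw [Subgroup.mem_normalizer_iff]
  intro t
  constructor
  · exact key s hs t
  · intro h
    have := key s⁻¹ (S.inv_mem hs) _ h
    have e : s⁻¹ * (s * t * s⁻¹) * s⁻¹⁻¹ = t := by group
    rwa [e] at this

theorem mem_sup_iff_of_le_normalizer {P T : Subgroup Ω} (h : P ≤ Subgroup.normalizer (T : Set Ω)) {z : Ω} :
    z ∈ P ⊔ T ↔ ∃ x ∈ P, ∃ t ∈ T, z = x * t := by
  have := Subgroup.coe_mul_of_left_le_normalizer_right P T h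
  rw [← SetLike.mem_coe, this, Set.mem_mul]
  constructor
  · rintro ⟨x, hx, t, ht, rfl⟩; exact ⟨x, hx, t, ht, rfl⟩
  · rintro ⟨x, hx, t, ht, rfl⟩; exact ⟨x, hx, t, ht, rfl⟩

/-- the predicate: `f` on `P` lifts modulo `T` to a map on `P ⊔ T` -/
def LiftMod (F : FusionSystem S) (T : Subgroup Ω) (P : Subgroup Ω) (f : Ω → Ω) : Prop :=
  ∃ f' : Ω → Ω, Mor F (P ⊔ T) f' ∧ ∀ x ∈ P, (f x)⁻¹ * f' x ∈ T

theorem liftMod_closed {F : FusionSystem S} {T : Subgroup Ω} (hT : F.StronglyClosed T) :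
    AlperinClosed F (LiftMod F T) where
  congr := by
    rintro P f f' ⟨g, hg, e⟩ hff
    exact ⟨g, hg, fun x hx => by rw [← hff x hx]; exact e x hx⟩
  restrict := by
    rintro P Q f hf ⟨g, hg, e⟩ hQP
    exact ⟨g, hg.restrict (sup_le_sup_right hQP T), fun x hx => e x (hQP hx)⟩
  comp := by
    rintro P Q f g hf hg hPQ ⟨f', hf', ef⟩ ⟨g', hg', eg⟩
    have hPn : P ≤ Subgroup.normalizer (T : Set Ω) := hf.le.trans (stronglyClosed_le_normalizer hT)
    have hmap : ∀ z ∈ P ⊔ T, f' z ∈ Q ⊔ T := by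
      intro z hz
      obtain ⟨x, hx, t, ht, rfl⟩ := (mem_sup_iff_of_le_normalizer hPn).1 hz
      have hxPT : x ∈ P ⊔ T := (le_sup_left : P ≤ P ⊔ T) hx
      have htPT : t ∈ P ⊔ T := (le_sup_right : T ≤ P ⊔ T) ht
      rw [hf'.map_mul hxPT htPT]
      have h1 : f' x ∈ Q ⊔ T := by
        have : f' x = f x * ((f x)⁻¹ * f' x) := by group
        rw [this]
        exact Subgroup.mul_mem _ ((le_sup_left : Q ≤ Q ⊔ T) (hPQ x hx)) ((le_sup_right : T ≤ Q ⊔ T) (ef x hx))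
      have h2 : f' t ∈ Q ⊔ T := (le_sup_right : T ≤ Q ⊔ T) (Mor.map_stronglyClosed hT hf' htPT ht)
      exact Subgroup.mul_mem _ h1 h2
    refine ⟨fun z => g' (f' z), hf'.comp hg' hmap, fun x hx => ?_⟩
    have hfx : f x ∈ Q := hPQ x hx
    have hfxQT : f x ∈ Q ⊔ T := (le_sup_left : Q ≤ Q ⊔ T) hfx
    have ht : (f x)⁻¹ * f' x ∈ T := ef x hx
    have htQT : (f x)⁻¹ * f' x ∈ Q ⊔ T := (le_sup_right : T ≤ Q ⊔ T) ht
    have e1 : f' x = f x * ((f x)⁻¹ * f' x) := by group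
    have e2 : g' (f' x) = g' (f x) * g' ((f x)⁻¹ * f' x) := by
      conv_lhs => rw [e1]
      exact hg'.map_mul hfxQT htQT
    have h3 : g' ((f x)⁻¹ * f' x) ∈ T := Mor.map_stronglyClosed hT hg' htQT ht
    show (g (f x))⁻¹ * g' (f' x) ∈ T
    rw [e2, ← mul_assoc]
    exact T.mul_mem (eg _ hfx) h3

end Cfsg.Agent.Helper85
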