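import Mathlib
import Cfsg.Agent.Lib.Helper85.QuotLift

set_option autoImplicit false

namespace Cfsg.Agent.Helper85

open Cfsg Cfsg.FusionSystem Cfsg.Agent.Helper87

theorem exists_conj_le_sylow {G : Type*} [Group G] [Finite G] {p : ℕ} [Fact p.Prime] (S : Sylow p G)
    (M : Subgroup G) (hSM : (S : Subgroup G) ≤ M) (Q : Subgroup G) (hQ : IsPGroup p Q) (hQM : Q ≤ M) :
    ∃ m ∈ M, ∀ x ∈ Q, m * x * m⁻¹ ∈ (S : Subgroup G) := by
  have hQM' : IsPGroup p (Q.subgroupOf M) := hQ.comap_subtype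
  obtain ⟨R, hR⟩ := hQM'.exists_le_sylow
  obtain ⟨m, hm⟩ := MulAction.exists_smul_eq M R (S.subtype hSM)
  refine ⟨m, m.2, fun x hx => ?_⟩
  have h1 : (⟨x, hQM hx⟩ : M) ∈ (R : Subgroup M) := hR (Subgroup.mem_subgroupOf.2 hx)
  have h2 : m * ⟨x, hQM hx⟩ * m⁻¹ ∈ ((m • R : Sylow p M) : Subgroup M) := by
    rw [Sylow.smul_def, Sylow.pointwise_smul_def]
    exact ⟨_, h1, rfl⟩
  rw [hm, Sylow.coe_subtype, Subgroup.mem_subgroupOf] at h2
  exact h2

/-- a `p`-subgroup of `S H` (`H` normal) is conjugate into the Sylow subgroup `S` by an element of `H` -/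
theorem exists_conj_le_sylow_normal {G : Type*} [Group G] [Finite G] {p : ℕ} [Fact p.Prime] (S : Sylow p G)
    (H : Subgroup G) [H.Normal] (Q : Subgroup G) (hQ : IsPGroup p Q) (hQM : Q ≤ (S : Subgroup G) ⊔ H) :
    ∃ h ∈ H, ∀ x ∈ Q, h * x * h⁻¹ ∈ (S : Subgroup G) := by
  obtain ⟨m, hm, hmQ⟩ := exists_conj_le_sylow S ((S : Subgroup G) ⊔ H) le_sup_left Q hQ hQM
  have hm' : m ∈ ((↑((S : Subgroup G) ⊔ H) : Set G)) := hm
  rw [Subgroup.mul_normal] at hm'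
  obtain ⟨s, hs, h, hh, rfl⟩ := Set.mem_mul.1 hm'
  refine ⟨h, hh, fun x hx => ?_⟩
  have h1 := hmQ x hx
  have h2 : s⁻¹ * (s * h * x * (s * h)⁻¹) * s ∈ (S : Subgroup G) :=
    Subgroup.mul_mem _ (Subgroup.mul_mem _ (Subgroup.inv_mem _ hs) h1) hs
  have e : s⁻¹ * (s * h * x * (s * h)⁻¹) * s = h * x * h⁻¹ := by group
  rwa [e] at h2

variable {Ω : Type*} [Group Ω] {S : Subgroup Ω}

theorem aut_map_stronglyClosed {F : FusionSystem S} {T R : Subgroup Ω} (hT : F.StronglyClosed T) (hR : R ≤ S)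
    {a : MulAut R} (ha : a ∈ F.autGroup R) (x : R) (hx : (x : Ω) ∈ T) : ((a x : R) : Ω) ∈ T := by
  have h1 : Mor F R (extAut a) := (mem_autGroup_iff hR).1 ha
  have := Mor.map_stronglyClosed hT h1 x.2 hx
  rwa [extAut_apply] at this

/-- the automorphisms of `R` in the system acting trivially on `R` modulo `T` -/
def trivModSub (F : FusionSystem S) (T R : Subgroup Ω) (hT : F.StronglyClosed T) (hR : R ≤ S) :
    Subgroup (F.autGroup R) where
  carrier := {χ | ∀ x : R, (x : Ω)⁻¹ * (((χ : MulAut R) x : R) : Ω) ∈ T}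
  mul_mem' := by
    intro χ₁ χ₂ h₁ h₂ x
    have ht : ((x⁻¹ * (χ₂ : MulAut R) x : R) : Ω) ∈ T := h₂ x
    have e : ((χ₁ * χ₂ : F.autGroup R) : MulAut R) x =
        (χ₁ : MulAut R) x * (χ₁ : MulAut R) (x⁻¹ * (χ₂ : MulAut R) x) := by
      rw [← map_mul]
      show (χ₁ : MulAut R) ((χ₂ : MulAut R) x) = _
      congr 1
      group
    rw [e]
    have h3 := aut_map_stronglyClosed hT hR χ₁.2 _ ht
    have h4 := h₁ x
    show (x : Ω)⁻¹ * ((((χ₁ : MulAut R) x : R) : Ω) * (((χ₁ : MulAut R) (x⁻¹ * (χ₂ : MulAut R) x) : R) : Ω)) ∈ T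
    rw [← mul_assoc]
    exact T.mul_mem h4 h3
  one_mem' := by
    intro x
    show (x : Ω)⁻¹ * (x : Ω) ∈ T
    rw [inv_mul_cancel]
    exact T.one_mem
  inv_mem' := by
    intro χ h x
    have h1 := h ((χ : MulAut R)⁻¹ x)
    have e : (χ : MulAut R) ((χ : MulAut R)⁻¹ x) = x := by simp
    rw [e] at h1
    have h2 := T.inv_mem h1
    rw [mul_inv_rev, inv_inv] at h2
    exact h2

theorem mem_trivModSub {F : FusionSystem S} {T R : Subgroup Ω} (hT : F.StronglyClosed T) (hR : R ≤ S)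
    {χ : F.autGroup R} : χ ∈ trivModSub F T R hT hR ↔
      ∀ x : R, (x : Ω)⁻¹ * (((χ : MulAut R) x : R) : Ω) ∈ T := Iff.rfl

instance trivModSub_normal (F : FusionSystem S) (T R : Subgroup Ω) (hT : F.StronglyClosed T) (hR : R ≤ S) :
    (trivModSub F T R hT hR).Normal where
  conj_mem := by
    intro n hn g x
    have ht : (((((g : MulAut R)⁻¹ x)⁻¹ * (n : MulAut R) ((g : MulAut R)⁻¹ x) : R)) : Ω) ∈ T :=
      hn ((g : MulAut R)⁻¹ x)
    have e : ((g * n * g⁻¹ : F.autGroup R) : MulAut R) x =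
        x * (g : MulAut R) (((g : MulAut R)⁻¹ x)⁻¹ * (n : MulAut R) ((g : MulAut R)⁻¹ x)) := by
      rw [map_mul, map_inv]
      have e2 : (g : MulAut R) ((g : MulAut R)⁻¹ x) = x := by simp
      rw [e2]
      show (g : MulAut R) ((n : MulAut R) ((g : MulAut R)⁻¹ x)) = _
      group
    rw [e]
    have h3 := aut_map_stronglyClosed hT hR g.2 _ ht
    show (x : Ω)⁻¹ * ((x : Ω) * _) ∈ T
    rw [inv_mul_cancel_left]
    exact h3

end Cfsg.Agent.Helper85
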