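import Mathlib
import Cfsg.Agent.S5131
import Cfsg.Agent.Lib.Helper85.Induced
import Cfsg.Agent.Lib.Helper85.QuotLift2

set_option autoImplicit false

namespace Cfsg.Agent.Helper85

open Cfsg Cfsg.FusionSystem Cfsg.Agent.Helper87

variable {Ω : Type*} [Group Ω] {S : Subgroup Ω} {Ω' : Type*} [Group Ω']

/-- a homomorphism on `S` as a total function on the ambient group -/
noncomputable def au (α : S →* Ω') : Ω → Ω' :=
  fun x => by classical exact if h : x ∈ S then α ⟨x, h⟩ else 1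

theorem au_mem (α : S →* Ω') {x : Ω} (hx : x ∈ S) : au α x = α ⟨x, hx⟩ := by
  unfold au
  simp [hx]

theorem au_mul (α : S →* Ω') {x y : Ω} (hx : x ∈ S) (hy : y ∈ S) : au α (x * y) = au α x * au α y := by
  rw [au_mem α hx, au_mem α hy, au_mem α (S.mul_mem hx hy), ← map_mul]
  rfl

theorem au_one (α : S →* Ω') : au α 1 = 1 := by
  rw [au_mem α S.one_mem]
  exact map_one α

theorem au_inv (α : S →* Ω') {x : Ω} (hx : x ∈ S) : au α x⁻¹ = (au α x)⁻¹ := by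
  rw [au_mem α hx, au_mem α (S.inv_mem hx), ← map_inv]
  rfl

theorem au_conj (α : S →* Ω') {n x : Ω} (hn : n ∈ S) (hx : x ∈ S) :
    au α (n * x * n⁻¹) = au α n * au α x * (au α n)⁻¹ := by
  rw [au_mul α (S.mul_mem hn hx) (S.inv_mem hn), au_mul α hn hx, au_inv α hn]

/-- the kernel of `α` as a subgroup of the ambient group -/
def kerOf (α : S →* Ω') : Subgroup Ω := (α.ker).map S.subtype

theorem mem_kerOf {α : S →* Ω'} {x : Ω} : x ∈ kerOf α ↔ x ∈ S ∧ au α x = 1 := by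
  unfold kerOf
  constructor
  · rintro ⟨s, hs, rfl⟩
    refine ⟨s.2, ?_⟩
    show au α (s : Ω) = 1
    rw [au_mem α s.2]
    exact hs
  · rintro ⟨hx, h⟩
    rw [au_mem α hx] at h
    exact ⟨⟨x, hx⟩, h, rfl⟩

theorem kerOf_le (α : S →* Ω') : kerOf α ≤ S := fun _ hx => (mem_kerOf.1 hx).1

theorem au_eq_iff (α : S →* Ω') {x y : Ω} (hx : x ∈ S) (hy : y ∈ S) :
    au α x = au α y ↔ x⁻¹ * y ∈ kerOf α := by
  rw [mem_kerOf, au_mul α (S.inv_mem hx) hy, au_inv α hx]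
  constructor
  · intro h
    exact ⟨S.mul_mem (S.inv_mem hx) hy, by rw [h, inv_mul_cancel]⟩
  · rintro ⟨-, h⟩
    exact (inv_mul_eq_one.1 h)

theorem mem_pre {α : S →* Ω'} {P' : Subgroup Ω'} {x : Ω} :
    x ∈ preimageAlong α P' ↔ x ∈ S ∧ au α x ∈ P' := by
  rw [mem_preimageAlong]
  constructor
  · rintro ⟨h, hx⟩
    exact ⟨h, by rw [au_mem α h]; exact hx⟩
  · rintro ⟨h, hx⟩
    exact ⟨h, by rw [au_mem α h] at hx; exact hx⟩

theorem mem_img {α : S →* Ω'} {P : Subgroup Ω} {y : Ω'} :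
    y ∈ imageAlong α P ↔ ∃ x, x ∈ S ∧ x ∈ P ∧ au α x = y := by
  rw [mem_imageAlong]
  constructor
  · rintro ⟨x, hx, hxP, rfl⟩
    exact ⟨x, hx, hxP, au_mem α hx⟩
  · rintro ⟨x, hx, hxP, rfl⟩
    exact ⟨x, hx, hxP, (au_mem α hx).symm⟩

theorem kerOf_le_pre (α : S →* Ω') (P' : Subgroup Ω') : kerOf α ≤ preimageAlong α P' := by
  intro x hx
  obtain ⟨hxS, h⟩ := mem_kerOf.1 hx
  exact mem_pre.2 ⟨hxS, by rw [h]; exact P'.one_mem⟩

theorem img_pre {α : S →* Ω'} {S' : Subgroup Ω'} (hrange : α.range = S') {P' : Subgroup Ω'} (hP' : P' ≤ S') :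
    imageAlong α (preimageAlong α P') = P' := by
  ext y
  rw [mem_img]
  constructor
  · rintro ⟨x, hx, hxP, rfl⟩
    exact (mem_pre.1 hxP).2
  · intro hy
    have : y ∈ α.range := hrange ▸ hP' hy
    obtain ⟨s, rfl⟩ := this
    refine ⟨s, s.2, mem_pre.2 ⟨s.2, ?_⟩, au_mem α s.2⟩
    rw [au_mem α s.2]
    exact hy

theorem pre_img {α : S →* Ω'} {P : Subgroup Ω} (hP : P ≤ S) (hT : kerOf α ≤ P) :
    preimageAlong α (imageAlong α P) = P := by
  ext x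
  rw [mem_pre]
  constructor
  · rintro ⟨hx, hx'⟩
    obtain ⟨y, hy, hyP, hyx⟩ := mem_img.1 hx'
    have h1 : y⁻¹ * x ∈ kerOf α := (au_eq_iff α hy hx).1 hyx
    have : x = y * (y⁻¹ * x) := by group
    rw [this]
    exact P.mul_mem hyP (hT h1)
  · intro hx
    exact ⟨hP hx, mem_img.2 ⟨x, hP hx, hx, rfl⟩⟩

section morphism

variable {F : FusionSystem S} {S' : Subgroup Ω'} {F' : FusionSystem S'} {α : S →* Ω'}

/-- descending a map along a morphism -/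
theorem descend (hα : F.IsMorphism F' α) {P : Subgroup Ω} {f : Ω → Ω} (hf : Mor F P f) :
    ∃ f' : Ω' → Ω', Mor F' (imageAlong α P) f' ∧ ∀ x ∈ P, f' (au α x) = au α (f x) := by
  obtain ⟨φ, hφ, e⟩ := hf
  obtain ⟨φ', hφ', hP, hφS, hP', hind⟩ := hα.2 P φ hφ
  refine ⟨extFun φ', mor_of_mem hφ', fun x hx => ?_⟩
  have h1 := hind ⟨x, hx⟩
  rw [au_mem α (hP hx), extFun_mem φ' (hP' ⟨x, hx⟩), h1, ← e ⟨x, hx⟩, au_mem α (hφS ⟨x, hx⟩)]

/-- lifting a map along a surjective morphism -/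
theorem lift (hα : F.IsSurjectiveMorphism F' α) {P' : Subgroup Ω'} (hP' : P' ≤ S') {f' : Ω' → Ω'}
    (hf' : Mor F' P' f') :
    ∃ f : Ω → Ω, Mor F (preimageAlong α P') f ∧ ∀ x ∈ preimageAlong α P', f' (au α x) = au α (f x) := by
  obtain ⟨φ', hφ', e⟩ := hf'
  obtain ⟨φ, hφ, hP, hφS, hPP', hind⟩ := hα.2.2 P' hP' φ' hφ'
  refine ⟨extFun φ, mor_of_mem hφ, fun x hx => ?_⟩
  have h1 := hind ⟨x, hx⟩
  rw [au_mem α (hP hx), ← e ⟨_, hPP' ⟨x, hx⟩⟩, h1, extFun_mem φ hx, au_mem α (hφS ⟨x, hx⟩)]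

theorem kerOf_stronglyClosed [Finite S] {p : ℕ} [Fact p.Prime] (hS : IsPGroup p S)
    (hα : F.IsMorphism F' α) : F.StronglyClosed (kerOf α) :=
  Cfsg.Agent.S5131.result p hS F F' α hα

/-- a map whose source contains the (strongly closed, finite) kernel maps the kernel onto itself -/
theorem Mor.surj_stronglyClosed [Finite S] {T : Subgroup Ω} (hT : F.StronglyClosed T) {P : Subgroup Ω}
    {f : Ω → Ω} (hf : Mor F P f) (hTP : T ≤ P) {y : Ω} (hy : y ∈ T) : ∃ x ∈ T, f x = y := by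
  obtain ⟨φ, hφ, e⟩ := hf
  obtain ⟨x, hx, hxy⟩ := stronglyClosed_surj F hT hφ hTP y hy
  exact ⟨x, hx, by rw [← e x]; exact hxy⟩

end morphism

end Cfsg.Agent.Helper85
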