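import Mathlib
import Cfsg.Agent.Lib.Helper85.SurjMor1

set_option autoImplicit false

namespace Cfsg.Agent.Helper85

open Cfsg Cfsg.FusionSystem Cfsg.Agent.Helper87

variable {Ω : Type*} [Group Ω] {S : Subgroup Ω} {Ω' : Type*} [Group Ω']
variable {F : FusionSystem S} {S' : Subgroup Ω'} {F' : FusionSystem S'} {α : S →* Ω'}

/-- a function-level criterion for being a morphism of fusion systems -/
theorem isMorphism_of_fun (h1 : ∀ s : S, α s ∈ S')
    (h3 : ∀ (P : Subgroup Ω) (f : Ω → Ω), Mor F P f →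
      ∃ f' : Ω' → Ω', Mor F' (imageAlong α P) f' ∧ ∀ x ∈ P, f' (au α x) = au α (f x)) :
    F.IsMorphism F' α := by
  refine ⟨h1, fun P φ hφ => ?_⟩
  obtain ⟨f', ⟨φ', hφ', e'⟩, e⟩ := h3 P _ (mor_of_mem hφ)
  have hP : P ≤ S := (F.le_of_mem hφ).1
  have hφS : ∀ x : P, φ x ∈ S := (F.le_of_mem hφ).2
  have hP' : ∀ x : P, α ⟨x, hP x.2⟩ ∈ imageAlong α P := fun x => mem_imageAlong.2 ⟨x, hP x.2, x.2, rfl⟩
  refine ⟨φ', hφ', hP, hφS, hP', fun x => ?_⟩
  have h := e x x.2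
  rw [au_mem α (hP x.2), extFun_apply, au_mem α (hφS x)] at h
  rw [e']
  exact h

/-- a function-level criterion for being a surjective morphism of fusion systems -/
theorem isSurjectiveMorphism_of_fun (h1 : ∀ s : S, α s ∈ S') (h2 : α.range = S')
    (h3 : ∀ (P : Subgroup Ω) (f : Ω → Ω), Mor F P f →
      ∃ f' : Ω' → Ω', Mor F' (imageAlong α P) f' ∧ ∀ x ∈ P, f' (au α x) = au α (f x))
    (h4 : ∀ (P' : Subgroup Ω'), P' ≤ S' → ∀ f' : Ω' → Ω', Mor F' P' f' →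
      ∃ f : Ω → Ω, Mor F (preimageAlong α P') f ∧ ∀ x ∈ preimageAlong α P', f' (au α x) = au α (f x)) :
    F.IsSurjectiveMorphism F' α := by
  refine ⟨isMorphism_of_fun h1 h3, h2, fun P' hP' φ' hφ' => ?_⟩
  obtain ⟨f, ⟨φ, hφ, e⟩, e'⟩ := h4 P' hP' _ (mor_of_mem hφ')
  have hP : preimageAlong α P' ≤ S := preimageAlong_le α P'
  have hφS : ∀ x : preimageAlong α P', φ x ∈ S := (F.le_of_mem hφ).2
  have hPP' : ∀ x : preimageAlong α P', α ⟨x, hP x.2⟩ ∈ P' := fun x => by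
    obtain ⟨h, hx⟩ := mem_preimageAlong.1 x.2
    exact hx
  refine ⟨φ, hφ, hP, hφS, hPP', fun x => ?_⟩
  have h := e' x x.2
  rw [au_mem α (hP x.2), extFun_mem φ' (hPP' x), ← e x, au_mem α (hφS x)] at h
  exact h

end Cfsg.Agent.Helper85
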