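import Mathlib
import Cfsg.Agent.Lib.Helper85.SurjMor1

set_option autoImplicit false

namespace Cfsg.Agent.Helper85

open Cfsg Cfsg.FusionSystem Cfsg.Agent.Helper87

/-- automorphisms preserving the kernel of a surjection descend to the target -/
theorem exists_descend_hom {Q Q' : Type*} [Group Q] [Group Q'] (π : Q →* Q') (hπ : Function.Surjective π)
    (A : Subgroup (MulAut Q)) (hA : ∀ a ∈ A, ∀ x, π x = 1 → π (a x) = 1) :
    ∃ ρ : A →* MulAut Q', ∀ (a : A) (x : Q), ρ a (π x) = π ((a : MulAut Q) x) := by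
  classical
  have key : ∀ a ∈ A, ∀ x y, π x = π y → π (a x) = π (a y) := by
    intro a ha x y hxy
    have h1 : π (x⁻¹ * y) = 1 := by rw [map_mul, map_inv, hxy, inv_mul_cancel]
    have h2 := hA a ha _ h1
    rw [map_mul, map_mul, map_inv, map_inv] at h2
    exact inv_mul_eq_one.1 h2
  obtain ⟨g, hg⟩ : ∃ g : A → Q' → Q', ∀ (a : A) (x : Q), g a (π x) = π ((a : MulAut Q) x) :=
    ⟨fun a y => π ((a : MulAut Q) (Function.surjInv hπ y)),
      fun a x => key a a.2 _ _ (Function.surjInv_eq hπ (π x))⟩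
  have hg_mul : ∀ (a : A) (y z : Q'), g a (y * z) = g a y * g a z := by
    intro a y z
    obtain ⟨x, rfl⟩ := hπ y
    obtain ⟨w, rfl⟩ := hπ z
    rw [← map_mul, hg, hg, hg, map_mul, map_mul]
  have hg_comp : ∀ (a b : A) (y : Q'), g (a * b) y = g a (g b y) := by
    intro a b y
    obtain ⟨x, rfl⟩ := hπ y
    rw [hg, hg, hg]
    rfl
  have hg_one : ∀ y, g 1 y = y := by
    intro y
    obtain ⟨x, rfl⟩ := hπ y
    rw [hg]; rfl
  let ρ : A → MulAut Q' := fun a =>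
    { toFun := g a
      invFun := g a⁻¹
      left_inv := fun y => by rw [← hg_comp, inv_mul_cancel, hg_one]
      right_inv := fun y => by rw [← hg_comp, mul_inv_cancel, hg_one]
      map_mul' := hg_mul a }
  refine ⟨MonoidHom.mk' ρ (fun a b => ?_), fun a x => hg a x⟩
  ext y
  exact hg_comp a b y

variable {Ω : Type*} [Group Ω] {S : Subgroup Ω} {Ω' : Type*} [Group Ω']

/-- the restriction of `α` to `Q`, as a map onto the image -/
def piHom (α : S →* Ω') {Q : Subgroup Ω} (hQ : Q ≤ S) : Q →* imageAlong α Q :=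
  (α.comp (Subgroup.inclusion hQ)).codRestrict (imageAlong α Q)
    (fun x => mem_imageAlong.2 ⟨x, hQ x.2, x.2, rfl⟩)

theorem piHom_apply (α : S →* Ω') {Q : Subgroup Ω} (hQ : Q ≤ S) (x : Q) :
    ((piHom α hQ x : imageAlong α Q) : Ω') = au α x := by
  rw [au_mem α (hQ x.2)]; rfl

theorem piHom_surjective (α : S →* Ω') {Q : Subgroup Ω} (hQ : Q ≤ S) :
    Function.Surjective (piHom α hQ) := by
  rintro ⟨y, hy⟩
  obtain ⟨x, hxS, hxQ, rfl⟩ := mem_imageAlong.1 hy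
  exact ⟨⟨x, hxQ⟩, rfl⟩

theorem imageAlong_le {S' : Subgroup Ω'} {α : S →* Ω'} (hα : ∀ s : S, α s ∈ S') (P : Subgroup Ω) :
    imageAlong α P ≤ S' := by
  intro y hy
  obtain ⟨x, hxS, -, rfl⟩ := mem_imageAlong.1 hy
  exact hα _

section morphism

variable {F : FusionSystem S} {S' : Subgroup Ω'} {F' : FusionSystem S'} {α : S →* Ω'}

/-- descending an isomorphism along a morphism -/
theorem descend_iso (hα : F.IsMorphism F' α) {P Q : Subgroup Ω} {f : Ω → Ω} (hf : Iso F P Q f) :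
    ∃ f' : Ω' → Ω', Iso F' (imageAlong α P) (imageAlong α Q) f' ∧ ∀ x ∈ P, f' (au α x) = au α (f x) := by
  obtain ⟨f', hf', e⟩ := descend hα hf.mor
  refine ⟨f', ⟨hf', fun y => ?_⟩, e⟩
  constructor
  · intro hy
    obtain ⟨q, hqS, hqQ, rfl⟩ := mem_img.1 hy
    obtain ⟨x, hx, rfl⟩ := hf.surj hqQ
    exact ⟨au α x, mem_img.2 ⟨x, hf.le_left hx, hx, rfl⟩, e x hx⟩
  · rintro ⟨x', hx', rfl⟩
    obtain ⟨x, hxS, hxP, rfl⟩ := mem_img.1 hx'
    rw [e x hxP]
    exact mem_img.2 ⟨f x, hf.le_right (hf.map_mem hxP), hf.map_mem hxP, rfl⟩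

/-- the homomorphism `Aut_F(Q) → Aut_F'(α Q)` induced by a morphism -/
theorem exists_autHom [Finite S] {p : ℕ} [Fact p.Prime] (hS : IsPGroup p S) (hα : F.IsMorphism F' α)
    {Q : Subgroup Ω} (hQ : Q ≤ S) :
    ∃ ρ : F.autGroup Q →* F'.autGroup (imageAlong α Q), ∀ (a : F.autGroup Q) (x : Q),
      ((((ρ a : F'.autGroup (imageAlong α Q)) : MulAut (imageAlong α Q)) (piHom α hQ x) : imageAlong α Q) : Ω') =
        au α (((a : MulAut Q) x : Q) : Ω) := by
  have hT : F.StronglyClosed (kerOf α) := kerOf_stronglyClosed hS hα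
  have hQ' : imageAlong α Q ≤ S' := imageAlong_le hα.1 Q
  have hA : ∀ a ∈ F.autGroup Q, ∀ x, piHom α hQ x = 1 → piHom α hQ (a x) = 1 := by
    intro a ha x hx
    have h1 : au α (x : Ω) = 1 := by
      rw [← piHom_apply α hQ x, hx]; rfl
    have h2 : (x : Ω) ∈ kerOf α := mem_kerOf.2 ⟨hQ x.2, h1⟩
    have h3 := aut_map_stronglyClosed hT hQ ha x h2
    apply Subtype.ext
    rw [piHom_apply]
    exact (mem_kerOf.1 h3).2
  obtain ⟨ρ₀, hρ₀⟩ := exists_descend_hom (piHom α hQ) (piHom_surjective α hQ) (F.autGroup Q) hA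
  have hmem : ∀ a : F.autGroup Q, ρ₀ a ∈ F'.autGroup (imageAlong α Q) := by
    intro a
    rw [mem_autGroup_iff hQ']
    have h1 : Mor F Q (extAut (a : MulAut Q)) := (mem_autGroup_iff hQ).1 a.2
    obtain ⟨f', hf', e⟩ := descend hα h1
    refine hf'.congr (fun y hy => ?_)
    obtain ⟨x, hxS, hxQ, rfl⟩ := mem_img.1 hy
    rw [e x hxQ, extAut_mem _ hy]
    have h2 := hρ₀ a ⟨x, hxQ⟩
    have h3 : (⟨au α x, hy⟩ : imageAlong α Q) = piHom α hQ ⟨x, hxQ⟩ :=
      Subtype.ext (piHom_apply α hQ ⟨x, hxQ⟩).symm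
    rw [h3, h2, piHom_apply, extAut_mem _ hxQ]
  refine ⟨ρ₀.codRestrict (F'.autGroup (imageAlong α Q)) hmem, fun a x => ?_⟩
  show (((ρ₀ a) (piHom α hQ x) : imageAlong α Q) : Ω') = _
  rw [hρ₀ a x, piHom_apply]

end morphism

end Cfsg.Agent.Helper85
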