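import Mathlib
import Cfsg.Agent.Lib.Helper85.SurjMor2

set_option autoImplicit false

namespace Cfsg.Agent.Helper85

open Cfsg Cfsg.FusionSystem Cfsg.Agent.Helper87

variable {Ω : Type*} [Group Ω] {S : Subgroup Ω} {Ω' : Type*} [Group Ω']
variable {F : FusionSystem S} {S' : Subgroup Ω'} {F' : FusionSystem S'} {α : S →* Ω'}

theorem exists_au_eq (hrange : α.range = S') {y : Ω'} (hy : y ∈ S') : ∃ s ∈ S, au α s = y := by
  have : y ∈ α.range := hrange ▸ hy
  obtain ⟨s, rfl⟩ := this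
  exact ⟨s, s.2, au_mem α s.2⟩

theorem au_mem_range (hα : ∀ s : S, α s ∈ S') {x : Ω} (hx : x ∈ S) : au α x ∈ S' := by
  rw [au_mem α hx]; exact hα _

/-- an element whose image normalizes `α Q` normalizes `Q` (when `Q` contains the kernel) -/
theorem mem_normalizer_of_au [Finite S] {Q : Subgroup Ω} (hQ : Q ≤ S) (hTQ : kerOf α ≤ Q) {g : Ω} (hg : g ∈ S)
    (h : ∀ q ∈ Q, au α g * au α q * (au α g)⁻¹ ∈ imageAlong α Q) : g ∈ Subgroup.normalizer (Q : Set Ω) := by
  haveI : Finite Q := finite_of_le hQ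
  haveI : Finite (Q : Set Ω) := ‹Finite Q›
  apply Subgroup.mem_normalizer_fintype
  intro q hq
  have hq' : q ∈ Q := hq
  have h1 := h q hq'
  rw [← au_conj α hg (hQ hq')] at h1
  have h2 : g * q * g⁻¹ ∈ preimageAlong α (imageAlong α Q) :=
    mem_pre.2 ⟨S.mul_mem (S.mul_mem hg (hQ hq')) (S.inv_mem hg), h1⟩
  rw [pre_img hQ hTQ] at h2
  exact h2

/-- surjectivity of the induced homomorphism on automorphism groups, for a surjective morphism -/
theorem autHom_surjective [Finite S] (hα : F.IsSurjectiveMorphism F' α) {Q : Subgroup Ω} (hQ : Q ≤ S)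
    (hTQ : kerOf α ≤ Q) (ρ : F.autGroup Q →* F'.autGroup (imageAlong α Q))
    (hρ : ∀ (a : F.autGroup Q) (x : Q),
      ((((ρ a : F'.autGroup (imageAlong α Q)) : MulAut (imageAlong α Q)) (piHom α hQ x) : imageAlong α Q) : Ω') =
        au α (((a : MulAut Q) x : Q) : Ω)) : Function.Surjective ρ := by
  intro b
  have hQ' : imageAlong α Q ≤ S' := imageAlong_le hα.1.1 Q
  have hb : Mor F' (imageAlong α Q) (extAut (b : MulAut (imageAlong α Q))) := (mem_autGroup_iff hQ').1 b.2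
  obtain ⟨f, hf, e⟩ := lift hα hQ' hb
  rw [pre_img hQ hTQ] at hf e
  have hfQ : ∀ x ∈ Q, f x ∈ Q := by
    intro x hx
    have h1 : au α (f x) ∈ imageAlong α Q := by
      rw [← e x hx]
      exact extAut_mem_self _ (mem_img.2 ⟨x, hQ hx, hx, rfl⟩)
    have h2 : f x ∈ preimageAlong α (imageAlong α Q) := mem_pre.2 ⟨hf.mem hx, h1⟩
    rwa [pre_img hQ hTQ] at h2
  have hiso : Iso F Q Q f := iso_of_card_le hf hQ hfQ le_rfl
  refine ⟨⟨hiso.equiv, hiso.equiv_mem_autGroup⟩, ?_⟩
  apply Subtype.ext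
  ext y
  obtain ⟨x, rfl⟩ := piHom_surjective α hQ y
  rw [hρ]
  show au α (f x) = _
  rw [← e x x.2, ← piHom_apply α hQ x, extAut_apply]

/-- the image of a fully automized subgroup containing the kernel is fully automized -/
theorem fullyAutomized_image [Finite S] {p : ℕ} [Fact p.Prime] (hS : IsPGroup p S)
    (hα : F.IsSurjectiveMorphism F' α) {Q : Subgroup Ω} (hTQ : kerOf α ≤ Q) (hfa : F.IsFullyAutomized p Q) :
    F'.IsFullyAutomized p (imageAlong α Q) := by
  obtain ⟨hQ, Syl, hSyl⟩ := hfa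
  have hQ' : imageAlong α Q ≤ S' := imageAlong_le hα.1.1 Q
  obtain ⟨ρ, hρ⟩ := exists_autHom hS hα.1 hQ
  have hsurj := autHom_surjective hα hQ hTQ ρ hρ
  haveI : Finite Q := finite_of_le hQ
  haveI : Finite (F.autGroup Q) := inferInstance
  refine ⟨hQ', Syl.mapSurjective hsurj, ?_⟩
  rw [Sylow.coe_mapSurjective]
  ext b
  constructor
  · rintro ⟨a, ha, rfl⟩
    have ha' : (a : MulAut Q) ∈ autInducedBy S Q := by
      have : a ∈ (autInducedBy S Q).subgroupOf (F.autGroup Q) := hSyl ▸ ha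
      exact Subgroup.mem_subgroupOf.1 this
    obtain ⟨g, hg, eg⟩ := mem_autInducedBy_iff.1 ha'
    rw [Subgroup.mem_subgroupOf, mem_autInducedBy_iff]
    refine ⟨au α g, au_mem_range hα.1.1 hg, fun y => ?_⟩
    obtain ⟨x, rfl⟩ := piHom_surjective α hQ y
    rw [hρ, eg, au_conj α hg (hQ x.2), piHom_apply]
  · intro hb
    rw [Subgroup.mem_subgroupOf, mem_autInducedBy_iff] at hb
    obtain ⟨g', hg', eg'⟩ := hb
    obtain ⟨g, hg, rfl⟩ := exists_au_eq hα.2.1 hg'
    have hgN : g ∈ Subgroup.normalizer (Q : Set Ω) := by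
      apply mem_normalizer_of_au hQ hTQ hg
      intro q hq
      have := eg' (piHom α hQ ⟨q, hq⟩)
      rw [piHom_apply] at this
      rw [← this]
      exact Subtype.property _
    have hc : conjAut Q g hgN ∈ autInducedBy S Q := conjAut_mem_autInducedBy hg hgN
    have hcA : conjAut Q g hgN ∈ F.autGroup Q := autInducedBy_le_autGroup F hQ hc
    refine ⟨⟨conjAut Q g hgN, hcA⟩, ?_, ?_⟩
    · show (⟨conjAut Q g hgN, hcA⟩ : F.autGroup Q) ∈ (Syl : Subgroup (F.autGroup Q))
      rw [hSyl]; exact Subgroup.mem_subgroupOf.2 hc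
    · apply Subtype.ext
      ext y
      obtain ⟨x, rfl⟩ := piHom_surjective α hQ y
      rw [hρ, eg', piHom_apply]
      show au α (g * x * g⁻¹) = _
      rw [au_conj α hg (hQ x.2)]

end Cfsg.Agent.Helper85
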