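import Mathlib
import Cfsg.Agent.Lib.Helper85.SurjMor3

set_option autoImplicit false

namespace Cfsg.Agent.Helper85

open Cfsg Cfsg.FusionSystem Cfsg.Agent.Helper87

variable {Ω : Type*} [Group Ω] {S : Subgroup Ω} {Ω' : Type*} [Group Ω']
variable {F : FusionSystem S} {S' : Subgroup Ω'} {F' : FusionSystem S'} {α : S →* Ω'}

/-- lifting an isomorphism onto `α Q` (with `Q` containing the kernel) to an isomorphism onto `Q` -/
theorem lift_iso [Finite S] {p : ℕ} [Fact p.Prime] (hS : IsPGroup p S)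
    (hα : F.IsSurjectiveMorphism F' α) {Q : Subgroup Ω} (hQ : Q ≤ S) (hTQ : kerOf α ≤ Q)
    {P'' : Subgroup Ω'} {f' : Ω' → Ω'} (h' : Iso F' P'' (imageAlong α Q) f') :
    ∃ f₂ : Ω → Ω, Iso F (preimageAlong α P'') Q f₂ ∧
      ∀ x ∈ preimageAlong α P'', f' (au α x) = au α (f₂ x) := by
  have hT : F.StronglyClosed (kerOf α) := kerOf_stronglyClosed hS hα.1
  have hP'' : P'' ≤ S' := h'.le_left
  obtain ⟨f₂, hf₂, e₂⟩ := lift hα hP'' h'.mor
  have hP₂ : preimageAlong α P'' ≤ S := preimageAlong_le α P''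
  have hTP₂ : kerOf α ≤ preimageAlong α P'' := kerOf_le_pre α P''
  have hf₂Q : ∀ x ∈ preimageAlong α P'', f₂ x ∈ Q := by
    intro x hx
    have h1 : au α (f₂ x) ∈ imageAlong α Q := by
      rw [← e₂ x hx]
      exact h'.map_mem (mem_pre.1 hx).2
    have h2 : f₂ x ∈ preimageAlong α (imageAlong α Q) := mem_pre.2 ⟨hf₂.mem hx, h1⟩
    rwa [pre_img hQ hTQ] at h2
  refine ⟨f₂, ⟨hf₂, fun q => ⟨fun hq => ?_, ?_⟩⟩, e₂⟩
  · have h1 : au α q ∈ imageAlong α Q := mem_img.2 ⟨q, hQ hq, hq, rfl⟩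
    obtain ⟨x', hx', ex'⟩ := h'.surj h1
    have hx'' : x' ∈ imageAlong α (preimageAlong α P'') := by rw [img_pre hα.2.1 hP'']; exact hx'
    obtain ⟨x, hxS, hxP, rfl⟩ := mem_img.1 hx''
    rw [e₂ x hxP] at ex'
    have h3 : (f₂ x)⁻¹ * q ∈ kerOf α := (au_eq_iff α (hf₂.mem hxP) (hQ hq)).1 ex'
    obtain ⟨s, hs, es⟩ := Mor.surj_stronglyClosed hT hf₂ hTP₂ h3
    refine ⟨x * s, Subgroup.mul_mem _ hxP (hTP₂ hs), ?_⟩
    rw [hf₂.map_mul hxP (hTP₂ hs), es]; group
  · rintro ⟨x, hx, rfl⟩; exact hf₂Q x hx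

/-- membership in the subgroup of automorphisms acting trivially modulo the kernel, through `α` -/
theorem mem_trivModSub_kerOf_iff {hT : F.StronglyClosed (kerOf α)} {Q : Subgroup Ω} (hQ : Q ≤ S)
    (χ : F.autGroup Q) : χ ∈ trivModSub F (kerOf α) Q hT hQ ↔
      ∀ x : Q, au α (((χ : MulAut Q) x : Q) : Ω) = au α (x : Ω) := by
  rw [mem_trivModSub]
  constructor
  · intro h x
    exact ((au_eq_iff α (hQ x.2) (hQ (Subtype.property _))).2 (h x)).symm
  · intro h x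
    exact (au_eq_iff α (hQ x.2) (hQ (Subtype.property _))).1 (h x).symm

/-- the image of a fully automized, receptive subgroup containing the kernel is receptive -/
theorem receptive_image [Finite S] {p : ℕ} [Fact p.Prime] (hS : IsPGroup p S)
    (hα : F.IsSurjectiveMorphism F' α) {Q : Subgroup Ω} (hTQ : kerOf α ≤ Q) (hfa : F.IsFullyAutomized p Q)
    (hrec : F.IsReceptive Q) : F'.IsReceptive (imageAlong α Q) := by
  classical
  obtain ⟨hQ, Syl, hSyl⟩ := hfa
  have hT : F.StronglyClosed (kerOf α) := kerOf_stronglyClosed hS hα.1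
  have hQ' : imageAlong α Q ≤ S' := imageAlong_le hα.1.1 Q
  rw [isReceptive_iff]
  refine ⟨hQ', fun P'' f' h' => ?_⟩
  have hP'' : P'' ≤ S' := h'.le_left
  obtain ⟨f₂, h₂, e₂⟩ := lift_iso hS hα hQ hTQ h'
  have hP₂ : preimageAlong α P'' ≤ S := preimageAlong_le α P''
  have hTP₂ : kerOf α ≤ preimageAlong α P'' := kerOf_le_pre α P''
  have hN' : h'.ext ≤ S' := h'.ext_le_normalizerIn.trans inf_le_left
  have hN : preimageAlong α h'.ext ≤ S := preimageAlong_le α _
  have hP₂N : preimageAlong α P'' ≤ preimageAlong α h'.ext := preimageAlong_mono α h'.le_ext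
  have hNnorm : ∀ n ∈ preimageAlong α h'.ext, n ∈ Subgroup.normalizer ((preimageAlong α P'' : Subgroup Ω) : Set Ω) := by
    intro n hn
    have hn' := (mem_pre.1 hn).2
    have hnN : au α n ∈ Subgroup.normalizer (P'' : Set Ω') := (h'.mem_ext.1 hn').2.1
    apply mem_normalizer_of_au hP₂ hTP₂ (hN hn)
    intro q hq
    rw [img_pre hα.2.1 hP'']
    exact (Subgroup.mem_normalizer_iff.1 hnN _).1 (mem_pre.1 hq).2
  haveI : Finite Q := finite_of_le hQ
  haveI : Finite (F.autGroup Q) := inferInstance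
  have hXp : IsPGroup p (((autInducedBy (preimageAlong α h'.ext) (preimageAlong α P'')).map
      (MulAut.congr h₂.equiv).toMonoidHom).subgroupOf (F.autGroup Q)) :=
    ((isPGroup_autInducedBy (hS.to_le hN) _).map _).comap_subtype
  have hXK : ((autInducedBy (preimageAlong α h'.ext) (preimageAlong α P'')).map
      (MulAut.congr h₂.equiv).toMonoidHom).subgroupOf (F.autGroup Q) ≤
      (Syl : Subgroup (F.autGroup Q)) ⊔ trivModSub F (kerOf α) Q hT hQ := by
    intro a ha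
    obtain ⟨c, hc, eca⟩ := Subgroup.mem_subgroupOf.1 ha
    obtain ⟨n, hn, en⟩ := mem_autInducedBy_iff.1 hc
    have hn' : au α n ∈ h'.ext := (mem_pre.1 hn).2
    obtain ⟨-, hnN', k', hk', ek'⟩ := h'.mem_ext.1 hn'
    obtain ⟨k, hk, rfl⟩ := exists_au_eq hα.2.1 hk'
    have key : ∀ q : Q, au α (((a : MulAut Q) q : Q) : Ω) = au α k * au α (q : Ω) * (au α k)⁻¹ := by
      intro q
      obtain ⟨x, rfl⟩ := h₂.equiv.surjective q
      have h1 : (a : MulAut Q) (h₂.equiv x) = h₂.equiv (c x) := by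
        rw [← eca]
        show h₂.equiv (c (h₂.equiv.symm (h₂.equiv x))) = _
        rw [MulEquiv.symm_apply_apply]
      rw [h1]
      show au α (f₂ (c x)) = au α k * au α (f₂ x) * (au α k)⁻¹
      rw [en x, ← e₂ _ (by rw [← en x]; exact (c x).2), ← e₂ x x.2, au_conj α (hN hn) (hP₂ x.2)]
      exact ek' _ (mem_pre.1 x.2).2
    have hkN : k ∈ Subgroup.normalizer (Q : Set Ω) := by
      apply mem_normalizer_of_au hQ hTQ hk
      intro q hq
      rw [← key ⟨q, hq⟩]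
      exact mem_img.2 ⟨_, hQ (Subtype.property _), Subtype.property _, rfl⟩
    have hd : conjAut Q k hkN ∈ autInducedBy S Q := conjAut_mem_autInducedBy hk hkN
    have hdA : conjAut Q k hkN ∈ F.autGroup Q := autInducedBy_le_autGroup F hQ hd
    have hdSyl : (⟨conjAut Q k hkN, hdA⟩ : F.autGroup Q) ∈ (Syl : Subgroup (F.autGroup Q)) := by
      rw [hSyl]; exact Subgroup.mem_subgroupOf.2 hd
    have hda : (⟨conjAut Q k hkN, hdA⟩ : F.autGroup Q)⁻¹ * a ∈ trivModSub F (kerOf α) Q hT hQ := by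
      rw [mem_trivModSub_kerOf_iff hQ]
      intro q
      have h1 : (((((⟨conjAut Q k hkN, hdA⟩ : F.autGroup Q)⁻¹ * a : F.autGroup Q) : MulAut Q) q : Q) : Ω) =
          k⁻¹ * (((a : MulAut Q) q : Q) : Ω) * k := rfl
      rw [h1, au_mul α (S.mul_mem (S.inv_mem hk) (hQ (Subtype.property _))) hk,
        au_mul α (S.inv_mem hk) (hQ (Subtype.property _)), au_inv α hk, key]
      group
    have : a = (⟨conjAut Q k hkN, hdA⟩ : F.autGroup Q) * ((⟨conjAut Q k hkN, hdA⟩ : F.autGroup Q)⁻¹ * a) := by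
      group
    rw [this]
    exact Subgroup.mul_mem_sup hdSyl hda
  obtain ⟨κ, hκ, hκX⟩ := exists_conj_le_sylow_normal Syl (trivModSub F (kerOf α) Q hT hQ) _ hXp hXK
  have hκmor : Mor F Q (extAut (κ : MulAut Q)) := (mem_autGroup_iff hQ).1 κ.2
  have h₃ : Iso F (preimageAlong α P'') Q (fun x => extAut (κ : MulAut Q) (f₂ x)) :=
    h₂.comp (iso_of_mor_extAut hκmor)
  have hNext : preimageAlong α h'.ext ≤ h₃.ext := by
    intro n hn
    have hnN := hNnorm n hn
    have hc : conjAut (preimageAlong α P'') n hnN ∈ autInducedBy (preimageAlong α h'.ext) (preimageAlong α P'') :=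
      conjAut_mem_autInducedBy hn hnN
    have hcA : conjAut (preimageAlong α P'') n hnN ∈ F.autGroup (preimageAlong α P'') :=
      autInducedBy_le_autGroup F hP₂ (conjAut_mem_autInducedBy (hN hn) hnN)
    have haA : MulAut.congr h₂.equiv (conjAut (preimageAlong α P'') n hnN) ∈ F.autGroup Q :=
      congr_mem_autGroup h₂ hcA
    have haX : (⟨MulAut.congr h₂.equiv (conjAut (preimageAlong α P'') n hnN), haA⟩ : F.autGroup Q) ∈
        ((autInducedBy (preimageAlong α h'.ext) (preimageAlong α P'')).map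
          (MulAut.congr h₂.equiv).toMonoidHom).subgroupOf (F.autGroup Q) :=
      Subgroup.mem_subgroupOf.2 ⟨_, hc, rfl⟩
    have h1 := hκX _ haX
    rw [hSyl, Subgroup.mem_subgroupOf] at h1
    obtain ⟨k, hk, ek⟩ := mem_autInducedBy_iff.1 h1
    refine ⟨hN hn, hnN, k, hk, fun x hx => ?_⟩
    have hx' : n * x * n⁻¹ ∈ preimageAlong α P'' := (Subgroup.mem_normalizer_iff.1 hnN x).1 hx
    have e1 := ek ((κ : MulAut Q) (h₂.equiv ⟨x, hx⟩))
    show extAut (κ : MulAut Q) (f₂ (n * x * n⁻¹)) = k * extAut (κ : MulAut Q) (f₂ x) * k⁻¹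
    rw [extAut_mem _ (h₂.map_mem hx'), extAut_mem _ (h₂.map_mem hx)]
    have e2 : ((κ * (⟨MulAut.congr h₂.equiv (conjAut (preimageAlong α P'') n hnN), haA⟩ : F.autGroup Q) * κ⁻¹ :
        F.autGroup Q) : MulAut Q) ((κ : MulAut Q) (h₂.equiv ⟨x, hx⟩)) =
        (κ : MulAut Q) (h₂.equiv ⟨n * x * n⁻¹, hx'⟩) := by
      show (κ : MulAut Q) ((MulAut.congr h₂.equiv (conjAut (preimageAlong α P'') n hnN))
        ((κ : MulAut Q)⁻¹ ((κ : MulAut Q) (h₂.equiv ⟨x, hx⟩)))) = _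
      have e3 : (κ : MulAut Q)⁻¹ ((κ : MulAut Q) (h₂.equiv ⟨x, hx⟩)) = h₂.equiv ⟨x, hx⟩ := by simp
      rw [e3]
      show (κ : MulAut Q) (h₂.equiv (conjAut (preimageAlong α P'') n hnN
        (h₂.equiv.symm (h₂.equiv ⟨x, hx⟩)))) = _
      rw [MulEquiv.symm_apply_apply]
      rfl
    rw [e2] at e1
    exact e1
  obtain ⟨g, hg, eg⟩ := (isReceptive_iff.1 hrec).2 (preimageAlong α P'') _ h₃
  have hgN : Mor F (preimageAlong α h'.ext) g := hg.restrict hNext
  obtain ⟨g', hg', eg'⟩ := descend hα.1 hgN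
  rw [img_pre hα.2.1 hN'] at hg'
  refine ⟨g', hg', fun x' hx' => ?_⟩
  have hx'' : x' ∈ imageAlong α (preimageAlong α P'') := by rw [img_pre hα.2.1 hP'']; exact hx'
  obtain ⟨x, hxS, hxP, rfl⟩ := mem_img.1 hx''
  rw [eg' x (hP₂N hxP), eg x hxP, e₂ x hxP]
  have := (mem_trivModSub_kerOf_iff hQ κ).1 hκ ⟨f₂ x, h₂.map_mem hxP⟩
  rw [extAut_mem _ (h₂.map_mem hxP)]
  exact this

end Cfsg.Agent.Helper85
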