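import Mathlib
import Cfsg.Agent.S5133
import Cfsg.Agent.Lib.Helper84.GrpFus
import Cfsg.Agent.Lib.Helper85.MorFun

set_option autoImplicit false

namespace Cfsg.Agent.Helper85

open Cfsg Cfsg.FusionSystem Cfsg.Agent.Helper87

variable {Ω : Type*} [Group Ω] {S : Subgroup Ω} {G : Type*} [Group G]

theorem au_injOn {ι : S →* G} (hinj : Function.Injective ι) {x y : Ω} (hx : x ∈ S) (hy : y ∈ S)
    (h : au ι x = au ι y) : x = y := by
  rw [au_mem ι hx, au_mem ι hy] at h
  exact congrArg Subtype.val (hinj h)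

theorem au_mem_range' (ι : S →* G) {x : Ω} (hx : x ∈ S) : au ι x ∈ ι.range := by
  rw [au_mem ι hx]; exact ⟨_, rfl⟩

/-- the inverse of an injective `ι`, as a homomorphism from its range into the ambient group -/
noncomputable def backHom (ι : S →* G) (hinj : Function.Injective ι) : ι.range →* Ω :=
  S.subtype.comp (MonoidHom.ofInjective hinj).symm.toMonoidHom

theorem backHom_mem (ι : S →* G) (hinj : Function.Injective ι) (y : ι.range) : backHom ι hinj y ∈ S :=
  Subtype.property _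

theorem backHom_apply (ι : S →* G) (hinj : Function.Injective ι) (s : S) :
    backHom ι hinj ⟨ι s, ⟨s, rfl⟩⟩ = (s : Ω) := by
  show (((MonoidHom.ofInjective hinj).symm ⟨ι s, ⟨s, rfl⟩⟩ : S) : Ω) = s
  have : (⟨ι s, ⟨s, rfl⟩⟩ : ι.range) = MonoidHom.ofInjective hinj s := rfl
  rw [this, MulEquiv.symm_apply_apply]

theorem backHom_injective (ι : S →* G) (hinj : Function.Injective ι) : Function.Injective (backHom ι hinj) := by
  intro a b hab
  have : (MonoidHom.ofInjective hinj).symm a = (MonoidHom.ofInjective hinj).symm b := Subtype.ext hab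
  exact (MonoidHom.ofInjective hinj).symm.injective this

theorem au_backHom_mem (ι : S →* G) (hinj : Function.Injective ι) (y : G) : au (backHom ι hinj) y ∈ S := by
  by_cases hy : y ∈ ι.range
  · rw [au_mem _ hy]; exact backHom_mem ι hinj _
  · unfold au
    simp [hy]

/-- `back (ι x) = x` -/
theorem au_back_au (ι : S →* G) (hinj : Function.Injective ι) {x : Ω} (hx : x ∈ S) :
    au (backHom ι hinj) (au ι x) = x := by
  rw [au_mem ι hx, au_mem (backHom ι hinj) ⟨⟨x, hx⟩, rfl⟩]
  exact backHom_apply ι hinj ⟨x, hx⟩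

/-- `ι (back y) = y` on the range -/
theorem au_au_back (ι : S →* G) (hinj : Function.Injective ι) {y : G} (hy : y ∈ ι.range) :
    au ι (au (backHom ι hinj) y) = y := by
  obtain ⟨s, rfl⟩ := hy
  have := au_back_au ι hinj s.2
  rw [au_mem ι s.2] at this
  rw [this, au_mem ι s.2]

theorem backHom_range (ι : S →* G) (hinj : Function.Injective ι) : (backHom ι hinj).range = S := by
  ext x
  constructor
  · rintro ⟨y, rfl⟩; exact backHom_mem ι hinj y
  · intro hx
    exact ⟨⟨ι ⟨x, hx⟩, ⟨_, rfl⟩⟩, backHom_apply ι hinj ⟨x, hx⟩⟩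

/-- maps of a realized system, at function level -/
theorem realized_mor_iff {F : FusionSystem S} {ι : S →* G} (h : F.IsRealizedBy ι) {P : Subgroup Ω} {f : Ω → Ω} :
    Mor F P f ↔ P ≤ S ∧ (∀ x ∈ P, f x ∈ S) ∧ ∃ g : G, ∀ x ∈ P, au ι (f x) = g * au ι x * g⁻¹ := by
  constructor
  · rintro ⟨φ, hφ, e⟩
    have hP := (F.le_of_mem hφ).1
    have hφS := (F.le_of_mem hφ).2
    obtain ⟨g, hg⟩ := (h.2 P hP φ hφS).1 hφ
    refine ⟨hP, fun x hx => by rw [← e ⟨x, hx⟩]; exact hφS _, g, fun x hx => ?_⟩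
    rw [← e ⟨x, hx⟩, au_mem ι (hφS _), au_mem ι (hP hx)]
    exact hg ⟨x, hx⟩
  · rintro ⟨hP, hfS, g, hg⟩
    have hmul : ∀ x y : P, f ((x * y : P) : Ω) = f x * f y := by
      intro x y
      apply au_injOn h.1 (hfS _ (x * y).2) (S.mul_mem (hfS _ x.2) (hfS _ y.2))
      rw [au_mul ι (hfS _ x.2) (hfS _ y.2), hg _ (x * y).2, hg _ x.2, hg _ y.2]
      show g * au ι ((x : Ω) * y) * g⁻¹ = _
      rw [au_mul ι (hP x.2) (hP y.2)]; group
    refine ⟨MonoidHom.mk' (fun x : P => f x) hmul, ?_, fun x => rfl⟩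
    rw [h.2 P hP _ (fun x => hfS _ x.2)]
    refine ⟨g, fun x => ?_⟩
    have := hg x x.2
    rw [au_mem ι (hfS _ x.2), au_mem ι (hP x.2)] at this
    exact this

/-- maps of the fusion system of a group, at function level -/
theorem gfs_mor_iff {T : Subgroup G} {P : Subgroup G} {f : G → G} :
    Mor (groupFusionSystem T) P f ↔ P ≤ T ∧ (∀ x ∈ P, f x ∈ T) ∧ ∃ g : G, ∀ x ∈ P, f x = g * x * g⁻¹ := by
  constructor
  · rintro ⟨φ, ⟨hP, hφT, g, hg⟩, e⟩
    exact ⟨hP, fun x hx => by rw [← e ⟨x, hx⟩]; exact hφT _, g, fun x hx => by rw [← e ⟨x, hx⟩]; exact hg _⟩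
  · rintro ⟨hP, hfT, g, hg⟩
    refine ⟨conjHom P g, ⟨hP, fun x => ?_, g, fun x => rfl⟩, fun x => ?_⟩
    · have := hfT x x.2
      rw [hg x x.2] at this
      exact this
    · rw [hg x x.2]; rfl

/-- a system realized by `ι` is the image of the fusion system of the group on `ι(S)` under a surjective morphism -/
theorem realized_surjectiveMorphism {F : FusionSystem S} {ι : S →* G} (h : F.IsRealizedBy ι) :
    (groupFusionSystem ι.range).IsSurjectiveMorphism F (backHom ι h.1) := by
  apply isSurjectiveMorphism_of_fun (backHom_mem ι h.1) (backHom_range ι h.1)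
  · intro P f hf
    obtain ⟨hP, hfT, g, hg⟩ := gfs_mor_iff.1 hf
    refine ⟨fun y => au (backHom ι h.1) (g * au ι y * g⁻¹), ?_, fun x hx => ?_⟩
    · rw [realized_mor_iff h]
      refine ⟨imageAlong_le (backHom_mem ι h.1) P, fun y _ => au_backHom_mem ι h.1 _, g, fun y hy => ?_⟩
      obtain ⟨x, hxT, hxP, rfl⟩ := mem_img.1 hy
      have h1 : au ι (au (backHom ι h.1) x) = x := au_au_back ι h.1 hxT
      rw [h1, au_au_back ι h.1]
      rw [← hg x hxP]
      exact hfT x hxP
    · show au (backHom ι h.1) (g * au ι (au (backHom ι h.1) x) * g⁻¹) = _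
      rw [au_au_back ι h.1 (hP hx), hg x hx]
  · intro P' hP' f' hf'
    obtain ⟨-, hf'S, g, hg⟩ := (realized_mor_iff h).1 hf'
    have key : ∀ x ∈ preimageAlong (backHom ι h.1) P', g * x * g⁻¹ = au ι (f' (au (backHom ι h.1) x)) := by
      intro x hx
      obtain ⟨hxT, hxP'⟩ := mem_pre.1 hx
      rw [hg _ hxP', au_au_back ι h.1 hxT]
    refine ⟨fun x => g * x * g⁻¹, ?_, fun x hx => ?_⟩
    · rw [gfs_mor_iff]
      refine ⟨preimageAlong_le _ P', fun x hx => ?_, g, fun x _ => rfl⟩
      rw [key x hx]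
      exact au_mem_range' ι (hf'S _ (mem_pre.1 hx).2)
    · show f' (au (backHom ι h.1) x) = au (backHom ι h.1) (g * x * g⁻¹)
      rw [key x hx, au_back_au ι h.1 (hf'S _ (mem_pre.1 hx).2)]

/-- a system realized by a finite group on a Sylow `p`-subgroup is saturated -/
theorem realized_saturated [Finite G] {p : ℕ} [Fact p.Prime] {F : FusionSystem S} {ι : S →* G}
    (h : F.IsRealizedBy ι) (T : Sylow p G) (hT : (T : Subgroup G) = ι.range) : F.IsSaturated p := by
  have h1 : (groupFusionSystem (T : Subgroup G)).IsSaturated p := Cfsg.Agent.Helper84.gfs_saturated T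
  have h2 : IsPGroup p (T : Subgroup G) := T.isPGroup'
  rw [hT] at h1 h2
  exact Cfsg.Agent.S5133.result p h2 (groupFusionSystem ι.range) h1 F (backHom ι h.1)
    (realized_surjectiveMorphism h)

end Cfsg.Agent.Helper85
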