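import Mathlib
import Cfsg.Agent.Lib.Helper14.SPIDefs

/-!
# SPI (CNT) for helper14's server (S5961): `⟨x⟩` acts freely on `W \ {0}`, so the order of `q` mod `r`
divides `dim W`.
-/

set_option autoImplicit false

namespace Cfsg.Agent.Helper85.SPI

open Module Polynomial Cfsg.Agent.Helper14.SPI

/-- (CNT) counting: `⟨x⟩` acts freely on `W \ {0}`, so `r ∣ q ^ dim W - 1`. -/
theorem order_dvd_finrank {F V : Type*} [Field F] [Fintype F] [AddCommGroup V] [Module F V]
    [FiniteDimensional F V] (x : V →ₗ[F] V) (r : ℕ) [Fact r.Prime]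
    (hrq : ¬ r ∣ Fintype.card F) (hxr : x ^ r = 1)
    (W : Submodule F V) (hWx : W.map x ≤ W) (hfpf : ∀ v ∈ W, x v = v → v = 0) :
    orderOf ((Fintype.card F : ℕ) : ZMod r) ∣ finrank F W := by
  classical
  haveI : Finite V := Module.finite_of_finite F
  haveI : Fintype W := Fintype.ofFinite W
  -- the permutation of `W` induced by `x`
  let f : Function.End W := fun w => ⟨x w, hWx (Submodule.mem_map_of_mem w.2)⟩
  have hpow : ∀ k : ℕ, ∀ w : W, ((f ^ k) w : V) = (x ^ k) w := by
    intro k
    induction k with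
    | zero => intro w; rw [pow_zero, pow_zero]; rfl
    | succ k ih =>
      intro w
      rw [pow_succ', pow_succ']
      show (f ((f ^ k) w) : V) = (x * x ^ k) w
      show x ((f ^ k) w : V) = x ((x ^ k) w)
      rw [ih w]
  have hfr : f ^ r ^ 1 = 1 := by
    rw [pow_one]
    funext w
    apply Subtype.ext
    rw [hpow r w, hxr]
    rfl
  have hmod := Equiv.Perm.card_fixedPoints_modEq (p := r) (n := 1) hfr
  have hfix : Fintype.card (Function.fixedPoints f) = 1 := by
    rw [Fintype.card_eq_one_iff]
    refine ⟨⟨0, ?_⟩, ?_⟩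
    · show f 0 = 0
      apply Subtype.ext
      show x ((0 : W) : V) = ((0 : W) : V)
      simp
    · rintro ⟨w, hw⟩
      apply Subtype.ext
      apply Subtype.ext
      show (w : V) = 0
      apply hfpf _ w.2
      have := congrArg (Subtype.val) hw
      exact this
  rw [hfix] at hmod
  have hcard : Fintype.card W = Fintype.card F ^ finrank F W := Module.card_eq_pow_finrank
  rw [hcard] at hmod
  apply orderOf_dvd_of_pow_eq_one
  have h1 : ((Fintype.card F ^ finrank F W : ℕ) : ZMod r) = ((1 : ℕ) : ZMod r) :=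
    (ZMod.natCast_eq_natCast_iff _ _ _).2 hmod
  rw [Nat.cast_pow, Nat.cast_one] at h1
  exact h1

end Cfsg.Agent.Helper85.SPI
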