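import Mathlib
import Cfsg.Agent.Lib.Helper2.SR0

/-!
# SR server (helper2, S2281), piece (K3) `pingpong`

Self-contained: own copies of the needed parts of A3, A5, A6, A7, K1, K2 are proved here
(`h85_*`), so that the piece does not wait for the other seats.
-/

set_option autoImplicit false

namespace Cfsg.Agent.Helper85.SR

open Matrix Cfsg Cfsg.Agent.Helper13 Cfsg.Agent.Helper84.SpRoot Cfsg.Agent.Helper5.SpAut
open Cfsg.Agent.Helper2.SR


section A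
variable {F : Type*} [Field F] {n : ℕ}
  {H : Subgroup (Matrix.symplecticGroup (Fin n) F)} {e0 : Fin n ⊕ Fin n → F}

/-- own copy of (A3) -/
theorem h85_tv_of_orb {x : Fin n ⊕ Fin n → F} (hx : x ∈ Orb H e0) {c : F} (hc : c ∈ MM H e0) :
    sympT x c ∈ H := by
  obtain ⟨h, hh, rfl⟩ := hx
  rw [← conj_sympT]
  exact H.mul_mem (H.mul_mem hh hc) (H.inv_mem hh)

theorem h85_eich_inv {w : Fin n ⊕ Fin n → F} (hw : Cfsg.sympForm n F w e0 = 0) (c : F) :
    (eich e0 w c)⁻¹ = eich e0 (-w) (-c) := by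
  have hw' : Cfsg.sympForm n F (-w) e0 = 0 := by rw [sympForm_neg_left, hw, neg_zero]
  symm
  apply eq_inv_of_mul_eq_one_right
  rw [eich_mul hw hw', sympForm_neg_left, sympForm_self, neg_zero, add_neg_cancel,
    add_neg_cancel, add_zero, eich_one]

/-- own copy of (A5) -/
theorem h85_QQ_addsub :
    ∃ S : AddSubgroup (Fin n ⊕ Fin n → F), (S : Set (Fin n ⊕ Fin n → F)) = QQ H e0 := by
  refine ⟨{ carrier := QQ H e0, zero_mem' := ?_, add_mem' := ?_, neg_mem' := ?_ }, rfl⟩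
  · rintro w w' ⟨hw, c, hc⟩ ⟨hw', c', hc'⟩
    refine ⟨by rw [sympForm_add_left, hw, hw', add_zero],
      c + c' + Cfsg.sympForm n F w' w, ?_⟩
    rw [← eich_mul hw hw']
    exact H.mul_mem hc hc'
  · exact ⟨sympForm_zero_left e0, 0, by rw [eich_one]; exact H.one_mem⟩
  · rintro w ⟨hw, c, hc⟩
    refine ⟨by rw [sympForm_neg_left, hw, neg_zero], -c, ?_⟩
    rw [← h85_eich_inv hw]
    exact H.inv_mem hc

/-- own copy of (A6) -/
theorem h85_QQ_stab {w : Fin n ⊕ Fin n → F} (hw : w ∈ QQ H e0)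
    {h : Matrix.symplecticGroup (Fin n) F} (hh : h ∈ H) (hfix : h.val *ᵥ e0 = e0) :
    h.val *ᵥ w ∈ QQ H e0 := by
  obtain ⟨hw0, c, hc⟩ := hw
  refine ⟨?_, c, ?_⟩
  · have := sympForm_mulVec h.2 w e0
    rw [hfix] at this
    rw [this, hw0]
  · have := conj_eich h hw0 c
    rw [hfix] at this
    rw [← this]
    exact H.mul_mem (H.mul_mem hh hc) (H.inv_mem hh)

/-- own copy of (A7) -/
theorem h85_QQ_tv {w y : Fin n ⊕ Fin n → F} (hw : w ∈ QQ H e0) (hy : y ∈ Orb H e0)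
    (hy0 : Cfsg.sympForm n F y e0 = 0) {c : F} (hc : c ∈ MM H e0) :
    (c * Cfsg.sympForm n F w y) • y ∈ QQ H e0 := by
  obtain ⟨Q, hQ⟩ := h85_QQ_addsub (H := H) (e0 := e0)
  have hQmem : ∀ v, v ∈ Q ↔ v ∈ QQ H e0 := fun v => by rw [← hQ]; rfl
  have hT : sympT y c ∈ H := h85_tv_of_orb hy hc
  have hfix : (sympT y c).val *ᵥ e0 = e0 := by
    rw [sympT_act, sympForm_swap, hy0, neg_zero, mul_zero, zero_smul, add_zero]
  have h1 := h85_QQ_stab hw hT hfix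
  rw [sympT_act] at h1
  have h2 : w + (c * Cfsg.sympForm n F w y) • y - w ∈ Q :=
    Q.sub_mem ((hQmem _).2 h1) ((hQmem _).2 hw)
  rw [add_sub_cancel_left] at h2
  exact (hQmem _).1 h2

end A

section K
variable {F : Type*} [Field F] {n : ℕ}
  {H : Subgroup (Matrix.symplecticGroup (Fin n) F)} {u l : Matrix.symplecticGroup (Fin n) F}
  {e0 e1 p : Fin n ⊕ Fin n → F} {κ γ : F}


/-- own copy of (K1) -/
theorem h85_orb_basic (hyp : Hyp H u l e0 e1 p κ γ) :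
    e1 ∈ Orb H e0 ∧ e1 + e0 ∈ Orb H e0 ∧ p ∈ Orb H e0 := by
  refine ⟨⟨l, hyp.hl, hyp.le0⟩, ⟨u * l, H.mul_mem hyp.hu hyp.hl, ?_⟩, ⟨l⁻¹, H.inv_mem hyp.hl, ?_⟩⟩
  · rw [mul_act, hyp.le0, hyp.ue1]
  · rw [← hyp.lp, inv_mulVec_mulVec]

/-- own copy of (K2) -/
theorem h85_seed (hyp : Hyp H u l e0 e1 p κ γ) {c : F} (hc : c ∈ MM H e0) :
    c • e1 ∈ QQ H e0 := by
  have hK1 := h85_orb_basic hyp
  have h0 : Cfsg.sympForm n F (c • e1) e0 = 0 := by
    rw [sympForm_smul_left, hyp.e1e0, mul_zero]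
  refine ⟨h0, c, ?_⟩
  have h1 : sympT (e1 + e0) c ∈ H := h85_tv_of_orb hK1.2.1 hc
  have h2 : sympT e1 (-c) ∈ H := by
    rw [← sympT_inv]
    exact H.inv_mem (h85_tv_of_orb hK1.1 hc)
  have key : sympT (e1 + e0) c * sympT e1 (-c) = eich e0 (c • e1) c := by
    apply sp_ext
    intro x
    rw [mul_act, sympT_act, sympT_act, eich_act h0]
    simp only [sympForm_add_left, sympForm_add_right, sympForm_smul_left, sympForm_smul_right,
      sympForm_self, hyp.e1e0]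
    module
  rw [← key]
  exact H.mul_mem h1 h2

/-- the core of the ping-pong argument, from (A5), (A7), (K1), (K2) as hypotheses -/
theorem h85_pingpong_core (hyp : Hyp H u l e0 e1 p κ γ)
    (hA5 : ∃ S : AddSubgroup (Fin n ⊕ Fin n → F), (S : Set (Fin n ⊕ Fin n → F)) = QQ H e0)
    (hA7 : ∀ {w y : Fin n ⊕ Fin n → F}, w ∈ QQ H e0 → y ∈ Orb H e0 →
      Cfsg.sympForm n F y e0 = 0 → ∀ {c : F}, c ∈ MM H e0 →
      (c * Cfsg.sympForm n F w y) • y ∈ QQ H e0)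
    (hK1 : e1 ∈ Orb H e0 ∧ e1 + e0 ∈ Orb H e0 ∧ p ∈ Orb H e0)
    (hK2 : ∀ {c : F}, c ∈ MM H e0 → c • e1 ∈ QQ H e0) :
    ∀ a : F, a • p ∈ QQ H e0 := by
  obtain ⟨Q, hQ⟩ := hA5
  have hQmem : ∀ w, w ∈ Q ↔ w ∈ QQ H e0 := fun w => by rw [← hQ]; rfl
  have hκM : κ ∈ MM H e0 := hyp.hκ
  have hpe1 : Cfsg.sympForm n F p e1 = -γ := by
    rw [sympForm_swap, hyp.e1p]
  -- the additive subgroup S = {a | a • p ∈ QQ}
  let S : AddSubgroup F :=
    { carrier := {a | a • p ∈ Q}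
      zero_mem' := by
        show (0 : F) • p ∈ Q
        rw [zero_smul]; exact Q.zero_mem
      add_mem' := by
        intro a b ha hb
        show (a + b) • p ∈ Q
        rw [add_smul]; exact Q.add_mem ha hb
      neg_mem' := by
        intro a ha
        show (-a) • p ∈ Q
        rw [neg_smul]; exact Q.neg_mem ha }
  have hSmem : ∀ a, a ∈ S ↔ a • p ∈ QQ H e0 := fun a => (hQmem (a • p))
  -- seed: κ² γ ∈ S
  have hseed : κ * (κ * γ) ∈ S := by
    rw [hSmem]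
    have h1 : κ • e1 ∈ QQ H e0 := hK2 hκM
    have h2 := hA7 h1 hK1.2.2 hyp.pe0 hκM
    rw [sympForm_smul_left, hyp.e1p] at h2
    exact h2
  -- stability under (κ γ)²
  have hstab : ∀ a ∈ S, (κ * γ) ^ 2 * a ∈ S := by
    intro a ha
    rw [hSmem] at ha
    have h1 := hA7 ha hK1.1 hyp.e1e0 hκM
    rw [sympForm_smul_left, hpe1] at h1
    have h2 := hA7 h1 hK1.2.2 hyp.pe0 hκM
    rw [sympForm_smul_left, hyp.e1p] at h2
    -- h2 : (κ * (κ * (a * -γ) * γ)) • p ∈ QQ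
    have h3 : (κ * (κ * (a * -γ) * γ)) ∈ S := (hSmem _).2 h2
    have h4 := S.neg_mem h3
    have e : -(κ * (κ * (a * -γ) * γ)) = (κ * γ) ^ 2 * a := by ring
    rwa [e] at h4
  have hne : ∃ a ∈ S, a ≠ 0 :=
    ⟨_, hseed, mul_ne_zero hyp.κ0 (mul_ne_zero hyp.κ0 hyp.γ0)⟩
  have htop : S = ⊤ := hyp.gen S hne hstab
  intro a
  rw [← hSmem, htop]
  exact AddSubgroup.mem_top a

/-- (K3) ping-pong between `p` and `e1` with A7; `S = {a | a • p ∈ QQ}` contains `κ² γ` and is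
stable under multiplication by `(κ γ)²`; `hyp.gen` -/
theorem pingpong (hyp : Hyp H u l e0 e1 p κ γ) : ∀ a : F, a • p ∈ QQ H e0 :=
  h85_pingpong_core hyp h85_QQ_addsub (fun hw hy hy0 _ hc => h85_QQ_tv hw hy hy0 hc)
    (h85_orb_basic hyp) (fun hc => h85_seed hyp hc)

end K

end Cfsg.Agent.Helper85.SR
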