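import Mathlib

/-!
# O4320 (BASE2) for helper50's server (S0977): the number of Sylow `p`-subgroups inside a subgroup `H`
containing one of them is `≡ 1 mod p` (Mathlib's proof of `card_sylow_modEq_one`, on a sub-action).
-/

set_option autoImplicit false

namespace Cfsg.Agent.Helper85.O4320

open MulAction

universe u

variable {G : Type u} [Group G] [Finite G]

/-- (BASE2) If `P` is a Sylow `p`-subgroup of prime order `p` inside a subgroup `H`, the number of Sylow
`p`-subgroups of `G` inside `H` is `≡ 1 mod p`. -/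
theorem card_sylow_le_mod (p : ℕ) [Fact p.Prime] (P : Sylow p G) (hP : Nat.card (P : Subgroup G) = p)
    (H : Subgroup G) (hPH : (P : Subgroup G) ≤ H) :
    Nat.card {Q : Sylow p G // (Q : Subgroup G) ≤ H} ≡ 1 [MOD p] := by
  classical
  let X : SubMulAction (P : Subgroup G) (Sylow p G) :=
    { carrier := {Q | (Q : Subgroup G) ≤ H}
      smul_mem' := by
        rintro ⟨g, hg⟩ Q hQ
        show ((⟨g, hg⟩ : (P : Subgroup G)) • Q : Sylow p G).1 ≤ H
        intro x hx
        have hx' : x ∈ (g • Q : Sylow p G).1 := hx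
        rw [Sylow.coe_subgroup_smul] at hx'
        obtain ⟨s, hs, rfl⟩ := (Subgroup.mem_smul_pointwise_iff_exists _ _ _).mp hx'
        have h1 : s ∈ H := hQ hs
        have hgH : g ∈ H := hPH hg
        have h3 : MulAut.conj g • s = g * s * g⁻¹ := rfl
        rw [h3]
        exact H.mul_mem (H.mul_mem hgH h1) (H.inv_mem hgH) }
  have hmod := P.2.card_modEq_card_fixedPoints ↥X
  have e1 : Nat.card ↥X = Nat.card {Q : Sylow p G // (Q : Subgroup G) ≤ H} := rfl
  have hfix : ∀ x : ↥X, x ∈ fixedPoints (P : Subgroup G) ↥X ↔ x = ⟨P, hPH⟩ := by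
    intro x
    constructor
    · intro hx
      have h1 : (x : Sylow p G) ∈ fixedPoints (P : Subgroup G) (Sylow p G) := by
        intro g
        have := hx g
        exact congrArg (fun t : ↥X => (t : Sylow p G)) this
      have h2 : (P : Subgroup G) ≤ (x : Sylow p G) := P.2.sylow_mem_fixedPoints_iff.mp h1
      have h3 : ((x : Sylow p G) : Subgroup G) = P := P.3 (x : Sylow p G).2 h2
      apply Subtype.ext
      exact Sylow.ext h3
    · rintro rfl g
      apply Subtype.ext
      show g • P = P
      have : P ∈ fixedPoints (P : Subgroup G) (Sylow p G) :=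
        P.2.sylow_mem_fixedPoints_iff.mpr le_rfl
      exact this g
  have e2 : Nat.card (fixedPoints (P : Subgroup G) ↥X) = 1 := by
    rw [Nat.card_eq_one_iff_unique]
    refine ⟨⟨?_⟩, ⟨⟨⟨P, hPH⟩, (hfix _).2 rfl⟩⟩⟩
    rintro ⟨a, ha⟩ ⟨b, hb⟩
    apply Subtype.ext
    exact ((hfix a).1 ha).trans ((hfix b).1 hb).symm
  rw [e1, e2] at hmod
  exact hmod

end Cfsg.Agent.Helper85.O4320
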