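import Mathlib

/-!
# M11CT (CY) + (CY0) for helper49's server (S4429): the quadratic Gauss period for 11.
-/

set_option autoImplicit false

namespace Cfsg.Agent.Helper85.M11CT

/-- geometric sum for an 11th root of unity different from 1. -/
theorem h85_geom_sum (ζ : ℂ) (hζ : ζ ^ 11 = 1) (h1 : ζ ≠ 1) :
    1 + ζ + ζ ^ 2 + ζ ^ 3 + ζ ^ 4 + ζ ^ 5 + ζ ^ 6 + ζ ^ 7 + ζ ^ 8 + ζ ^ 9 + ζ ^ 10 = 0 := by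
  have h : (ζ - 1) * (1 + ζ + ζ ^ 2 + ζ ^ 3 + ζ ^ 4 + ζ ^ 5 + ζ ^ 6 + ζ ^ 7 + ζ ^ 8 + ζ ^ 9 + ζ ^ 10) = 0 := by
    linear_combination hζ
  rcases mul_eq_zero.mp h with h | h
  · exact absurd (sub_eq_zero.mp h) h1
  · exact h

/-- (CY) The quadratic Gauss period for 11. -/
theorem eta_identities (ζ : ℂ) (hζ : ζ ^ 11 = 1) (h1 : ζ ≠ 1) :
    (ζ + ζ ^ 3 + ζ ^ 4 + ζ ^ 5 + ζ ^ 9) + (ζ ^ 2 + ζ ^ 6 + ζ ^ 7 + ζ ^ 8 + ζ ^ 10) = -1 ∧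
    (ζ + ζ ^ 3 + ζ ^ 4 + ζ ^ 5 + ζ ^ 9) * (ζ ^ 2 + ζ ^ 6 + ζ ^ 7 + ζ ^ 8 + ζ ^ 10) = 3 := by
  have hS := h85_geom_sum ζ hζ h1
  refine ⟨?_, ?_⟩
  · linear_combination hS
  · linear_combination
      (5 + 2 * ζ + 2 * ζ ^ 2 + 1 * ζ ^ 3 + 2 * ζ ^ 4 + 1 * ζ ^ 5 + 1 * ζ ^ 6 + 1 * ζ ^ 8) * hζ + 2 * hS

/-- (CY0) a primitive 11th root of unity exists in ℂ. -/
theorem exists_zeta : ∃ ζ : ℂ, ζ ^ 11 = 1 ∧ ζ ≠ 1 := by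
  have h := Complex.isPrimitiveRoot_exp 11 (by norm_num)
  exact ⟨_, h.pow_eq_one, h.ne_one (by norm_num)⟩

end Cfsg.Agent.Helper85.M11CT
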