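import Mathlib
import Cfsg.Agent.Lib.Helper48.SympRep2
import Cfsg.Agent.Lib.Helper30.G2ORB

/-!
# G2 server (helper31, S3795): piece (BLKCOUNT) `g2_blk_count`.
-/

set_option autoImplicit false

namespace Cfsg.Agent.Helper85.G2

open Module
open Cfsg.Agent.Helper48.SympRep

theorem g2_blk_count {K : Type*} [Field K] [IsAlgClosed K] {M : Type*} [AddCommGroup M]
    [Module K M] [FiniteDimensional K M] [Nontrivial M] {Γ : Type*} [Group Γ]
    (ψ : Γ →* Module.End K M) (Ss : Subgroup Γ) [Finite Ss] (y : Γ) {c : ℕ} (hc : 1 ≤ c)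
    (hodd : Odd (Nat.card Ss)) (hSK : (Nat.card Ss : K) ≠ 0) (h2K : (2 : K) ≠ 0)
    (hy : y ^ 2 ^ c = 1) (hyS : ∀ u ∈ Ss, y * u * y⁻¹ ∈ Ss)
    (hirr : ∀ N : Submodule K M, (∀ u ∈ Ss, ∀ v ∈ N, ψ u v ∈ N) → N = ⊥ ∨ N = ⊤)
    (hcs : ∀ u ∈ Ss, ∀ w ∈ Ss, ∃ l : K, ψ (u * w * u⁻¹ * w⁻¹) = l • 1)
    (hfix : ∀ m : M, ψ y m = m → m = 0)
    (R : Subgroup Γ) (hRS : R ≤ Ss) (hR : ∀ u ∈ Ss, u ∈ R ↔ ∃ l : K, ψ u = l • 1) :
    Nat.card {a : Γ // a ∈ Ss ∧ y ^ 2 ^ (c - 1) * a * (y ^ 2 ^ (c - 1))⁻¹ * a ∈ R} ≤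
      (2 ^ c - 1) ^ 2 * Nat.card R ∧
    (Nat.card {a : Γ // a ∈ Ss ∧ y ^ 2 ^ (c - 1) * a * (y ^ 2 ^ (c - 1))⁻¹ * a ∈ R} =
        (2 ^ c - 1) ^ 2 * Nat.card R →
      ∀ a ∈ Ss, y ^ 2 ^ (c - 1) * a * (y ^ 2 ^ (c - 1))⁻¹ * a⁻¹ ∈ R →
        y * a * y⁻¹ * a⁻¹ ∈ R) := by
  classical
  have : Fintype Ss := Fintype.ofFinite _
  have hQ : (Fintype.card Ss : K) ≠ 0 := by
    rw [← Nat.card_eq_fintype_card]; exact hSK
  obtain ⟨P, hPdef⟩ : ∃ P : ℕ, P = 2 ^ c := ⟨_, rfl⟩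
  have hPpos : 0 < P := by rw [hPdef]; positivity
  have hPK : ((P : ℕ) : K) ≠ 0 := by
    rw [hPdef, Nat.cast_pow]
    exact pow_ne_zero _ (by exact_mod_cast h2K)
  -- the representation of `Ss`
  let ρ : ↥Ss →* Module.End K M := ψ.comp Ss.subtype
  have hρ : ∀ u : Ss, ρ u = ψ u.1 := fun _ => rfl
  have hirr' : Irr ρ := by
    intro N hN
    exact hirr N (fun u hu v hv => hN ⟨u, hu⟩ v hv)
  have hcs' : ∀ u w : Ss, ∃ l : K, ρ u * ρ w = l • (ρ w * ρ u) := by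
    intro u w
    obtain ⟨l, hl⟩ := hcs u.1 u.2 w.1 w.2
    refine ⟨l, ?_⟩
    rw [hρ, hρ, ← map_mul, ← map_mul]
    have e1 : u.1 * w.1 = (u.1 * w.1 * u.1⁻¹ * w.1⁻¹) * (w.1 * u.1) := by group
    rw [e1, map_mul, hl, smul_mul_assoc, one_mul]
  have hsymp : Symp ρ :=
    { comm_scalar := hcs'
      nondeg := fun u hu => schur hirr' (ρ u) (fun γ => hu γ) }
  have hcomm : ∀ C ∈ commutant ρ, IsScalar C := fun C hC => schur hirr' C hC
  have hSs : scalarSubgroup ρ = R.subgroupOf Ss := by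
    ext u
    rw [Subgroup.mem_subgroupOf, mem_scalarSubgroup]
    exact (hR u.1 u.2).symm
  -- the automorphism induced by `y`
  let g : Module.End K M := ψ y
  let g' : Module.End K M := ψ y⁻¹
  let aHom : ↥Ss →* ↥Ss :=
    { toFun := fun u => ⟨y * u.1 * y⁻¹, hyS u.1 u.2⟩
      map_one' := by apply Subtype.ext; simp
      map_mul' := by intro u w; apply Subtype.ext; simp [mul_assoc] }
  have haInj : Function.Injective aHom := by
    intro u w huw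
    have h1 : y * u.1 * y⁻¹ = y * w.1 * y⁻¹ := congrArg Subtype.val huw
    apply Subtype.ext
    simpa using h1
  let a : ↥Ss ≃* ↥Ss := MulEquiv.ofBijective aHom (Finite.injective_iff_bijective.mp haInj)
  have ha : ∀ u : Ss, ((a u : ↥Ss) : Γ) = y * u.1 * y⁻¹ := fun u => rfl
  have haiter : ∀ (k : ℕ) (u : Ss), ((a^[k] u : ↥Ss) : Γ) = y ^ k * u.1 * (y ^ k)⁻¹ := by
    intro k u
    induction k with
    | zero => simp
    | succ k ih =>
      rw [Function.iterate_succ_apply', ha, ih, pow_succ', mul_inv_rev]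
      simp only [mul_assoc]
  have hnorm : Normalises ρ a g g' :=
    { mul_inv := by
        show ψ y * ψ y⁻¹ = 1
        rw [← map_mul, mul_inv_cancel, map_one]
      inv_mul := by
        show ψ y⁻¹ * ψ y = 1
        rw [← map_mul, inv_mul_cancel, map_one]
      conj := by
        intro u
        show ψ y * ψ u.1 = ψ (a u).1 * ψ y
        rw [← map_mul, ← map_mul, ha]
        congr 1
        group }
  have hgP : g ^ P = 1 := by
    show ψ y ^ P = 1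
    rw [← map_pow, hPdef, hy, map_one]
  -- eigenbasis of `g`
  obtain ⟨ι, _, b, η, hb⟩ := exists_eigenbasis g P hPK hgP
  have hη : ∀ i, η i ≠ 1 := by
    intro i h1
    have h2 : g (b i) = b i := by rw [(hb i).1, h1, one_smul]
    exact b.ne_zero i (hfix _ h2)
  let E : Finset K := (Polynomial.nthRootsFinset P (1 : K)).erase 1
  have hE : ∀ i, η i ∈ E := by
    intro i
    rw [Finset.mem_erase]
    exact ⟨hη i, (Polynomial.mem_nthRootsFinset hPpos 1).mpr (hb i).2⟩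
  have hEcard : E.card ≤ P - 1 := by
    have h1 : (1 : K) ∈ Polynomial.nthRootsFinset P (1 : K) :=
      (Polynomial.mem_nthRootsFinset hPpos 1).mpr (one_pow P)
    rw [Finset.card_erase_of_mem h1]
    have h2 : (Polynomial.nthRootsFinset P (1 : K)).card ≤ P := by
      unfold Polynomial.nthRootsFinset
      exact (Multiset.toFinset_card_le _).trans (Polynomial.card_nthRoots P 1)
    omega
  -- the permutation of `Ss / scalars`
  have hσP : sigma hnorm ^ P = 1 := sigma_pow_eq_one hnorm hgP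
  -- the inequalities
  have h1 := card_mul_finrank_le hsymp hQ
  have h1' := finrank_sq_le hsymp hQ hcomm
  have h2 := finrank_centr_le hsymp hQ hnorm
  have h3 := sq_le_card_mul_finrank_centr b (fun i => (hb i).1) E hE
  have hDpos : 0 < finrank K (commutant ρ) := finrank_commutant_pos ρ
  have hDle : finrank K (commutant ρ) ≤ 1 := by
    apply finrank_le_one (⟨1, one_mem_commutant ρ⟩ : commutant ρ)
    rintro ⟨C, hC⟩
    obtain ⟨l, hl⟩ := hcomm C hC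
    exact ⟨l, Subtype.ext hl.symm⟩
  have hD : finrank K (commutant ρ) = 1 := le_antisymm hDle hDpos
  rw [hD, mul_one] at h1 h2
  have hn : Nat.card (↥Ss ⧸ scalarSubgroup ρ) = finrank K M * finrank K M := le_antisymm h1 h1'
  have hdX : Nat.card (↥Ss ⧸ scalarSubgroup ρ) ≤ (2 ^ c - 1) *
      Nat.card (MulAction.orbitRel.Quotient (Subgroup.zpowers (sigma hnorm))
        (↥Ss ⧸ scalarSubgroup ρ)) := by
    rw [hn, ← hPdef]
    exact h3.trans (Nat.mul_le_mul hEcard h2)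
  -- hypotheses of `g2_orb`
  have hcommX : ∀ p q : ↥Ss ⧸ scalarSubgroup ρ, p * q = q * p := by
    intro p q
    obtain ⟨u, rfl⟩ := QuotientGroup.mk_surjective p
    obtain ⟨w, rfl⟩ := QuotientGroup.mk_surjective q
    rw [← QuotientGroup.mk_mul, ← QuotientGroup.mk_mul]
    apply QuotientGroup.eq.mpr
    rw [mem_scalarSubgroup]
    obtain ⟨l, hl⟩ := hcs (w.1)⁻¹ (Ss.inv_mem w.2) (u.1)⁻¹ (Ss.inv_mem u.2)
    refine ⟨l, ?_⟩
    rw [hρ, ← hl]
    congr 1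
    simp [mul_assoc]
  have hoddX : Odd (Nat.card (↥Ss ⧸ scalarSubgroup ρ)) := by
    have h6 := Subgroup.card_eq_card_quotient_mul_card_subgroup (scalarSubgroup ρ)
    rw [h6] at hodd
    exact (Nat.odd_mul.mp hodd).1
  have hmulX : ∀ p q : ↥Ss ⧸ scalarSubgroup ρ,
      sigma hnorm (p * q) = sigma hnorm p * sigma hnorm q := by
    intro p q
    obtain ⟨u, rfl⟩ := QuotientGroup.mk_surjective p
    obtain ⟨w, rfl⟩ := QuotientGroup.mk_surjective q
    rw [← QuotientGroup.mk_mul, sigma_mk, sigma_mk, sigma_mk, map_mul, QuotientGroup.mk_mul]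
  have hσc : sigma hnorm ^ 2 ^ c = 1 := by rw [← hPdef]; exact hσP
  obtain ⟨I1, I2⟩ := Cfsg.Agent.Helper30.G2.g2_orb hcommX hoddX (sigma hnorm) hmulX c hc hσc hdX
  -- translation
  have h7 : Nat.card (scalarSubgroup ρ) = Nat.card R := by
    rw [hSs]
    exact Nat.card_congr (Subgroup.subgroupOfEquivOfLe hRS).toEquiv
  have hRpos : 0 < Nat.card R := by
    rw [← h7]; exact Nat.card_pos
  have hmemN : ∀ u : Ss, u ∈ scalarSubgroup ρ ↔ (u : Γ) ∈ R := by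
    intro u
    rw [hSs, Subgroup.mem_subgroupOf]
  have hcond : ∀ u : Ss, (y ^ 2 ^ (c - 1) * u.1 * (y ^ 2 ^ (c - 1))⁻¹ * u.1 ∈ R ↔
      (QuotientGroup.mk u : ↥Ss ⧸ scalarSubgroup ρ) ∈
        {p : ↥Ss ⧸ scalarSubgroup ρ | (sigma hnorm ^ 2 ^ (c - 1)) p = p⁻¹}) := by
    intro u
    rw [Set.mem_setOf_eq, sigma_pow_mk, ← mul_eq_one_iff_eq_inv, ← QuotientGroup.mk_mul,
      QuotientGroup.eq_one_iff, hmemN, Subgroup.coe_mul, haiter]
  have hcardT : Nat.card {a : Γ // a ∈ Ss ∧ y ^ 2 ^ (c - 1) * a * (y ^ 2 ^ (c - 1))⁻¹ * a ∈ R}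
      = Nat.card R * Nat.card {p : ↥Ss ⧸ scalarSubgroup ρ //
          (sigma hnorm ^ 2 ^ (c - 1)) p = p⁻¹} := by
    have e1 : {a : Γ // a ∈ Ss ∧ y ^ 2 ^ (c - 1) * a * (y ^ 2 ^ (c - 1))⁻¹ * a ∈ R} ≃
        {u : ↥Ss // y ^ 2 ^ (c - 1) * u.1 * (y ^ 2 ^ (c - 1))⁻¹ * u.1 ∈ R} :=
      (Equiv.subtypeSubtypeEquivSubtypeInter (fun a : Γ => a ∈ Ss)
        (fun a : Γ => y ^ 2 ^ (c - 1) * a * (y ^ 2 ^ (c - 1))⁻¹ * a ∈ R)).symm
    have e2 : {u : ↥Ss // y ^ 2 ^ (c - 1) * u.1 * (y ^ 2 ^ (c - 1))⁻¹ * u.1 ∈ R} ≃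
        ((QuotientGroup.mk : ↥Ss → ↥Ss ⧸ scalarSubgroup ρ) ⁻¹'
          {p : ↥Ss ⧸ scalarSubgroup ρ | (sigma hnorm ^ 2 ^ (c - 1)) p = p⁻¹}) :=
      Equiv.subtypeEquivRight hcond
    have e3 := QuotientGroup.preimageMkEquivSubgroupProdSet (scalarSubgroup ρ)
      {p : ↥Ss ⧸ scalarSubgroup ρ | (sigma hnorm ^ 2 ^ (c - 1)) p = p⁻¹}
    rw [Nat.card_congr (e1.trans (e2.trans e3)), Nat.card_prod, h7]
    rfl
  refine ⟨?_, ?_⟩
  · rw [hcardT, mul_comm]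
    exact Nat.mul_le_mul_right _ I1
  · intro heq a haS haR
    rw [hcardT, mul_comm] at heq
    have heq' := Nat.eq_of_mul_eq_mul_right hRpos heq
    have key := I2 heq' (QuotientGroup.mk (⟨a, haS⟩ : Ss)) (by
      rw [sigma_pow_mk, ← mul_inv_eq_one, ← QuotientGroup.mk_inv, ← QuotientGroup.mk_mul,
        QuotientGroup.eq_one_iff, hmemN, Subgroup.coe_mul, haiter, Subgroup.coe_inv]
      exact haR)
    rw [sigma_mk, ← mul_inv_eq_one, ← QuotientGroup.mk_inv, ← QuotientGroup.mk_mul,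
      QuotientGroup.eq_one_iff, hmemN, Subgroup.coe_mul, ha, Subgroup.coe_inv] at key
    exact key

end Cfsg.Agent.Helper85.G2
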