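import Mathlib
import Cfsg.Agent.Lib.Helper85.Realized
import Cfsg.Agent.Lib.Helper87.FusionNormalCrit

set_option autoImplicit false

namespace Cfsg.Agent.Helper85

open Cfsg Cfsg.FusionSystem Cfsg.Agent.Helper87

variable {Ω : Type*} [Group Ω] {S : Subgroup Ω} {G : Type*} [Group G]

/-- the preimage in `S` of a normal subgroup of `G` contained in `ι(S)` is normal in a system realized by `ι` -/
theorem realized_preimage_normal {F : FusionSystem S} {ι : S →* G} (h : F.IsRealizedBy ι)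
    (N : Subgroup G) [hN : N.Normal] (hNr : N ≤ ι.range) : F.IsNormal (preimageAlong ι N) := by
  rw [isNormal_iff]
  refine ⟨preimageAlong_le ι N, fun P f hf => ?_⟩
  obtain ⟨hP, hfS, g₀, hg⟩ := (realized_mor_iff h).1 hf
  have hsup : ∀ x ∈ P ⊔ preimageAlong ι N, x ∈ S ∧ g₀ * au ι x * g₀⁻¹ ∈ ι.range := by
    have hle : P ⊔ preimageAlong ι N ≤
        preimageAlong ι ((ι.range).comap (MulAut.conj g₀).toMonoidHom) := by
      apply sup_le
      · intro x hx
        refine mem_pre.2 ⟨hP hx, ?_⟩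
        rw [Subgroup.mem_comap]
        show g₀ * au ι x * g₀⁻¹ ∈ ι.range
        rw [← hg x hx]
        exact au_mem_range' ι (hfS x hx)
      · intro x hx
        obtain ⟨hxS, hxN⟩ := mem_pre.1 hx
        refine mem_pre.2 ⟨hxS, ?_⟩
        rw [Subgroup.mem_comap]
        exact hNr (hN.conj_mem _ hxN g₀)
    intro x hx
    obtain ⟨hxS, hx'⟩ := mem_pre.1 (hle hx)
    exact ⟨hxS, hx'⟩
  refine ⟨fun x => au (backHom ι h.1) (g₀ * au ι x * g₀⁻¹), ?_, fun x hx => ?_, fun y => ?_⟩
  · rw [realized_mor_iff h]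
    refine ⟨fun x hx => (hsup x hx).1, fun x _ => au_backHom_mem ι h.1 _, g₀, fun x hx => ?_⟩
    exact au_au_back ι h.1 (hsup x hx).2
  · apply au_injOn h.1 (au_backHom_mem ι h.1 _) (hfS x hx)
    rw [au_au_back ι h.1 (hsup x (le_sup_left (a := P) hx)).2, hg x hx]
  · constructor
    · intro hy
      obtain ⟨hyS, hyN⟩ := mem_pre.1 hy
      have hz : g₀⁻¹ * au ι y * g₀ ∈ N := by
        have := hN.conj_mem _ hyN g₀⁻¹
        rwa [inv_inv] at this
      refine ⟨au (backHom ι h.1) (g₀⁻¹ * au ι y * g₀), mem_pre.2 ⟨au_backHom_mem ι h.1 _, ?_⟩, ?_⟩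
      · rw [au_au_back ι h.1 (hNr hz)]; exact hz
      · show au (backHom ι h.1) (g₀ * au ι (au (backHom ι h.1) (g₀⁻¹ * au ι y * g₀)) * g₀⁻¹) = y
        rw [au_au_back ι h.1 (hNr hz)]
        have : g₀ * (g₀⁻¹ * au ι y * g₀) * g₀⁻¹ = au ι y := by group
        rw [this, au_back_au ι h.1 hyS]
    · rintro ⟨x, hx, rfl⟩
      obtain ⟨hxS, hxN⟩ := mem_pre.1 hx
      refine mem_pre.2 ⟨au_backHom_mem ι h.1 _, ?_⟩
      rw [au_au_back ι h.1 (hNr (hN.conj_mem _ hxN g₀))]
      exact hN.conj_mem _ hxN g₀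

/-- a subgroup normal in the system is conjugate in the system only to itself -/
theorem eq_of_isConj_of_isNormal [Finite S] {F : FusionSystem S} {Q R : Subgroup Ω} (hQ : F.IsNormal Q)
    (hc : F.IsConj Q R) : R = Q := by
  have hT := stronglyClosed_of_isNormal hQ
  obtain ⟨f, hf⟩ := isConj_iff.1 hc
  apply le_antisymm
  · intro y hy
    obtain ⟨x, hx, rfl⟩ := hf.surj hy
    exact Mor.map_stronglyClosed hT hf.mor hx hx
  · intro y hy
    obtain ⟨x, hx, rfl⟩ := Mor.surj_stronglyClosed hT hf.mor le_rfl hy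
    exact hf.map_mem hx

/-- in a model, the preimage of `O_p(G)` is centric -/
theorem model_core_centric [Finite S] {p : ℕ} [Fact p.Prime] {F : FusionSystem S} {ι : S →* G}
    (hG : F.IsModel p G ι) : F.IsCentric (preimageAlong ι (pCore p G)) := by
  obtain ⟨hfin, h, ⟨T, hT⟩, hcen⟩ := hG
  haveI := hfin
  haveI : (pCore p G).Normal := pCore_normal p G
  have hNr : pCore p G ≤ ι.range := hT ▸ pCore_le_sylow T
  have hQ : F.IsNormal (preimageAlong ι (pCore p G)) := realized_preimage_normal h _ hNr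
  refine ⟨preimageAlong_le ι _, fun R hR => ?_⟩
  rw [eq_of_isConj_of_isNormal hQ hR]
  rintro s ⟨hsS, hsC⟩
  refine mem_pre.2 ⟨hsS, hcen ?_⟩
  rw [Subgroup.mem_centralizer_iff]
  intro n hn
  have hn' : n ∈ pCore p G := hn
  have hx : au (backHom ι h.1) n ∈ preimageAlong ι (pCore p G) :=
    mem_pre.2 ⟨au_backHom_mem ι h.1 _, by rw [au_au_back ι h.1 (hNr hn')]; exact hn'⟩
  have hcomm := (Subgroup.mem_centralizer_iff.1 hsC) _ hx
  have h1 := congrArg (au ι) hcomm
  rw [au_mul ι (au_backHom_mem ι h.1 _) hsS, au_mul ι hsS (au_backHom_mem ι h.1 _),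
    au_au_back ι h.1 (hNr hn')] at h1
  exact h1

/-- a system with a model is constrained -/
theorem model_constrained [Finite S] {p : ℕ} [Fact p.Prime] {F : FusionSystem S} {ι : S →* G}
    (hG : F.IsModel p G ι) : F.IsConstrained p := by
  have hG' := hG
  obtain ⟨hfin, h, ⟨T, hT⟩, hcen⟩ := hG
  haveI := hfin
  haveI : (pCore p G).Normal := pCore_normal p G
  have hNr : pCore p G ≤ ι.range := hT ▸ pCore_le_sylow T
  exact ⟨realized_saturated h T hT, _, realized_preimage_normal h _ hNr, model_core_centric hG'⟩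

end Cfsg.Agent.Helper85
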