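import Mathlib
import Cfsg.Agent.Lib.Helper85.Model
import Cfsg.Agent.Lib.Helper84.FusNormal
import Cfsg.Agent.Lib.Helper87.FusionNormalizerSys

set_option autoImplicit false

namespace Cfsg.Agent.Helper85

open Cfsg Cfsg.FusionSystem Cfsg.Agent.Helper87

variable {Ω : Type*} [Group Ω] {S : Subgroup Ω} {G : Type*} [Group G]

theorem imageAlong_mono (ι : S →* G) {P Q : Subgroup Ω} (h : P ≤ Q) : imageAlong ι P ≤ imageAlong ι Q := by
  intro y hy
  obtain ⟨x, hxS, hxP, rfl⟩ := mem_img.1 hy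
  exact mem_img.2 ⟨x, hxS, h hxP, rfl⟩

/-- in a model, a subgroup normal in the system has normal image in the group -/
theorem model_image_normal [Finite S] {p : ℕ} [Fact p.Prime] {F : FusionSystem S} {ι : S →* G}
    (hG : F.IsModel p G ι) {Q : Subgroup Ω} (hQ : F.IsNormal Q) : (imageAlong ι Q).Normal := by
  obtain ⟨hfin, h, ⟨T, hT⟩, hcen⟩ := hG
  haveI := hfin
  haveI hUn : (pCore p G).Normal := pCore_normal p G
  have hNr : pCore p G ≤ ι.range := hT ▸ pCore_le_sylow T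
  have hQS : S ≤ Subgroup.normalizer (Q : Set Ω) := stronglyClosed_le_normalizer (stronglyClosed_of_isNormal hQ)
  refine ⟨fun n hn g => ?_⟩
  -- the map induced by `g` on the preimage of `O_p(G)`
  have hf : Mor F (preimageAlong ι (pCore p G)) (fun x => au (backHom ι h.1) (g * au ι x * g⁻¹)) := by
    rw [realized_mor_iff h]
    refine ⟨preimageAlong_le ι _, fun x _ => au_backHom_mem ι h.1 _, g, fun x hx => ?_⟩
    exact au_au_back ι h.1 (hNr (hUn.conj_mem _ (mem_pre.1 hx).2 g))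
  obtain ⟨fb, hfb, e1, e2⟩ := (isNormal_iff.1 hQ).2 _ _ hf
  obtain ⟨-, hfbS, h₀, hh₀⟩ := (realized_mor_iff h).1 hfb
  -- `h₀⁻¹ * g` centralizes `O_p(G)`
  have hu : h₀⁻¹ * g ∈ Subgroup.centralizer ((pCore p G : Subgroup G) : Set G) := by
    rw [Subgroup.mem_centralizer_iff]
    intro m hm
    have hm' : m ∈ pCore p G := hm
    have hx : au (backHom ι h.1) m ∈ preimageAlong ι (pCore p G) :=
      mem_pre.2 ⟨au_backHom_mem ι h.1 _, by rw [au_au_back ι h.1 (hNr hm')]; exact hm'⟩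
    have h1 := hh₀ _ (le_sup_left (b := Q) hx)
    rw [e1 _ hx, au_au_back ι h.1 (hNr hm')] at h1
    have h2 : au ι (au (backHom ι h.1) (g * m * g⁻¹)) = g * m * g⁻¹ :=
      au_au_back ι h.1 (hNr (hUn.conj_mem _ hm' g))
    rw [h2] at h1
    -- g * m * g⁻¹ = h₀ * m * h₀⁻¹
    calc m * (h₀⁻¹ * g) = h₀⁻¹ * (h₀ * m * h₀⁻¹) * g := by group
      _ = h₀⁻¹ * (g * m * g⁻¹) * g := by rw [h1]
      _ = h₀⁻¹ * g * m := by group
  have huU : h₀⁻¹ * g ∈ pCore p G := hcen hu
  have hsS : au (backHom ι h.1) (h₀⁻¹ * g) ∈ S := au_backHom_mem ι h.1 _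
  have hs : au ι (au (backHom ι h.1) (h₀⁻¹ * g)) = h₀⁻¹ * g := au_au_back ι h.1 (hNr huU)
  obtain ⟨q, hqS, hqQ, rfl⟩ := mem_img.1 hn
  have hq' : au (backHom ι h.1) (h₀⁻¹ * g) * q * (au (backHom ι h.1) (h₀⁻¹ * g))⁻¹ ∈ Q :=
    (Subgroup.mem_normalizer_iff.1 (hQS hsS) q).1 hqQ
  have h3 := hh₀ _ (le_sup_right (a := preimageAlong ι (pCore p G)) hq')
  rw [au_conj ι hsS hqS, hs] at h3
  have h4 : g * au ι q * g⁻¹ = h₀ * (h₀⁻¹ * g * au ι q * (h₀⁻¹ * g)⁻¹) * h₀⁻¹ := by group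
  rw [h4, ← h3]
  exact mem_img.2 ⟨_, hfbS _ (le_sup_right (a := preimageAlong ι (pCore p G)) hq'), (e2 _).2 ⟨_, hq', rfl⟩, rfl⟩

/-- in a model, the largest normal `p`-subgroup of the group is the image of any normal centric radical subgroup -/
theorem model_pCore_eq [Finite S] {p : ℕ} [Fact p.Prime] (hS : IsPGroup p S) {F : FusionSystem S} {ι : S →* G}
    (hG : F.IsModel p G ι) {R : Subgroup Ω} (hR : F.IsNormal R) (hcenR : F.IsCentric R)
    (hrad : F.IsRadical p R) : pCore p G = imageAlong ι R := by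
  have hnorm := model_image_normal hG hR
  obtain ⟨hfin, h, ⟨T, hT⟩, hcen⟩ := hG
  haveI := hfin
  haveI hUn : (pCore p G).Normal := pCore_normal p G
  have hNr : pCore p G ≤ ι.range := hT ▸ pCore_le_sylow T
  apply le_antisymm
  · have hU' : F.IsNormal (preimageAlong ι (pCore p G)) := realized_preimage_normal h _ hNr
    have hle : preimageAlong ι (pCore p G) ≤ R :=
      Cfsg.Agent.Helper84.le_of_normal_centric_radical F hS hU' hcenR hrad
    have := imageAlong_mono ι hle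
    rwa [img_pre (S' := ι.range) rfl hNr] at this
  · apply le_pCore hnorm
    have hle : imageAlong ι R ≤ (T : Subgroup G) := by
      rw [hT]
      intro y hy
      obtain ⟨x, hxS, -, rfl⟩ := mem_img.1 hy
      exact au_mem_range' ι hxS
    exact T.isPGroup'.to_le hle

end Cfsg.Agent.Helper85
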