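import Mathlib

set_option autoImplicit false

/-! # A transfer homomorphism for a set with commuting actions, the second one free -/

namespace Cfsg.Agent.Helper85

open MulAction

section Cycle

theorem prod_eq_one_of_cycles {I A : Type*} [Fintype I] [DecidableEq I] [CommGroup A] (σ : Equiv.Perm I)
    (w : I → A)
    (h : ∀ (i : I) (n : ℕ), 0 < n → (⇑σ)^[n] i = i → ∏ k ∈ Finset.range n, w ((⇑σ)^[k] i) = 1) :
    ∏ i, w i = 1 := by
  have hper : ∀ i : I, 0 < Function.minimalPeriod (⇑σ) i := by
    intro i
    rw [Function.minimalPeriod_pos_iff_mem_periodicPts,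
      Function.injective_iff_periodicPts_eq_univ.1 σ.injective]
    exact Set.mem_univ i
  have claim : ∀ (c : ℕ) (s : Finset I), s.card = c → (∀ i ∈ s, σ i ∈ s) → ∏ i ∈ s, w i = 1 := by
    intro c
    induction c using Nat.strong_induction_on with
    | _ c ih =>
    intro s hc hs
    by_cases hse : s = ∅
    · rw [hse, Finset.prod_empty]
    · obtain ⟨i₀, hi₀⟩ := Finset.nonempty_iff_ne_empty.2 hse
      set n₀ := Function.minimalPeriod (⇑σ) i₀ with hn₀
      have hn₀pos : 0 < n₀ := hper i₀
      let O : Finset I := (Finset.range n₀).image (fun k => (⇑σ)^[k] i₀)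
      have hiter : ∀ k : ℕ, (⇑σ)^[k] i₀ ∈ s := by
        intro k
        induction k with
        | zero => exact hi₀
        | succ k ihk => rw [Function.iterate_succ_apply']; exact hs _ ihk
      have hOs : O ⊆ s := by
        intro i hi
        obtain ⟨k, -, rfl⟩ := Finset.mem_image.1 hi
        exact hiter k
      have hi₀O : i₀ ∈ O := Finset.mem_image.2 ⟨0, Finset.mem_range.2 hn₀pos, rfl⟩
      have hinv : ∀ i ∈ s \ O, σ i ∈ s \ O := by
        intro i hi
        obtain ⟨his, hiO⟩ := Finset.mem_sdiff.1 hi
        refine Finset.mem_sdiff.2 ⟨hs i his, fun hσ => hiO ?_⟩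
        obtain ⟨k, hk, hke⟩ := Finset.mem_image.1 hσ
        rcases Nat.eq_zero_or_pos k with hk0 | hkpos
        · subst hk0
          have h1 : (⇑σ)^[n₀] i₀ = i₀ := Function.iterate_minimalPeriod
          have h2 : n₀ = (n₀ - 1) + 1 := by omega
          rw [h2, Function.iterate_succ_apply'] at h1
          have h3 : σ ((⇑σ)^[n₀ - 1] i₀) = σ i := by rw [h1]; exact hke
          have h4 := σ.injective h3
          exact Finset.mem_image.2 ⟨n₀ - 1, Finset.mem_range.2 (by omega), h4⟩
        · obtain ⟨k', rfl⟩ : ∃ k', k = k' + 1 := ⟨k - 1, by omega⟩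
          have h3 : σ ((⇑σ)^[k'] i₀) = σ i := by
            rw [← Function.iterate_succ_apply' (⇑σ) k' i₀]; exact hke
          have h4 := σ.injective h3
          exact Finset.mem_image.2 ⟨k', Finset.mem_range.2 (by have := Finset.mem_range.1 hk; omega), h4⟩
      have hprodO : ∏ i ∈ O, w i = 1 := by
        rw [Finset.prod_image]
        · exact h i₀ n₀ hn₀pos Function.iterate_minimalPeriod
        · intro a ha b hb hab
          have := Function.iterate_injOn_Iio_minimalPeriod (f := ⇑σ) (x := i₀)
          exact this (by simpa using ha) (by simpa using hb) hab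
      have hlt : (s \ O).card < c := by
        rw [← hc]
        apply Finset.card_lt_card
        refine ⟨Finset.sdiff_subset, fun hsub => ?_⟩
        have := hsub hi₀
        exact (Finset.mem_sdiff.1 this).2 hi₀O
      rw [← Finset.prod_sdiff hOs, hprodO, mul_one]
      exact ih _ hlt (s \ O) rfl hinv
  exact claim _ Finset.univ rfl (fun i _ => Finset.mem_univ _)

end Cycle

section Gadget

variable {G T X A : Type*} [Group G] [Group T] [MulAction G X] [MulAction T X] [SMulCommClass G T X]
  [CommGroup A]

/-- the orbit space of the second action -/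
abbrev Orb (T X : Type*) [Group T] [MulAction T X] := MulAction.orbitRel.Quotient T X

/-- the chosen representative of an orbit -/
noncomputable def orbRep (i : Orb T X) : X := Quotient.out i

theorem mk_orbRep (i : Orb T X) : (Quotient.mk'' (orbRep i) : Orb T X) = i := Quotient.out_eq' i

theorem exists_smul_orbRep (x : X) : ∃ t : T, t • orbRep (Quotient.mk'' x : Orb T X) = x := by
  have h1 : (Quotient.mk'' (orbRep (Quotient.mk'' x : Orb T X)) : Orb T X) = Quotient.mk'' x := mk_orbRep _
  have h2 := Quotient.exact' h1
  rw [MulAction.orbitRel_apply] at h2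
  have h3 : x ∈ MulAction.orbit T (orbRep (Quotient.mk'' x : Orb T X)) := by
    rw [MulAction.orbit_eq_iff.2 h2]
    exact MulAction.mem_orbit_self x
  exact h3

/-- the displacement of a point from the representative of its orbit -/
noncomputable def delta (T : Type*) [Group T] [MulAction T X] (x : X) : T :=
  Classical.choose (exists_smul_orbRep (T := T) x)

theorem delta_spec (x : X) : delta T x • orbRep (Quotient.mk'' x : Orb T X) = x :=
  Classical.choose_spec (exists_smul_orbRep (T := T) x)

theorem mk_smul (t : T) (x : X) : (Quotient.mk'' (t • x) : Orb T X) = Quotient.mk'' x := by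
  apply Quotient.sound'
  rw [MulAction.orbitRel_apply]
  exact MulAction.mem_orbit x t

variable (hfree : ∀ (t : T) (x : X), t • x = x → t = 1)
include hfree

theorem delta_unique {x : X} {t : T} (h : t • orbRep (Quotient.mk'' x : Orb T X) = x) : t = delta T x := by
  have h2 := delta_spec (T := T) x
  have h3 : (t⁻¹ * delta T x) • orbRep (Quotient.mk'' x : Orb T X) = orbRep (Quotient.mk'' x : Orb T X) := by
    rw [mul_smul, h2]
    exact inv_smul_eq_iff.2 h.symm
  have h4 := hfree _ _ h3
  calc t = t * (t⁻¹ * delta T x) := by rw [h4, mul_one]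
    _ = delta T x := by group

theorem delta_smul (t : T) (x : X) : delta T (t • x) = t * delta T x := by
  symm
  apply delta_unique hfree
  rw [mk_smul, mul_smul, delta_spec]

theorem delta_orbRep (i : Orb T X) : delta T (orbRep i) = 1 := by
  symm
  apply delta_unique hfree
  rw [mk_orbRep, one_smul]

/-- the set is the product of the orbit space and the group -/
noncomputable def orbEquiv : X ≃ Orb T X × T where
  toFun x := (Quotient.mk'' x, delta T x)
  invFun it := it.2 • orbRep it.1
  left_inv x := delta_spec x
  right_inv it := by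
    apply Prod.ext
    · show (Quotient.mk'' (it.2 • orbRep it.1) : Orb T X) = it.1
      rw [mk_smul, mk_orbRep]
    · show delta T (it.2 • orbRep it.1) = it.2
      rw [delta_smul hfree, delta_orbRep hfree, mul_one]

omit hfree

/-- the action on the orbit space -/
def orbMap (T : Type*) [Group T] [MulAction T X] [SMulCommClass G T X] (g : G) : Orb T X → Orb T X :=
  Quotient.map' (fun x => g • x) (by
    intro x y hxy
    rw [MulAction.orbitRel_apply] at hxy ⊢
    obtain ⟨t, rfl⟩ := hxy
    exact ⟨t, (smul_comm g t y).symm⟩)

theorem orbMap_mk (g : G) (x : X) : orbMap T g (Quotient.mk'' x : Orb T X) = Quotient.mk'' (g • x) := rfl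

theorem orbMap_mul (g h : G) (i : Orb T X) : orbMap T (g * h) i = orbMap T g (orbMap T h i) := by
  induction i using Quotient.inductionOn' with
  | h x => rw [orbMap_mk, orbMap_mk, orbMap_mk, mul_smul]

theorem orbMap_one (i : Orb T X) : orbMap T (1 : G) i = i := by
  induction i using Quotient.inductionOn' with
  | h x => rw [orbMap_mk, one_smul]

/-- the action on the orbit space as a permutation -/
def orbPerm (T : Type*) [Group T] [MulAction T X] [SMulCommClass G T X] (g : G) : Equiv.Perm (Orb T X) where
  toFun := orbMap T g
  invFun := orbMap T g⁻¹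
  left_inv i := by rw [← orbMap_mul, inv_mul_cancel, orbMap_one]
  right_inv i := by rw [← orbMap_mul, mul_inv_cancel, orbMap_one]

theorem orbPerm_apply (g : G) (i : Orb T X) : orbPerm T g i = orbMap T g i := rfl

/-- the cocycle -/
noncomputable def bco (T : Type*) [Group T] [MulAction T X] [SMulCommClass G T X] (g : G) (i : Orb T X) : T :=
  delta T (g • orbRep i)

theorem bco_spec (g : G) (i : Orb T X) : bco T g i • orbRep (orbMap T g i) = g • orbRep i := by
  have := delta_spec (T := T) (g • orbRep i)
  rw [← orbMap_mk, mk_orbRep] at this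
  exact this

include hfree

theorem bco_mul (g h : G) (i : Orb T X) : bco T (g * h) i = bco T h i * bco T g (orbMap T h i) := by
  have h1 := bco_spec (T := T) h i
  show delta T ((g * h) • orbRep i) = bco T h i * delta T (g • orbRep (orbMap T h i))
  rw [mul_smul, ← h1, smul_comm g (bco T h i), delta_smul hfree]

theorem bco_one (i : Orb T X) : bco T (1 : G) i = 1 := by
  unfold bco
  rw [one_smul, delta_orbRep hfree]

omit hfree

variable [Fintype (Orb T X)]

/-- the transfer -/
noncomputable def trfFun (lam : T →* A) (g : G) : A := ∏ i : Orb T X, lam (bco T g i)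

include hfree

theorem trfFun_mul (lam : T →* A) (g h : G) :
    trfFun (X := X) lam (g * h) = trfFun (X := X) lam g * trfFun (X := X) lam h := by
  unfold trfFun
  simp_rw [bco_mul hfree, map_mul]
  rw [Finset.prod_mul_distrib, mul_comm]
  congr 1
  exact Equiv.prod_comp (orbPerm T h) (fun i => lam (bco T g i))

theorem trfFun_one (lam : T →* A) : trfFun (X := X) lam (1 : G) = 1 := by
  unfold trfFun
  simp_rw [bco_one hfree, map_one]
  exact Finset.prod_const_one

/-- the transfer as a homomorphism -/
noncomputable def trf (lam : T →* A) : G →* A where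
  toFun := trfFun (X := X) lam
  map_one' := trfFun_one hfree lam
  map_mul' := trfFun_mul hfree lam

theorem trf_apply (lam : T →* A) (g : G) : trf (X := X) hfree lam g = ∏ i : Orb T X, lam (bco T g i) := rfl

theorem orbMap_pow (g : G) (n : ℕ) (i : Orb T X) : orbMap T (g ^ n) i = (⇑(orbPerm T g))^[n] i := by
  induction n with
  | zero => rw [pow_zero, orbMap_one]; rfl
  | succ m ihm => rw [pow_succ', orbMap_mul, ihm, Function.iterate_succ_apply']; rfl

theorem bco_pow (lam : T →* A) (g : G) (n : ℕ) (i : Orb T X) :
    lam (bco T (g ^ n) i) = ∏ k ∈ Finset.range n, lam (bco T g ((⇑(orbPerm T g))^[k] i)) := by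
  induction n with
  | zero => rw [pow_zero, bco_one hfree, map_one, Finset.range_zero, Finset.prod_empty]
  | succ n ih =>
    rw [pow_succ', bco_mul hfree, map_mul, ih, Finset.prod_range_succ, orbMap_pow hfree]

open scoped Classical in
/-- evaluation on an element all of whose "returns" have a prescribed value -/
theorem trf_eq_pow (lam : T →* A) (g : G) (c : A)
    (hc : ∀ (x : X) (n : ℕ) (t : T), g ^ n • x = t • x → lam t = c ^ n) :
    trf (X := X) hfree lam g = c ^ Fintype.card (Orb T X) := by
  rw [trf_apply]
  have key : ∏ i : Orb T X, lam (bco T g i) * c⁻¹ = 1 := by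
    apply prod_eq_one_of_cycles (orbPerm T g)
    intro i n _ hn
    rw [Finset.prod_mul_distrib, ← bco_pow hfree, Finset.prod_const, Finset.card_range]
    have h1 := bco_spec (T := T) (g ^ n) i
    rw [orbMap_pow hfree, hn] at h1
    rw [hc _ n _ h1.symm, inv_pow, mul_inv_cancel]
  rw [Finset.prod_mul_distrib, Finset.prod_const, Finset.card_univ] at key
  rw [inv_pow] at key
  exact mul_inv_eq_one.1 key

end Gadget

end Cfsg.Agent.Helper85
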