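import Mathlib
import Cfsg.Agent.Lib.Helper85.Trans1

set_option autoImplicit false

/-! # Naturality of the transfer of `Trans1`, and averaging an equivariant homomorphism over cosets -/

namespace Cfsg.Agent.Helper85

open MulAction

section Natural

variable {G T X A : Type*} [Group G] [Group T] [MulAction G X] [MulAction T X] [SMulCommClass G T X]
  [CommGroup A]
variable {G' T' X' : Type*} [Group G'] [Group T'] [MulAction G' X'] [MulAction T' X']
  [SMulCommClass G' T' X']

theorem trf_comp_hom {A' : Type*} [CommGroup A'] (hfree : ∀ (t : T) (x : X), t • x = x → t = 1)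
    [Fintype (Orb T X)] (lam : T →* A) (f : A →* A') (g : G) :
    trf (X := X) hfree (f.comp lam) g = f (trf (X := X) hfree lam g) := by
  rw [trf_apply, trf_apply, map_prod]
  rfl

/-- the map induced on orbit spaces by an equivariant bijection -/
noncomputable def orbTransport (e : X ≃ X') (τ : T →* T') (hτ : Function.Surjective τ)
    (he : ∀ (t : T) (x : X), e (t • x) = τ t • e x) : Orb T X ≃ Orb T' X' := by
  refine Equiv.ofBijective (Quotient.map' e ?_) ⟨?_, ?_⟩
  · intro x y hxy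
    rw [MulAction.orbitRel_apply] at hxy ⊢
    obtain ⟨t, rfl⟩ := hxy
    exact ⟨τ t, (he t y).symm⟩
  · intro i j
    induction i using Quotient.inductionOn' with
    | h x =>
      induction j using Quotient.inductionOn' with
      | h y =>
        intro h
        have h1 : (Quotient.mk'' (e x) : Orb T' X') = Quotient.mk'' (e y) := h
        have h2 := Quotient.exact' h1
        rw [MulAction.orbitRel_apply] at h2
        obtain ⟨t', ht'⟩ := h2
        obtain ⟨t, rfl⟩ := hτ t'
        apply Quotient.sound'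
        rw [MulAction.orbitRel_apply]
        refine ⟨t, ?_⟩
        apply e.injective
        rw [he]
        exact ht'
  · intro j
    induction j using Quotient.inductionOn' with
    | h y =>
      exact ⟨Quotient.mk'' (e.symm y), by
        show (Quotient.mk'' (e (e.symm y)) : Orb T' X') = Quotient.mk'' y
        rw [e.apply_symm_apply]⟩

theorem orbTransport_mk (e : X ≃ X') (τ : T →* T') (hτ : Function.Surjective τ)
    (he : ∀ (t : T) (x : X), e (t • x) = τ t • e x) (x : X) :
    orbTransport e τ hτ he (Quotient.mk'' x : Orb T X) = Quotient.mk'' (e x) := rfl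

/-- naturality of the transfer -/
theorem trf_natural (hfree : ∀ (t : T) (x : X), t • x = x → t = 1)
    (hfree' : ∀ (t : T') (x : X'), t • x = x → t = 1)
    [Fintype (Orb T X)] [Fintype (Orb T' X')]
    (e : X ≃ X') (θ : G → G') (τ : T →* T') (hτ : Function.Surjective τ)
    (heG : ∀ (g : G) (x : X), e (g • x) = θ g • e x)
    (heT : ∀ (t : T) (x : X), e (t • x) = τ t • e x)
    (lam' : T' →* A) (g : G) :
    trf (X := X') hfree' lam' (θ g) = trf (X := X) hfree (lam'.comp τ) g := by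
  classical
  set E := orbTransport e τ hτ heT with hE
  let d : Orb T X → T' := fun i => delta T' (e (orbRep i))
  have hd : ∀ i, d i • orbRep (E i) = e (orbRep i) := by
    intro i
    have h1 := delta_spec (T := T') (e (orbRep i))
    have h2 : (Quotient.mk'' (e (orbRep i)) : Orb T' X') = E i := by
      rw [hE, ← orbTransport_mk e τ hτ heT, mk_orbRep]
    rw [h2] at h1
    exact h1
  have hEmap : ∀ i, orbMap T' (θ g) (E i) = E (orbMap T g i) := by
    intro i
    induction i using Quotient.inductionOn' with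
    | h x =>
      rw [hE, orbTransport_mk, orbMap_mk, orbMap_mk, orbTransport_mk, heG]
  have key : ∀ i, bco T' (θ g) (E i) = (d i)⁻¹ * τ (bco T g i) * d (orbMap T g i) := by
    intro i
    have h1 : θ g • orbRep (E i) = ((d i)⁻¹ * τ (bco T g i) * d (orbMap T g i)) • orbRep (E (orbMap T g i)) := by
      have e1 : orbRep (E i) = (d i)⁻¹ • e (orbRep i) := by
        rw [← hd i, inv_smul_smul]
      rw [e1, smul_comm (θ g) (d i)⁻¹, ← heG, ← bco_spec (T := T) g i, heT, ← hd (orbMap T g i),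
        mul_smul, mul_smul]
    show delta T' (θ g • orbRep (E i)) = _
    rw [h1]
    have h2 := delta_smul hfree' ((d i)⁻¹ * τ (bco T g i) * d (orbMap T g i)) (orbRep (E (orbMap T g i)))
    rw [h2, delta_orbRep hfree', mul_one]
  rw [trf_apply, trf_apply, ← Equiv.prod_comp E]
  simp_rw [key, map_mul, map_inv]
  rw [Finset.prod_mul_distrib, Finset.prod_mul_distrib, Finset.prod_inv_distrib]
  have h3 : ∏ i : Orb T X, lam' (d (orbMap T g i)) = ∏ i : Orb T X, lam' (d i) :=
    Equiv.prod_comp (orbPerm T g) (fun i => lam' (d i))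
  rw [h3]
  simp only [MonoidHom.comp_apply]
  rw [mul_comm (∏ i : Orb T X, lam' (d i))⁻¹, mul_assoc, inv_mul_cancel, mul_one]

end Natural

section Average

variable {N B : Type*} [Group N] [CommGroup B]

/-- averaging a homomorphism equivariant for a subgroup of finite index over the cosets of that subgroup -/
theorem exists_average (N₁ : Subgroup N) [Finite (N ⧸ N₁)] (C : Subgroup N) [hC : C.Normal]
    (act : N →* MulAut B) (π₁ : C →* B)
    (h₁ : ∀ (ν : N), ν ∈ N₁ → ∀ c : C,
      π₁ ⟨ν * c * ν⁻¹, hC.conj_mem c c.2 ν⟩ = act ν (π₁ c)) :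
    ∃ π : C →* B,
      (∀ (ν : N) (c : C), π ⟨ν * c * ν⁻¹, hC.conj_mem c c.2 ν⟩ = act ν (π c)) ∧
      ∀ c : C, (∀ ν : N, π₁ ⟨ν⁻¹ * c * ν, by
          have := hC.conj_mem c c.2 ν⁻¹
          rwa [inv_inv] at this⟩ = act ν⁻¹ (π₁ c)) →
        π c = π₁ c ^ N₁.index := by
  classical
  haveI : Fintype (N ⧸ N₁) := Fintype.ofFinite _
  have hcm : ∀ (ν : N) (c : C), ν⁻¹ * c * ν ∈ C := by
    intro ν c
    have := hC.conj_mem c c.2 ν⁻¹
    rwa [inv_inv] at this
  let g : N → C → B := fun ν c => act ν (π₁ ⟨ν⁻¹ * c * ν, hcm ν c⟩)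
  have g_mul : ∀ ν c c', g ν (c * c') = g ν c * g ν c' := by
    intro ν c c'
    show act ν (π₁ ⟨ν⁻¹ * ((c * c' : C) : N) * ν, _⟩) = _
    have e : (⟨ν⁻¹ * ((c * c' : C) : N) * ν, hcm ν (c * c')⟩ : C)
        = ⟨ν⁻¹ * c * ν, hcm ν c⟩ * ⟨ν⁻¹ * c' * ν, hcm ν c'⟩ := by
      apply Subtype.ext
      show ν⁻¹ * ((c : N) * (c' : N)) * ν = (ν⁻¹ * c * ν) * (ν⁻¹ * c' * ν)
      group
    rw [e, map_mul, map_mul]
  have g_right : ∀ (ν n : N), n ∈ N₁ → ∀ c, g (ν * n) c = g ν c := by
    intro ν n hn c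
    show act (ν * n) (π₁ ⟨(ν * n)⁻¹ * c * (ν * n), _⟩) = act ν (π₁ ⟨ν⁻¹ * c * ν, _⟩)
    have h2 := h₁ n⁻¹ (N₁.inv_mem hn) ⟨ν⁻¹ * c * ν, hcm ν c⟩
    have e : (⟨(ν * n)⁻¹ * c * (ν * n), hcm (ν * n) c⟩ : C)
        = ⟨n⁻¹ * ((⟨ν⁻¹ * c * ν, hcm ν c⟩ : C) : N) * n⁻¹⁻¹, hC.conj_mem _ (hcm ν c) n⁻¹⟩ := by
      apply Subtype.ext
      show (ν * n)⁻¹ * c * (ν * n) = n⁻¹ * (ν⁻¹ * c * ν) * n⁻¹⁻¹
      group
    rw [e, h2, map_mul, MulAut.mul_apply]
    congr 1
    rw [← MulAut.mul_apply, ← map_mul, mul_inv_cancel, map_one, MulAut.one_apply]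
  let Gq : N ⧸ N₁ → C → B := fun q c => g q.out c
  have Gq_mk : ∀ (ν : N) (c : C), Gq (QuotientGroup.mk ν) c = g ν c := by
    intro ν c
    obtain ⟨n, hn⟩ := QuotientGroup.mk_out_eq_mul N₁ ν
    show g (QuotientGroup.mk ν : N ⧸ N₁).out c = g ν c
    rw [hn]
    exact g_right ν n n.2 c
  let π : C →* B :=
    { toFun := fun c => ∏ q : N ⧸ N₁, Gq q c
      map_one' := by
        have h : ∀ q : N ⧸ N₁, Gq q 1 = 1 := by
          intro q
          have h1 := g_mul q.out 1 1
          rw [mul_one] at h1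
          exact (mul_eq_left (a := g q.out 1)).1 h1.symm
        simp_rw [h]
        exact Finset.prod_const_one
      map_mul' := by
        intro c c'
        show ∏ q : N ⧸ N₁, g q.out (c * c') = (∏ q : N ⧸ N₁, g q.out c) * ∏ q : N ⧸ N₁, g q.out c'
        simp_rw [g_mul]
        exact Finset.prod_mul_distrib }
  have π_apply : ∀ c, π c = ∏ q : N ⧸ N₁, Gq q c := fun _ => rfl
  refine ⟨π, ?_, ?_⟩
  · intro μ c
    rw [π_apply, π_apply, map_prod]
    rw [← Equiv.prod_comp (MulAction.toPerm μ : Equiv.Perm (N ⧸ N₁)) (fun q => Gq q _)]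
    apply Finset.prod_congr rfl
    intro q _
    induction q using QuotientGroup.induction_on with
    | H ν =>
      have e1 : (MulAction.toPerm μ : Equiv.Perm (N ⧸ N₁)) (QuotientGroup.mk ν) = QuotientGroup.mk (μ * ν) := rfl
      rw [e1, Gq_mk, Gq_mk]
      show act (μ * ν) (π₁ ⟨(μ * ν)⁻¹ * (μ * c * μ⁻¹) * (μ * ν), _⟩) = act μ (act ν (π₁ ⟨ν⁻¹ * c * ν, _⟩))
      rw [map_mul, MulAut.mul_apply]
      congr 3
      apply Subtype.ext
      show (μ * ν)⁻¹ * (μ * c * μ⁻¹) * (μ * ν) = ν⁻¹ * c * ν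
      group
  · intro c hc
    rw [π_apply]
    have h : ∀ q : N ⧸ N₁, Gq q c = π₁ c := by
      intro q
      show act q.out (π₁ ⟨q.out⁻¹ * c * q.out, _⟩) = π₁ c
      rw [hc q.out, ← MulAut.mul_apply, ← map_mul, mul_inv_cancel, map_one, MulAut.one_apply]
    simp_rw [h]
    rw [Finset.prod_const, Finset.card_univ, Subgroup.index, Nat.card_eq_fintype_card]

end Average

end Cfsg.Agent.Helper85
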