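import Mathlib
import Cfsg.Prelude.Def_FusionSystem
import Cfsg.Agent.Lib.Helper87.FusionAut

set_option autoImplicit false

/-! # Graphs of maps of a fusion system inside `S × S` -/

namespace Cfsg.Agent.Helper85

open Cfsg Cfsg.FusionSystem Cfsg.Agent.Helper87

universe u

section Graph

variable {Ω : Type u} [Group Ω] {S : Subgroup Ω}

/-- `Δ ≤ S × S` is the graph of a map of the system -/
def IsGraph (F : FusionSystem S) (Δ : Subgroup (S × S)) : Prop :=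
  ∃ (Q : Subgroup Ω) (f : Ω → Ω), Mor F Q f ∧ ∀ a b : S, (a, b) ∈ Δ ↔ (a : Ω) ∈ Q ∧ f a = b

variable {F : FusionSystem S}

theorem isGraph_conj {Δ : Subgroup (S × S)} (hΔ : IsGraph F Δ) (h : S × S) :
    IsGraph F (Δ.map (MulAut.conj h).toMonoidHom) := by
  obtain ⟨Q, f, hf, hmem⟩ := hΔ
  obtain ⟨s, t⟩ := h
  let Q' : Subgroup Ω := Q.map (MulAut.conj (s : Ω)).toMonoidHom
  have hQ' : ∀ x : Ω, x ∈ Q' ↔ (s : Ω)⁻¹ * x * s ∈ Q := by
    intro x
    rw [Subgroup.mem_map_equiv]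
    simp [MulAut.conj_symm_apply]
  have hQ'S : Q' ≤ S := by
    intro x hx
    have h1 := hf.le ((hQ' x).1 hx)
    have h2 := S.mul_mem (S.mul_mem s.2 h1) (S.inv_mem s.2)
    have e : (s : Ω) * ((s : Ω)⁻¹ * x * s) * (s : Ω)⁻¹ = x := by group
    rwa [e] at h2
  have m1 : Mor F Q' (fun x => (s : Ω)⁻¹ * x * s) :=
    (Mor.conj (F := F) hQ'S (S.inv_mem s.2)).congr (fun x _ => by simp)
  have m2 : Mor F Q' (fun x => f ((s : Ω)⁻¹ * x * s)) :=
    m1.comp hf (fun x hx => (hQ' x).1 hx)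
  have m3 : Mor F Q' (fun x => (t : Ω) * f ((s : Ω)⁻¹ * x * s) * (t : Ω)⁻¹) :=
    m2.comp (Mor.conj (F := F) (le_refl S) t.2) (fun x hx => m2.mem hx)
  refine ⟨Q', _, m3, fun a b => ?_⟩
  rw [Subgroup.mem_map_equiv]
  have e1 : (MulAut.conj ((s, t) : S × S)).symm (a, b) = (s⁻¹ * a * s, t⁻¹ * b * t) := by
    simp [MulAut.conj_symm_apply]
  rw [e1, hmem, hQ']
  refine and_congr Iff.rfl ?_
  constructor
  · intro h1
    have h2 : f ((s : Ω)⁻¹ * a * s) = (t : Ω)⁻¹ * b * t := by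
      simpa using h1
    rw [h2]; group
  · intro h1
    have h2 : f ((s : Ω)⁻¹ * a * s) = (t : Ω)⁻¹ * b * t := by
      rw [← h1]; group
    simpa using h2

theorem isGraph_of_le {Δ K : Subgroup (S × S)} (hΔ : IsGraph F Δ) (hK : K ≤ Δ) : IsGraph F K := by
  obtain ⟨Q, f, hf, hmem⟩ := hΔ
  let R : Subgroup Ω := (K.map (MonoidHom.fst S S)).map S.subtype
  have hR : ∀ x : Ω, x ∈ R ↔ ∃ a b : S, (a, b) ∈ K ∧ (a : Ω) = x := by
    intro x
    constructor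
    · rintro ⟨a, ⟨⟨a', b⟩, hab, rfl⟩, rfl⟩
      exact ⟨a', b, hab, rfl⟩
    · rintro ⟨a, b, hab, rfl⟩
      exact ⟨a, ⟨(a, b), hab, rfl⟩, rfl⟩
  have hRQ : R ≤ Q := by
    intro x hx
    obtain ⟨a, b, hab, rfl⟩ := (hR x).1 hx
    exact ((hmem a b).1 (hK hab)).1
  refine ⟨R, f, hf.restrict hRQ, fun a b => ?_⟩
  constructor
  · intro hab
    exact ⟨(hR _).2 ⟨a, b, hab, rfl⟩, ((hmem a b).1 (hK hab)).2⟩
  · rintro ⟨ha, hfa⟩
    obtain ⟨a', b', hab', haa'⟩ := (hR _).1 ha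
    have h1 : a' = a := Subtype.ext haa'
    subst h1
    have h2 := ((hmem a' b').1 (hK hab')).2
    have h3 : b' = b := Subtype.ext (h2.symm.trans hfa)
    subst h3
    exact hab'

/-- the diagonal subgroup of `S × S` -/
def diagSub (S : Subgroup Ω) : Subgroup (S × S) :=
  (MonoidHom.prod (MonoidHom.id S) (MonoidHom.id S)).range

theorem mem_diagSub {a b : S} : (a, b) ∈ diagSub S ↔ a = b := by
  constructor
  · rintro ⟨x, hx⟩
    have h1 : x = a := congrArg Prod.fst hx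
    have h2 : x = b := congrArg Prod.snd hx
    rw [← h1, ← h2]
  · rintro rfl
    exact ⟨a, rfl⟩

theorem isGraph_diagSub : IsGraph F (diagSub S) := by
  refine ⟨S, fun x => x, Mor.id (le_refl S), fun a b => ?_⟩
  rw [mem_diagSub]
  constructor
  · rintro rfl; exact ⟨a.2, rfl⟩
  · rintro ⟨-, h⟩; exact Subtype.ext h

/-- transport of graphs along an isomorphism of the system applied to the first coordinate -/
theorem isGraph_transport {P P' : Subgroup Ω} {θ : Ω → Ω} (hθ : Iso F P P' θ)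
    {K₁ K₂ : Subgroup (S × S)}
    (h1 : ∀ a b : S, (a, b) ∈ K₁ → (a : Ω) ∈ P)
    (h2 : ∀ a b : S, (a, b) ∈ K₂ ↔ ∃ a' : S, (a', b) ∈ K₁ ∧ θ a' = a)
    (hK : IsGraph F K₁) : IsGraph F K₂ := by
  obtain ⟨Q, f, hf, hmem⟩ := hK
  have hQP : Q ≤ P := by
    intro q hq
    have hqS : q ∈ S := hf.le hq
    have hfq : f q ∈ S := hf.mem hq
    exact h1 ⟨q, hqS⟩ ⟨f q, hfq⟩ ((hmem _ _).2 ⟨hq, rfl⟩)
  have hiso := hθ.restrict hQP
  obtain ⟨g, hg, hg1, hg2⟩ := hiso.symm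
  have m : Mor F (hθ.1.restrict hQP).image (fun x => f (g x)) :=
    hg.1.comp hf (fun x hx => hg.map_mem hx)
  refine ⟨_, _, m, fun a b => ?_⟩
  rw [h2]
  constructor
  · rintro ⟨a', ha', haa'⟩
    obtain ⟨hq, hfa⟩ := (hmem a' b).1 ha'
    refine ⟨⟨a', hq, haa'⟩, ?_⟩
    show f (g a) = b
    rw [← haa', hg1 _ hq, hfa]
  · rintro ⟨⟨x, hx, hxa⟩, hfa⟩
    have hxS : x ∈ S := hf.le hx
    refine ⟨⟨x, hxS⟩, (hmem _ _).2 ⟨hx, ?_⟩, hxa⟩
    show f x = b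
    have : f (g (θ x)) = b := by rw [hxa]; exact hfa
    rwa [hg1 _ hx] at this

end Graph

end Cfsg.Agent.Helper85
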