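import Mathlib
import Cfsg.Prelude.Def_FusionSystem
import Cfsg.Agent.Lib.Helper85.Park1
import Cfsg.Agent.Lib.Helper87.FusionSaturated

set_option autoImplicit false

/-! # Graph subgroups of `S × S`: domains, transport along pairs of maps of the system -/

namespace Cfsg.Agent.Helper85

open Cfsg Cfsg.FusionSystem Cfsg.Agent.Helper87

universe u

section Biset1

variable {Ω : Type u} [Group Ω] {S : Subgroup Ω}

theorem mem_normalizer_of_conj_mem' {G : Type*} [Group G] {Δ : Subgroup G} [Finite Δ] {n : G}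
    (h : ∀ d ∈ Δ, n * d * n⁻¹ ∈ Δ) : n ∈ Subgroup.normalizer (Δ : Set G) := by
  rw [Subgroup.mem_normalizer_iff]
  intro d
  refine ⟨h d, fun hd => ?_⟩
  let f : Δ → Δ := fun x => ⟨n * x * n⁻¹, h x x.2⟩
  have hinj : Function.Injective f := by
    intro x y hxy
    have : n * (x : G) * n⁻¹ = n * (y : G) * n⁻¹ := congrArg Subtype.val hxy
    apply Subtype.ext
    simpa using this
  obtain ⟨x, hx⟩ := (Finite.injective_iff_surjective.1 hinj) ⟨n * d * n⁻¹, hd⟩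
  have : n * (x : G) * n⁻¹ = n * d * n⁻¹ := congrArg Subtype.val hx
  have hxd : (x : G) = d := by simpa using this
  rw [← hxd]; exact x.2

/-- the first projection of a subgroup of `S × S`, as a subgroup of the ambient group -/
def dom (Δ : Subgroup (S × S)) : Subgroup Ω := (Δ.map (MonoidHom.fst S S)).map S.subtype

theorem mem_dom {Δ : Subgroup (S × S)} {x : Ω} : x ∈ dom Δ ↔ ∃ a b : S, (a, b) ∈ Δ ∧ (a : Ω) = x := by
  constructor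
  · rintro ⟨a, ⟨⟨a', b⟩, hab, rfl⟩, rfl⟩
    exact ⟨a', b, hab, rfl⟩
  · rintro ⟨a, b, hab, rfl⟩
    exact ⟨a, ⟨(a, b), hab, rfl⟩, rfl⟩

theorem dom_le (Δ : Subgroup (S × S)) : dom Δ ≤ S := by
  intro x hx
  obtain ⟨a, b, -, rfl⟩ := mem_dom.1 hx
  exact a.2

theorem dom_mono {Δ K : Subgroup (S × S)} (h : Δ ≤ K) : dom Δ ≤ dom K := by
  intro x hx
  obtain ⟨a, b, hab, rfl⟩ := mem_dom.1 hx
  exact mem_dom.2 ⟨a, b, h hab, rfl⟩

variable {F : FusionSystem S}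

theorem dom_eq_of_graph {Δ : Subgroup (S × S)} {Q : Subgroup Ω} {f : Ω → Ω} (hf : Mor F Q f)
    (hmem : ∀ a b : S, (a, b) ∈ Δ ↔ (a : Ω) ∈ Q ∧ f a = b) : dom Δ = Q := by
  ext x
  rw [mem_dom]
  constructor
  · rintro ⟨a, b, hab, rfl⟩
    exact ((hmem a b).1 hab).1
  · intro hx
    exact ⟨⟨x, hf.le hx⟩, ⟨f x, hf.mem hx⟩, (hmem _ _).2 ⟨hx, rfl⟩, rfl⟩

theorem isGraph_dom {Δ : Subgroup (S × S)} (h : IsGraph F Δ) :
    ∃ f, Mor F (dom Δ) f ∧ ∀ a b : S, (a, b) ∈ Δ ↔ (a : Ω) ∈ dom Δ ∧ f a = b := by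
  obtain ⟨Q, f, hf, hmem⟩ := h
  have := dom_eq_of_graph hf hmem
  subst this
  exact ⟨f, hf, hmem⟩

theorem dom_map_conj (Δ : Subgroup (S × S)) (h : S × S) :
    dom (Δ.map (MulAut.conj h).toMonoidHom) = (dom Δ).map (MulAut.conj ((h.1 : S) : Ω)).toMonoidHom := by
  obtain ⟨s, t⟩ := h
  ext x
  rw [mem_dom]
  constructor
  · rintro ⟨a, b, ⟨⟨a₀, b₀⟩, h0, he⟩, rfl⟩
    refine ⟨a₀, mem_dom.2 ⟨a₀, b₀, h0, rfl⟩, ?_⟩
    have : s * a₀ * s⁻¹ = a := congrArg Prod.fst he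
    rw [← this]
    simp
  · rintro ⟨y, hy, rfl⟩
    obtain ⟨a₀, b₀, h0, rfl⟩ := mem_dom.1 hy
    refine ⟨s * a₀ * s⁻¹, t * b₀ * t⁻¹, ⟨(a₀, b₀), h0, ?_⟩, ?_⟩
    · simp
    · simp

theorem card_eq_card_dom [Finite S] {Δ : Subgroup (S × S)} (h : IsGraph F Δ) :
    Nat.card Δ = Nat.card (dom Δ) := by
  obtain ⟨f, hf, hmem⟩ := isGraph_dom h
  let e : Δ → dom Δ := fun k => ⟨((k : S × S).1 : Ω), mem_dom.2 ⟨(k : S × S).1, (k : S × S).2, k.2, rfl⟩⟩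
  apply Nat.card_congr
  apply Equiv.ofBijective e
  constructor
  · rintro ⟨⟨a, b⟩, hab⟩ ⟨⟨a', b'⟩, hab'⟩ he
    have h1 : (a : Ω) = a' := congrArg (fun z : dom Δ => (z : Ω)) he
    have h1' : a = a' := Subtype.ext h1
    subst h1'
    have h2 := ((hmem a b).1 hab).2
    have h3 := ((hmem a b').1 hab').2
    have : b = b' := Subtype.ext (h2.symm.trans h3)
    subst this
    rfl
  · rintro ⟨x, hx⟩
    obtain ⟨a, b, hab, rfl⟩ := mem_dom.1 hx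
    exact ⟨⟨(a, b), hab⟩, rfl⟩

/-- the diagonal over a subgroup -/
def diagOn (S : Subgroup Ω) (P : Subgroup Ω) : Subgroup (S × S) :=
  (P.subgroupOf S).map (MonoidHom.prod (MonoidHom.id S) (MonoidHom.id S))

theorem mem_diagOn {P : Subgroup Ω} {a b : S} : (a, b) ∈ diagOn S P ↔ a = b ∧ (a : Ω) ∈ P := by
  constructor
  · rintro ⟨x, hx, he⟩
    have h1 : x = a := congrArg Prod.fst he
    have h2 : x = b := congrArg Prod.snd he
    refine ⟨by rw [← h1, ← h2], ?_⟩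
    rw [← h1]; exact hx
  · rintro ⟨rfl, ha⟩
    exact ⟨a, ha, rfl⟩

theorem isGraph_diagOn {P : Subgroup Ω} (hP : P ≤ S) : IsGraph F (diagOn S P) := by
  refine ⟨P, fun x => x, Mor.id hP, fun a b => ?_⟩
  rw [mem_diagOn]
  constructor
  · rintro ⟨rfl, h⟩; exact ⟨h, rfl⟩
  · rintro ⟨h, e⟩; exact ⟨Subtype.ext e, h⟩

theorem dom_diagOn (F : FusionSystem S) {P : Subgroup Ω} (hP : P ≤ S) : dom (diagOn S P) = P := by
  apply dom_eq_of_graph (F := F) (Mor.id hP) (f := fun x => x)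
  intro a b
  rw [mem_diagOn]
  constructor
  · rintro ⟨rfl, h⟩; exact ⟨h, rfl⟩
  · rintro ⟨h, e⟩; exact ⟨Subtype.ext e, h⟩

/-- transport of a graph along a pair of maps of the system -/
theorem graph_map {K K' : Subgroup (S × S)} (hK : IsGraph F K) {A B : Subgroup Ω} {c₁ c₂ : Ω → Ω}
    (h₁ : Mor F A c₁) (h₂ : Mor F B c₂)
    (hKA : ∀ a b : S, (a, b) ∈ K → (a : Ω) ∈ A ∧ (b : Ω) ∈ B)
    (hK' : ∀ a' b' : S, (a', b') ∈ K' ↔ ∃ a b : S, (a, b) ∈ K ∧ c₁ a = a' ∧ c₂ b = b') :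
    IsGraph F K' ∧ F.IsConj (dom K) (dom K') := by
  obtain ⟨Q, f, hf, hmem⟩ := hK
  have hQA : Q ≤ A := by
    intro q hq
    exact (hKA ⟨q, hf.le hq⟩ ⟨f q, hf.mem hq⟩ ((hmem _ _).2 ⟨hq, rfl⟩)).1
  have hfB : ∀ q ∈ Q, f q ∈ B := by
    intro q hq
    exact (hKA ⟨q, hf.le hq⟩ ⟨f q, hf.mem hq⟩ ((hmem _ _).2 ⟨hq, rfl⟩)).2
  have i := Iso.of_mor (h₁.restrict hQA)
  obtain ⟨g, hg, hg1, hg2⟩ := i.symm
  have m1 : Mor F (h₁.restrict hQA).image (fun y => f (g y)) :=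
    hg.1.comp hf (fun y hy => hg.map_mem hy)
  have m2 : Mor F (h₁.restrict hQA).image (fun y => c₂ (f (g y))) :=
    m1.comp h₂ (fun y hy => hfB _ (hg.map_mem hy))
  have hmem' : ∀ a' b' : S, (a', b') ∈ K' ↔
      (a' : Ω) ∈ (h₁.restrict hQA).image ∧ c₂ (f (g a')) = b' := by
    intro a' b'
    rw [hK']
    constructor
    · rintro ⟨a, b, hab, e1, e2⟩
      obtain ⟨ha, hfa⟩ := (hmem a b).1 hab
      refine ⟨⟨a, ha, e1⟩, ?_⟩
      rw [← e1, hg1 _ ha, hfa, e2]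
    · rintro ⟨⟨x, hx, e1⟩, e2⟩
      refine ⟨⟨x, hf.le hx⟩, ⟨f x, hf.mem hx⟩, (hmem _ _).2 ⟨hx, rfl⟩, e1, ?_⟩
      rw [← e2, ← e1, hg1 _ hx]
  refine ⟨⟨_, _, m2, hmem'⟩, ?_⟩
  rw [dom_eq_of_graph hf hmem, dom_eq_of_graph m2 hmem']
  exact isConj_iff.2 ⟨c₁, i⟩

/-- the homomorphism `(a, b) ↦ (c₁ a, c₂ b)` on a subgroup of `S × S` -/
def pairHom {A B : Subgroup Ω} {c₁ c₂ : Ω → Ω} (h₁ : Mor F A c₁) (h₂ : Mor F B c₂)
    (N : Subgroup (S × S))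
    (hN : ∀ k ∈ N, (((k : S × S).1 : S) : Ω) ∈ A ∧ (((k : S × S).2 : S) : Ω) ∈ B) : ↥N →* S × S where
  toFun k := (⟨c₁ ((k : S × S).1 : Ω), h₁.mem (hN k.1 k.2).1⟩, ⟨c₂ ((k : S × S).2 : Ω), h₂.mem (hN k.1 k.2).2⟩)
  map_one' := by
    apply Prod.ext
    · apply Subtype.ext
      show c₁ ((1 : S) : Ω) = ((1 : S) : Ω)
      exact h₁.map_one
    · apply Subtype.ext
      show c₂ ((1 : S) : Ω) = ((1 : S) : Ω)
      exact h₂.map_one
  map_mul' := by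
    intro k l
    apply Prod.ext
    · apply Subtype.ext
      show c₁ (((k : S × S).1 : Ω) * ((l : S × S).1 : Ω)) = c₁ ((k : S × S).1 : Ω) * c₁ ((l : S × S).1 : Ω)
      exact h₁.map_mul (hN k.1 k.2).1 (hN l.1 l.2).1
    · apply Subtype.ext
      show c₂ (((k : S × S).2 : Ω) * ((l : S × S).2 : Ω)) = c₂ ((k : S × S).2 : Ω) * c₂ ((l : S × S).2 : Ω)
      exact h₂.map_mul (hN k.1 k.2).2 (hN l.1 l.2).2

theorem pairHom_apply {A B : Subgroup Ω} {c₁ c₂ : Ω → Ω} (h₁ : Mor F A c₁) (h₂ : Mor F B c₂)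
    (N : Subgroup (S × S))
    (hN : ∀ k ∈ N, (((k : S × S).1 : S) : Ω) ∈ A ∧ (((k : S × S).2 : S) : Ω) ∈ B) (k : N) :
    ((((pairHom h₁ h₂ N hN k).1 : S) : Ω) = c₁ ((k : S × S).1 : Ω)) ∧
      ((((pairHom h₁ h₂ N hN k).2 : S) : Ω) = c₂ ((k : S × S).2 : Ω)) := ⟨rfl, rfl⟩

theorem pairHom_injective {A B : Subgroup Ω} {c₁ c₂ : Ω → Ω} (h₁ : Mor F A c₁) (h₂ : Mor F B c₂)
    (N : Subgroup (S × S))
    (hN : ∀ k ∈ N, (((k : S × S).1 : S) : Ω) ∈ A ∧ (((k : S × S).2 : S) : Ω) ∈ B) :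
    Function.Injective (pairHom h₁ h₂ N hN) := by
  intro k l hkl
  have e1 : c₁ ((k : S × S).1 : Ω) = c₁ ((l : S × S).1 : Ω) :=
    congrArg (fun z : S × S => ((z.1 : S) : Ω)) hkl
  have e2 : c₂ ((k : S × S).2 : Ω) = c₂ ((l : S × S).2 : Ω) :=
    congrArg (fun z : S × S => ((z.2 : S) : Ω)) hkl
  have f1 := h₁.inj (hN k.1 k.2).1 (hN l.1 l.2).1 e1
  have f2 := h₂.inj (hN k.1 k.2).2 (hN l.1 l.2).2 e2
  apply Subtype.ext
  apply Prod.ext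
  · exact Subtype.ext f1
  · exact Subtype.ext f2

theorem mem_map_pairHom {A B : Subgroup Ω} {c₁ c₂ : Ω → Ω} (h₁ : Mor F A c₁) (h₂ : Mor F B c₂)
    (N : Subgroup (S × S))
    (hN : ∀ k ∈ N, (((k : S × S).1 : S) : Ω) ∈ A ∧ (((k : S × S).2 : S) : Ω) ∈ B)
    {K : Subgroup (S × S)} (hKN : K ≤ N) (a' b' : S) :
    (a', b') ∈ (K.subgroupOf N).map (pairHom h₁ h₂ N hN) ↔
      ∃ a b : S, (a, b) ∈ K ∧ c₁ a = a' ∧ c₂ b = b' := by
  constructor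
  · rintro ⟨k, hk, he⟩
    rw [SetLike.mem_coe, Subgroup.mem_subgroupOf] at hk
    refine ⟨(k : S × S).1, (k : S × S).2, hk, ?_, ?_⟩
    · exact congrArg (fun z : S × S => ((z.1 : S) : Ω)) he
    · exact congrArg (fun z : S × S => ((z.2 : S) : Ω)) he
  · rintro ⟨a, b, hab, e1, e2⟩
    refine ⟨⟨(a, b), hKN hab⟩, Subgroup.mem_subgroupOf.2 hab, ?_⟩
    apply Prod.ext
    · exact Subtype.ext e1
    · exact Subtype.ext e2

end Biset1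

end Cfsg.Agent.Helper85
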