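import Mathlib

set_option autoImplicit false

/-! # Burnside's table-of-marks theorem: two finite `A`-sets with equal marks are isomorphic -/

namespace Cfsg.Agent.Helper85

open MulAction

universe u v

section Marks

variable {A : Type v} [Group A]

/-- fixed points of a subgroup on a set with action -/
def fixSet {X : Type*} [MulAction A X] (K : Subgroup A) : Set X := {x | ∀ k ∈ K, k • x = x}

theorem fixSet_bot {X : Type*} [MulAction A X] : (fixSet (⊥ : Subgroup A) : Set X) = Set.univ := by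
  ext x
  simp only [fixSet, Set.mem_setOf_eq, Set.mem_univ, iff_true]
  intro k hk
  rw [Subgroup.mem_bot.1 hk, one_smul]

theorem smul_eq_smul_iff {X : Type*} [MulAction A X] (x : X) (a b : A) :
    a • x = b • x ↔ b⁻¹ * a ∈ stabilizer A x := by
  rw [mem_stabilizer_iff, mul_smul, inv_smul_eq_iff]


theorem ncard_inter_fixSet_split {Z : Type*} [MulAction A Z] [Finite Z] (W : Set Z) (z : Z)
    (L : Subgroup A) (hsub : orbit A z ⊆ W) :
    (W ∩ fixSet L).ncard = ((W \ orbit A z) ∩ fixSet L).ncard + (orbit A z ∩ fixSet L).ncard := by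
  rw [← Set.ncard_union_eq]
  · congr 1
    ext w
    simp only [Set.mem_inter_iff, Set.mem_union, Set.mem_diff]
    constructor
    · rintro ⟨h1, h2⟩
      by_cases h3 : w ∈ orbit A z
      · exact Or.inr ⟨h3, h2⟩
      · exact Or.inl ⟨⟨h1, h3⟩, h2⟩
    · rintro (⟨⟨h1, -⟩, h2⟩ | ⟨h1, h2⟩)
      · exact ⟨h1, h2⟩
      · exact ⟨hsub h1, h2⟩
  · rw [Set.disjoint_left]
    rintro w ⟨⟨-, h1⟩, -⟩ ⟨h2, -⟩
    exact h1 h2

theorem smul_mem_diff_orbit {Z : Type*} [MulAction A Z] (W : Set Z) (z : Z)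
    (hW : ∀ (a : A) w, w ∈ W → a • w ∈ W) (a : A) (w : Z) (hw : w ∈ W \ orbit A z) :
    a • w ∈ W \ orbit A z := by
  refine ⟨hW a w hw.1, fun h => hw.2 ?_⟩
  obtain ⟨b, hb⟩ := h
  refine ⟨a⁻¹ * b, ?_⟩
  show (a⁻¹ * b) • z = w
  have hb' : b • z = a • w := hb
  rw [mul_smul, hb', inv_smul_smul]

variable [Finite A]

theorem marks_aux {X Y : Type*} [MulAction A X] [MulAction A Y] [Finite X] [Finite Y] (y₁ : Y) :
    ∀ (n : ℕ) (U : Set X) (V : Set Y), U.ncard = n →
      (∀ (a : A) x, x ∈ U → a • x ∈ U) → (∀ (a : A) y, y ∈ V → a • y ∈ V) →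
      (∀ K : Subgroup A, (U ∩ fixSet K).ncard = (V ∩ fixSet K).ncard) →
      ∃ f : X → Y, Set.BijOn f U V ∧ ∀ (a : A), ∀ x ∈ U, f (a • x) = a • f x := by
  intro n
  induction n using Nat.strong_induction_on with
  | _ n ih =>
  intro U V hn hU hV hm
  by_cases hUe : U = ∅
  · have hV0 : V = ∅ := by
      have h0 := hm ⊥
      rw [fixSet_bot, fixSet_bot, Set.inter_univ, Set.inter_univ, hUe, Set.ncard_empty] at h0
      exact (Set.ncard_eq_zero (Set.toFinite V)).1 h0.symm
    subst hUe; subst hV0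
    exact ⟨fun _ => y₁, Set.bijOn_empty _, by simp⟩
  · have hUne : U.Nonempty := Set.nonempty_iff_ne_empty.2 hUe
    let 𝒦 := {K : Subgroup A // (U ∩ fixSet K).Nonempty}
    haveI : Nonempty 𝒦 := by
      obtain ⟨x, hx⟩ := hUne
      exact ⟨⟨⊥, ⟨x, hx, by rw [fixSet_bot]; trivial⟩⟩⟩
    obtain ⟨⟨K, hK⟩, hmax⟩ := Finite.exists_max (fun K : 𝒦 => Nat.card K.1)
    obtain ⟨x₀, hx₀U, hx₀K⟩ := hK
    have hVK : (V ∩ fixSet K).Nonempty := by
      rw [← Set.ncard_pos, ← hm K, Set.ncard_pos]; exact ⟨x₀, hx₀U, hx₀K⟩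
    obtain ⟨y₀, hy₀V, hy₀K⟩ := hVK
    have hsx : stabilizer A x₀ = K := by
      symm
      apply Subgroup.eq_of_le_of_card_ge
      · intro k hk; exact hx₀K k hk
      · exact hmax ⟨stabilizer A x₀, ⟨x₀, hx₀U, fun k hk => hk⟩⟩
    have hsy : stabilizer A y₀ = K := by
      symm
      apply Subgroup.eq_of_le_of_card_ge
      · intro k hk; exact hy₀K k hk
      · have : (U ∩ fixSet (stabilizer A y₀)).Nonempty := by
          rw [← Set.ncard_pos, hm, Set.ncard_pos]; exact ⟨y₀, hy₀V, fun k hk => hk⟩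
        exact hmax ⟨_, this⟩
    have key : ∀ a b : A, a • x₀ = b • x₀ ↔ a • y₀ = b • y₀ := by
      intro a b
      rw [smul_eq_smul_iff, smul_eq_smul_iff, hsx, hsy]
    classical
    let o : X → Y := fun x => if h : x ∈ orbit A x₀ then (Classical.choose h) • y₀ else y₁
    have ho : ∀ a : A, o (a • x₀) = a • y₀ := by
      intro a
      have h : a • x₀ ∈ orbit A x₀ := mem_orbit _ _
      simp only [o, dif_pos h]
      exact (key _ _).1 (Classical.choose_spec h)
    have horbU : orbit A x₀ ⊆ U := by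
      rintro _ ⟨a, rfl⟩; exact hU a x₀ hx₀U
    have horbV : orbit A y₀ ⊆ V := by
      rintro _ ⟨a, rfl⟩; exact hV a y₀ hy₀V
    have hlt : (U \ orbit A x₀).ncard < n := by
      rw [← hn]
      apply Set.ncard_lt_ncard _ (Set.toFinite U)
      refine ⟨Set.diff_subset, fun h => ?_⟩
      exact (h hx₀U).2 (mem_orbit_self x₀)
    -- marks of the orbits agree
    have horb : ∀ L : Subgroup A, (orbit A x₀ ∩ fixSet L).ncard = (orbit A y₀ ∩ fixSet L).ncard := by
      intro L
      have hb : Set.BijOn o (orbit A x₀ ∩ fixSet L) (orbit A y₀ ∩ fixSet L) := by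
        refine ⟨?_, ?_, ?_⟩
        · rintro _ ⟨⟨a, rfl⟩, hfix⟩
          refine ⟨?_, ?_⟩
          · show o (a • x₀) ∈ _
            rw [ho]; exact mem_orbit _ _
          · intro l hl
            show l • o (a • x₀) = o (a • x₀)
            rw [ho, ← mul_smul, ← key, mul_smul]
            exact hfix l hl
        · rintro _ ⟨⟨a, rfl⟩, -⟩ _ ⟨⟨b, rfl⟩, -⟩ hab
          simp only [ho] at hab
          exact (key a b).2 hab
        · rintro _ ⟨⟨a, rfl⟩, hfix⟩
          refine ⟨a • x₀, ⟨mem_orbit _ _, ?_⟩, ho a⟩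
          intro l hl
          rw [← mul_smul, key, mul_smul]
          exact hfix l hl
      rw [← hb.image_eq, Set.ncard_image_of_injOn hb.injOn]
    have hm' : ∀ L : Subgroup A,
        ((U \ orbit A x₀) ∩ fixSet L).ncard = ((V \ orbit A y₀) ∩ fixSet L).ncard := by
      intro L
      have h1 := ncard_inter_fixSet_split U x₀ L horbU
      have h2 := ncard_inter_fixSet_split V y₀ L horbV
      have h3 := hm L
      have h4 := horb L
      omega
    obtain ⟨f', hf', hf'eq⟩ := ih _ hlt (U \ orbit A x₀) (V \ orbit A y₀) rfl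
      (smul_mem_diff_orbit U x₀ hU) (smul_mem_diff_orbit V y₀ hV) hm'
    let f : X → Y := fun x => if x ∈ orbit A x₀ then o x else f' x
    have hf1 : ∀ a : A, f (a • x₀) = a • y₀ := by
      intro a
      have h : a • x₀ ∈ orbit A x₀ := mem_orbit _ _
      simp only [f, if_pos h, ho]
    have hf2 : ∀ x, x ∉ orbit A x₀ → f x = f' x := by
      intro x h
      simp only [f, if_neg h]
    refine ⟨f, ⟨?_, ?_, ?_⟩, ?_⟩
    · intro x hx
      by_cases h : x ∈ orbit A x₀
      · obtain ⟨a, rfl⟩ := h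
        show f (a • x₀) ∈ V
        rw [hf1]; exact hV a y₀ hy₀V
      · rw [hf2 x h]
        exact (hf'.mapsTo ⟨hx, h⟩).1
    · intro x hx x' hx' hxx'
      by_cases h : x ∈ orbit A x₀
      · by_cases h' : x' ∈ orbit A x₀
        · obtain ⟨a, rfl⟩ := h
          obtain ⟨b, rfl⟩ := h'
          change f (a • x₀) = f (b • x₀) at hxx'
          rw [hf1, hf1] at hxx'
          exact (key a b).2 hxx'
        · exfalso
          obtain ⟨a, rfl⟩ := h
          change f (a • x₀) = f x' at hxx'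
          rw [hf1, hf2 x' h'] at hxx'
          exact (hf'.mapsTo ⟨hx', h'⟩).2 (hxx' ▸ mem_orbit _ _)
      · by_cases h' : x' ∈ orbit A x₀
        · exfalso
          obtain ⟨b, rfl⟩ := h'
          change f x = f (b • x₀) at hxx'
          rw [hf1, hf2 x h] at hxx'
          exact (hf'.mapsTo ⟨hx, h⟩).2 (hxx' ▸ mem_orbit _ _)
        · rw [hf2 x h, hf2 x' h'] at hxx'
          exact hf'.injOn ⟨hx, h⟩ ⟨hx', h'⟩ hxx'
    · intro y hy
      by_cases h : y ∈ orbit A y₀
      · obtain ⟨a, rfl⟩ := h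
        exact ⟨a • x₀, hU a x₀ hx₀U, hf1 a⟩
      · obtain ⟨x, hx, rfl⟩ := hf'.surjOn ⟨hy, h⟩
        exact ⟨x, hx.1, hf2 x hx.2⟩
    · intro a x hx
      by_cases h : x ∈ orbit A x₀
      · obtain ⟨b, rfl⟩ := h
        rw [← mul_smul, hf1, hf1, mul_smul]
      · have h' : a • x ∉ orbit A x₀ := (smul_mem_diff_orbit U x₀ hU a x ⟨hx, h⟩).2
        rw [hf2 x h, hf2 _ h']
        exact hf'eq a x ⟨hx, h⟩

/-- **Burnside's marks theorem**: finite `A`-sets with the same marks are isomorphic. -/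
theorem exists_equivariant_equiv {X Y : Type*} [MulAction A X] [MulAction A Y] [Finite X] [Finite Y]
    (hm : ∀ K : Subgroup A, (fixSet K : Set X).ncard = (fixSet K : Set Y).ncard) :
    ∃ e : X ≃ Y, ∀ (a : A) (x : X), e (a • x) = a • e x := by
  have hcard : Nat.card X = Nat.card Y := by
    have := hm ⊥
    rwa [fixSet_bot, fixSet_bot, Set.ncard_univ, Set.ncard_univ] at this
  by_cases hX : IsEmpty X
  · haveI := hX
    haveI : IsEmpty Y := by
      rw [← Finite.card_eq_zero_iff (α := Y), ← hcard]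
      exact Finite.card_eq_zero_iff.2 hX
    exact ⟨Equiv.equivOfIsEmpty X Y, fun a x => isEmptyElim x⟩
  · rw [not_isEmpty_iff] at hX
    haveI : Nonempty Y := by
      rw [← Finite.card_pos_iff, ← hcard]; exact Finite.card_pos
    obtain ⟨y₁⟩ := ‹Nonempty Y›
    obtain ⟨f, hf, hfe⟩ := marks_aux (A := A) y₁ _ (Set.univ : Set X) (Set.univ : Set Y) rfl
      (fun _ _ _ => trivial) (fun _ _ _ => trivial)
      (fun K => by rw [Set.univ_inter, Set.univ_inter]; exact hm K)
    have hbij : Function.Bijective f := Set.bijOn_univ.1 hf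
    exact ⟨Equiv.ofBijective f hbij, fun a x => hfe a x trivial⟩

end Marks

end Cfsg.Agent.Helper85
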