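import Mathlib
import Cfsg.Agent.Lib.Helper85.Marks1

set_option autoImplicit false

/-! # Sums of coset spaces with prescribed multiplicities and their marks -/

namespace Cfsg.Agent.Helper85

open MulAction

universe u

section CosetSum

variable {H : Type u} [Group H]

theorem quot_smul_eq_iff {Δ : Subgroup H} (g h : H) :
    g • (h : H ⧸ Δ) = (h : H ⧸ Δ) ↔ h⁻¹ * g * h ∈ Δ := by
  rw [MulAction.Quotient.smul_mk, smul_eq_mul, QuotientGroup.eq, ← Subgroup.inv_mem_iff]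
  simp [mul_assoc]

theorem mem_fixSet_quotient {Δ K : Subgroup H} (h : H) :
    ((h : H ⧸ Δ) ∈ (fixSet K : Set (H ⧸ Δ))) ↔ ∀ k ∈ K, h⁻¹ * k * h ∈ Δ := by
  unfold fixSet
  simp only [Set.mem_setOf_eq]
  exact forall₂_congr (fun k _ => quot_smul_eq_iff k h)

theorem card_fix_quotient (Δ K : Subgroup H) :
    Nat.card Δ * (fixSet K : Set (H ⧸ Δ)).ncard = Nat.card {h : H // ∀ k ∈ K, h⁻¹ * k * h ∈ Δ} := by
  have e := QuotientGroup.preimageMkEquivSubgroupProdSet Δ (fixSet K : Set (H ⧸ Δ))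
  rw [← Nat.card_coe_set_eq, ← Nat.card_prod, ← Nat.card_congr e]
  apply Nat.card_congr
  exact Equiv.subtypeEquivRight (fun h => mem_fixSet_quotient h)

/-- the disjoint union of `m Δ` copies of `H ⧸ Δ` over all subgroups `Δ` -/
structure CosetSum (m : Subgroup H → ℕ) : Type u where
  sub : Subgroup H
  idx : Fin (m sub)
  pt : H ⧸ sub

instance (m : Subgroup H → ℕ) : SMul H (CosetSum m) where
  smul h x := ⟨x.sub, x.idx, h • x.pt⟩

theorem cosetSum_smul_def (m : Subgroup H → ℕ) (h : H) (Δ : Subgroup H) (i : Fin (m Δ)) (q : H ⧸ Δ) :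
    h • (⟨Δ, i, q⟩ : CosetSum m) = ⟨Δ, i, h • q⟩ := rfl

instance (m : Subgroup H → ℕ) : MulAction H (CosetSum m) where
  one_smul x := by
    obtain ⟨Δ, i, q⟩ := x
    rw [cosetSum_smul_def, one_smul]
  mul_smul a b x := by
    obtain ⟨Δ, i, q⟩ := x
    rw [cosetSum_smul_def, cosetSum_smul_def, cosetSum_smul_def, mul_smul]

theorem cosetSum_smul_eq_iff (m : Subgroup H → ℕ) (h : H) (Δ : Subgroup H) (i : Fin (m Δ)) (q : H ⧸ Δ) :
    h • (⟨Δ, i, q⟩ : CosetSum m) = ⟨Δ, i, q⟩ ↔ h • q = q := by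
  rw [cosetSum_smul_def]
  constructor
  · intro hh
    injection hh
  · intro hh; rw [hh]

/-- `CosetSum` as a sigma type -/
def cosetSumEquiv (m : Subgroup H → ℕ) : CosetSum m ≃ Σ Δ : Subgroup H, Fin (m Δ) × (H ⧸ Δ) where
  toFun x := ⟨x.sub, (x.idx, x.pt)⟩
  invFun y := ⟨y.1, y.2.1, y.2.2⟩
  left_inv x := by cases x; rfl
  right_inv y := by rcases y with ⟨Δ, i, q⟩; rfl

instance (m : Subgroup H → ℕ) [Finite H] : Finite (CosetSum m) :=
  Finite.of_equiv _ (cosetSumEquiv m).symm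

/-- points of `CosetSum m`: stabilizers are conjugates of the `Δ` with `m Δ ≠ 0` -/
theorem cosetSum_stabilizer (m : Subgroup H → ℕ) (x : CosetSum m) :
    ∃ (Δ : Subgroup H) (h : H), m Δ ≠ 0 ∧ ∀ g : H, g • x = x ↔ h⁻¹ * g * h ∈ Δ := by
  obtain ⟨Δ, i, q⟩ := x
  induction q using QuotientGroup.induction_on with
  | H h =>
  refine ⟨Δ, h, ?_, fun g => ?_⟩
  · intro h0
    rw [h0] at i
    exact i.elim0
  · rw [cosetSum_smul_eq_iff, quot_smul_eq_iff]

theorem cosetSum_exists_point (m : Subgroup H → ℕ) (Δ : Subgroup H) (hΔ : m Δ ≠ 0) :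
    ∃ x : CosetSum m, ∀ g : H, g • x = x ↔ g ∈ Δ := by
  refine ⟨⟨Δ, ⟨0, Nat.pos_of_ne_zero hΔ⟩, ((1 : H) : H ⧸ Δ)⟩, fun g => ?_⟩
  rw [cosetSum_smul_eq_iff, quot_smul_eq_iff]
  simp

variable [Finite H]

open scoped Classical in
theorem ncard_fixSet_cosetSum [Fintype (Subgroup H)] (m : Subgroup H → ℕ) (K : Subgroup H) :
    (fixSet K : Set (CosetSum m)).ncard
      = ∑ Δ : Subgroup H, m Δ * (fixSet K : Set (H ⧸ Δ)).ncard := by
  have e : (fixSet K : Set (CosetSum m)) ≃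
      Σ Δ : Subgroup H, Fin (m Δ) × (fixSet K : Set (H ⧸ Δ)) :=
    { toFun := fun x => ⟨x.1.sub, (x.1.idx, ⟨x.1.pt, by
        rcases x with ⟨⟨Δ, i, q⟩, hx⟩
        intro k hk
        exact (cosetSum_smul_eq_iff m k Δ i q).1 (hx k hk)⟩)⟩
      invFun := fun y => ⟨⟨y.1, y.2.1, y.2.2.1⟩, by
        rcases y with ⟨Δ, i, ⟨q, hq⟩⟩
        intro k hk
        exact (cosetSum_smul_eq_iff m k Δ i q).2 (hq k hk)⟩
      left_inv := fun x => by
        rcases x with ⟨⟨Δ, i, q⟩, hx⟩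
        rfl
      right_inv := fun y => by
        rcases y with ⟨Δ, i, ⟨q, hq⟩⟩
        rfl }
  rw [← Nat.card_coe_set_eq, Nat.card_congr e, Nat.card_sigma]
  refine Finset.sum_congr rfl (fun Δ _ => ?_)
  rw [Nat.card_prod, Nat.card_fin, Nat.card_coe_set_eq]

open scoped Classical in
/-- the marks of the coset sum with multiplicities `|Δ| * e Δ`, for conjugation invariant `e` -/
theorem ncard_fixSet_cosetSum_weights [Fintype (Subgroup H)] (e : Subgroup H → ℕ)
    (he : ∀ (h : H) (Δ : Subgroup H), e (Δ.map (MulAut.conj h).toMonoidHom) = e Δ)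
    (K : Subgroup H) :
    (fixSet K : Set (CosetSum fun Δ => Nat.card Δ * e Δ)).ncard
      = Nat.card H * ∑ Δ : Subgroup H, if K ≤ Δ then e Δ else 0 := by
  haveI : Fintype H := Fintype.ofFinite H
  rw [ncard_fixSet_cosetSum]
  have h1 : ∀ Δ : Subgroup H, Nat.card Δ * e Δ * (fixSet K : Set (H ⧸ Δ)).ncard
      = ∑ h : H, if K ≤ Δ.map (MulAut.conj h).toMonoidHom then e Δ else 0 := by
    intro Δ
    rw [mul_right_comm, card_fix_quotient, Nat.card_eq_fintype_card, Fintype.card_subtype,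
      Finset.card_filter, Finset.sum_mul]
    refine Finset.sum_congr rfl (fun h _ => ?_)
    have : (∀ k ∈ K, h⁻¹ * k * h ∈ Δ) ↔ K ≤ Δ.map (MulAut.conj h).toMonoidHom := by
      refine forall₂_congr (fun k _ => ?_)
      rw [Subgroup.mem_map_equiv]
      simp [MulAut.conj_symm_apply]
    by_cases hc : K ≤ Δ.map (MulAut.conj h).toMonoidHom
    · rw [if_pos hc, if_pos (this.2 hc), one_mul]
    · rw [if_neg hc, if_neg (fun h' => hc (this.1 h')), zero_mul]
  rw [Finset.sum_congr rfl (fun Δ _ => h1 Δ), Finset.sum_comm, Nat.card_eq_fintype_card,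
    ← Finset.card_univ, Finset.card_eq_sum_ones, Finset.sum_mul]
  refine Finset.sum_congr rfl (fun h _ => ?_)
  rw [one_mul]
  have := Equiv.sum_comp ((MulAut.conj h).mapSubgroup.toEquiv)
    (fun Δ : Subgroup H => if K ≤ Δ then e Δ else 0)
  rw [← this]
  refine Finset.sum_congr rfl (fun Δ _ => ?_)
  show _ = if K ≤ Δ.map (MulAut.conj h).toMonoidHom then e (Δ.map (MulAut.conj h).toMonoidHom) else 0
  rw [he]

end CosetSum

end Cfsg.Agent.Helper85
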