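import Mathlib
import Cfsg.Agent.Lib.Helper85.Marks2

set_option autoImplicit false

/-! # Weights on a conjugation-invariant family of subgroups with level-constant upper sums -/

namespace Cfsg.Agent.Helper85

universe u

section Weights

variable {H : Type u} [Group H]

theorem map_conj_map_conj_inv (h : H) (Δ : Subgroup H) :
    (Δ.map (MulAut.conj h).toMonoidHom).map (MulAut.conj h⁻¹).toMonoidHom = Δ := by
  rw [Subgroup.map_map]
  have : (MulAut.conj h⁻¹).toMonoidHom.comp (MulAut.conj h).toMonoidHom = MonoidHom.id H := by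
    ext x; simp [mul_assoc]
  rw [this, Subgroup.map_id]

theorem card_map_conj (h : H) (Δ : Subgroup H) :
    Nat.card (Δ.map (MulAut.conj h).toMonoidHom) = Nat.card Δ :=
  Subgroup.card_map_of_injective (MulAut.conj h).injective

theorem map_conj_le_map_conj_iff (h : H) (Δ Δ' : Subgroup H) :
    Δ.map (MulAut.conj h).toMonoidHom ≤ Δ'.map (MulAut.conj h).toMonoidHom ↔ Δ ≤ Δ' :=
  Subgroup.map_le_map_iff_of_injective (MulAut.conj h).injective

variable [Finite H]

open scoped Classical in
theorem upperSum_conj [Fintype (Subgroup H)] (e : Subgroup H → ℕ)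
    (he : ∀ (h : H) (Δ : Subgroup H), e (Δ.map (MulAut.conj h).toMonoidHom) = e Δ)
    (h : H) (K : Subgroup H) :
    (∑ Δ : Subgroup H, if K.map (MulAut.conj h).toMonoidHom ≤ Δ then e Δ else 0)
      = ∑ Δ : Subgroup H, if K ≤ Δ then e Δ else 0 := by
  have := Equiv.sum_comp ((MulAut.conj h).mapSubgroup.toEquiv)
    (fun Δ : Subgroup H => if K.map (MulAut.conj h).toMonoidHom ≤ Δ then e Δ else 0)
  rw [← this]
  refine Finset.sum_congr rfl (fun Δ _ => ?_)
  show (if K.map (MulAut.conj h).toMonoidHom ≤ Δ.map (MulAut.conj h).toMonoidHom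
    then e (Δ.map (MulAut.conj h).toMonoidHom) else 0) = _
  rw [he]
  by_cases hc : K ≤ Δ
  · rw [if_pos hc, if_pos ((map_conj_le_map_conj_iff h K Δ).2 hc)]
  · rw [if_neg hc, if_neg (fun h' => hc ((map_conj_le_map_conj_iff h K Δ).1 h'))]

open scoped Classical in
theorem exists_weights_aux [Fintype (Subgroup H)] (D : Set (Subgroup H))
    (hD : ∀ (h : H) (Δ : Subgroup H), Δ ∈ D → Δ.map (MulAut.conj h).toMonoidHom ∈ D) (k : ℕ) :
    ∃ (e : Subgroup H → ℕ) (f : ℕ → ℕ),
      (∀ Δ, e Δ ≠ 0 → Δ ∈ D ∧ Nat.card H < Nat.card Δ + k) ∧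
      (∀ Δ ∈ D, Nat.card H < Nat.card Δ + k → 0 < e Δ) ∧
      (∀ (h : H) (Δ : Subgroup H), e (Δ.map (MulAut.conj h).toMonoidHom) = e Δ) ∧
      ∀ K ∈ D, Nat.card H < Nat.card K + k →
        (∑ Δ : Subgroup H, if K ≤ Δ then e Δ else 0) = f (Nat.card K) := by
  have hDiff : ∀ (h : H) (Δ : Subgroup H), Δ.map (MulAut.conj h).toMonoidHom ∈ D ↔ Δ ∈ D := by
    intro h Δ
    refine ⟨fun hh => ?_, hD h Δ⟩
    have := hD h⁻¹ _ hh
    rwa [map_conj_map_conj_inv] at this
  induction k with
  | zero =>
    refine ⟨fun _ => 0, fun _ => 0, fun Δ h => absurd rfl h, ?_, fun _ _ => rfl, ?_⟩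
    · intro Δ _ h
      have := Subgroup.card_le_card_group Δ
      omega
    · intro K _ h
      have := Subgroup.card_le_card_group K
      omega
  | succ k ih =>
    obtain ⟨e, f, h1, h2, h3, h4⟩ := ih
    set N := Nat.card H with hN
    set M := 1 + ∑ Δ : Subgroup H, e Δ with hM
    let T : Subgroup H → ℕ := fun K => ∑ Δ : Subgroup H, if K ≤ Δ then e Δ else 0
    have hT : ∀ K, T K < M := by
      intro K
      have : T K ≤ ∑ Δ : Subgroup H, e Δ := by
        apply Finset.sum_le_sum
        intro Δ _
        split_ifs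
        · exact le_rfl
        · exact Nat.zero_le _
      omega
    have hTconj : ∀ (h : H) (K : Subgroup H), T (K.map (MulAut.conj h).toMonoidHom) = T K :=
      fun h K => upperSum_conj e h3 h K
    let e' : Subgroup H → ℕ := fun Δ => if Δ ∈ D ∧ Nat.card Δ + k = N then M - T Δ else e Δ
    let f' : ℕ → ℕ := fun n => if n + k = N then M else f n
    refine ⟨e', f', ?_, ?_, ?_, ?_⟩
    · intro Δ hΔ
      by_cases hc : Δ ∈ D ∧ Nat.card Δ + k = N
      · exact ⟨hc.1, by omega⟩
      · simp only [e', if_neg hc] at hΔ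
        obtain ⟨h5, h6⟩ := h1 Δ hΔ
        exact ⟨h5, by omega⟩
    · intro Δ hΔ hlt
      by_cases hc : Δ ∈ D ∧ Nat.card Δ + k = N
      · simp only [e', if_pos hc]
        have := hT Δ
        omega
      · simp only [e', if_neg hc]
        apply h2 Δ hΔ
        have : Nat.card Δ + k ≠ N := fun h => hc ⟨hΔ, h⟩
        omega
    · intro h Δ
      simp only [e']
      rw [hDiff, card_map_conj, hTconj, h3]
    · intro K hK hlt
      by_cases hc : Nat.card K + k = N
      · -- new level
        have heK : e K = 0 := by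
          by_contra h0
          have := (h1 K h0).2
          omega
        have hterm : ∀ Δ : Subgroup H, (if K ≤ Δ then e' Δ else 0)
            = (if K ≤ Δ then e Δ else 0) + (if Δ = K then M - T K else 0) := by
          intro Δ
          by_cases hle : K ≤ Δ
          · by_cases heq : Δ = K
            · subst heq
              rw [if_pos hle, if_pos hle, if_pos rfl, heK, zero_add]
              simp only [e', if_pos (⟨hK, hc⟩ : Δ ∈ D ∧ Nat.card Δ + k = N)]
            · rw [if_pos hle, if_pos hle, if_neg heq, add_zero]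
              have hlt' : Nat.card K < Nat.card Δ := by
                by_contra hge
                rw [not_lt] at hge
                exact heq (Subgroup.eq_of_le_of_card_ge hle hge).symm
              have : ¬ (Δ ∈ D ∧ Nat.card Δ + k = N) := fun h => by omega
              simp only [e', if_neg this]
          · have heq : Δ ≠ K := fun h => hle (h ▸ le_rfl)
            rw [if_neg hle, if_neg hle, if_neg heq]
        rw [Finset.sum_congr rfl (fun Δ _ => hterm Δ), Finset.sum_add_distrib,
          Finset.sum_ite_eq' Finset.univ K, if_pos (Finset.mem_univ K)]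
        simp only [f', if_pos hc]
        have := hT K
        show T K + (M - T K) = M
        omega
      · have hlt2 : N < Nat.card K + k := by omega
        have hterm : ∀ Δ : Subgroup H, (if K ≤ Δ then e' Δ else 0) = (if K ≤ Δ then e Δ else 0) := by
          intro Δ
          by_cases hle : K ≤ Δ
          · rw [if_pos hle, if_pos hle]
            have := Subgroup.card_le_of_le hle
            have : ¬ (Δ ∈ D ∧ Nat.card Δ + k = N) := fun h => by omega
            simp only [e', if_neg this]
          · rw [if_neg hle, if_neg hle]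
        rw [Finset.sum_congr rfl (fun Δ _ => hterm Δ)]
        simp only [f', if_neg hc]
        exact h4 K hK hlt2

open scoped Classical in
/-- weights `e` supported exactly on the conjugation invariant family `D`, conjugation invariant, whose
upper sums `∑_{Δ ≥ K} e Δ` depend only on the order of `K ∈ D` -/
theorem exists_weights [Fintype (Subgroup H)] (D : Set (Subgroup H))
    (hD : ∀ (h : H) (Δ : Subgroup H), Δ ∈ D → Δ.map (MulAut.conj h).toMonoidHom ∈ D) :
    ∃ (e : Subgroup H → ℕ) (f : ℕ → ℕ),
      (∀ Δ, Δ ∉ D → e Δ = 0) ∧ (∀ Δ ∈ D, 0 < e Δ) ∧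
      (∀ (h : H) (Δ : Subgroup H), e (Δ.map (MulAut.conj h).toMonoidHom) = e Δ) ∧
      ∀ K ∈ D, (∑ Δ : Subgroup H, if K ≤ Δ then e Δ else 0) = f (Nat.card K) := by
  obtain ⟨e, f, h1, h2, h3, h4⟩ := exists_weights_aux D hD (Nat.card H + 1)
  refine ⟨e, f, ?_, ?_, h3, ?_⟩
  · intro Δ hΔ
    by_contra h0
    exact hΔ (h1 Δ h0).1
  · intro Δ hΔ
    exact h2 Δ hΔ (by omega)
  · intro K hK
    exact h4 K hK (by omega)

end Weights

end Cfsg.Agent.Helper85
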