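import Mathlib
import Cfsg.Agent.Lib.Helper85.Marks3

set_option autoImplicit false

/-! # Marks of sums of coset spaces: conjugation, counting, Burnside congruence -/

namespace Cfsg.Agent.Helper85

open MulAction

universe u

section Stable

variable {H : Type u} [Group H]

theorem fixSet_map_conj {X : Type*} [MulAction H X] (K : Subgroup H) (h : H) :
    (fixSet (K.map (MulAut.conj h).toMonoidHom) : Set X) = (fun x => h • x) '' (fixSet K : Set X) := by
  ext y
  constructor
  · intro hy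
    refine ⟨h⁻¹ • y, fun k hk => ?_, by simp⟩
    have h1 : (h * k * h⁻¹) • y = y := hy _ ⟨k, hk, by simp⟩
    rw [← mul_smul]
    have : h⁻¹ * (h * k * h⁻¹) = k * h⁻¹ := by group
    calc (k * h⁻¹) • y = (h⁻¹ * (h * k * h⁻¹)) • y := by rw [this]
      _ = h⁻¹ • y := by rw [mul_smul, h1]
  · rintro ⟨x, hx, rfl⟩ _ ⟨k, hk, rfl⟩
    show (h * k * h⁻¹) • h • x = h • x
    rw [← mul_smul]
    have : h * k * h⁻¹ * h = h * k := by group
    rw [this, mul_smul, hx k hk]

theorem ncard_fixSet_map_conj {X : Type*} [MulAction H X] (K : Subgroup H) (h : H) :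
    (fixSet (K.map (MulAut.conj h).toMonoidHom) : Set X).ncard = (fixSet K : Set X).ncard := by
  rw [fixSet_map_conj]
  exact Set.ncard_image_of_injective _ (MulAction.injective h)

theorem fixSet_sup_zpowers {X : Type*} [MulAction H X] (Δ : Subgroup H) (k : H) (x : X) :
    x ∈ (fixSet (Δ ⊔ Subgroup.zpowers k) : Set X) ↔ x ∈ (fixSet Δ : Set X) ∧ k • x = x := by
  constructor
  · intro hx
    exact ⟨fun d hd => hx d (le_sup_left (a := Δ) hd),
      hx k (le_sup_right (a := Δ) (Subgroup.mem_zpowers k))⟩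
  · rintro ⟨h1, h2⟩ g hg
    have h3 : Δ ⊔ Subgroup.zpowers k ≤ MulAction.stabilizer H x := by
      apply sup_le
      · intro d hd; exact h1 d hd
      · rw [Subgroup.zpowers_le]; exact h2
    exact h3 hg

variable [Finite H]

/-- the number of points of `H ⧸ Δ` fixed by `K` -/
noncomputable def fx (K Δ : Subgroup H) : ℕ := (fixSet K : Set (H ⧸ Δ)).ncard

theorem fx_ne_zero {K Δ : Subgroup H} (h : fx K Δ ≠ 0) :
    ∃ g : H, K ≤ Δ.map (MulAut.conj g).toMonoidHom := by
  unfold fx at h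
  obtain ⟨q, hq⟩ := Set.nonempty_of_ncard_ne_zero h
  induction q using QuotientGroup.induction_on with
  | H g =>
    refine ⟨g, fun k hk => ?_⟩
    rw [Subgroup.mem_map_equiv]
    simpa [MulAut.conj_symm_apply] using (mem_fixSet_quotient g).1 hq k hk

theorem fx_map_conj (K Δ : Subgroup H) (h : H) :
    fx (K.map (MulAut.conj h).toMonoidHom) Δ = fx K Δ :=
  ncard_fixSet_map_conj K h

theorem mem_normalizer_of_conj_mem {Δ : Subgroup H} {n : H} (h : ∀ d ∈ Δ, n * d * n⁻¹ ∈ Δ) :
    n ∈ Subgroup.normalizer (Δ : Set H) := by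
  rw [Subgroup.mem_normalizer_iff]
  intro d
  refine ⟨h d, fun hd => ?_⟩
  let f : Δ → Δ := fun x => ⟨n * x * n⁻¹, h x x.2⟩
  have hinj : Function.Injective f := by
    intro x y hxy
    have : n * (x : H) * n⁻¹ = n * (y : H) * n⁻¹ := congrArg Subtype.val hxy
    apply Subtype.ext
    simpa using this
  obtain ⟨x, hx⟩ := (Finite.injective_iff_surjective.1 hinj) ⟨n * d * n⁻¹, hd⟩
  have : n * (x : H) * n⁻¹ = n * d * n⁻¹ := congrArg Subtype.val hx
  have hxd : (x : H) = d := by simpa using this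
  rw [← hxd]; exact x.2

theorem fx_mul_card_of_conj {K Δ : Subgroup H} (g : H) (hK : K = Δ.map (MulAut.conj g).toMonoidHom) :
    Nat.card Δ * fx K Δ = Nat.card (Subgroup.normalizer (Δ : Set H)) := by
  unfold fx
  rw [card_fix_quotient]
  apply Nat.card_congr
  refine ⟨fun h => ⟨g⁻¹ * h.1, ?_⟩, fun n => ⟨g * n.1, ?_⟩, ?_, ?_⟩
  · have hh := h.2
    have h1 : (g⁻¹ * h.1)⁻¹ ∈ Subgroup.normalizer (Δ : Set H) := by
      apply mem_normalizer_of_conj_mem
      intro d hd
      have h2 := hh (g * d * g⁻¹) (by rw [hK]; exact ⟨d, hd, by simp⟩)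
      have e : (g⁻¹ * h.1)⁻¹ * d * (g⁻¹ * h.1)⁻¹⁻¹ = h.1⁻¹ * (g * d * g⁻¹) * h.1 := by group
      rw [e]; exact h2
    exact (Subgroup.inv_mem_iff _).1 h1
  · intro k hk
    rw [hK] at hk
    obtain ⟨d, hd, rfl⟩ := hk
    have h1 := (Subgroup.mem_normalizer_iff''.1 n.2 d).1 hd
    have e : (g * n.1)⁻¹ * ((MulAut.conj g).toMonoidHom d) * (g * n.1) = n.1⁻¹ * d * n.1 := by
      simp only [MulEquiv.toMonoidHom_eq_coe, MonoidHom.coe_coe, MulAut.conj_apply]
      group
    rw [e]; exact h1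
  · intro h; apply Subtype.ext; simp
  · intro n; apply Subtype.ext; simp

theorem fx_eq_zero_of_card {K Δ : Subgroup H} (hc : Nat.card Δ ≤ Nat.card K)
    (hn : ¬ ∃ g : H, K = Δ.map (MulAut.conj g).toMonoidHom) : fx K Δ = 0 := by
  by_contra h0
  obtain ⟨g, hg⟩ := fx_ne_zero h0
  apply hn
  refine ⟨g, ?_⟩
  apply Subgroup.eq_of_le_of_card_ge hg
  rw [card_map_conj]; exact hc

theorem fx_eq_zero_of_card_lt {K Δ : Subgroup H} (hc : Nat.card Δ < Nat.card K) : fx K Δ = 0 := by
  by_contra h0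
  obtain ⟨g, hg⟩ := fx_ne_zero h0
  have := Subgroup.card_le_of_le hg
  rw [card_map_conj] at this
  omega

open scoped Classical in
/-- **Burnside congruence**: for a subgroup `L` normalizing `Δ`, the order of `L` divides the sum over `k ∈ L` of the
marks of `⟨Δ, k⟩` -/
theorem burnside_fix {X : Type*} [MulAction H X] [Finite X] (Δ L : Subgroup H) [Fintype L]
    (hL : L ≤ Subgroup.normalizer (Δ : Set H)) :
    Nat.card L ∣ ∑ k : L, (fixSet (Δ ⊔ Subgroup.zpowers (k : H)) : Set X).ncard := by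
  let Y := {x : X // x ∈ (fixSet Δ : Set X)}
  have hmem : ∀ (k : L) (x : X), x ∈ (fixSet Δ : Set X) → (k : H) • x ∈ (fixSet Δ : Set X) := by
    intro k x hx d hd
    have h1 : (k : H)⁻¹ * d * k ∈ Δ := (Subgroup.mem_normalizer_iff''.1 (hL k.2) d).1 hd
    have h2 := hx _ h1
    rw [← mul_smul]
    have e : d * (k : H) = (k : H) * ((k : H)⁻¹ * d * k) := by group
    rw [e, mul_smul, h2]
  letI : MulAction L Y :=
    { smul := fun k y => ⟨(k : H) • y.1, hmem k y.1 y.2⟩
      one_smul := fun y => Subtype.ext (one_smul H y.1)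
      mul_smul := fun a b y => Subtype.ext (mul_smul (a : H) (b : H) y.1) }
  have hsm : ∀ (k : L) (y : Y), ((k • y : Y) : X) = (k : H) • (y : X) := fun _ _ => rfl
  haveI : Fintype Y := Fintype.ofFinite Y
  haveI : Fintype (MulAction.orbitRel.Quotient L Y) := Fintype.ofFinite _
  have hB := MulAction.sum_card_fixedBy_eq_card_orbits_mul_card_group L Y
  have hterm : ∀ k : L, Fintype.card (MulAction.fixedBy Y k)
      = (fixSet (Δ ⊔ Subgroup.zpowers (k : H)) : Set X).ncard := by
    intro k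
    rw [← Nat.card_eq_fintype_card, ← Nat.card_coe_set_eq]
    apply Nat.card_congr
    refine ⟨fun y => ⟨y.1.1, ?_⟩, fun x => ⟨⟨x.1, ?_⟩, ?_⟩, ?_, ?_⟩
    · rw [fixSet_sup_zpowers]
      refine ⟨y.1.2, ?_⟩
      have := y.2
      rw [MulAction.mem_fixedBy] at this
      have h2 := congrArg Subtype.val this
      rwa [hsm] at h2
    · exact ((fixSet_sup_zpowers Δ k x.1).1 x.2).1
    · rw [MulAction.mem_fixedBy]
      apply Subtype.ext
      rw [hsm]
      exact ((fixSet_sup_zpowers Δ k x.1).1 x.2).2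
    · intro y; rfl
    · intro x; rfl
  rw [Finset.sum_congr rfl (fun k _ => hterm k)] at hB
  rw [hB, Nat.card_eq_fintype_card]
  exact Dvd.intro_left _ rfl

end Stable

end Cfsg.Agent.Helper85
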