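import Mathlib
import Cfsg.Agent.Lib.Helper85.Stable1

set_option autoImplicit false

/-! # Construction of finite `H`-sets with marks constant on prescribed classes of subgroups
(abstract form of the Broto-Levi-Oliver construction of a characteristic biset) -/

namespace Cfsg.Agent.Helper85

open MulAction

universe u

section Stable2

variable {H : Type u} [Group H]

/-- conjugacy of subgroups -/
def conjSetoid (H : Type u) [Group H] : Setoid (Subgroup H) where
  r K K' := ∃ h : H, K' = K.map (MulAut.conj h).toMonoidHom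
  iseqv := by
    refine ⟨fun K => ⟨1, ?_⟩, ?_, ?_⟩
    · have : (MulAut.conj (1 : H)).toMonoidHom = MonoidHom.id H := by ext x; simp
      rw [this, Subgroup.map_id]
    · rintro K K' ⟨h, rfl⟩
      exact ⟨h⁻¹, (map_conj_map_conj_inv h K).symm⟩
    · rintro K K' K'' ⟨h, rfl⟩ ⟨h', rfl⟩
      refine ⟨h' * h, ?_⟩
      rw [Subgroup.map_map]
      congr 1
      ext x; simp [mul_assoc]

/-- a chosen representative of the conjugacy class of a subgroup -/
noncomputable def conjRep (K : Subgroup H) : Subgroup H := (Quotient.mk (conjSetoid H) K).out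

theorem conjRep_spec (K : Subgroup H) : ∃ h : H, K = (conjRep K).map (MulAut.conj h).toMonoidHom := by
  have h1 : (conjSetoid H).r (conjRep K) K := Quotient.exact (Quotient.out_eq (Quotient.mk (conjSetoid H) K))
  exact h1

theorem conjRep_map_conj (K : Subgroup H) (h : H) :
    conjRep (K.map (MulAut.conj h).toMonoidHom) = conjRep K := by
  unfold conjRep
  congr 1
  apply Quotient.sound
  exact (conjSetoid H).iseqv.symm ⟨h, rfl⟩

theorem conjRep_conjRep (K : Subgroup H) : conjRep (conjRep K) = conjRep K := by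
  obtain ⟨h, hh⟩ := conjRep_spec K
  conv_rhs => rw [hh]
  rw [conjRep_map_conj]

variable [Finite H]

open scoped Classical in
/-- the marks of the sum of coset spaces with multiplicities `m` -/
noncomputable def marksOf [Fintype (Subgroup H)] (m : Subgroup H → ℕ) (K : Subgroup H) : ℕ :=
  ∑ Δ : Subgroup H, m Δ * fx K Δ

theorem marksOf_eq_ncard [Fintype (Subgroup H)] (m : Subgroup H → ℕ) (K : Subgroup H) :
    marksOf m K = (fixSet K : Set (CosetSum m)).ncard := by
  rw [ncard_fixSet_cosetSum]; rfl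

theorem marksOf_map_conj [Fintype (Subgroup H)] (m : Subgroup H → ℕ) (K : Subgroup H) (h : H) :
    marksOf m (K.map (MulAut.conj h).toMonoidHom) = marksOf m K := by
  unfold marksOf
  simp_rw [fx_map_conj]

/-- the hypotheses of the construction -/
structure StableData (D : Set (Subgroup H)) (r : Subgroup H → Subgroup H → Prop)
    (star : Subgroup H → Subgroup H) : Prop where
  conj_mem : ∀ (h : H) (Δ : Subgroup H), Δ ∈ D → Δ.map (MulAut.conj h).toMonoidHom ∈ D
  le_mem : ∀ (Δ K : Subgroup H), Δ ∈ D → K ≤ Δ → K ∈ D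
  conj_rel : ∀ (h : H) (Δ : Subgroup H), Δ ∈ D → r Δ (Δ.map (MulAut.conj h).toMonoidHom)
  card_eq : ∀ Δ Δ', Δ ∈ D → Δ' ∈ D → r Δ Δ' → Nat.card Δ = Nat.card Δ'
  star_mem : ∀ Δ ∈ D, star Δ ∈ D
  star_rel : ∀ Δ ∈ D, r Δ (star Δ)
  star_eq : ∀ Δ Δ', Δ ∈ D → Δ' ∈ D → r Δ Δ' → star Δ' = star Δ
  theta : ∀ Δ ∈ D, ∃ θ : ↥(Subgroup.normalizer (Δ : Set H)) →* H, Function.Injective θ ∧
    (Δ.subgroupOf (Subgroup.normalizer (Δ : Set H))).map θ = star Δ ∧
    ∀ K : Subgroup H, Δ ≤ K → K ≤ Subgroup.normalizer (Δ : Set H) →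
      ((K ∈ D ↔ (K.subgroupOf (Subgroup.normalizer (Δ : Set H))).map θ ∈ D) ∧
        (K ∈ D → r K ((K.subgroupOf (Subgroup.normalizer (Δ : Set H))).map θ)))

variable {D : Set (Subgroup H)} {r : Subgroup H → Subgroup H → Prop} {star : Subgroup H → Subgroup H}

theorem marksOf_eq_zero_of_not_mem [Fintype (Subgroup H)] (hd : StableData D r star)
    (m : Subgroup H → ℕ) (hsupp : ∀ Δ, m Δ ≠ 0 → Δ ∈ D) (K : Subgroup H) (hK : K ∉ D) :
    marksOf m K = 0 := by
  unfold marksOf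
  apply Finset.sum_eq_zero
  intro Δ _
  by_contra h0
  have h1 : m Δ ≠ 0 := fun h => h0 (by rw [h, zero_mul])
  have h2 : fx K Δ ≠ 0 := fun h => h0 (by rw [h, mul_zero])
  obtain ⟨g, hg⟩ := fx_ne_zero h2
  exact hK (hd.le_mem _ _ (hd.conj_mem g Δ (hsupp Δ h1)) hg)

/-- the index `|N(Δ) : Δ|` -/
noncomputable def qOf (Δ : Subgroup H) : ℕ := Nat.card (Subgroup.normalizer (Δ : Set H)) / Nat.card Δ

theorem qOf_mul_card (Δ : Subgroup H) : qOf Δ * Nat.card Δ = Nat.card (Subgroup.normalizer (Δ : Set H)) :=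
  Nat.div_mul_cancel (Subgroup.card_dvd_of_le Subgroup.le_normalizer)

theorem qOf_pos (Δ : Subgroup H) : 0 < qOf Δ := by
  have h1 := qOf_mul_card Δ
  have h2 : 0 < Nat.card (Subgroup.normalizer (Δ : Set H)) := Nat.card_pos
  by_contra h0
  have : qOf Δ = 0 := by omega
  rw [this, zero_mul] at h1
  omega

theorem theta_range_le {Δ Δ' N : Subgroup H} (hN : N ≤ Subgroup.normalizer (Δ : Set H)) (θ : ↥N →* H)
    (hθ : (Δ.subgroupOf N).map θ = Δ') :
    θ.range ≤ Subgroup.normalizer (Δ' : Set H) := by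
  rintro _ ⟨k, rfl⟩
  apply mem_normalizer_of_conj_mem
  intro e he
  rw [← hθ] at he ⊢
  obtain ⟨d, hd, rfl⟩ := he
  refine ⟨k * d * k⁻¹, ?_, by simp⟩
  rw [SetLike.mem_coe, Subgroup.mem_subgroupOf] at hd ⊢
  have := (Subgroup.mem_normalizer_iff.1 (hN k.2) (d : H)).1 hd
  simpa using this

theorem qOf_dvd_of_theta {Δ Δ' : Subgroup H} (θ : ↥(Subgroup.normalizer (Δ : Set H)) →* H)
    (hinj : Function.Injective θ)
    (hθ : (Δ.subgroupOf (Subgroup.normalizer (Δ : Set H))).map θ = Δ') (hcard : Nat.card Δ = Nat.card Δ') :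
    qOf Δ ∣ qOf Δ' := by
  have h1 : Nat.card θ.range = Nat.card (Subgroup.normalizer (Δ : Set H)) :=
    (Nat.card_congr (MonoidHom.ofInjective hinj).toEquiv).symm
  have h2 : Nat.card (Subgroup.normalizer (Δ : Set H)) ∣ Nat.card (Subgroup.normalizer (Δ' : Set H)) := by
    rw [← h1]
    exact Subgroup.card_dvd_of_le (theta_range_le (le_refl _) θ hθ)
  obtain ⟨t, ht⟩ := h2
  refine ⟨t, ?_⟩
  have h3 := qOf_mul_card Δ
  have h4 := qOf_mul_card Δ'
  have hpos : 0 < Nat.card Δ := Nat.card_pos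
  rw [ht, ← h3, ← hcard] at h4
  have : qOf Δ' * Nat.card Δ = qOf Δ * t * Nat.card Δ := by rw [h4]; ring
  exact Nat.eq_of_mul_eq_mul_right hpos this

open scoped Classical in
theorem burnside_marksOf [Fintype (Subgroup H)] (m : Subgroup H → ℕ) (Δ L : Subgroup H) [Fintype L]
    (hL : L ≤ Subgroup.normalizer (Δ : Set H)) :
    Nat.card L ∣ ∑ k : L, marksOf m (Δ ⊔ Subgroup.zpowers (k : H)) := by
  have := burnside_fix (X := CosetSum m) Δ L hL
  simp_rw [← marksOf_eq_ncard] at this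
  exact this

theorem map_subgroupOf_zpowers {N : Subgroup H} (θ : ↥N →* H) (k : N) :
    ((Subgroup.zpowers (k : H)).subgroupOf N).map θ = Subgroup.zpowers (θ k) := by
  have h1 : Subgroup.zpowers (k : H) = (Subgroup.zpowers k).map N.subtype := by
    rw [MonoidHom.map_zpowers]; rfl
  rw [h1, Subgroup.subgroupOf, Subgroup.comap_map_eq_self_of_injective N.subtype_injective,
    MonoidHom.map_zpowers]

open scoped Classical in
theorem marks_modEq_aux [Fintype (Subgroup H)] (hd : StableData D r star) (n : ℕ) (m : Subgroup H → ℕ)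
    (hsupp : ∀ Δ, m Δ ≠ 0 → Δ ∈ D ∧ n < Nat.card Δ)
    (hconst : ∀ K K', K ∈ D → K' ∈ D → n < Nat.card K → r K K' → marksOf m K = marksOf m K')
    (Δ Δ' N : Subgroup H) (hn : Nat.card Δ = n) (hΔN : Δ ≤ N) (hNn : N ≤ Subgroup.normalizer (Δ : Set H))
    (θ : ↥N →* H) (hinj : Function.Injective θ) (hθ : (Δ.subgroupOf N).map θ = Δ')
    (hK : ∀ K : Subgroup H, Δ ≤ K → K ≤ N →
      ((K ∈ D ↔ (K.subgroupOf N).map θ ∈ D) ∧ (K ∈ D → r K ((K.subgroupOf N).map θ)))) :
    Nat.card Δ * marksOf m Δ ≡ Nat.card Δ * marksOf m Δ' [MOD Nat.card N] := by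
  haveI : Fintype H := Fintype.ofFinite H
  -- first congruence
  have h1 := burnside_marksOf m Δ N hNn
  -- second congruence
  have hrange := theta_range_le hNn θ hθ
  have h2 := burnside_marksOf m Δ' θ.range hrange
  have hcardrange : Nat.card θ.range = Nat.card N :=
    (Nat.card_congr (MonoidHom.ofInjective hinj).toEquiv).symm
  rw [hcardrange] at h2
  have hre : ∑ k : θ.range, marksOf m (Δ' ⊔ Subgroup.zpowers (k : H))
      = ∑ k : N, marksOf m (Δ' ⊔ Subgroup.zpowers (θ k)) := by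
    symm
    apply Fintype.sum_equiv (MonoidHom.ofInjective hinj).toEquiv
    intro k
    rfl
  rw [hre] at h2
  -- split the sums
  have hin : ∀ k : N, (k : H) ∈ Δ → marksOf m (Δ ⊔ Subgroup.zpowers (k : H)) = marksOf m Δ := by
    intro k hk
    have : Δ ⊔ Subgroup.zpowers (k : H) = Δ := by
      rw [sup_eq_left, Subgroup.zpowers_le]; exact hk
    rw [this]
  have hin' : ∀ k : N, (k : H) ∈ Δ → marksOf m (Δ' ⊔ Subgroup.zpowers (θ k)) = marksOf m Δ' := by
    intro k hk
    have : Δ' ⊔ Subgroup.zpowers (θ k) = Δ' := by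
      rw [sup_eq_left, Subgroup.zpowers_le, ← hθ]
      exact ⟨k, Subgroup.mem_subgroupOf.2 hk, rfl⟩
    rw [this]
  have hout : ∀ k : N, (k : H) ∉ Δ →
      marksOf m (Δ ⊔ Subgroup.zpowers (k : H)) = marksOf m (Δ' ⊔ Subgroup.zpowers (θ k)) := by
    intro k hk
    have hΔK : Δ ≤ Δ ⊔ Subgroup.zpowers (k : H) := le_sup_left
    have hkN : Subgroup.zpowers (k : H) ≤ N := by rw [Subgroup.zpowers_le]; exact k.2
    have hKN : Δ ⊔ Subgroup.zpowers (k : H) ≤ N := sup_le hΔN hkN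
    have hcard : n < Nat.card (Δ ⊔ Subgroup.zpowers (k : H) : Subgroup H) := by
      by_contra hlt
      have : Δ = Δ ⊔ Subgroup.zpowers (k : H) := Subgroup.eq_of_le_of_card_ge hΔK (by omega)
      apply hk
      rw [this]
      exact le_sup_right (a := Δ) (Subgroup.mem_zpowers _)
    have himg : ((Δ ⊔ Subgroup.zpowers (k : H)).subgroupOf N).map θ = Δ' ⊔ Subgroup.zpowers (θ k) := by
      rw [Subgroup.subgroupOf_sup hΔN hkN, Subgroup.map_sup, hθ, map_subgroupOf_zpowers]
    obtain ⟨hiff, hrel⟩ := hK _ hΔK hKN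
    rw [← himg]
    by_cases hKD : Δ ⊔ Subgroup.zpowers (k : H) ∈ D
    · exact hconst _ _ hKD (hiff.1 hKD) hcard (hrel hKD)
    · rw [marksOf_eq_zero_of_not_mem hd m (fun Δ h => (hsupp Δ h).1) _ hKD,
        marksOf_eq_zero_of_not_mem hd m (fun Δ h => (hsupp Δ h).1) _ (fun h => hKD (hiff.2 h))]
  have hcount : (Finset.univ.filter (fun k : N => (k : H) ∈ Δ)).card = Nat.card Δ := by
    rw [← Fintype.card_subtype, ← Nat.card_eq_fintype_card]
    apply Nat.card_congr
    exact ⟨fun k => ⟨k.1.1, k.2⟩, fun d => ⟨⟨d.1, hΔN d.2⟩, d.2⟩, fun k => rfl, fun d => rfl⟩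
  have hsplit : ∀ (f : N → ℕ) (a : ℕ), (∀ k : N, (k : H) ∈ Δ → f k = a) →
      ∑ k : N, f k = Nat.card Δ * a + ∑ k : N, if (k : H) ∈ Δ then 0 else f k := by
    intro f a hf
    have : ∀ k : N, f k = (if (k : H) ∈ Δ then a else 0) + (if (k : H) ∈ Δ then 0 else f k) := by
      intro k
      by_cases hk : (k : H) ∈ Δ
      · rw [if_pos hk, if_pos hk, hf k hk, add_zero]
      · rw [if_neg hk, if_neg hk, zero_add]
    rw [Finset.sum_congr rfl (fun k _ => this k), Finset.sum_add_distrib, ← Finset.sum_filter,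
      Finset.sum_const, hcount, smul_eq_mul]
  rw [hsplit _ _ hin] at h1
  rw [hsplit _ _ hin'] at h2
  have hR : (∑ k : N, if (k : H) ∈ Δ then 0 else marksOf m (Δ' ⊔ Subgroup.zpowers (θ k)))
      = ∑ k : N, if (k : H) ∈ Δ then 0 else marksOf m (Δ ⊔ Subgroup.zpowers (k : H)) := by
    apply Finset.sum_congr rfl
    intro k _
    by_cases hk : (k : H) ∈ Δ
    · rw [if_pos hk, if_pos hk]
    · rw [if_neg hk, if_neg hk, hout k hk]
  rw [hR] at h2
  have e1 := (Nat.modEq_zero_iff_dvd.2 h1)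
  have e2 := (Nat.modEq_zero_iff_dvd.2 h2)
  exact Nat.ModEq.add_right_cancel' _ (e1.trans e2.symm)

/-- the key congruence -/
theorem marks_modEq [Fintype (Subgroup H)] (hd : StableData D r star) (n : ℕ) (m : Subgroup H → ℕ)
    (hsupp : ∀ Δ, m Δ ≠ 0 → Δ ∈ D ∧ n < Nat.card Δ)
    (hconst : ∀ K K', K ∈ D → K' ∈ D → n < Nat.card K → r K K' → marksOf m K = marksOf m K')
    (Δ : Subgroup H) (hΔ : Δ ∈ D) (hn : Nat.card Δ = n) :
    marksOf m Δ ≡ marksOf m (star Δ) [MOD qOf Δ] := by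
  obtain ⟨θ, hinj, hθ, hK⟩ := hd.theta Δ hΔ
  have h3 := marks_modEq_aux hd n m hsupp hconst Δ (star Δ) _ hn Subgroup.le_normalizer (le_refl _)
    θ hinj hθ hK
  have hq : Nat.card (Subgroup.normalizer (Δ : Set H)) = Nat.card Δ * qOf Δ := by
    rw [mul_comm]; exact (qOf_mul_card Δ).symm
  rw [hq] at h3
  exact Nat.ModEq.mul_left_cancel' (Nat.card_pos.ne') h3

end Stable2

end Cfsg.Agent.Helper85
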