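import Mathlib
import Cfsg.Agent.Lib.Helper85.Stable2

set_option autoImplicit false

/-! # The inductive step and the existence of stable multiplicities -/

namespace Cfsg.Agent.Helper85

open MulAction

universe u

section Stable3

variable {H : Type u} [Group H] [Finite H]
variable {D : Set (Subgroup H)} {r : Subgroup H → Subgroup H → Prop} {star : Subgroup H → Subgroup H}

theorem marksOf_add [Fintype (Subgroup H)] (m a : Subgroup H → ℕ) (K : Subgroup H) :
    marksOf (fun Δ => m Δ + a Δ) K = marksOf m K + marksOf a K := by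
  unfold marksOf
  rw [← Finset.sum_add_distrib]
  apply Finset.sum_congr rfl
  intro Δ _
  ring

theorem marksOf_le_sum [Fintype (Subgroup H)] (m : Subgroup H → ℕ) (K : Subgroup H) :
    marksOf m K ≤ ∑ K' : Subgroup H, marksOf m K' :=
  Finset.single_le_sum (f := fun K' => marksOf m K') (fun _ _ => Nat.zero_le _) (Finset.mem_univ K)

theorem fx_of_conj {K ρ : Subgroup H} (h : H) (hK : K = ρ.map (MulAut.conj h).toMonoidHom) :
    fx K ρ = qOf ρ := by
  have h1 := fx_mul_card_of_conj h hK
  have h2 := qOf_mul_card ρ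
  have hpos : 0 < Nat.card ρ := Nat.card_pos
  have : fx K ρ * Nat.card ρ = qOf ρ * Nat.card ρ := by rw [h2, ← h1]; ring
  exact Nat.eq_of_mul_eq_mul_right hpos this

open scoped Classical in
theorem stable_step [Fintype (Subgroup H)] (hd : StableData D r star) (n : ℕ) (m : Subgroup H → ℕ)
    (hsupp : ∀ Δ, m Δ ≠ 0 → Δ ∈ D ∧ n < Nat.card Δ)
    (hconst : ∀ K K', K ∈ D → K' ∈ D → n < Nat.card K → r K K' → marksOf m K = marksOf m K') :
    ∃ m' : Subgroup H → ℕ, (∀ Δ, m' Δ ≠ 0 → Δ ∈ D ∧ n ≤ Nat.card Δ) ∧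
      (∀ K : Subgroup H, n < Nat.card K → marksOf m' K = marksOf m K) ∧
      (∀ K ∈ D, Nat.card K = n → marksOf m' K
        = marksOf m (star K) + ((∑ K' : Subgroup H, marksOf m K') + 1) * qOf (star K)) := by
  set M := ∑ K' : Subgroup H, marksOf m K' with hM
  let target : Subgroup H → ℕ := fun K => marksOf m (star K) + (M + 1) * qOf (star K)
  let a : Subgroup H → ℕ := fun Δ =>
    if Nat.card Δ = n ∧ Δ ∈ D ∧ conjRep Δ = Δ then (target Δ - marksOf m Δ) / qOf Δ else 0
  have ha : ∀ Δ : Subgroup H, a Δ ≠ 0 → Nat.card Δ = n ∧ Δ ∈ D ∧ conjRep Δ = Δ := by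
    intro Δ h
    by_contra hc
    exact h (if_neg hc)
  have hzero : ∀ K : Subgroup H, n < Nat.card K → marksOf a K = 0 := by
    intro K hK
    unfold marksOf
    apply Finset.sum_eq_zero
    intro Δ _
    by_cases h0 : a Δ = 0
    · rw [h0, zero_mul]
    · have := (ha Δ h0).1
      rw [fx_eq_zero_of_card_lt (by omega), mul_zero]
  have hdvd : ∀ ρ : Subgroup H, ρ ∈ D → Nat.card ρ = n → qOf ρ ∣ target ρ - marksOf m ρ ∧ marksOf m ρ ≤ target ρ := by
    intro ρ hρ hn
    have h1 := marks_modEq hd n m hsupp hconst ρ hρ hn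
    obtain ⟨θ, hinj, hθ, -⟩ := hd.theta ρ hρ
    have h2 : qOf ρ ∣ qOf (star ρ) :=
      qOf_dvd_of_theta θ hinj hθ (hd.card_eq _ _ hρ (hd.star_mem ρ hρ) (hd.star_rel ρ hρ))
    have h3 : target ρ ≡ marksOf m ρ [MOD qOf ρ] := by
      have e1 : (M + 1) * qOf (star ρ) ≡ 0 [MOD qOf ρ] :=
        Nat.modEq_zero_iff_dvd.2 (Dvd.dvd.mul_left h2 _)
      have e2 : target ρ ≡ marksOf m (star ρ) + 0 [MOD qOf ρ] := Nat.ModEq.add_left _ e1
      rw [add_zero] at e2
      exact e2.trans h1.symm
    have hle : marksOf m ρ ≤ target ρ := by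
      have e1 : marksOf m ρ ≤ M := marksOf_le_sum m ρ
      have e2 : 0 < qOf (star ρ) := qOf_pos _
      have e3 : M + 1 ≤ (M + 1) * qOf (star ρ) := Nat.le_mul_of_pos_right _ e2
      show marksOf m ρ ≤ marksOf m (star ρ) + (M + 1) * qOf (star ρ)
      omega
    exact ⟨(Nat.modEq_iff_dvd' hle).1 h3.symm, hle⟩
  have hlevel : ∀ K ∈ D, Nat.card K = n → marksOf m K + marksOf a K = target K := by
    intro K hK hn
    obtain ⟨h, hh⟩ := conjRep_spec K
    set ρ := conjRep K with hρdef
    have hρK : ρ = K.map (MulAut.conj h⁻¹).toMonoidHom := by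
      rw [hh, map_conj_map_conj_inv]
    have hρD : ρ ∈ D := by rw [hρK]; exact hd.conj_mem _ _ hK
    have hρn : Nat.card ρ = n := by rw [hρK, card_map_conj]; exact hn
    have hρρ : conjRep ρ = ρ := conjRep_conjRep K
    have hsum : marksOf a K = a ρ * fx K ρ := by
      unfold marksOf
      apply Finset.sum_eq_single ρ
      · intro Δ _ hne
        by_cases h0 : a Δ = 0
        · rw [h0, zero_mul]
        · obtain ⟨c1, c2, c3⟩ := ha Δ h0
          rw [fx_eq_zero_of_card (by omega), mul_zero]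
          rintro ⟨g, hg⟩
          apply hne
          rw [← c3, hρdef, hg, conjRep_map_conj]
      · intro h; exact absurd (Finset.mem_univ ρ) h
    have haρ : a ρ = (target ρ - marksOf m ρ) / qOf ρ := if_pos ⟨hρn, hρD, hρρ⟩
    obtain ⟨hdv, hle⟩ := hdvd ρ hρD hρn
    rw [hsum, haρ, fx_of_conj h hh, Nat.div_mul_cancel hdv]
    have e1 : marksOf m K = marksOf m ρ := by rw [hh, marksOf_map_conj]
    have e2 : target K = target ρ := by
      show marksOf m (star K) + (M + 1) * qOf (star K) = marksOf m (star ρ) + (M + 1) * qOf (star ρ)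
      have : star K = star ρ := by
        apply hd.star_eq ρ K hρD hK
        rw [hh]; exact hd.conj_rel h ρ hρD
      rw [this]
    rw [e1, e2]
    omega
  refine ⟨fun Δ => m Δ + a Δ, ?_, ?_, ?_⟩
  · intro Δ h
    by_cases h0 : m Δ = 0
    · have : a Δ ≠ 0 := by
        intro h1; apply h; show m Δ + a Δ = 0; rw [h0, h1]
      obtain ⟨c1, c2, -⟩ := ha Δ this
      exact ⟨c2, by omega⟩
    · obtain ⟨c1, c2⟩ := hsupp Δ h0
      exact ⟨c1, by omega⟩
  · intro K hK
    rw [marksOf_add, hzero K hK, add_zero]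
  · intro K hK hn
    rw [marksOf_add]
    exact hlevel K hK hn

open scoped Classical in
/-- existence of multiplicities whose marks are constant on classes -/
theorem exists_stable [Fintype (Subgroup H)] (hd : StableData D r star) (N₀ : ℕ)
    (hN₀ : ∀ Δ ∈ D, Nat.card Δ ≤ N₀) :
    ∃ m : Subgroup H → ℕ, (∀ Δ, m Δ ≠ 0 → Δ ∈ D) ∧
      (∀ K K', K ∈ D → K' ∈ D → r K K' → marksOf m K = marksOf m K') ∧
      (∀ K ∈ D, Nat.card K = N₀ → marksOf m K = qOf (star K)) := by
  have key : ∀ j : ℕ, ∃ m : Subgroup H → ℕ, (∀ Δ, m Δ ≠ 0 → Δ ∈ D ∧ N₀ + 1 - j ≤ Nat.card Δ) ∧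
      (∀ K K', K ∈ D → K' ∈ D → N₀ + 1 - j ≤ Nat.card K → r K K' → marksOf m K = marksOf m K') ∧
      (N₀ + 1 - j ≤ N₀ → ∀ K ∈ D, Nat.card K = N₀ → marksOf m K = qOf (star K)) := by
    intro j
    induction j with
    | zero =>
      refine ⟨fun _ => 0, fun Δ h => absurd rfl h, fun K K' _ _ _ _ => ?_, fun h => by omega⟩
      unfold marksOf
      simp
    | succ j ih =>
      obtain ⟨m, h1, h2, h3⟩ := ih
      by_cases hj : N₀ + 1 - j = 0
      · have : N₀ + 1 - (j + 1) = 0 := by omega
        rw [this]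
        rw [hj] at h1 h2 h3
        exact ⟨m, h1, h2, h3⟩
      · obtain ⟨n, hn⟩ : ∃ n, N₀ + 1 - j = n + 1 := ⟨N₀ + 1 - j - 1, by omega⟩
        have hn' : N₀ + 1 - (j + 1) = n := by omega
        rw [hn] at h1 h2 h3
        rw [hn']
        obtain ⟨m', g1, g2, g3⟩ := stable_step hd n m (fun Δ h => ⟨(h1 Δ h).1, (h1 Δ h).2⟩)
          (fun K K' hK hK' hc hr => h2 K K' hK hK' hc hr)
        refine ⟨m', g1, ?_, ?_⟩
        · intro K K' hK hK' hc hr
          have hcard := hd.card_eq K K' hK hK' hr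
          by_cases hlt : n < Nat.card K
          · rw [g2 K hlt, g2 K' (by omega)]
            exact h2 K K' hK hK' hlt hr
          · have e : Nat.card K = n := by omega
            rw [g3 K hK e, g3 K' hK' (by omega), hd.star_eq K K' hK hK' hr]
        · intro hle K hK hcard
          by_cases hlt : n < N₀
          · rw [g2 K (by omega)]
            exact h3 (by omega) K hK hcard
          · have e : n = N₀ := by omega
            have hm0 : ∀ Δ, m Δ = 0 := by
              intro Δ
              by_contra h0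
              have := h1 Δ h0
              have := hN₀ Δ this.1
              omega
            have hmk : ∀ K', marksOf m K' = 0 := by
              intro K'
              unfold marksOf
              apply Finset.sum_eq_zero
              intro Δ _
              rw [hm0, zero_mul]
            rw [g3 K hK (by omega), hmk]
            simp [hmk]
  obtain ⟨m, h1, h2, h3⟩ := key (N₀ + 1)
  have e : N₀ + 1 - (N₀ + 1) = 0 := by omega
  rw [e] at h1 h2 h3
  exact ⟨m, fun Δ h => (h1 Δ h).1, fun K K' hK hK' hr => h2 K K' hK hK' (Nat.zero_le _) hr,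
    h3 (Nat.zero_le _)⟩

end Stable3

end Cfsg.Agent.Helper85
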