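import Mathlib
import Cfsg.Prelude.Def_FusionSystem
import Cfsg.Agent.Lib.Helper85.Biset1
import Cfsg.Agent.Lib.Helper85.Stable3

set_option autoImplicit false

/-! # The graphs of a saturated fusion system satisfy the hypotheses of the stable-set construction -/

namespace Cfsg.Agent.Helper85

open Cfsg Cfsg.FusionSystem Cfsg.Agent.Helper87

universe u

section Biset2

variable {Ω : Type u} [Group Ω] {S : Subgroup Ω} {F : FusionSystem S}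

/-- elements of the normalizer of a graph -/
theorem normalizer_graph [Finite S] {Δ : Subgroup (S × S)} {f : Ω → Ω} (hf : Mor F (dom Δ) f)
    (hmem : ∀ a b : S, (a, b) ∈ Δ ↔ (a : Ω) ∈ dom Δ ∧ f a = b) {a b : S}
    (hab : (a, b) ∈ Subgroup.normalizer (Δ : Set (S × S))) :
    (a : Ω) ∈ normalizerIn S (dom Δ) ∧ (b : Ω) ∈ normalizerIn S (Iso.of_mor hf).1.image ∧
      ∀ x ∈ dom Δ, f ((a : Ω) * x * (a : Ω)⁻¹) = (b : Ω) * f x * (b : Ω)⁻¹ := by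
  have key : ∀ x ∈ dom Δ, (a : Ω) * x * (a : Ω)⁻¹ ∈ dom Δ ∧
      f ((a : Ω) * x * (a : Ω)⁻¹) = (b : Ω) * f x * (b : Ω)⁻¹ := by
    intro x hx
    have h1 : ((⟨x, hf.le hx⟩ : S), (⟨f x, hf.mem hx⟩ : S)) ∈ Δ := (hmem _ _).2 ⟨hx, rfl⟩
    have h2 := (Subgroup.mem_normalizer_iff.1 hab _).1 h1
    have h3 : ((a, b) : S × S) * ((⟨x, hf.le hx⟩ : S), (⟨f x, hf.mem hx⟩ : S)) * ((a, b) : S × S)⁻¹
        = (a * ⟨x, hf.le hx⟩ * a⁻¹, b * ⟨f x, hf.mem hx⟩ * b⁻¹) := rfl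
    rw [h3] at h2
    have h4 := (hmem _ _).1 h2
    exact ⟨by simpa using h4.1, by simpa using h4.2⟩
  haveI : Finite (dom Δ) := Helper87.finite_of_le (dom_le Δ)
  refine ⟨⟨a.2, mem_normalizer_of_conj_mem' (fun d hd => (key d hd).1)⟩, ⟨b.2, ?_⟩, fun x hx => (key x hx).2⟩
  haveI : Finite (Iso.of_mor hf).1.image := Helper87.finite_of_le (Iso.of_mor hf).le_right
  apply mem_normalizer_of_conj_mem'
  rintro d ⟨x, hx, rfl⟩
  exact ⟨_, (key x hx).1, (key x hx).2⟩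

theorem exists_theta [Finite S] {p : ℕ} [Fact p.Prime] (hS : IsPGroup p S) {Δ : Subgroup (S × S)}
    (hΔ : IsGraph F Δ) {Pst : Subgroup Ω} (hfa : F.IsFullyAutomized p Pst) (hrec : F.IsReceptive Pst)
    (hconj : F.IsConj (dom Δ) Pst) :
    ∃ θ : ↥(Subgroup.normalizer (Δ : Set (S × S))) →* S × S, Function.Injective θ ∧
      (Δ.subgroupOf (Subgroup.normalizer (Δ : Set (S × S)))).map θ = diagOn S Pst ∧
      ∀ K : Subgroup (S × S), Δ ≤ K → K ≤ Subgroup.normalizer (Δ : Set (S × S)) →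
        ((IsGraph F K ↔ IsGraph F ((K.subgroupOf (Subgroup.normalizer (Δ : Set (S × S)))).map θ)) ∧
          (IsGraph F K → F.IsConj (dom K)
            (dom ((K.subgroupOf (Subgroup.normalizer (Δ : Set (S × S)))).map θ)))) := by
  obtain ⟨ψ, hψ, hmem⟩ := isGraph_dom hΔ
  set R := dom Δ with hR
  have iψ := Iso.of_mor hψ
  set R' := hψ.image with hR'
  -- χ₂
  have hconj' : F.IsConj R' Pst := isConj_trans (isConj_symm (isConj_iff.2 ⟨ψ, iψ⟩)) hconj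
  obtain ⟨f₀, hf₀⟩ := isConj_iff.1 hconj'
  obtain ⟨χ₂, hχ₂, iχ₂⟩ := exists_extension_to_normalizer hS hfa hrec hf₀
  -- χ₁
  have hcomp : Iso F R Pst (fun x => χ₂ (ψ x)) := iψ.comp iχ₂
  obtain ⟨-, hrec'⟩ := isReceptive_iff.1 hrec
  obtain ⟨χ₁, hχ₁, eχ₁⟩ := hrec' R _ hcomp
  -- membership of the normalizer
  have hN : ∀ k ∈ Subgroup.normalizer (Δ : Set (S × S)),
      (((k : S × S).1 : S) : Ω) ∈ hcomp.ext ∧ (((k : S × S).2 : S) : Ω) ∈ normalizerIn S R' := by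
    rintro ⟨a, b⟩ hk
    obtain ⟨h1, h2, h3⟩ := normalizer_graph hψ hmem hk
    refine ⟨⟨a.2, h1.2, χ₂ b, hχ₂.mem h2, fun x hx => ?_⟩, h2⟩
    show χ₂ (ψ ((a : Ω) * x * (a : Ω)⁻¹)) = χ₂ b * χ₂ (ψ x) * (χ₂ b)⁻¹
    have hψx : ψ x ∈ normalizerIn S R' := ⟨hψ.mem hx, Subgroup.le_normalizer (iψ.map_mem hx)⟩
    rw [h3 x hx, hχ₂.map_mul (Subgroup.mul_mem _ h2 hψx) (Subgroup.inv_mem _ h2),
      hχ₂.map_mul h2 hψx, hχ₂.map_inv h2]
  refine ⟨pairHom hχ₁ hχ₂ _ hN, pairHom_injective hχ₁ hχ₂ _ hN, ?_, ?_⟩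
  · -- the image of Δ
    ext ⟨a', b'⟩
    rw [mem_map_pairHom hχ₁ hχ₂ _ hN Subgroup.le_normalizer, mem_diagOn]
    constructor
    · rintro ⟨a, b, hab, e1, e2⟩
      obtain ⟨ha, hfa'⟩ := (hmem a b).1 hab
      have e3 : χ₁ a = χ₂ (ψ a) := eχ₁ a ha
      have e4 : (a' : Ω) = b' := by rw [← e1, ← e2, e3, hfa']
      refine ⟨Subtype.ext e4, ?_⟩
      rw [← e1, e3]
      exact hcomp.map_mem ha
    · rintro ⟨rfl, ha'⟩
      obtain ⟨x, hx, ex⟩ := hcomp.surj ha'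
      refine ⟨⟨x, hψ.le hx⟩, ⟨ψ x, hψ.mem hx⟩, (hmem _ _).2 ⟨hx, rfl⟩, ?_, ex⟩
      show χ₁ x = a'
      rw [eχ₁ x hx]; exact ex
  · intro K hΔK hKN
    have hKA : ∀ a b : S, (a, b) ∈ K → (a : Ω) ∈ hcomp.ext ∧ (b : Ω) ∈ normalizerIn S R' :=
      fun a b hab => hN (a, b) (hKN hab)
    have hK' := mem_map_pairHom hχ₁ hχ₂ _ hN hKN
    have fwd : IsGraph F K → IsGraph F ((K.subgroupOf (Subgroup.normalizer (Δ : Set (S × S)))).map
        (pairHom hχ₁ hχ₂ _ hN)) ∧ F.IsConj (dom K)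
          (dom ((K.subgroupOf (Subgroup.normalizer (Δ : Set (S × S)))).map (pairHom hχ₁ hχ₂ _ hN))) :=
      fun hK => graph_map hK hχ₁ hχ₂ hKA hK'
    refine ⟨⟨fun hK => (fwd hK).1, fun hK'g => ?_⟩, fun hK => (fwd hK).2⟩
    -- the converse, with the inverse maps
    have i₁ := Iso.of_mor hχ₁
    have i₂ := Iso.of_mor hχ₂
    obtain ⟨g₁, hg₁, hg₁a, -⟩ := i₁.symm
    obtain ⟨g₂, hg₂, hg₂a, -⟩ := i₂.symm
    refine (graph_map hK'g hg₁.1 hg₂.1 ?_ ?_).1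
    · intro a' b' hab'
      obtain ⟨a, b, hab, e1, e2⟩ := (hK' a' b').1 hab'
      exact ⟨⟨a, (hKA a b hab).1, e1⟩, ⟨b, (hKA a b hab).2, e2⟩⟩
    · intro a b
      constructor
      · intro hab
        refine ⟨⟨χ₁ a, hχ₁.mem (hKA a b hab).1⟩, ⟨χ₂ b, hχ₂.mem (hKA a b hab).2⟩,
          (hK' _ _).2 ⟨a, b, hab, rfl, rfl⟩, hg₁a _ (hKA a b hab).1, hg₂a _ (hKA a b hab).2⟩
      · rintro ⟨a', b', hab', e1, e2⟩
        obtain ⟨a₀, b₀, hab₀, f1, f2⟩ := (hK' a' b').1 hab'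
        have h1 : (a₀ : Ω) = a := by rw [← e1, ← f1, hg₁a _ (hKA a₀ b₀ hab₀).1]
        have h2 : (b₀ : Ω) = b := by rw [← e2, ← f2, hg₂a _ (hKA a₀ b₀ hab₀).2]
        have h1' : a₀ = a := Subtype.ext h1
        have h2' : b₀ = b := Subtype.ext h2
        rw [← h1', ← h2']; exact hab₀

end Biset2

end Cfsg.Agent.Helper85
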