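import Mathlib
import Cfsg.Prelude.Def_FusionSystem
import Cfsg.Agent.Lib.Helper85.Biset2

set_option autoImplicit false

/-! # Stable multiplicities for the graphs of a saturated fusion system -/

namespace Cfsg.Agent.Helper85

open Cfsg Cfsg.FusionSystem Cfsg.Agent.Helper87

universe u

section Biset3

variable {Ω : Type u} [Group Ω] {S : Subgroup Ω}

open scoped Classical in
/-- a choice of a fully automized receptive member of a set of subgroups, depending on the set only -/
noncomputable def pickGood (F : FusionSystem S) (p : ℕ) (C : Set (Subgroup Ω)) : Subgroup Ω :=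
  if h : ∃ Q ∈ C, F.IsFullyAutomized p Q ∧ F.IsReceptive Q then Classical.choose h else ⊥

theorem pickGood_spec {F : FusionSystem S} {p : ℕ} (hF : F.IsSaturated p) {P : Subgroup Ω} (hP : P ≤ S) :
    F.IsConj P (pickGood F p {Q | F.IsConj P Q}) ∧
      F.IsFullyAutomized p (pickGood F p {Q | F.IsConj P Q}) ∧
      F.IsReceptive (pickGood F p {Q | F.IsConj P Q}) := by
  have h : ∃ Q ∈ {Q | F.IsConj P Q}, F.IsFullyAutomized p Q ∧ F.IsReceptive Q := by
    obtain ⟨Q, h1, h2, h3⟩ := hF P hP
    exact ⟨Q, h1, h2, h3⟩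
  unfold pickGood
  rw [dif_pos h]
  exact ⟨(Classical.choose_spec h).1, (Classical.choose_spec h).2⟩

/-- graphs are related when their domains are conjugate in the system -/
def relG (F : FusionSystem S) (Δ Δ' : Subgroup (S × S)) : Prop := F.IsConj (dom Δ) (dom Δ')

/-- the distinguished member of the class of a graph -/
noncomputable def starG (F : FusionSystem S) (p : ℕ) (Δ : Subgroup (S × S)) : Subgroup (S × S) :=
  diagOn S (pickGood F p {Q | F.IsConj (dom Δ) Q})

theorem stableData [Finite S] {p : ℕ} [Fact p.Prime] (hS : IsPGroup p S) {F : FusionSystem S}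
    (hF : F.IsSaturated p) : StableData {Δ : Subgroup (S × S) | IsGraph F Δ} (relG F) (starG F p) where
  conj_mem := fun h Δ hΔ => isGraph_conj hΔ h
  le_mem := fun Δ K hΔ hK => isGraph_of_le hΔ hK
  conj_rel := by
    intro h Δ _
    show F.IsConj (dom Δ) (dom (Δ.map (MulAut.conj h).toMonoidHom))
    rw [dom_map_conj]
    refine isConj_iff.2 ⟨fun x => ((h.1 : S) : Ω) * x * ((h.1 : S) : Ω)⁻¹, Mor.conj (dom_le Δ) h.1.2, fun y => ?_⟩
    constructor
    · rintro ⟨x, hx, rfl⟩
      exact ⟨x, hx, by simp⟩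
    · rintro ⟨x, hx, rfl⟩
      exact ⟨x, hx, by simp⟩
  card_eq := by
    intro Δ Δ' hΔ hΔ' hr
    obtain ⟨f, hf⟩ := isConj_iff.1 hr
    rw [card_eq_card_dom hΔ, card_eq_card_dom hΔ', hf.card_eq]
  star_mem := by
    intro Δ _
    exact isGraph_diagOn (pickGood_spec hF (dom_le Δ)).2.1.1
  star_rel := by
    intro Δ _
    show F.IsConj (dom Δ) (dom (diagOn S _))
    rw [dom_diagOn F (pickGood_spec hF (dom_le Δ)).2.1.1]
    exact (pickGood_spec hF (dom_le Δ)).1
  star_eq := by
    intro Δ Δ' _ _ hr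
    have : {Q | F.IsConj (dom Δ') Q} = {Q | F.IsConj (dom Δ) Q} := by
      ext Q
      exact ⟨fun h => isConj_trans hr h, fun h => isConj_trans (isConj_symm hr) h⟩
    unfold starG
    rw [this]
  theta := by
    intro Δ hΔ
    obtain ⟨h1, h2, h3⟩ := pickGood_spec hF (dom_le Δ)
    exact exists_theta hS hΔ h2 h3 h1

end Biset3

end Cfsg.Agent.Helper85
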