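import Mathlib
import Cfsg.Agent.Lib.Helper85.Stable3

set_option autoImplicit false

/-! # Counting lemmas for sums of coset spaces -/

namespace Cfsg.Agent.Helper85

open MulAction

universe u

section Count

variable {H : Type u} [Group H] [Finite H]

theorem card_stabilizer_quotient (Δ : Subgroup H) (x : H ⧸ Δ) :
    Nat.card (MulAction.stabilizer H x) = Nat.card Δ := by
  induction x using QuotientGroup.induction_on with
  | H h =>
    have : MulAction.stabilizer H ((h : H ⧸ Δ)) = Δ.map (MulAut.conj h).toMonoidHom := by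
      ext g
      rw [MulAction.mem_stabilizer_iff, quot_smul_eq_iff, Subgroup.mem_map_equiv]
      simp [MulAut.conj_symm_apply]
    rw [this, card_map_conj]

open scoped Classical in
/-- every point of `H ⧸ Δ` is fixed by exactly one subgroup of the order of `Δ` -/
theorem sum_fx_card_eq [Fintype (Subgroup H)] (Δ : Subgroup H) :
    (∑ K : Subgroup H, if Nat.card K = Nat.card Δ then fx K Δ else 0) = Nat.card (H ⧸ Δ) := by
  haveI : Fintype (H ⧸ Δ) := Fintype.ofFinite _
  have h1 : ∀ K : Subgroup H, fx K Δ = ∑ x : H ⧸ Δ, if x ∈ (fixSet K : Set (H ⧸ Δ)) then 1 else 0 := by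
    intro K
    unfold fx
    rw [Set.ncard_eq_toFinset_card', Finset.card_eq_sum_ones, Finset.sum_ite]
    simp
  have h2 : ∀ K : Subgroup H, (if Nat.card K = Nat.card Δ then fx K Δ else 0)
      = ∑ x : H ⧸ Δ, if Nat.card K = Nat.card Δ ∧ x ∈ (fixSet K : Set (H ⧸ Δ)) then 1 else 0 := by
    intro K
    by_cases hc : Nat.card K = Nat.card Δ
    · rw [if_pos hc, h1]
      apply Finset.sum_congr rfl
      intro x _
      simp [hc]
    · rw [if_neg hc]
      symm
      apply Finset.sum_eq_zero
      intro x _
      rw [if_neg (fun h => hc h.1)]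
  rw [Finset.sum_congr rfl (fun K _ => h2 K), Finset.sum_comm]
  have h3 : ∀ x : H ⧸ Δ, (∑ K : Subgroup H,
      if Nat.card K = Nat.card Δ ∧ x ∈ (fixSet K : Set (H ⧸ Δ)) then 1 else 0) = 1 := by
    intro x
    rw [Finset.sum_eq_single (MulAction.stabilizer H x)]
    · rw [if_pos]
      exact ⟨card_stabilizer_quotient Δ x, fun k hk => hk⟩
    · intro K _ hne
      rw [if_neg]
      rintro ⟨hc, hx⟩
      apply hne
      have hle : K ≤ MulAction.stabilizer H x := fun k hk => hx k hk
      apply Subgroup.eq_of_le_of_card_ge hle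
      rw [card_stabilizer_quotient, hc]
    · intro h; exact absurd (Finset.mem_univ _) h
  rw [Finset.sum_congr rfl (fun x _ => h3 x)]
  simp

open scoped Classical in
theorem card_cosetSum [Fintype (Subgroup H)] (m : Subgroup H → ℕ) :
    Nat.card (CosetSum m) = ∑ Δ : Subgroup H, m Δ * Nat.card (H ⧸ Δ) := by
  rw [Nat.card_congr (cosetSumEquiv m), Nat.card_sigma]
  apply Finset.sum_congr rfl
  intro Δ _
  rw [Nat.card_prod, Nat.card_fin]

theorem card_quotient_mul (Δ : Subgroup H) : Nat.card (H ⧸ Δ) * Nat.card Δ = Nat.card H :=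
  (Subgroup.card_eq_card_quotient_mul_card_subgroup Δ).symm

end Count

end Cfsg.Agent.Helper85
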