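import Mathlib
import Cfsg.Prelude.Def_FusionSystem
import Cfsg.Agent.Lib.Helper85.Biset3
import Cfsg.Agent.Lib.Helper85.Biset4
import Cfsg.Agent.Lib.Helper87.FusionAlperin

set_option autoImplicit false

/-! # Top level computations: the normalizer of the diagonal, inner automorphisms, graphs of automorphisms -/

namespace Cfsg.Agent.Helper85

open Cfsg Cfsg.FusionSystem Cfsg.Agent.Helper87

universe u

section Biset5

variable {Ω : Type u} [Group Ω] {S : Subgroup Ω}

theorem mem_diagOn_top {a b : S} : (a, b) ∈ diagOn S S ↔ a = b := by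
  rw [mem_diagOn]
  exact ⟨fun h => h.1, fun h => ⟨h, a.2⟩⟩

/-- the normalizer of the diagonal of `S × S` -/
theorem card_normalizer_diagOn_top [Finite S] :
    Nat.card (Subgroup.normalizer ((diagOn S S : Subgroup (S × S)) : Set (S × S)))
      = Nat.card S * Nat.card (Subgroup.center S) := by
  rw [← Nat.card_prod]
  apply Nat.card_congr
  refine ⟨fun k => ((k : S × S).1, ⟨(k : S × S).1⁻¹ * (k : S × S).2, ?_⟩),
    fun az => ⟨(az.1, az.1 * (az.2 : S)), ?_⟩, ?_, ?_⟩
  · obtain ⟨⟨a, b⟩, hk⟩ := k
    show a⁻¹ * b ∈ Subgroup.center S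
    rw [Subgroup.mem_center_iff]
    intro x
    have h1 : ((x, x) : S × S) ∈ diagOn S S := mem_diagOn_top.2 rfl
    have h2 := (Subgroup.mem_normalizer_iff.1 hk _).1 h1
    have h3 : ((a, b) : S × S) * (x, x) * ((a, b) : S × S)⁻¹ = (a * x * a⁻¹, b * x * b⁻¹) := rfl
    rw [h3, mem_diagOn_top] at h2
    calc x * (a⁻¹ * b) = a⁻¹ * (a * x * a⁻¹) * b := by group
      _ = a⁻¹ * (b * x * b⁻¹) * b := by rw [h2]
      _ = a⁻¹ * b * x := by group
  · obtain ⟨a, z, hz⟩ := az
    apply mem_normalizer_of_conj_mem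
    rintro ⟨x, y⟩ hxy
    have hxy' : x = y := mem_diagOn_top.1 hxy
    subst hxy'
    have h3 : ((a, a * z) : S × S) * (x, x) * ((a, a * z) : S × S)⁻¹
        = (a * x * a⁻¹, (a * z) * x * (a * z)⁻¹) := rfl
    show ((a, a * z) : S × S) * (x, x) * ((a, a * z) : S × S)⁻¹ ∈ diagOn S S
    rw [h3, mem_diagOn_top]
    have hzx : z * x = x * z := (Subgroup.mem_center_iff.1 hz x).symm
    calc a * x * a⁻¹ = a * (x * z) * z⁻¹ * a⁻¹ := by group
      _ = a * (z * x) * z⁻¹ * a⁻¹ := by rw [hzx]
      _ = (a * z) * x * (a * z)⁻¹ := by group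
  · rintro ⟨⟨a, b⟩, hk⟩
    apply Subtype.ext
    show (a, a * (a⁻¹ * b)) = (a, b)
    rw [mul_inv_cancel_left]
  · rintro ⟨a, z, hz⟩
    apply Prod.ext
    · rfl
    · apply Subtype.ext
      show a⁻¹ * (a * z) = z
      rw [inv_mul_cancel_left]

theorem card_diagOn_top [Finite S] : Nat.card (diagOn S S : Subgroup (S × S)) = Nat.card S := by
  apply Nat.card_congr
  refine ⟨fun k => (k : S × S).1, fun a => ⟨(a, a), mem_diagOn_top.2 rfl⟩, ?_, fun a => rfl⟩
  rintro ⟨⟨a, b⟩, hk⟩
  have : a = b := mem_diagOn_top.1 hk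
  subst this
  rfl

theorem qOf_diagOn_top [Finite S] :
    qOf (diagOn S S : Subgroup (S × S)) = Nat.card (Subgroup.center S) := by
  have h1 := qOf_mul_card (diagOn S S : Subgroup (S × S))
  rw [card_normalizer_diagOn_top, card_diagOn_top] at h1
  have hpos : 0 < Nat.card S := Nat.card_pos
  have : qOf (diagOn S S : Subgroup (S × S)) * Nat.card S = Nat.card (Subgroup.center S) * Nat.card S := by
    rw [h1]; ring
  exact Nat.eq_of_mul_eq_mul_right hpos this

/-- the automorphisms of `S` induced by `S` -/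
theorem card_autInducedBy_top [Finite S] :
    Nat.card (autInducedBy S S) * Nat.card (Subgroup.center S) = Nat.card S := by
  have h1 : autInducedBy S S = (MulAut.conj : S →* MulAut S).range := by
    ext α
    rw [mem_autInducedBy_iff]
    constructor
    · rintro ⟨g, hg, e⟩
      refine ⟨⟨g, hg⟩, ?_⟩
      ext x
      rw [e x]
      rfl
    · rintro ⟨g, rfl⟩
      exact ⟨g, g.2, fun x => rfl⟩
  have h2 : (MulAut.conj : S →* MulAut S).ker = Subgroup.center S := by
    ext g
    rw [MonoidHom.mem_ker, Subgroup.mem_center_iff]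
    constructor
    · intro h x
      have := congrArg (fun α : MulAut S => α x) h
      simp only [MulAut.conj_apply, MulAut.one_apply] at this
      calc x * g = (g * x * g⁻¹) * g := by rw [this]
        _ = g * x := by group
    · intro h
      ext x
      simp only [MulAut.conj_apply, MulAut.one_apply]
      rw [← h x]; simp
  rw [h1, ← h2, ← Subgroup.index_ker, mul_comm]
  exact Subgroup.card_mul_index _

/-- the order of `Aut_F(S)` is the order of `Aut_S(S)` times a number prime to `p` -/
theorem card_autGroup_top [Finite S] {p : ℕ} [Fact p.Prime] (hS : IsPGroup p S) {F : FusionSystem S}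
    (hF : F.IsSaturated p) :
    ∃ j : ℕ, Nat.card (F.autGroup S) = Nat.card (autInducedBy S S) * j ∧ ¬ p ∣ j := by
  obtain ⟨⟨-, R, hR⟩, -⟩ := fullyAutomized_and_receptive_of_fullyNormalized hS hF (fullyNormalized_self F)
  haveI : Finite (MulAut S) := by
    apply Finite.of_injective (fun α : MulAut S => (α : S → S))
    intro α β h
    exact DFunLike.coe_injective h
  refine ⟨(R : Subgroup (F.autGroup S)).index, ?_, R.not_dvd_index⟩
  rw [← Subgroup.card_mul_index (R : Subgroup (F.autGroup S)), hR]
  congr 1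
  exact Nat.card_congr (Subgroup.subgroupOfEquivOfLe (autInducedBy_le_autGroup F le_rfl)).toEquiv

/-- a graph over the whole of `S` -/
theorem dom_eq_top_of_card [Finite S] {F : FusionSystem S} {K : Subgroup (S × S)} (hK : IsGraph F K)
    (hc : Nat.card K = Nat.card S) : dom K = S := by
  apply Subgroup.eq_of_le_of_card_ge (dom_le K)
  rw [← card_eq_card_dom hK, hc]

theorem eq_of_isConj_top [Finite S] {F : FusionSystem S} {Q : Subgroup Ω} (h : F.IsConj S Q) : Q = S := by
  obtain ⟨f, hf⟩ := isConj_iff.1 h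
  apply Subgroup.eq_of_le_of_card_ge hf.le_right
  rw [hf.card_eq]

theorem starG_top [Finite S] {p : ℕ} [Fact p.Prime] {F : FusionSystem S} (hF : F.IsSaturated p)
    {K : Subgroup (S × S)} (hK : IsGraph F K) (hc : Nat.card K = Nat.card S) :
    starG F p K = diagOn S S := by
  unfold starG
  rw [dom_eq_top_of_card hK hc]
  congr 1
  exact eq_of_isConj_top (pickGood_spec hF le_rfl).1

open scoped Classical in
/-- the graphs over `S` correspond to the automorphisms of `S` in the system -/
theorem card_top_graphs [Finite S] (F : FusionSystem S) :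
    Nat.card {K : Subgroup (S × S) // IsGraph F K ∧ Nat.card K = Nat.card S} = Nat.card (F.autGroup S) := by
  symm
  have hgr : ∀ α : F.autGroup S, IsGraph F ((α : MulAut S).toMonoidHom.graph) ∧
      dom ((α : MulAut S).toMonoidHom.graph) = S := by
    intro α
    have hm : Mor F S (extAut (α : MulAut S)) := (mem_autGroup_iff le_rfl).1 α.2
    have hmem : ∀ a b : S, (a, b) ∈ (α : MulAut S).toMonoidHom.graph ↔
        (a : Ω) ∈ S ∧ extAut (α : MulAut S) a = b := by
      intro a b
      rw [MonoidHom.mem_graph, extAut_apply]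
      constructor
      · intro h; exact ⟨a.2, congrArg Subtype.val h⟩
      · rintro ⟨-, h⟩; exact Subtype.ext h
    exact ⟨⟨S, _, hm, hmem⟩, dom_eq_of_graph hm hmem⟩
  let e : F.autGroup S → {K : Subgroup (S × S) // IsGraph F K ∧ Nat.card K = Nat.card S} :=
    fun α => ⟨(α : MulAut S).toMonoidHom.graph, (hgr α).1, by
      rw [card_eq_card_dom (hgr α).1, (hgr α).2]⟩
  apply Nat.card_congr
  apply Equiv.ofBijective e
  constructor
  · intro α β h
    have h1 : (α : MulAut S).toMonoidHom.graph = (β : MulAut S).toMonoidHom.graph := congrArg Subtype.val h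
    apply Subtype.ext
    ext x
    have h2 : ((x, (α : MulAut S) x) : S × S) ∈ (α : MulAut S).toMonoidHom.graph := by
      rw [MonoidHom.mem_graph]; rfl
    rw [h1, MonoidHom.mem_graph] at h2
    exact congrArg Subtype.val h2.symm
  · rintro ⟨K, hK, hc⟩
    have hd := dom_eq_top_of_card hK hc
    obtain ⟨f, hf, hmem⟩ := isGraph_dom hK
    rw [hd] at hf hmem
    have i := Iso.of_mor hf
    have himg : hf.image = S := by
      apply Subgroup.eq_of_le_of_card_ge i.le_right
      rw [← i.card_eq]
    rw [himg] at i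
    refine ⟨⟨i.equiv, i.equiv_mem_autGroup⟩, ?_⟩
    apply Subtype.ext
    show (i.equiv : MulAut S).toMonoidHom.graph = K
    ext ⟨a, b⟩
    rw [MonoidHom.mem_graph, hmem]
    constructor
    · intro h
      exact ⟨a.2, congrArg Subtype.val h⟩
    · rintro ⟨-, h⟩
      exact Subtype.ext h

end Biset5

end Cfsg.Agent.Helper85
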