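import Mathlib
import Cfsg.Prelude.Def_FusionSystem
import Cfsg.Agent.Lib.Helper85.Biset5

set_option autoImplicit false

/-! # Existence of a characteristic biset (Broto-Levi-Oliver) -/

namespace Cfsg.Agent.Helper85

open Cfsg Cfsg.FusionSystem Cfsg.Agent.Helper87 MulAction

universe u

section Biset6

variable {Ω : Type u} [Group Ω] {S : Subgroup Ω}

open scoped Classical in
theorem exists_char_biset [Finite S] {p : ℕ} [Fact p.Prime] (hS : IsPGroup p S) {F : FusionSystem S}
    (hF : F.IsSaturated p) :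
    ∃ (X : Type u) (_ : MulAction (S × S) X) (_ : Finite X),
      (∀ x : X, IsGraph F (MulAction.stabilizer (S × S) x)) ∧
      (∀ K K' : Subgroup (S × S), IsGraph F K → IsGraph F K' → F.IsConj (dom K) (dom K') →
        (fixSet K : Set X).ncard = (fixSet K' : Set X).ncard) ∧
      ∃ k : ℕ, Nat.card X = Nat.card S * k ∧ ¬ p ∣ k := by
  haveI : Fintype (Subgroup (S × S)) := Fintype.ofFinite _
  set n := Nat.card S with hn
  have hnpos : 0 < n := Nat.card_pos
  have hd := stableData hS hF
  have hN₀ : ∀ Δ ∈ {Δ : Subgroup (S × S) | IsGraph F Δ}, Nat.card Δ ≤ n := by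
    intro Δ hΔ
    rw [card_eq_card_dom hΔ]
    exact Subgroup.card_le_of_le (dom_le Δ)
  obtain ⟨m, hm1, hm2, hm3⟩ := exists_stable hd n hN₀
  have hgr : ∀ x : CosetSum m, IsGraph F (MulAction.stabilizer (S × S) x) := by
    intro x
    obtain ⟨Δ, h, hΔm, hstab⟩ := cosetSum_stabilizer m x
    have : MulAction.stabilizer (S × S) x = Δ.map (MulAut.conj h).toMonoidHom := by
      ext g
      rw [MulAction.mem_stabilizer_iff, hstab, Subgroup.mem_map_equiv]
      simp [MulAut.conj_symm_apply]
    rw [this]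
    exact isGraph_conj (hm1 Δ hΔm) h
  refine ⟨CosetSum m, inferInstance, inferInstance, hgr, ?_, ?_⟩
  · intro K K' hK hK' hc
    rw [← marksOf_eq_ncard, ← marksOf_eq_ncard]
    exact hm2 K K' hK hK' hc
  -- the counting
  let T : Finset (Subgroup (S × S)) := Finset.univ.filter (fun K => IsGraph F K ∧ Nat.card K = n)
  have hT : ∀ K, K ∈ T ↔ IsGraph F K ∧ Nat.card K = n := by
    intro K; simp [T]
  set q₀ := Nat.card (Subgroup.center S) with hq₀
  -- marks at the top
  have htop : ∀ K ∈ T, marksOf m K = q₀ := by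
    intro K hK
    obtain ⟨h1, h2⟩ := (hT K).1 hK
    rw [hm3 K h1 h2, starG_top hF h1 h2, qOf_diagOn_top]
  have hsum1 : ∑ K ∈ T, marksOf m K = T.card * q₀ := by
    rw [Finset.sum_congr rfl htop, Finset.sum_const, smul_eq_mul]
  -- the other count
  have hcardH : Nat.card (S × S) = n * n := by rw [Nat.card_prod]
  have hfxtop : ∀ Δ : Subgroup (S × S), IsGraph F Δ →
      ∑ K ∈ T, fx K Δ = if Nat.card Δ = n then n else 0 := by
    intro Δ hΔ
    by_cases hc : Nat.card Δ = n
    · rw [if_pos hc]
      have h1 : ∑ K ∈ T, fx K Δ = ∑ K : Subgroup (S × S), if Nat.card K = Nat.card Δ then fx K Δ else 0 := by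
        rw [Finset.sum_filter]
        apply Finset.sum_congr rfl
        intro K _
        by_cases hKc : Nat.card K = n
        · have hKΔ : Nat.card K = Nat.card Δ := hKc.trans hc.symm
          by_cases hKg : IsGraph F K
          · rw [if_pos ⟨hKg, hKc⟩, if_pos hKΔ]
          · rw [if_neg (fun h => hKg h.1), if_pos hKΔ]
            symm
            by_contra h0
            obtain ⟨g, hg⟩ := fx_ne_zero h0
            exact hKg (isGraph_of_le (isGraph_conj hΔ g) hg)
        · rw [if_neg (fun h => hKc h.2), if_neg (fun h => hKc (h.trans hc))]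
      rw [h1, sum_fx_card_eq]
      have h2 := card_quotient_mul Δ
      rw [hc, hcardH] at h2
      exact Nat.eq_of_mul_eq_mul_right hnpos h2
    · rw [if_neg hc]
      apply Finset.sum_eq_zero
      intro K hK
      have h2 := ((hT K).1 hK).2
      have h3 := hN₀ Δ hΔ
      exact fx_eq_zero_of_card_lt (by omega)
  have hsum2 : ∑ K ∈ T, marksOf m K = n * ∑ Δ ∈ T, m Δ := by
    unfold marksOf
    rw [Finset.sum_comm]
    have h1 : ∀ Δ : Subgroup (S × S), ∑ K ∈ T, m Δ * fx K Δ = if Δ ∈ T then n * m Δ else 0 := by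
      intro Δ
      rw [← Finset.mul_sum]
      by_cases h0 : m Δ = 0
      · rw [h0, zero_mul]; simp
      · have hΔ := hm1 Δ h0
        rw [hfxtop Δ hΔ]
        by_cases hc : Nat.card Δ = n
        · rw [if_pos hc, if_pos ((hT Δ).2 ⟨hΔ, hc⟩), mul_comm]
        · rw [if_neg hc, if_neg (fun h => hc ((hT Δ).1 h).2), mul_zero]
    rw [Finset.sum_congr rfl (fun Δ _ => h1 Δ), ← Finset.sum_filter, Finset.mul_sum]
    apply Finset.sum_congr
    · ext Δ; simp [T]
    · intro Δ _; rfl
  -- the cardinality of the biset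
  have hcardX : ∃ w : ℕ, Nat.card (CosetSum m) = n * (∑ Δ ∈ T, m Δ) + n * (p * w) := by
    rw [card_cosetSum]
    have hterm : ∀ Δ : Subgroup (S × S), ∃ w : ℕ,
        m Δ * Nat.card ((S × S) ⧸ Δ) = (if Δ ∈ T then n * m Δ else 0) + n * (p * w) := by
      intro Δ
      by_cases h0 : m Δ = 0
      · refine ⟨0, ?_⟩
        rw [h0]; simp
      · have hΔ := hm1 Δ h0
        have h2 := card_quotient_mul Δ
        rw [hcardH] at h2
        by_cases hc : Nat.card Δ = n
        · refine ⟨0, ?_⟩
          rw [if_pos ((hT Δ).2 ⟨hΔ, hc⟩)]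
          rw [hc] at h2
          rw [Nat.eq_of_mul_eq_mul_right hnpos h2]
          ring
        · rw [if_neg (fun h => hc ((hT Δ).1 h).2)]
          -- |Δ| is a smaller power of p
          have hdomle := dom_le Δ
          have hdvd : Nat.card Δ ∣ n := by
            rw [card_eq_card_dom hΔ]; exact Subgroup.card_dvd_of_le hdomle
          obtain ⟨a, ha⟩ := (IsPGroup.iff_card.1 hS)
          obtain ⟨t, ht⟩ := hdvd
          have hpt : p ∣ t := by
            have htn : t ∣ p ^ a := by rw [← ha, ← hn, ht]; exact Dvd.intro_left _ rfl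
            obtain ⟨b, -, hb⟩ := (Nat.dvd_prime_pow (Fact.out : p.Prime)).1 htn
            rcases Nat.eq_zero_or_pos b with hb0 | hbpos
            · exfalso
              rw [hb0, pow_zero] at hb
              rw [hb, mul_one] at ht
              exact hc ht.symm
            · rw [hb]; exact dvd_pow_self p hbpos.ne'
          obtain ⟨w, hw⟩ := hpt
          refine ⟨m Δ * w, ?_⟩
          have hΔpos : 0 < Nat.card Δ := Nat.card_pos
          have h3 : Nat.card ((S × S) ⧸ Δ) = n * t := by
            have : Nat.card ((S × S) ⧸ Δ) * Nat.card Δ = n * t * Nat.card Δ := by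
              calc Nat.card ((S × S) ⧸ Δ) * Nat.card Δ = n * n := h2
                _ = n * (Nat.card Δ * t) := by rw [← ht]
                _ = n * t * Nat.card Δ := by ring
            exact Nat.eq_of_mul_eq_mul_right hΔpos this
          rw [h3, hw]; ring
    choose w hw using hterm
    refine ⟨∑ Δ : Subgroup (S × S), w Δ, ?_⟩
    rw [Finset.sum_congr rfl (fun Δ _ => hw Δ), Finset.sum_add_distrib, ← Finset.sum_filter,
      ← Finset.mul_sum, ← Finset.mul_sum, ← Finset.mul_sum]
    congr 2
    apply Finset.sum_congr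
    · ext Δ; simp [T]
    · intro Δ _; rfl
  obtain ⟨w, hw⟩ := hcardX
  refine ⟨(∑ Δ ∈ T, m Δ) + p * w, by rw [hw]; ring, ?_⟩
  -- the top count is prime to p
  obtain ⟨j, hj, hpj⟩ := card_autGroup_top hS hF
  have hTcard : T.card = Nat.card (F.autGroup S) := by
    rw [← card_top_graphs F, Nat.card_eq_fintype_card, Fintype.card_subtype]
  have hE2 := card_autInducedBy_top (S := S)
  have hk' : ∑ Δ ∈ T, m Δ = j := by
    have h1 : n * ∑ Δ ∈ T, m Δ = n * j := by
      rw [← hsum2, hsum1, hTcard, hj, hn, ← hE2]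
      ring
    exact Nat.eq_of_mul_eq_mul_left hnpos h1
  rw [hk']
  intro hdvd
  apply hpj
  exact (Nat.dvd_add_left (Dvd.intro _ rfl)).1 hdvd

end Biset6

end Cfsg.Agent.Helper85
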