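import Mathlib
import Cfsg.Prelude.Def_FusionSystem
import Cfsg.Agent.Lib.Helper85.Marks3
import Cfsg.Agent.Lib.Helper85.Park1

set_option autoImplicit false

/-! # Park's theorem: every fusion system over a finite `p`-group is realized inside a finite group -/

namespace Cfsg.Agent.Helper85

open Cfsg Cfsg.FusionSystem Cfsg.Agent.Helper87

universe u

section Biset

variable {T : Type u} [Group T] {X : Type u} [MulAction (T × T) X]

/-- the permutations of a `T`-`T`-biset commuting with the right action -/
def rightCentralizer (T : Type u) [Group T] (X : Type u) [MulAction (T × T) X] :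
    Subgroup (Equiv.Perm X) :=
  Subgroup.centralizer (Set.range fun b : T => MulAction.toPerm ((1, b) : T × T))

theorem mem_rightCentralizer {g : Equiv.Perm X} :
    g ∈ rightCentralizer T X ↔ ∀ (b : T) (x : X), g (((1 : T), b) • x) = ((1 : T), b) • g x := by
  unfold rightCentralizer
  rw [Subgroup.mem_centralizer_iff]
  constructor
  · intro h b x
    have := h _ ⟨b, rfl⟩
    have h2 := congrArg (fun σ : Equiv.Perm X => σ x) this
    simp only [Equiv.Perm.coe_mul, Function.comp_apply, MulAction.toPerm_apply] at h2
    exact h2.symm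
  · rintro h _ ⟨b, rfl⟩
    ext x
    simp only [Equiv.Perm.coe_mul, Function.comp_apply, MulAction.toPerm_apply]
    exact (h b x).symm

/-- the left action as a homomorphism into the right centralizer -/
def leftHom (T : Type u) [Group T] (X : Type u) [MulAction (T × T) X] : T →* rightCentralizer T X :=
  ((MulAction.toPermHom (T × T) X).comp (MonoidHom.inl T T)).codRestrict _ (fun a => by
    rw [mem_rightCentralizer]
    intro b x
    show ((a, (1 : T)) : T × T) • (((1 : T), b) • x) = ((1 : T), b) • (((a, (1 : T)) : T × T) • x)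
    rw [← mul_smul, ← mul_smul]
    simp)

theorem leftHom_apply (a : T) (x : X) : ((leftHom T X a : Equiv.Perm X)) x = ((a, (1 : T)) : T × T) • x := rfl

end Biset

theorem exists_finite_realization {Ω : Type u} [Group Ω] {S : Subgroup Ω} [Finite S]
    (F : FusionSystem S) :
    ∃ (G : Type u) (_ : Group G) (_ : Finite G) (ι : S →* G), F.IsRealizedBy ι := by
  classical
  haveI : Fintype (Subgroup (S × S)) := Fintype.ofFinite _
  obtain ⟨e, f, he0, hepos, heconj, hesum⟩ := exists_weights {Δ : Subgroup (S × S) | IsGraph F Δ}
    (fun h Δ hΔ => isGraph_conj hΔ h)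
  let m : Subgroup (S × S) → ℕ := fun Δ => Nat.card Δ * e Δ
  have hm0 : ∀ Δ, m Δ ≠ 0 → IsGraph F Δ := by
    intro Δ hΔ
    by_contra hn
    exact hΔ (by simp only [m, he0 Δ hn, mul_zero])
  -- marks
  have hmarks : ∀ K : Subgroup (S × S), (fixSet K : Set (CosetSum m)).ncard
      = Nat.card (S × S) * (if IsGraph F K then f (Nat.card K) else 0) := by
    intro K
    rw [ncard_fixSet_cosetSum_weights e heconj K]
    congr 1
    by_cases hK : IsGraph F K
    · rw [if_pos hK]; exact hesum K hK
    · rw [if_neg hK]
      apply Finset.sum_eq_zero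
      intro Δ _
      by_cases hle : K ≤ Δ
      · rw [if_pos hle]
        by_contra h0
        exact hK (isGraph_of_le (by_contra fun hn => h0 (he0 Δ hn)) hle)
      · rw [if_neg hle]
  -- base point
  have hmdiag : m (diagSub S) ≠ 0 := by
    have h1 : 0 < e (diagSub S) := hepos _ isGraph_diagSub
    have h2 : 0 < Nat.card (diagSub S) := Nat.card_pos
    exact (Nat.mul_pos h2 h1).ne'
  obtain ⟨x₀, hx₀⟩ := cosetSum_exists_point m (diagSub S) hmdiag
  refine ⟨rightCentralizer S (CosetSum m), inferInstance, inferInstance, leftHom S (CosetSum m), ?_, ?_⟩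
  · -- injective
    rw [injective_iff_map_eq_one]
    intro a ha
    have h1 : ((a, (1 : S)) : S × S) • x₀ = x₀ := by
      rw [← leftHom_apply, ha]; rfl
    have h2 := (hx₀ _).1 h1
    rw [mem_diagSub] at h2
    exact h2
  · intro P hP φ hφ
    constructor
    · -- a map of the system is realized
      intro hφF
      haveI : Finite P := Finite.of_injective (Subgroup.inclusion hP) (Subgroup.inclusion_injective hP)
      have hiso : Iso F P φ.range (extFun φ) := iso_of_mem hφF
      obtain ⟨g, hg, hg1, hg2⟩ := hiso.symm
      let j₁ : P × S →* S × S := (Subgroup.inclusion hP).prodMap (MonoidHom.id S)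
      let j₂ : P × S →* S × S := (φ.codRestrict S hφ).prodMap (MonoidHom.id S)
      have hj₁ : Function.Injective j₁ := by
        rintro ⟨u, b⟩ ⟨u', b'⟩ h
        have h1 : Subgroup.inclusion hP u = Subgroup.inclusion hP u' := congrArg Prod.fst h
        have h2 : b = b' := congrArg Prod.snd h
        rw [Subgroup.inclusion_injective hP h1, h2]
      have hj₂ : Function.Injective j₂ := by
        rintro ⟨u, b⟩ ⟨u', b'⟩ h
        have h1 : (φ.codRestrict S hφ) u = (φ.codRestrict S hφ) u' := congrArg Prod.fst h
        have h2 : b = b' := congrArg Prod.snd h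
        have h3 : φ u = φ u' := congrArg Subtype.val h1
        rw [F.injective_of_mem hφF h3, h2]
      have hgraph : ∀ K : Subgroup (P × S), IsGraph F (K.map j₁) ↔ IsGraph F (K.map j₂) := by
        intro K
        constructor
        · apply isGraph_transport hiso
          · rintro a b ⟨⟨u, b'⟩, -, h⟩
            have : (u : Ω) = a := congrArg (fun z : S × S => (z.1 : Ω)) h
            rw [← this]; exact u.2
          · intro a b
            constructor
            · rintro ⟨⟨u, b'⟩, hK, h⟩
              have h1 : φ u = a := congrArg (fun z : S × S => (z.1 : Ω)) h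
              have h2 : b' = b := congrArg Prod.snd h
              subst h2
              refine ⟨⟨u, hP u.2⟩, ⟨(u, b'), hK, rfl⟩, ?_⟩
              show extFun φ u = a
              rw [extFun_apply, h1]
            · rintro ⟨a', ⟨⟨u, b'⟩, hK, h⟩, ha'⟩
              have h1 : (u : Ω) = a' := congrArg (fun z : S × S => (z.1 : Ω)) h
              have h2 : b' = b := congrArg Prod.snd h
              subst h2
              refine ⟨(u, b'), hK, ?_⟩
              apply Prod.ext
              · apply Subtype.ext
                show φ u = a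
                rw [← ha', ← h1, extFun_apply]
              · rfl
        · apply isGraph_transport hg
          · rintro a b ⟨⟨u, b'⟩, -, h⟩
            have : φ u = a := congrArg (fun z : S × S => (z.1 : Ω)) h
            rw [← this]; exact ⟨u, rfl⟩
          · intro a b
            constructor
            · rintro ⟨⟨u, b'⟩, hK, h⟩
              have h1 : (u : Ω) = a := congrArg (fun z : S × S => (z.1 : Ω)) h
              have h2 : b' = b := congrArg Prod.snd h
              subst h2
              refine ⟨⟨φ u, hφ u⟩, ⟨(u, b'), hK, rfl⟩, ?_⟩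
              show g (φ u) = a
              rw [← extFun_apply φ u, hg1 _ u.2, h1]
            · rintro ⟨a', ⟨⟨u, b'⟩, hK, h⟩, ha'⟩
              have h1 : φ u = a' := congrArg (fun z : S × S => (z.1 : Ω)) h
              have h2 : b' = b := congrArg Prod.snd h
              subst h2
              refine ⟨(u, b'), hK, ?_⟩
              apply Prod.ext
              · apply Subtype.ext
                show (u : Ω) = a
                rw [← ha', ← h1, ← extFun_apply φ u, hg1 _ u.2]
              · rfl
      -- apply the marks theorem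
      have hfix : ∀ (j : P × S →* S × S) (K : Subgroup (P × S)),
          (@fixSet (P × S) _ (CosetSum m) (MulAction.compHom (CosetSum m) j) K)
            = (fixSet (K.map j) : Set (CosetSum m)) := by
        intro j K
        ext x
        constructor
        · rintro hx _ ⟨k, hk, rfl⟩
          exact hx k hk
        · intro hx k hk
          exact hx (j k) ⟨k, hk, rfl⟩
      obtain ⟨ε, hε⟩ := @exists_equivariant_equiv (P × S) _ _ (CosetSum m) (CosetSum m)
        (MulAction.compHom (CosetSum m) j₁) (MulAction.compHom (CosetSum m) j₂) _ _ (by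
          intro K
          rw [hfix j₁ K, hfix j₂ K, hmarks, hmarks, Subgroup.card_map_of_injective hj₁,
            Subgroup.card_map_of_injective hj₂]
          by_cases hc : IsGraph F (K.map j₁)
          · rw [if_pos hc, if_pos ((hgraph K).1 hc)]
          · rw [if_neg hc, if_neg (fun h => hc ((hgraph K).2 h))])
      have hε' : ∀ (k : P × S) (x : CosetSum m), ε (j₁ k • x) = j₂ k • ε x := hε
      have hεmem : ε ∈ rightCentralizer S (CosetSum m) := by
        rw [mem_rightCentralizer]
        intro b x
        have := hε' ((1 : P), b) x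
        have e1 : j₁ ((1 : P), b) = ((1 : S), b) := rfl
        have e2 : j₂ ((1 : P), b) = ((1 : S), b) := by
          apply Prod.ext
          · apply Subtype.ext
            show φ 1 = ((1 : S) : Ω)
            rw [map_one]; rfl
          · rfl
        rwa [e1, e2] at this
      refine ⟨⟨ε, hεmem⟩, fun u => ?_⟩
      rw [eq_mul_inv_iff_mul_eq]
      apply Subtype.ext
      apply Equiv.ext
      intro x
      show ((⟨φ u, hφ u⟩, (1 : S)) : S × S) • ε x = ε (((⟨u, hP u.2⟩, (1 : S)) : S × S) • x)
      exact (hε' (u, (1 : S)) x).symm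
    · -- a realized map is a map of the system
      rintro ⟨g, hg⟩
      let z := (g : Equiv.Perm (CosetSum m)) x₀
      have hgc := mem_rightCentralizer.1 g.2
      have hz : ∀ u : P, ((⟨φ u, hφ u⟩, ⟨u, hP u.2⟩) : S × S) • z = z := by
        intro u
        have h1 := hg u
        rw [eq_mul_inv_iff_mul_eq] at h1
        have h2 := congrArg (fun σ : rightCentralizer S (CosetSum m) => (σ : Equiv.Perm (CosetSum m)) x₀) h1
        have h3 : ((⟨φ u, hφ u⟩, (1 : S)) : S × S) • z
            = (g : Equiv.Perm (CosetSum m)) (((⟨u, hP u.2⟩, (1 : S)) : S × S) • x₀) := h2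
        have h4 : (((⟨u, hP u.2⟩ : S), (1 : S)) : S × S) • x₀
            = (((1 : S), (⟨u, hP u.2⟩ : S)⁻¹) : S × S) • x₀ := by
          have h5 : (((⟨u, hP u.2⟩ : S), (⟨u, hP u.2⟩ : S)) : S × S) • x₀ = x₀ :=
            (hx₀ _).2 (mem_diagSub.2 rfl)
          conv_rhs => rw [← h5]
          rw [← mul_smul]
          congr 1
          simp
        rw [h4, hgc] at h3
        have h6 : ((⟨φ u, hφ u⟩, ⟨u, hP u.2⟩) : S × S)
            = (((1 : S), (⟨u, hP u.2⟩ : S)) : S × S) * ((⟨φ u, hφ u⟩, (1 : S)) : S × S) := by
          simp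
        rw [h6, mul_smul, h3, ← mul_smul]
        have h7 : (((1 : S), (⟨u, hP u.2⟩ : S)) : S × S) * (((1 : S), (⟨u, hP u.2⟩ : S)⁻¹) : S × S) = 1 := by
          simp
        rw [h7, one_smul]
      obtain ⟨Δ, h, hΔm, hstab⟩ := cosetSum_stabilizer m z
      have hΔ' : IsGraph F (Δ.map (MulAut.conj h).toMonoidHom) := isGraph_conj (hm0 Δ hΔm) h
      obtain ⟨Q, ψ, hψ, hmem⟩ := hΔ'
      have hstab' : ∀ u : P, (φ u : Ω) ∈ Q ∧ ψ (φ u) = u := by
        intro u
        have h1 := (hstab _).1 (hz u)
        have h2 : ((⟨φ u, hφ u⟩, ⟨u, hP u.2⟩) : S × S) ∈ Δ.map (MulAut.conj h).toMonoidHom := by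
          rw [Subgroup.mem_map_equiv]
          simpa [MulAut.conj_symm_apply] using h1
        exact (hmem _ _).1 h2
      -- ψ restricted to φ(P) is an isomorphism onto P inverse to φ
      have hRQ : φ.range ≤ Q := by
        rintro _ ⟨u, rfl⟩
        exact (hstab' u).1
      have hi : Iso F φ.range P ψ := by
        refine ⟨hψ.restrict hRQ, fun y => ?_⟩
        constructor
        · intro hy
          exact ⟨φ ⟨y, hy⟩, ⟨⟨y, hy⟩, rfl⟩, (hstab' ⟨y, hy⟩).2⟩
        · rintro ⟨_, ⟨u, rfl⟩, rfl⟩
          rw [(hstab' u).2]; exact u.2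
      obtain ⟨g', hg', hg'1, hg'2⟩ := hi.symm
      rw [mem_hom_iff_mor]
      refine hg'.1.congr (fun x hx => ?_)
      rw [extFun_mem φ hx]
      have := hg'1 (φ ⟨x, hx⟩) ⟨⟨x, hx⟩, rfl⟩
      rw [(hstab' ⟨x, hx⟩).2] at this
      exact this

end Cfsg.Agent.Helper85
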