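import Mathlib
import Cfsg.Prelude.Def_FusionSystem
import Cfsg.Agent.Lib.Helper85.Biset6
import Cfsg.Agent.Lib.Helper85.Park2
import Cfsg.Agent.Lib.Helper85.Trans1
import Cfsg.Agent.S5144
import Cfsg.Agent.Lib.Helper87.FusionCenter

set_option autoImplicit false

/-! # The transfer of a saturated fusion system through a characteristic biset -/

namespace Cfsg.Agent.Helper85

open Cfsg Cfsg.FusionSystem Cfsg.Agent.Helper87 MulAction

universe u

section Trans2

variable {Ω : Type u} [Group Ω] {S : Subgroup Ω} {F : FusionSystem S}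

theorem center_fixed [Finite S] {z : Ω} (hz : z ∈ F.center) {Q : Subgroup Ω} {f : Ω → Ω} (hf : Mor F Q f)
    (hzQ : z ∈ Q) : f z = z := by
  obtain ⟨g, -, h1, h2⟩ := (isCentral_iff.1 (Cfsg.Agent.S5144.result F)).2 Q f hf
  rw [← h1 z hzQ, h2 z hz]

variable {X : Type u} [MulAction (S × S) X]

theorem ncard_fixSet_eq_zero (hgr : ∀ x : X, IsGraph F (MulAction.stabilizer (S × S) x))
    {K : Subgroup (S × S)} (hK : ¬ IsGraph F K) : (fixSet K : Set X).ncard = 0 := by
  have : (fixSet K : Set X) = ∅ := by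
    ext x
    simp only [Set.mem_empty_iff_false, iff_false]
    intro hx
    exact hK (isGraph_of_le (hgr x) (fun k hk => hx k hk))
  rw [this, Set.ncard_empty]

/-- a map of the system is induced by a permutation of the biset commuting with the right action -/
theorem exists_intertwiner [Finite S] [Finite X]
    (hgr : ∀ x : X, IsGraph F (MulAction.stabilizer (S × S) x))
    (hst : ∀ K K' : Subgroup (S × S), IsGraph F K → IsGraph F K' → F.IsConj (dom K) (dom K') →
      (fixSet K : Set X).ncard = (fixSet K' : Set X).ncard)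
    {P : Subgroup Ω} (hP : P ≤ S) {φ : P →* Ω} (hφF : φ ∈ F.Hom P) (hφ : ∀ x : P, φ x ∈ S) :
    ∃ ε : rightCentralizer S X, ∀ u : P,
      leftHom S X ⟨φ u, hφ u⟩ = ε * leftHom S X ⟨u, hP u.2⟩ * ε⁻¹ := by
  haveI : Finite P := Finite.of_injective (Subgroup.inclusion hP) (Subgroup.inclusion_injective hP)
  have hiso : Iso F P φ.range (extFun φ) := iso_of_mem hφF
  obtain ⟨g, hg, hg1, hg2⟩ := hiso.symm
  let j₁ : P × S →* S × S := (Subgroup.inclusion hP).prodMap (MonoidHom.id S)
  let j₂ : P × S →* S × S := (φ.codRestrict S hφ).prodMap (MonoidHom.id S)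
  have hmem₁ : ∀ (K : Subgroup (P × S)) (a b : S), (a, b) ∈ K.map j₁ ↔
      ∃ (u : P), (u, b) ∈ K ∧ (u : Ω) = a := by
    intro K a b
    constructor
    · rintro ⟨⟨u, b'⟩, hK, h⟩
      have h1 : (u : Ω) = a := congrArg (fun z : S × S => (z.1 : Ω)) h
      have h2 : b' = b := congrArg Prod.snd h
      subst h2
      exact ⟨u, hK, h1⟩
    · rintro ⟨u, hK, h1⟩
      refine ⟨(u, b), hK, ?_⟩
      apply Prod.ext
      · exact Subtype.ext h1
      · rfl
  have hmem₂ : ∀ (K : Subgroup (P × S)) (a b : S), (a, b) ∈ K.map j₂ ↔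
      ∃ (u : P), (u, b) ∈ K ∧ φ u = a := by
    intro K a b
    constructor
    · rintro ⟨⟨u, b'⟩, hK, h⟩
      have h1 : φ u = a := congrArg (fun z : S × S => (z.1 : Ω)) h
      have h2 : b' = b := congrArg Prod.snd h
      subst h2
      exact ⟨u, hK, h1⟩
    · rintro ⟨u, hK, h1⟩
      refine ⟨(u, b), hK, ?_⟩
      apply Prod.ext
      · exact Subtype.ext h1
      · rfl
  have hfwd : ∀ K : Subgroup (P × S), IsGraph F (K.map j₁) →
      IsGraph F (K.map j₂) ∧ F.IsConj (dom (K.map j₁)) (dom (K.map j₂)) := by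
    intro K hK
    apply graph_map hK (mor_of_mem hφF) (Mor.id (le_refl S))
    · intro a b hab
      obtain ⟨u, -, h1⟩ := (hmem₁ K a b).1 hab
      exact ⟨h1 ▸ u.2, b.2⟩
    · intro a' b'
      rw [hmem₂]
      constructor
      · rintro ⟨u, hK', h1⟩
        refine ⟨⟨u, hP u.2⟩, b', (hmem₁ K _ _).2 ⟨u, hK', rfl⟩, ?_, rfl⟩
        show extFun φ u = a'
        rw [extFun_apply, h1]
      · rintro ⟨a, b, hab, e1, e2⟩
        obtain ⟨u, hK', h1⟩ := (hmem₁ K a b).1 hab
        have hb : b = b' := Subtype.ext e2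
        subst hb
        refine ⟨u, hK', ?_⟩
        rw [← e1, ← h1, extFun_apply]
  have hbwd : ∀ K : Subgroup (P × S), IsGraph F (K.map j₂) → IsGraph F (K.map j₁) := by
    intro K hK
    refine (graph_map hK hg.1 (Mor.id (le_refl S)) ?_ ?_).1
    · intro a b hab
      obtain ⟨u, -, h1⟩ := (hmem₂ K a b).1 hab
      exact ⟨⟨u, h1⟩, b.2⟩
    · intro a' b'
      rw [hmem₁]
      constructor
      · rintro ⟨u, hK', h1⟩
        refine ⟨⟨φ u, hφ u⟩, b', (hmem₂ K _ _).2 ⟨u, hK', rfl⟩, ?_, rfl⟩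
        show g (φ u) = a'
        rw [← extFun_apply φ u, hg1 _ u.2, h1]
      · rintro ⟨a, b, hab, e1, e2⟩
        obtain ⟨u, hK', h1⟩ := (hmem₂ K a b).1 hab
        have hb : b = b' := Subtype.ext e2
        subst hb
        refine ⟨u, hK', ?_⟩
        rw [← e1, ← h1, ← extFun_apply φ u, hg1 _ u.2]
  have hfix : ∀ (j : P × S →* S × S) (K : Subgroup (P × S)),
      (@fixSet (P × S) _ X (MulAction.compHom X j) K) = (fixSet (K.map j) : Set X) := by
    intro j K
    ext x
    constructor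
    · rintro hx _ ⟨k, hk, rfl⟩
      exact hx k hk
    · intro hx k hk
      exact hx (j k) ⟨k, hk, rfl⟩
  obtain ⟨ε, hε⟩ := @exists_equivariant_equiv (P × S) _ _ X X
    (MulAction.compHom X j₁) (MulAction.compHom X j₂) _ _ (by
      intro K
      rw [hfix j₁ K, hfix j₂ K]
      by_cases hc : IsGraph F (K.map j₁)
      · exact hst _ _ hc (hfwd K hc).1 (hfwd K hc).2
      · rw [ncard_fixSet_eq_zero hgr hc, ncard_fixSet_eq_zero hgr (fun h => hc (hbwd K h))])
  have hε' : ∀ (k : P × S) (x : X), ε (j₁ k • x) = j₂ k • ε x := hε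
  have hεmem : ε ∈ rightCentralizer S X := by
    rw [mem_rightCentralizer]
    intro b x
    have := hε' ((1 : P), b) x
    have e1 : j₁ ((1 : P), b) = ((1 : S), b) := rfl
    have e2 : j₂ ((1 : P), b) = ((1 : S), b) := by
      apply Prod.ext
      · apply Subtype.ext
        show φ 1 = ((1 : S) : Ω)
        rw [map_one]; rfl
      · rfl
    rwa [e1, e2] at this
  refine ⟨⟨ε, hεmem⟩, fun u => ?_⟩
  rw [eq_mul_inv_iff_mul_eq]
  apply Subtype.ext
  apply Equiv.ext
  intro x
  show ((⟨φ u, hφ u⟩, (1 : S)) : S × S) • ε x = ε (((⟨u, hP u.2⟩, (1 : S)) : S × S) • x)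
  exact (hε' (u, (1 : S)) x).symm

end Trans2

end Cfsg.Agent.Helper85
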