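import Mathlib
import Cfsg.Prelude.Def_FusionSystem
import Cfsg.Agent.Lib.Helper85.Trans2

set_option autoImplicit false

/-! # The transfer of a saturated fusion system: existence of a stable homomorphism -/

namespace Cfsg.Agent.Helper85

open Cfsg Cfsg.FusionSystem Cfsg.Agent.Helper87 MulAction

universe u

section Trans3

variable {Ω : Type u} [Group Ω] {S : Subgroup Ω} {F : FusionSystem S}

/-- the right action of `S` on a biset, as a left action through `(1, t)` -/
@[reducible] def rightAct (S : Subgroup Ω) (X : Type u) [MulAction (S × S) X] : MulAction S X :=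
  MulAction.compHom X (MonoidHom.inr S S)

theorem rightAct_smul {X : Type u} [MulAction (S × S) X] (t : S) (x : X) :
    (letI := rightAct S X; t • x) = ((1 : S), t) • x := rfl

theorem rightAct_free {X : Type u} [MulAction (S × S) X]
    (hgr : ∀ x : X, IsGraph F (MulAction.stabilizer (S × S) x)) (t : S) (x : X)
    (h : ((1 : S), t) • x = x) : t = 1 := by
  obtain ⟨Q, f, hf, hmem⟩ := hgr x
  have h1 : ((1 : S), t) ∈ MulAction.stabilizer (S × S) x := h
  obtain ⟨-, h2⟩ := (hmem _ _).1 h1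
  apply Subtype.ext
  rw [← h2]
  exact hf.map_one

theorem exists_stable_transfer [Finite S] {p : ℕ} [Fact p.Prime] (hS : IsPGroup p S)
    (hF : F.IsSaturated p) {A : Type*} [CommGroup A] (lam : S →* A) :
    ∃ (t : S →* A) (k : ℕ), ¬ p ∣ k ∧
      (∀ (P : Subgroup Ω) (φ : P →* Ω) (hφ : φ ∈ F.Hom P) (x : P),
        t ⟨φ x, (F.le_of_mem hφ).2 x⟩ = t ⟨x, (F.le_of_mem hφ).1 x.2⟩) ∧
      (∀ z : S, (z : Ω) ∈ F.center → t z = lam z ^ k) := by
  classical
  obtain ⟨X, iX, fX, hgr, hst, k₀, hk₀, hpk₀⟩ := exists_char_biset hS hF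
  letI : MulAction S X := rightAct S X
  have hsm : ∀ (t : S) (x : X), t • x = ((1 : S), t) • x := fun _ _ => rfl
  haveI : SMulCommClass (rightCentralizer S X) S X := ⟨fun γ t x => by
    show (γ : Equiv.Perm X) (t • x) = t • (γ : Equiv.Perm X) x
    rw [hsm, hsm]
    exact mem_rightCentralizer.1 γ.2 t x⟩
  have hfree : ∀ (t : S) (x : X), t • x = x → t = 1 := fun t x h => rightAct_free hgr t x h
  haveI : Fintype (Orb S X) := Fintype.ofFinite _
  let τ : rightCentralizer S X →* A := trf (X := X) hfree lam⁻¹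
  have hcard : Fintype.card (Orb S X) = k₀ := by
    have h1 := Nat.card_congr (orbEquiv (T := S) (X := X) hfree)
    rw [Nat.card_prod, hk₀, mul_comm, Nat.card_eq_fintype_card (α := Orb S X)] at h1
    have hpos : 0 < Nat.card S := Nat.card_pos
    exact (Nat.eq_of_mul_eq_mul_right hpos h1).symm
  refine ⟨τ.comp (leftHom S X), k₀, hpk₀, ?_, ?_⟩
  · intro P φ hφ x
    obtain ⟨ε, hε⟩ := exists_intertwiner hgr hst (F.le_of_mem hφ).1 hφ (F.le_of_mem hφ).2
    show τ (leftHom S X ⟨φ x, _⟩) = τ (leftHom S X ⟨x, _⟩)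
    rw [hε x, map_mul, map_mul, map_inv, mul_comm, inv_mul_cancel_left]
  · intro z hz
    show τ (leftHom S X z) = lam z ^ k₀
    rw [← hcard]
    apply trf_eq_pow
    intro x n t h
    rw [← map_pow] at h
    have h1 : ((z ^ n, (1 : S)) : S × S) • x = ((1 : S), t) • x := h
    have h2 : ((z ^ n, t⁻¹) : S × S) ∈ MulAction.stabilizer (S × S) x := by
      rw [MulAction.mem_stabilizer_iff]
      have e : ((z ^ n, t⁻¹) : S × S) = ((1 : S), t⁻¹) * (z ^ n, (1 : S)) := by simp
      rw [e, mul_smul, h1, ← mul_smul]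
      have e2 : (((1 : S), t⁻¹) : S × S) * ((1 : S), t) = 1 := by simp
      rw [e2, one_smul]
    obtain ⟨Q, f, hf, hmem⟩ := hgr x
    obtain ⟨hzQ, hfz⟩ := (hmem _ _).1 h2
    have hzc : ((z ^ n : S) : Ω) ∈ F.center := by
      rw [Subgroup.coe_pow]
      exact Subgroup.pow_mem _ hz n
    rw [center_fixed hzc hf hzQ] at hfz
    have htz : t⁻¹ = z ^ n := (Subtype.ext hfz).symm
    rw [MonoidHom.inv_apply, ← map_inv, htz, map_pow]

end Trans3

end Cfsg.Agent.Helper85
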