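import Mathlib
import Cfsg.Agent.Lib.Helper85.ModelK1
import Cfsg.Agent.Lib.Helper85.Trans3

set_option autoImplicit false

/-! # The fixed points of the diagonal of `Q` in a biset, and the transfer of the centralizer of `Q` -/

namespace Cfsg.Agent.Helper85

open Cfsg Cfsg.FusionSystem Cfsg.Agent.Helper87 MulAction

universe u

section ModelK2

variable {Ω : Type u} [Group Ω] (S : Subgroup Ω) (X : Type u) [MulAction (S × S) X] (Q : Subgroup Ω)

/-- the image of `Q` under the left action -/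
def LQ : Subgroup (rightCentralizer S X) := (Q.subgroupOf S).map (leftHom S X)

/-- the fixed points of the diagonal of `Q` -/
def WSet : Set X := {x | ∀ q : S, (q : Ω) ∈ Q → ((q, q) : S × S) • x = x}

variable {S X Q}

theorem mem_LQ {γ : rightCentralizer S X} :
    γ ∈ LQ S X Q ↔ ∃ q : S, (q : Ω) ∈ Q ∧ leftHom S X q = γ := by
  unfold LQ
  rw [Subgroup.mem_map]
  constructor
  · rintro ⟨q, hq, rfl⟩
    exact ⟨q, Subgroup.mem_subgroupOf.1 hq, rfl⟩
  · rintro ⟨q, hq, rfl⟩
    exact ⟨q, Subgroup.mem_subgroupOf.2 hq, rfl⟩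

theorem leftHom_mem_LQ {q : S} (hq : (q : Ω) ∈ Q) : leftHom S X q ∈ LQ S X Q :=
  mem_LQ.2 ⟨q, hq, rfl⟩

theorem gam_smul (γ : rightCentralizer S X) (x : X) : γ • x = (γ : Equiv.Perm X) x := rfl

theorem gam_right (γ : rightCentralizer S X) (b : S) (x : X) :
    γ • (((1 : S), b) • x) = ((1 : S), b) • (γ • x) :=
  mem_rightCentralizer.1 γ.2 b x

theorem left_smul (a : S) (x : X) : leftHom S X a • x = ((a, (1 : S)) : S × S) • x := rfl

theorem conj_smul {γ : rightCentralizer S X} {q q' : S}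
    (h : γ * leftHom S X q * γ⁻¹ = leftHom S X q') (x : X) :
    γ • (((q, (1 : S)) : S × S) • x) = ((q', (1 : S)) : S × S) • (γ • x) := by
  have h1 : γ * leftHom S X q = leftHom S X q' * γ := by
    rw [← h]; group
  rw [← left_smul, ← left_smul, ← mul_smul, ← mul_smul, h1]

theorem w_left {x : X} (hx : x ∈ WSet S X Q) {q : S} (hq : (q : Ω) ∈ Q) :
    ((q, (1 : S)) : S × S) • x = (((1 : S), q⁻¹) : S × S) • x := by
  have h1 := hx q hq
  have e : ((q, (1 : S)) : S × S) = ((1 : S), q⁻¹) * (q, q) := by simp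
  rw [e, mul_smul, h1]

theorem mem_WSet_of {x : X}
    (h : ∀ q : S, (q : Ω) ∈ Q → ((q, (1 : S)) : S × S) • x = (((1 : S), q⁻¹) : S × S) • x) :
    x ∈ WSet S X Q := by
  intro q hq
  have e : ((q, q) : S × S) = ((1 : S), q) * (q, (1 : S)) := by simp
  rw [e, mul_smul, h q hq, ← mul_smul]
  have e2 : (((1 : S), q) : S × S) * ((1 : S), q⁻¹) = 1 := by simp
  rw [e2, one_smul]

/-- an element inducing on `Q` the conjugation by `s` carries `W` to `W`, up to right multiplication by `s` -/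
theorem mapW (hQn : ∀ (s q : S), (q : Ω) ∈ Q → ((s * q * s⁻¹ : S) : Ω) ∈ Q)
    {γ : rightCentralizer S X} {s : S}
    (h : ∀ q : S, (q : Ω) ∈ Q → γ * leftHom S X q * γ⁻¹ = leftHom S X (s * q * s⁻¹))
    {w : X} (hw : w ∈ WSet S X Q) : (((1 : S), s) : S × S) • (γ • w) ∈ WSet S X Q := by
  apply mem_WSet_of
  intro q hq
  have hu : ((s⁻¹ * q * s⁻¹⁻¹ : S) : Ω) ∈ Q := hQn s⁻¹ q hq
  have h1 := h _ hu
  have e1 : s * (s⁻¹ * q * s⁻¹⁻¹) * s⁻¹ = q := by group
  rw [e1] at h1
  have h2 := conj_smul h1 w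
  rw [w_left hw hu, gam_right] at h2
  rw [← mul_smul, ← mul_smul]
  have e2 : ((q, (1 : S)) : S × S) * ((1 : S), s) = ((1 : S), s) * (q, (1 : S)) := by simp
  rw [e2, mul_smul, ← h2, ← mul_smul]
  congr 1
  apply Prod.ext
  · simp
  · show s * (s⁻¹ * q * s⁻¹⁻¹)⁻¹ = q⁻¹ * s
    group

theorem centralizer_smul {c : rightCentralizer S X}
    (hc : c ∈ Subgroup.centralizer (LQ S X Q : Set (rightCentralizer S X))) {q : S} (hq : (q : Ω) ∈ Q)
    (x : X) : c • (((q, (1 : S)) : S × S) • x) = ((q, (1 : S)) : S × S) • (c • x) := by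
  apply conj_smul
  have h1 := (Subgroup.mem_centralizer_iff.1 hc) _ (leftHom_mem_LQ (X := X) hq)
  rw [← h1]; group

theorem centralizer_mapW {c : rightCentralizer S X}
    (hc : c ∈ Subgroup.centralizer (LQ S X Q : Set (rightCentralizer S X))) {w : X}
    (hw : w ∈ WSet S X Q) : c • w ∈ WSet S X Q := by
  apply mem_WSet_of
  intro q hq
  rw [← centralizer_smul hc hq, w_left hw hq, gam_right]

end ModelK2

end Cfsg.Agent.Helper85
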