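import Mathlib
import Cfsg.Agent.Lib.Helper85.ModelK2

set_option autoImplicit false

/-! # The transfer of the centralizer of `Q` into the centre of `Q`, inside the normalizer of `Q` -/

namespace Cfsg.Agent.Helper85

open Cfsg Cfsg.FusionSystem Cfsg.Agent.Helper87 MulAction

universe u

section ModelK3

variable {Ω : Type u} [Group Ω] (S : Subgroup Ω) (X : Type u) [MulAction (S × S) X] (Q : Subgroup Ω)

/-- the normalizer of the image of `Q` -/
abbrev NQ : Subgroup (rightCentralizer S X) :=
  Subgroup.normalizer (LQ S X Q : Set (rightCentralizer S X))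

/-- the image of `Q` inside its normalizer -/
abbrev LQ' : Subgroup (NQ S X Q) := (LQ S X Q).subgroupOf (NQ S X Q)

/-- the centralizer of the image of `Q` inside the normalizer -/
abbrev CQ' : Subgroup (NQ S X Q) :=
  (Subgroup.centralizer (LQ S X Q : Set (rightCentralizer S X))).subgroupOf (NQ S X Q)

/-- the image of the centre of `Q` inside the normalizer -/
def AQ' : Subgroup (NQ S X Q) := LQ' S X Q ⊓ CQ' S X Q

instance AQ'_normal : (AQ' S X Q).Normal := by
  unfold AQ'
  infer_instance

variable {S X Q}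

theorem mem_AQ' {a : NQ S X Q} : a ∈ AQ' S X Q ↔ (a : rightCentralizer S X) ∈ LQ S X Q ∧
    (a : rightCentralizer S X) ∈ Subgroup.centralizer (LQ S X Q : Set (rightCentralizer S X)) := by
  unfold AQ'
  rw [Subgroup.mem_inf, Subgroup.mem_subgroupOf, Subgroup.mem_subgroupOf]

theorem AQ'_le_CQ' : AQ' S X Q ≤ CQ' S X Q := fun _ ha => (Subgroup.mem_inf.1 ha).2

theorem AQ'_comm (a b : AQ' S X Q) : a * b = b * a := by
  apply Subtype.ext
  apply Subtype.ext
  have ha := (mem_AQ'.1 a.2).2
  have hb := (mem_AQ'.1 b.2).1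
  have := (Subgroup.mem_centralizer_iff.1 ha) _ hb
  show ((a : NQ S X Q) : rightCentralizer S X) * ((b : NQ S X Q) : rightCentralizer S X)
    = ((b : NQ S X Q) : rightCentralizer S X) * ((a : NQ S X Q) : rightCentralizer S X)
  exact this.symm

variable (S X Q)

noncomputable instance AQ'_commGroup : CommGroup (AQ' S X Q) :=
  { (inferInstance : Group (AQ' S X Q)) with mul_comm := AQ'_comm }

/-- the action of the centralizer on the fixed points of the diagonal -/
instance CQ'_act : MulAction (CQ' S X Q) (WSet S X Q) where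
  smul c w := ⟨((c : NQ S X Q) : rightCentralizer S X) • (w : X),
    centralizer_mapW (Subgroup.mem_subgroupOf.1 c.2) w.2⟩
  one_smul w := Subtype.ext (one_smul _ _)
  mul_smul a b w := Subtype.ext (mul_smul _ _ _)

instance AQ'_act : MulAction (AQ' S X Q) (WSet S X Q) where
  smul a w := ⟨((a : NQ S X Q) : rightCentralizer S X) • (w : X),
    centralizer_mapW (mem_AQ'.1 a.2).2 w.2⟩
  one_smul w := Subtype.ext (one_smul _ _)
  mul_smul a b w := Subtype.ext (mul_smul _ _ _)

variable {S X Q}

theorem CQ'_smul_coe (c : CQ' S X Q) (w : WSet S X Q) :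
    ((c • w : WSet S X Q) : X) = ((c : NQ S X Q) : rightCentralizer S X) • (w : X) := rfl

theorem AQ'_smul_coe (a : AQ' S X Q) (w : WSet S X Q) :
    ((a • w : WSet S X Q) : X) = ((a : NQ S X Q) : rightCentralizer S X) • (w : X) := rfl

instance CA_comm : SMulCommClass (CQ' S X Q) (AQ' S X Q) (WSet S X Q) where
  smul_comm c a w := by
    apply Subtype.ext
    rw [CQ'_smul_coe, AQ'_smul_coe, AQ'_smul_coe, CQ'_smul_coe, ← mul_smul, ← mul_smul]
    have hc : ((c : NQ S X Q) : rightCentralizer S X) ∈ Subgroup.centralizer _ :=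
      Subgroup.mem_subgroupOf.1 c.2
    have ha := (mem_AQ'.1 a.2).1
    rw [(Subgroup.mem_centralizer_iff.1 hc) _ ha]

variable {F : FusionSystem S}

theorem AQ'_free (hgr : ∀ x : X, IsGraph F (MulAction.stabilizer (S × S) x))
    (a : AQ' S X Q) (w : WSet S X Q) (h : a • w = w) : a = 1 := by
  obtain ⟨q, hq, hqa⟩ := mem_LQ.1 (mem_AQ'.1 a.2).1
  have h1 : ((a : NQ S X Q) : rightCentralizer S X) • (w : X) = w := congrArg Subtype.val h
  rw [← hqa, left_smul, w_left w.2 hq] at h1
  have h2 := rightAct_free hgr _ _ h1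
  have h3 : q = 1 := inv_eq_one.1 h2
  apply Subtype.ext
  apply Subtype.ext
  show ((a : NQ S X Q) : rightCentralizer S X) = 1
  rw [← hqa, h3, map_one]

noncomputable instance orb_fintype [Finite X] : Fintype (Orb (AQ' S X Q) (WSet S X Q)) :=
  Fintype.ofFinite _

/-- the transfer of the centralizer of `Q` into the centre of `Q` -/
noncomputable def pi1 [Finite X] (hgr : ∀ x : X, IsGraph F (MulAction.stabilizer (S × S) x)) :
    CQ' S X Q →* AQ' S X Q :=
  trf (G := CQ' S X Q) (T := AQ' S X Q) (X := WSet S X Q) (AQ'_free hgr) (MonoidHom.id (AQ' S X Q))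

theorem pi1_central [Finite X] (hgr : ∀ x : X, IsGraph F (MulAction.stabilizer (S × S) x))
    (a : AQ' S X Q) :
    pi1 hgr (⟨a, AQ'_le_CQ' a.2⟩ : CQ' S X Q) = a ^ Fintype.card (Orb (AQ' S X Q) (WSet S X Q)) := by
  unfold pi1
  apply trf_eq_pow
  intro w n t h
  show t = a ^ n
  have h1 : (a ^ n) • w = t • w := by
    rw [← h]
    apply Subtype.ext
    rw [CQ'_smul_coe, AQ'_smul_coe]
    rfl
  have h2 : (t⁻¹ * a ^ n) • w = w := by
    rw [mul_smul, h1, inv_smul_smul]
  have h3 := AQ'_free hgr _ _ h2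
  rw [inv_mul_eq_one] at h3
  exact h3

end ModelK3

end Cfsg.Agent.Helper85
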