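import Mathlib
import Cfsg.Agent.Lib.Helper85.ModelK3

set_option autoImplicit false

/-! # Equivariance of the transfer of the centralizer of `Q` under the elements inducing inner automorphisms -/

namespace Cfsg.Agent.Helper85

open Cfsg Cfsg.FusionSystem Cfsg.Agent.Helper87 MulAction

universe u

section ModelK4

variable {Ω : Type u} [Group Ω] {S : Subgroup Ω} {X : Type u} [MulAction (S × S) X] {Q : Subgroup Ω}

/-- `γ` induces on `Q` the conjugation by `s` -/
def Induces (Q : Subgroup Ω) (γ : rightCentralizer S X) (s : S) : Prop :=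
  ∀ q : S, (q : Ω) ∈ Q → γ * leftHom S X q * γ⁻¹ = leftHom S X (s * q * s⁻¹)

theorem Induces.one : Induces Q (1 : rightCentralizer S X) (1 : S) := by
  intro q _
  simp

theorem Induces.mul (hQn : ∀ (s q : S), (q : Ω) ∈ Q → ((s * q * s⁻¹ : S) : Ω) ∈ Q)
    {γ γ' : rightCentralizer S X} {s s' : S} (h : Induces Q γ s) (h' : Induces Q γ' s') :
    Induces Q (γ * γ') (s * s') := by
  intro q hq
  have h1 := h' q hq
  have h2 := h _ (hQn s' q hq)
  have e : γ * γ' * leftHom S X q * (γ * γ')⁻¹ = γ * (γ' * leftHom S X q * γ'⁻¹) * γ⁻¹ := by group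
  rw [e, h1, h2]
  congr 1
  group

theorem Induces.inv (hQn : ∀ (s q : S), (q : Ω) ∈ Q → ((s * q * s⁻¹ : S) : Ω) ∈ Q)
    {γ : rightCentralizer S X} {s : S} (h : Induces Q γ s) : Induces Q γ⁻¹ s⁻¹ := by
  intro q hq
  have h1 := h _ (hQn s⁻¹ q hq)
  have e1 : s * (s⁻¹ * q * s⁻¹⁻¹) * s⁻¹ = q := by group
  rw [e1] at h1
  rw [← h1]
  group

theorem Induces.mem_normalizer (hQn : ∀ (s q : S), (q : Ω) ∈ Q → ((s * q * s⁻¹ : S) : Ω) ∈ Q)
    {γ : rightCentralizer S X} {s : S} (h : Induces Q γ s) : γ ∈ NQ S X Q := by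
  rw [Subgroup.mem_normalizer_iff]
  intro g
  constructor
  · intro hg
    obtain ⟨q, hq, rfl⟩ := mem_LQ.1 hg
    rw [h q hq]
    exact leftHom_mem_LQ (hQn s q hq)
  · intro hg
    obtain ⟨q, hq, hq2⟩ := mem_LQ.1 hg
    have h1 := (h.inv hQn) q hq
    rw [hq2] at h1
    have e : γ⁻¹ * (γ * g * γ⁻¹) * γ⁻¹⁻¹ = g := by group
    rw [e] at h1
    rw [h1]
    exact leftHom_mem_LQ (hQn s⁻¹ q hq)

/-- the elements of the normalizer inducing on `Q` conjugations by elements of `S` -/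
def N1 (hQn : ∀ (s q : S), (q : Ω) ∈ Q → ((s * q * s⁻¹ : S) : Ω) ∈ Q) : Subgroup (NQ S X Q) where
  carrier := {ν | ∃ s : S, Induces Q (ν : rightCentralizer S X) s}
  one_mem' := ⟨1, Induces.one⟩
  mul_mem' := by
    rintro a b ⟨s, hs⟩ ⟨s', hs'⟩
    exact ⟨s * s', hs.mul hQn hs'⟩
  inv_mem' := by
    rintro a ⟨s, hs⟩
    exact ⟨s⁻¹, hs.inv hQn⟩

theorem mem_N1 {hQn : ∀ (s q : S), (q : Ω) ∈ Q → ((s * q * s⁻¹ : S) : Ω) ∈ Q} {ν : NQ S X Q} :
    ν ∈ N1 (X := X) hQn ↔ ∃ s : S, Induces Q (ν : rightCentralizer S X) s := Iff.rfl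

/-- the self-map of the fixed points of the diagonal given by an element inducing conjugation by `s` -/
def wEquiv (hQn : ∀ (s q : S), (q : Ω) ∈ Q → ((s * q * s⁻¹ : S) : Ω) ∈ Q)
    {γ : rightCentralizer S X} {s : S} (h : Induces Q γ s) : WSet S X Q ≃ WSet S X Q where
  toFun w := ⟨(((1 : S), s) : S × S) • (γ • (w : X)), mapW hQn h w.2⟩
  invFun w := ⟨(((1 : S), s⁻¹) : S × S) • (γ⁻¹ • (w : X)), mapW hQn (h.inv hQn) w.2⟩
  left_inv w := by
    apply Subtype.ext
    show (((1 : S), s⁻¹) : S × S) • (γ⁻¹ • ((((1 : S), s) : S × S) • (γ • (w : X)))) = w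
    rw [gam_right, ← mul_smul, inv_smul_smul]
    have e : (((1 : S), s⁻¹) : S × S) * ((1 : S), s) = 1 := by simp
    rw [e, one_smul]
  right_inv w := by
    apply Subtype.ext
    show (((1 : S), s) : S × S) • (γ • ((((1 : S), s⁻¹) : S × S) • (γ⁻¹ • (w : X)))) = w
    rw [gam_right, ← mul_smul, smul_inv_smul]
    have e : (((1 : S), s) : S × S) * ((1 : S), s⁻¹) = 1 := by simp
    rw [e, one_smul]

theorem wEquiv_coe (hQn : ∀ (s q : S), (q : Ω) ∈ Q → ((s * q * s⁻¹ : S) : Ω) ∈ Q)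
    {γ : rightCentralizer S X} {s : S} (h : Induces Q γ s) (w : WSet S X Q) :
    ((wEquiv hQn h w : WSet S X Q) : X) = (((1 : S), s) : S × S) • (γ • (w : X)) := rfl

variable {F : FusionSystem S}

/-- the transfer is equivariant for the elements inducing conjugations by elements of `S` -/
theorem pi1_equivariant [Finite X] (hgr : ∀ x : X, IsGraph F (MulAction.stabilizer (S × S) x))
    (hQn : ∀ (s q : S), (q : Ω) ∈ Q → ((s * q * s⁻¹ : S) : Ω) ∈ Q)
    (ν : NQ S X Q) (hν : ν ∈ N1 (X := X) hQn) (c : CQ' S X Q) :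
    pi1 hgr (⟨ν * c * ν⁻¹, (inferInstance : (CQ' S X Q).Normal).conj_mem c c.2 ν⟩ : CQ' S X Q)
      = MulAut.conjNormal ν (pi1 hgr c) := by
  obtain ⟨s, hs⟩ := hν
  let θ : CQ' S X Q → CQ' S X Q := fun c =>
    ⟨ν * c * ν⁻¹, (inferInstance : (CQ' S X Q).Normal).conj_mem c c.2 ν⟩
  let τ : AQ' S X Q →* AQ' S X Q := (MulAut.conjNormal ν : MulAut (AQ' S X Q)).toMonoidHom
  have hτ : Function.Surjective τ := (MulAut.conjNormal ν : MulAut (AQ' S X Q)).surjective
  have hnat := trf_natural (G := CQ' S X Q) (T := AQ' S X Q) (X := WSet S X Q)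
    (G' := CQ' S X Q) (T' := AQ' S X Q) (X' := WSet S X Q) (AQ'_free hgr) (AQ'_free hgr)
    (wEquiv hQn hs) θ τ hτ
    (by
      intro g w
      apply Subtype.ext
      rw [wEquiv_coe, CQ'_smul_coe, CQ'_smul_coe, wEquiv_coe,
        gam_right (((θ g : CQ' S X Q) : NQ S X Q) : rightCentralizer S X), ← mul_smul, ← mul_smul]
      congr 2
      show (ν : rightCentralizer S X) * ((g : NQ S X Q) : rightCentralizer S X)
        = (ν : rightCentralizer S X) * ((g : NQ S X Q) : rightCentralizer S X)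
          * (ν : rightCentralizer S X)⁻¹ * (ν : rightCentralizer S X)
      group)
    (by
      intro t w
      apply Subtype.ext
      rw [wEquiv_coe, AQ'_smul_coe, AQ'_smul_coe, wEquiv_coe,
        gam_right (((τ t : AQ' S X Q) : NQ S X Q) : rightCentralizer S X), ← mul_smul, ← mul_smul]
      congr 2
      show (ν : rightCentralizer S X) * ((t : NQ S X Q) : rightCentralizer S X)
        = (ν : rightCentralizer S X) * ((t : NQ S X Q) : rightCentralizer S X)
          * (ν : rightCentralizer S X)⁻¹ * (ν : rightCentralizer S X)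
      group)
    (MonoidHom.id (AQ' S X Q)) c
  show trf (G := CQ' S X Q) (T := AQ' S X Q) (X := WSet S X Q) (AQ'_free hgr)
    (MonoidHom.id (AQ' S X Q)) (θ c) = _
  rw [hnat]
  have e : (MonoidHom.id (AQ' S X Q)).comp τ = τ.comp (MonoidHom.id (AQ' S X Q)) := rfl
  rw [e, trf_comp_hom]
  rfl

end ModelK4

end Cfsg.Agent.Helper85
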