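import Mathlib
import Cfsg.Agent.Lib.Helper85.ModelK4

set_option autoImplicit false

/-! # Counting the orbits of the centre of `Q` on the fixed points of the diagonal -/

namespace Cfsg.Agent.Helper85

open Cfsg Cfsg.FusionSystem Cfsg.Agent.Helper87 MulAction

universe u

section ModelK5

variable {Ω : Type u} [Group Ω] {S : Subgroup Ω} {X : Type u} [MulAction (S × S) X] {Q : Subgroup Ω}

attribute [local instance] rightAct

instance gam_smulComm : SMulCommClass (rightCentralizer S X) S X := ⟨fun γ t x => by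
  show γ • (((1 : S), t) • x) = ((1 : S), t) • (γ • x)
  exact gam_right γ t x⟩

variable (S X Q)

/-- the orbits of the right action meeting the fixed points of the diagonal of `Q` -/
def V1 : Set (Orb S X) := {v | ∃ w ∈ WSet S X Q, (Quotient.mk'' w : Orb S X) = v}

/-- the orbits of the right action fixed by the left action of `Q` -/
def Vfix : Set (Orb S X) := {v | ∀ q : S, (q : Ω) ∈ Q → orbMap S (leftHom S X q) v = v}

variable {S X Q}

theorem right_smul_def (t : S) (x : X) : t • x = (((1 : S), t) : S × S) • x := rfl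

theorem V1_subset_Vfix : V1 S X Q ⊆ Vfix S X Q := by
  rintro v ⟨w, hw, rfl⟩ q hq
  rw [orbMap_mk, left_smul, w_left hw hq, ← right_smul_def, mk_smul]

theorem Vfix_of_smul {ν : rightCentralizer S X} (hν : ν ∈ NQ S X Q) {v : Orb S X}
    (hv : orbMap S ν v ∈ Vfix S X Q) : v ∈ Vfix S X Q := by
  intro q hq
  have h1 : ν * leftHom S X q * ν⁻¹ ∈ LQ S X Q :=
    (Subgroup.mem_normalizer_iff.1 hν _).1 (leftHom_mem_LQ hq)
  obtain ⟨q', hq', hqq⟩ := mem_LQ.1 h1
  have h2 := hv q' hq'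
  rw [hqq, ← orbMap_mul] at h2
  have e : ν * leftHom S X q * ν⁻¹ * ν = ν * leftHom S X q := by group
  rw [e, orbMap_mul] at h2
  have h3 : orbMap S ν⁻¹ (orbMap S ν (orbMap S (leftHom S X q) v)) = orbMap S ν⁻¹ (orbMap S ν v) :=
    congrArg (orbMap S ν⁻¹) h2
  have h4 : ∀ u : Orb S X, orbMap S ν⁻¹ (orbMap S ν u) = u := fun u => by
    rw [← orbMap_mul, inv_mul_cancel, orbMap_one]
  rwa [h4, h4] at h3

variable {F : FusionSystem S}

/-- an element of the normalizer preserving one orbit in `V1` induces a conjugation -/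
theorem mem_N1_of_smul_mem_V1 (hgr : ∀ x : X, IsGraph F (MulAction.stabilizer (S × S) x))
    (hQn : ∀ (s q : S), (q : Ω) ∈ Q → ((s * q * s⁻¹ : S) : Ω) ∈ Q)
    {ν : NQ S X Q} {v : Orb S X} (hv : v ∈ V1 S X Q)
    (hνv : orbMap S (ν : rightCentralizer S X) v ∈ V1 S X Q) : ν ∈ N1 (X := X) hQn := by
  obtain ⟨w, hw, rfl⟩ := hv
  obtain ⟨w', hw', hww⟩ := hνv
  rw [orbMap_mk] at hww
  have h1 := Quotient.exact' hww
  rw [MulAction.orbitRel_apply] at h1
  obtain ⟨t, ht⟩ := h1
  -- ht : t • (ν • w) = w'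
  have ht' : (((1 : S), t) : S × S) • ((ν : rightCentralizer S X) • w) = w' := ht
  refine ⟨t, fun q hq => ?_⟩
  have h2 : (ν : rightCentralizer S X) * leftHom S X q * (ν : rightCentralizer S X)⁻¹ ∈ LQ S X Q :=
    (Subgroup.mem_normalizer_iff.1 ν.2 _).1 (leftHom_mem_LQ hq)
  obtain ⟨q', hq', hqq⟩ := mem_LQ.1 h2
  rw [← hqq]
  congr 1
  -- q' = t * q * t⁻¹
  have h3 := conj_smul hqq.symm w
  rw [w_left hw hq, gam_right] at h3
  -- h3 : (1, q⁻¹) • ν • w = (q', 1) • ν • w
  have h4 : (ν : rightCentralizer S X) • w = (((1 : S), t⁻¹) : S × S) • w' := by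
    rw [← ht', ← mul_smul]
    have e : (((1 : S), t⁻¹) : S × S) * ((1 : S), t) = 1 := by simp
    rw [e, one_smul]
  have e1 : ((q', (1 : S)) : S × S) * ((1 : S), t⁻¹) = ((1 : S), t⁻¹) * (q', (1 : S)) := by simp
  have h3' : ((((1 : S), q⁻¹) : S × S) * ((1 : S), t⁻¹)) • w'
      = ((((1 : S), t⁻¹) : S × S) * ((1 : S), q'⁻¹)) • w' := by
    calc ((((1 : S), q⁻¹) : S × S) * ((1 : S), t⁻¹)) • w'
        = (((1 : S), q⁻¹) : S × S) • ((ν : rightCentralizer S X) • w) := by rw [mul_smul, h4]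
      _ = ((q', (1 : S)) : S × S) • ((ν : rightCentralizer S X) • w) := h3
      _ = ((q', (1 : S)) : S × S) • ((((1 : S), t⁻¹) : S × S) • w') := by rw [h4]
      _ = (((1 : S), t⁻¹) : S × S) • (((q', (1 : S)) : S × S) • w') := by
          rw [← mul_smul, e1, mul_smul]
      _ = ((((1 : S), t⁻¹) : S × S) * ((1 : S), q'⁻¹)) • w' := by
          rw [w_left hw' hq', mul_smul]
  have h5 : (((1 : S), (t⁻¹ * q'⁻¹)⁻¹ * (q⁻¹ * t⁻¹)) : S × S) • w' = w' := by
    have e2 : (((1 : S), (t⁻¹ * q'⁻¹)⁻¹ * (q⁻¹ * t⁻¹)) : S × S)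
        = (((1 : S), t⁻¹) * ((1 : S), q'⁻¹))⁻¹ * (((1 : S), q⁻¹) * ((1 : S), t⁻¹)) := by simp
    rw [e2, mul_smul, h3', inv_smul_smul]
  have h6 := rightAct_free hgr _ _ h5
  have h7 : t⁻¹ * q'⁻¹ = q⁻¹ * t⁻¹ := by
    have := inv_mul_eq_one.1 h6
    exact this
  calc q' = (t⁻¹ * q'⁻¹)⁻¹ * t⁻¹ := by group
    _ = (q⁻¹ * t⁻¹)⁻¹ * t⁻¹ := by rw [h7]
    _ = t * q * t⁻¹ := by group

theorem smul_mem_V1_of_mem_N1 (hQn : ∀ (s q : S), (q : Ω) ∈ Q → ((s * q * s⁻¹ : S) : Ω) ∈ Q)
    {ν : NQ S X Q} (hν : ν ∈ N1 (X := X) hQn) {v : Orb S X} (hv : v ∈ V1 S X Q) :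
    orbMap S (ν : rightCentralizer S X) v ∈ V1 S X Q := by
  obtain ⟨w, hw, rfl⟩ := hv
  obtain ⟨s, hs⟩ := hν
  refine ⟨_, mapW hQn hs hw, ?_⟩
  rw [orbMap_mk, ← right_smul_def, mk_smul]

/-- the element of `AQ'` given by an element of `Q` centralizing `Q` -/
theorem leftHom_mem_centralizer {t : S} (htc : ∀ q : S, (q : Ω) ∈ Q → t * q = q * t) :
    leftHom S X t ∈ Subgroup.centralizer (LQ S X Q : Set (rightCentralizer S X)) := by
  rw [Subgroup.mem_centralizer_iff]
  intro h hh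
  obtain ⟨q, hq, rfl⟩ := mem_LQ.1 hh
  rw [← map_mul, ← map_mul, htc q hq]

theorem card_V1 [Finite X] (hgr : ∀ x : X, IsGraph F (MulAction.stabilizer (S × S) x))
    (hQc : ∀ t : S, (∀ q : S, (q : Ω) ∈ Q → t * q = q * t) → (t : Ω) ∈ Q) :
    Nat.card (V1 S X Q) = Fintype.card (Orb (AQ' S X Q) (WSet S X Q)) := by
  rw [← Nat.card_eq_fintype_card]
  symm
  let f : Orb (AQ' S X Q) (WSet S X Q) → V1 S X Q :=
    Quotient.lift (fun w : WSet S X Q => (⟨(Quotient.mk'' (w : X) : Orb S X), ⟨w, w.2, rfl⟩⟩ : V1 S X Q))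
      (by
        intro w₁ w₂ h
        have h' : w₁ ∈ MulAction.orbit (AQ' S X Q) w₂ := h
        obtain ⟨a, ha⟩ := h'
        apply Subtype.ext
        show (Quotient.mk'' (w₁ : X) : Orb S X) = Quotient.mk'' (w₂ : X)
        have h1 : ((a : NQ S X Q) : rightCentralizer S X) • (w₂ : X) = w₁ := congrArg Subtype.val ha
        obtain ⟨q, hq, hqa⟩ := mem_LQ.1 (mem_AQ'.1 a.2).1
        rw [← hqa, left_smul, w_left w₂.2 hq, ← right_smul_def] at h1
        rw [← h1, mk_smul])
  have hf : ∀ w : WSet S X Q, f (Quotient.mk'' w) = ⟨(Quotient.mk'' (w : X) : Orb S X), ⟨w, w.2, rfl⟩⟩ :=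
    fun _ => rfl
  apply Nat.card_congr (Equiv.ofBijective f ⟨?_, ?_⟩)
  · intro i j
    induction i using Quotient.inductionOn' with
    | h w₁ =>
      induction j using Quotient.inductionOn' with
      | h w₂ =>
        intro h
        rw [hf, hf] at h
        have h1 : (Quotient.mk'' (w₁ : X) : Orb S X) = Quotient.mk'' (w₂ : X) := congrArg Subtype.val h
        have h2 := Quotient.exact' h1
        rw [MulAction.orbitRel_apply] at h2
        obtain ⟨t, ht⟩ := h2
        have ht' : (((1 : S), t) : S × S) • (w₂ : X) = w₁ := ht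
        -- t centralizes Q
        have htc : ∀ q : S, (q : Ω) ∈ Q → t * q = q * t := by
          intro q hq
          have e1 : ((q, (1 : S)) : S × S) * ((1 : S), t) = ((1 : S), t) * (q, (1 : S)) := by simp
          have h3 : ((((1 : S), q⁻¹) : S × S) * ((1 : S), t)) • (w₂ : X)
              = ((((1 : S), t) : S × S) * ((1 : S), q⁻¹)) • (w₂ : X) := by
            calc ((((1 : S), q⁻¹) : S × S) * ((1 : S), t)) • (w₂ : X)
                = (((1 : S), q⁻¹) : S × S) • (w₁ : X) := by rw [mul_smul, ht']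
              _ = ((q, (1 : S)) : S × S) • (w₁ : X) := (w_left w₁.2 hq).symm
              _ = ((q, (1 : S)) : S × S) • ((((1 : S), t) : S × S) • (w₂ : X)) := by rw [ht']
              _ = (((1 : S), t) : S × S) • (((q, (1 : S)) : S × S) • (w₂ : X)) := by
                  rw [← mul_smul, e1, mul_smul]
              _ = ((((1 : S), t) : S × S) * ((1 : S), q⁻¹)) • (w₂ : X) := by
                  rw [w_left w₂.2 hq, mul_smul]
          have h5 : (((1 : S), (t * q⁻¹)⁻¹ * (q⁻¹ * t)) : S × S) • (w₂ : X) = w₂ := by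
            have e2 : (((1 : S), (t * q⁻¹)⁻¹ * (q⁻¹ * t)) : S × S)
                = (((1 : S), t) * ((1 : S), q⁻¹))⁻¹ * (((1 : S), q⁻¹) * ((1 : S), t)) := by simp
            rw [e2, mul_smul, h3, inv_smul_smul]
          have h6 := rightAct_free hgr _ _ h5
          have h7 : t * q⁻¹ = q⁻¹ * t := inv_mul_eq_one.1 h6
          calc t * q = q * (q⁻¹ * t) * q := by group
            _ = q * (t * q⁻¹) * q := by rw [h7]
            _ = q * t := by group
        have htQ : (t : Ω) ∈ Q := hQc t htc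
        have htc' : ∀ q : S, (q : Ω) ∈ Q → t⁻¹ * q = q * t⁻¹ := by
          intro q hq
          have := htc q hq
          calc t⁻¹ * q = t⁻¹ * (q * t) * t⁻¹ := by group
            _ = t⁻¹ * (t * q) * t⁻¹ := by rw [this]
            _ = q * t⁻¹ := by group
        have htQ' : ((t⁻¹ : S) : Ω) ∈ Q := by
          rw [Subgroup.coe_inv]; exact Q.inv_mem htQ
        have hmemL : leftHom S X t⁻¹ ∈ LQ S X Q := leftHom_mem_LQ htQ'
        let a : AQ' S X Q := ⟨⟨leftHom S X t⁻¹, Subgroup.le_normalizer hmemL⟩,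
          mem_AQ'.2 ⟨hmemL, leftHom_mem_centralizer htc'⟩⟩
        apply Quotient.sound'
        rw [MulAction.orbitRel_apply]
        refine ⟨a, ?_⟩
        apply Subtype.ext
        show leftHom S X t⁻¹ • (w₂ : X) = w₁
        rw [left_smul, w_left w₂.2 htQ', inv_inv, ht']
  · rintro ⟨v, w, hw, rfl⟩
    exact ⟨Quotient.mk'' ⟨w, hw⟩, rfl⟩

/-- every orbit fixed by `Q` is carried into `V1` by an element of the normalizer -/
theorem exists_smul_mem_V1 [Finite S] [Finite X]
    (hgr : ∀ x : X, IsGraph F (MulAction.stabilizer (S × S) x))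
    (hst : ∀ K K' : Subgroup (S × S), IsGraph F K → IsGraph F K' → F.IsConj (dom K) (dom K') →
      (fixSet K : Set X).ncard = (fixSet K' : Set X).ncard)
    (hsc : F.StronglyClosed Q) {v : Orb S X} (hv : v ∈ Vfix S X Q) :
    ∃ ν : NQ S X Q, orbMap S (ν : rightCentralizer S X) v ∈ V1 S X Q := by
  have hQS : Q ≤ S := hsc.1
  induction v using Quotient.inductionOn' with
  | h y =>
    obtain ⟨D, f, hf, hmem⟩ := hgr y
    -- the stabilizer contains the graph over `Q`
    have hstab : ∀ q : S, (q : Ω) ∈ Q → ∃ b : S, ((q, b) : S × S) • y = y := by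
      intro q hq
      have h1 := hv q hq
      rw [orbMap_mk] at h1
      have h2 := Quotient.exact' h1
      rw [MulAction.orbitRel_apply] at h2
      obtain ⟨t, ht⟩ := h2
      have ht' : (((1 : S), t) : S × S) • y = leftHom S X q • y := ht
      rw [left_smul] at ht'
      refine ⟨t⁻¹, ?_⟩
      have e : ((q, t⁻¹) : S × S) = ((1 : S), t⁻¹) * (q, (1 : S)) := by simp
      rw [e, mul_smul, ← ht', ← mul_smul]
      have e2 : (((1 : S), t⁻¹) : S × S) * ((1 : S), t) = 1 := by simp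
      rw [e2, one_smul]
    have hQD : Q ≤ D := by
      intro x hx
      obtain ⟨b, hb⟩ := hstab ⟨x, hQS hx⟩ hx
      exact ((hmem _ _).1 hb).1
    have hfQ : Mor F Q f := hf.restrict hQD
    obtain ⟨φ, hφF, hφf⟩ := hfQ
    have hφS : ∀ x : Q, φ x ∈ S := fun x => (F.le_of_mem hφF).2 x
    have hφQ : ∀ x : Q, φ x ∈ Q := fun x => hsc.2 Q le_rfl φ hφF x
    haveI : Finite Q := Finite.of_injective (Subgroup.inclusion hQS) (Subgroup.inclusion_injective hQS)
    have hφsurj : ∀ q : Q, ∃ u : Q, φ u = q := by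
      let ψ : Q → Q := fun x => ⟨φ x, hφQ x⟩
      have hinj : Function.Injective ψ := by
        intro a b hab
        exact F.injective_of_mem hφF (congrArg Subtype.val hab)
      have hsurj := Finite.injective_iff_surjective.1 hinj
      intro q
      obtain ⟨u, hu⟩ := hsurj q
      exact ⟨u, congrArg Subtype.val hu⟩
    obtain ⟨ε, hε⟩ := exists_intertwiner hgr hst hQS hφF hφS
    have hεN : ε ∈ NQ S X Q := by
      rw [Subgroup.mem_normalizer_iff]
      intro g
      constructor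
      · intro hg
        obtain ⟨q, hq, rfl⟩ := mem_LQ.1 hg
        have := hε ⟨q, hq⟩
        rw [← this]
        exact leftHom_mem_LQ (hφQ _)
      · intro hg
        obtain ⟨q', hq', hqq⟩ := mem_LQ.1 hg
        obtain ⟨u, hu⟩ := hφsurj ⟨q', hq'⟩
        have h1 := hε u
        have h2 : (⟨φ u, hφS u⟩ : S) = q' := Subtype.ext hu
        rw [h2, hqq] at h1
        have h3 : g = leftHom S X ⟨u, hQS u.2⟩ := by
          calc g = ε⁻¹ * (ε * g * ε⁻¹) * ε := by group
            _ = ε⁻¹ * (ε * leftHom S X ⟨u, hQS u.2⟩ * ε⁻¹) * ε := by rw [h1]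
            _ = _ := by group
        rw [h3]
        exact leftHom_mem_LQ u.2
    refine ⟨⟨ε, hεN⟩, ε • y, ?_, ?_⟩
    · apply mem_WSet_of
      intro q hq
      obtain ⟨u, hu⟩ := hφsurj ⟨q, hq⟩
      have h1 := hε u
      have h2 : (⟨φ u, hφS u⟩ : S) = q := Subtype.ext hu
      rw [h2] at h1
      have h3 := conj_smul h1.symm y
      rw [← h3]
      -- (u, q) stabilizes y
      have h4 : (((⟨u, hQS u.2⟩ : S), q) : S × S) ∈ MulAction.stabilizer (S × S) y := by
        rw [hmem]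
        refine ⟨hQD u.2, ?_⟩
        rw [← hφf u, hu]
      have h5 : (((⟨u, hQS u.2⟩ : S), q) : S × S) • y = y := h4
      have e : (((⟨u, hQS u.2⟩ : S), (1 : S)) : S × S) = ((1 : S), q⁻¹) * ((⟨u, hQS u.2⟩ : S), q) := by simp
      rw [e, mul_smul, h5, gam_right]
    · rw [orbMap_mk]

end ModelK5

end Cfsg.Agent.Helper85
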