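import Mathlib
import Cfsg.Agent.Lib.Helper85.ModelK5

set_option autoImplicit false

/-! # The number of orbits of the centre of `Q` on the fixed points of the diagonal is prime to `p` -/

namespace Cfsg.Agent.Helper85

open Cfsg Cfsg.FusionSystem Cfsg.Agent.Helper87 MulAction

universe u

section ModelK6

variable {Ω : Type u} [Group Ω] {S : Subgroup Ω} {X : Type u} [MulAction (S × S) X] {Q : Subgroup Ω}
  {F : FusionSystem S}

attribute [local instance] rightAct

theorem card_orb_right [Finite S] [Finite X]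
    (hgr : ∀ x : X, IsGraph F (MulAction.stabilizer (S × S) x)) {k : ℕ}
    (hk : Nat.card X = Nat.card S * k) : Nat.card (Orb S X) = k := by
  have hfree : ∀ (t : S) (x : X), t • x = x → t = 1 := fun t x h => rightAct_free hgr t x h
  have h1 := Nat.card_congr (orbEquiv (T := S) (X := X) hfree)
  rw [Nat.card_prod, hk, mul_comm] at h1
  have hpos : 0 < Nat.card S := Nat.card_pos
  exact (Nat.eq_of_mul_eq_mul_right hpos h1).symm

theorem card_Vfix_modEq [Finite S] [Finite X] {p : ℕ} [Fact p.Prime] (hS : IsPGroup p S)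
    (hgr : ∀ x : X, IsGraph F (MulAction.stabilizer (S × S) x)) {k : ℕ}
    (hk : Nat.card X = Nat.card S * k) : Nat.card (Vfix S X Q) ≡ k [MOD p] := by
  letI actΓ : MulAction (rightCentralizer S X) (Orb S X) :=
    { smul := orbMap S, one_smul := orbMap_one, mul_smul := orbMap_mul }
  letI actQ : MulAction (Q.subgroupOf S) (Orb S X) :=
    MulAction.compHom (Orb S X) ((leftHom S X).comp (Q.subgroupOf S).subtype)
  have hp : IsPGroup p (Q.subgroupOf S) := hS.to_subgroup _
  have h1 := hp.card_modEq_card_fixedPoints (Orb S X)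
  rw [card_orb_right hgr hk] at h1
  have h2 : (MulAction.fixedPoints (Q.subgroupOf S) (Orb S X) : Set (Orb S X)) = Vfix S X Q := by
    ext v
    constructor
    · intro hv q hq
      exact hv ⟨q, Subgroup.mem_subgroupOf.2 hq⟩
    · intro hv g
      exact hv g.1 (Subgroup.mem_subgroupOf.1 g.2)
  rw [h2] at h1
  exact h1.symm

/-- the double counting -/
theorem card_mul_card_V1 [Finite S] [Finite X]
    (hgr : ∀ x : X, IsGraph F (MulAction.stabilizer (S × S) x))
    (hst : ∀ K K' : Subgroup (S × S), IsGraph F K → IsGraph F K' → F.IsConj (dom K) (dom K') →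
      (fixSet K : Set X).ncard = (fixSet K' : Set X).ncard)
    (hsc : F.StronglyClosed Q)
    (hQn : ∀ (s q : S), (q : Ω) ∈ Q → ((s * q * s⁻¹ : S) : Ω) ∈ Q) :
    Nat.card (NQ S X Q) * Nat.card (V1 S X Q) = Nat.card (Vfix S X Q) * Nat.card (N1 (X := X) hQn) := by
  classical
  haveI : Fintype (NQ S X Q) := Fintype.ofFinite _
  haveI : Fintype (Orb S X) := Fintype.ofFinite _
  let r : NQ S X Q → Orb S X → Prop := fun ν v => orbMap S (ν : rightCentralizer S X) v ∈ V1 S X Q
  -- first count
  have c1 : Nat.card {x : NQ S X Q × Orb S X // r x.1 x.2} = Nat.card (NQ S X Q) * Nat.card (V1 S X Q) := by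
    rw [Nat.card_congr (Equiv.subtypeProdEquivSigmaSubtype r), Nat.card_sigma]
    have h : ∀ ν : NQ S X Q, Nat.card {v : Orb S X // r ν v} = Nat.card (V1 S X Q) := by
      intro ν
      apply Nat.card_congr
      exact (orbPerm S (ν : rightCentralizer S X)).subtypeEquiv (fun v => Iff.rfl)
    simp_rw [h]
    rw [Finset.sum_const, Finset.card_univ, smul_eq_mul, ← Nat.card_eq_fintype_card]
  -- second count
  have c2 : Nat.card {x : NQ S X Q × Orb S X // r x.1 x.2}
      = Nat.card (Vfix S X Q) * Nat.card (N1 (X := X) hQn) := by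
    have e : {x : NQ S X Q × Orb S X // r x.1 x.2} ≃ {x : Orb S X × NQ S X Q // r x.2 x.1} :=
      (Equiv.prodComm _ _).subtypeEquiv (fun x => Iff.rfl)
    rw [Nat.card_congr e, Nat.card_congr (Equiv.subtypeProdEquivSigmaSubtype (fun v ν => r ν v)),
      Nat.card_sigma]
    have h : ∀ v : Orb S X, Nat.card {ν : NQ S X Q // r ν v}
        = if v ∈ Vfix S X Q then Nat.card (N1 (X := X) hQn) else 0 := by
      intro v
      by_cases hv : v ∈ Vfix S X Q
      · rw [if_pos hv]
        obtain ⟨ν₀, hν₀⟩ := exists_smul_mem_V1 hgr hst hsc hv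
        apply Nat.card_congr
        refine (Equiv.mulRight ν₀⁻¹).subtypeEquiv (fun ν => ?_)
        show orbMap S (ν : rightCentralizer S X) v ∈ V1 S X Q ↔ ν * ν₀⁻¹ ∈ N1 (X := X) hQn
        have e1 : orbMap S (ν : rightCentralizer S X) v
            = orbMap S ((ν * ν₀⁻¹ : NQ S X Q) : rightCentralizer S X)
              (orbMap S (ν₀ : rightCentralizer S X) v) := by
          rw [← orbMap_mul]
          congr 1
          show (ν : rightCentralizer S X) = (ν : rightCentralizer S X) * (ν₀ : rightCentralizer S X)⁻¹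
            * (ν₀ : rightCentralizer S X)
          group
        rw [e1]
        constructor
        · intro h
          exact mem_N1_of_smul_mem_V1 hgr hQn hν₀ h
        · intro h
          exact smul_mem_V1_of_mem_N1 hQn h hν₀
      · rw [if_neg hv]
        haveI : IsEmpty {ν : NQ S X Q // r ν v} := ⟨fun ν =>
          hv (Vfix_of_smul ν.1.2 (V1_subset_Vfix ν.2))⟩
        exact Nat.card_of_isEmpty
    simp_rw [h]
    rw [Finset.sum_ite, Finset.sum_const_zero, add_zero, Finset.sum_const, smul_eq_mul]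
    congr 1
    rw [Nat.card_eq_fintype_card, Fintype.card_subtype]
  rw [← c1, c2]

/-- the exponent of the averaged transfer is prime to `p` -/
theorem not_dvd_card_orb_mul_index [Finite S] [Finite X] {p : ℕ} [Fact p.Prime] (hS : IsPGroup p S)
    (hgr : ∀ x : X, IsGraph F (MulAction.stabilizer (S × S) x))
    (hst : ∀ K K' : Subgroup (S × S), IsGraph F K → IsGraph F K' → F.IsConj (dom K) (dom K') →
      (fixSet K : Set X).ncard = (fixSet K' : Set X).ncard)
    {k : ℕ} (hk : Nat.card X = Nat.card S * k) (hpk : ¬ p ∣ k)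
    (hsc : F.StronglyClosed Q)
    (hQn : ∀ (s q : S), (q : Ω) ∈ Q → ((s * q * s⁻¹ : S) : Ω) ∈ Q)
    (hQc : ∀ t : S, (∀ q : S, (q : Ω) ∈ Q → t * q = q * t) → (t : Ω) ∈ Q) :
    ¬ p ∣ Fintype.card (Orb (AQ' S X Q) (WSet S X Q)) * (N1 (X := X) hQn).index := by
  have h1 := card_mul_card_V1 hgr hst hsc hQn
  rw [card_V1 hgr hQc, ← Subgroup.index_mul_card (N1 (X := X) hQn)] at h1
  have hpos : 0 < Nat.card (N1 (X := X) hQn) := Nat.card_pos
  have h2 : (N1 (X := X) hQn).index * Fintype.card (Orb (AQ' S X Q) (WSet S X Q)) = Nat.card (Vfix S X Q) := by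
    apply Nat.eq_of_mul_eq_mul_right hpos
    rw [← h1]
    ring
  have h3 := card_Vfix_modEq (Q := Q) hS hgr hk
  rw [mul_comm, h2]
  intro hdvd
  apply hpk
  exact (Nat.modEq_zero_iff_dvd.1 (h3.symm.trans (Nat.modEq_zero_iff_dvd.2 hdvd)))

end ModelK6

end Cfsg.Agent.Helper85
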