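import Mathlib
import Cfsg.Agent.Lib.Helper85.ModelK6
import Cfsg.Agent.Lib.Helper84.FusNormal

set_option autoImplicit false

/-! # A complement to the centre of `Q` in the centralizer of `Q`, invariant under the normalizer -/

namespace Cfsg.Agent.Helper85

open Cfsg Cfsg.FusionSystem Cfsg.Agent.Helper87 MulAction

universe u

section ModelK7

variable {Ω : Type u} [Group Ω] {S : Subgroup Ω} {X : Type u} [MulAction (S × S) X] {Q : Subgroup Ω}
  {F : FusionSystem S}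

theorem isPGroup_AQ' {p : ℕ} (hS : IsPGroup p S) : IsPGroup p (AQ' S X Q) := by
  have h1 : IsPGroup p (LQ S X Q) := (hS.to_subgroup (Q.subgroupOf S)).map (leftHom S X)
  have h2 : IsPGroup p (LQ' S X Q) := h1.comap_subtype
  exact h2.to_le (fun _ ha => (Subgroup.mem_inf.1 ha).1)

/-- the complement, inside the normalizer -/
theorem exists_complement_in_normalizer [Finite S] [Finite X] {p : ℕ} [Fact p.Prime] (hS : IsPGroup p S)
    (hgr : ∀ x : X, IsGraph F (MulAction.stabilizer (S × S) x))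
    (hst : ∀ K K' : Subgroup (S × S), IsGraph F K → IsGraph F K' → F.IsConj (dom K) (dom K') →
      (fixSet K : Set X).ncard = (fixSet K' : Set X).ncard)
    {k : ℕ} (hk : Nat.card X = Nat.card S * k) (hpk : ¬ p ∣ k)
    (hQn : F.IsNormal Q) (hQc : F.IsCentric Q) :
    ∃ K : Subgroup (NQ S X Q), K.Normal ∧ K ≤ CQ' S X Q ∧ K ⊓ LQ' S X Q = ⊥ ∧
      CQ' S X Q ≤ AQ' S X Q ⊔ K := by
  classical
  have hsc : F.StronglyClosed Q := Cfsg.Agent.Helper84.stronglyClosed_of_normal F hQn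
  have hQS : Q ≤ S := hsc.1
  have hnorm := Cfsg.Agent.Helper84.stronglyClosed_normal F hsc
  have hQnS : ∀ (s q : S), (q : Ω) ∈ Q → ((s * q * s⁻¹ : S) : Ω) ∈ Q := by
    intro s q hq
    have := (Subgroup.mem_normalizer_iff.1 (hnorm s.2) (q : Ω)).1 hq
    simpa using this
  have hQcS : ∀ t : S, (∀ q : S, (q : Ω) ∈ Q → t * q = q * t) → (t : Ω) ∈ Q := by
    intro t ht
    apply hQc.2 Q (isConj_refl hQS)
    refine ⟨t.2, ?_⟩
    show (t : Ω) ∈ Subgroup.centralizer (Q : Set Ω)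
    rw [Subgroup.mem_centralizer_iff]
    intro h hh
    have := ht ⟨h, hQS hh⟩ hh
    have h2 := congrArg (Subtype.val : S → Ω) this
    exact h2.symm
  set n₁ := Fintype.card (Orb (AQ' S X Q) (WSet S X Q)) with hn₁
  set r := (N1 (X := X) hQnS).index with hr
  have hm : ¬ p ∣ n₁ * r := not_dvd_card_orb_mul_index hS hgr hst hk hpk hsc hQnS hQcS
  haveI : Finite (rightCentralizer S X) := inferInstance
  haveI : Finite (NQ S X Q) := inferInstance
  haveI : Finite (NQ S X Q ⧸ N1 (X := X) hQnS) := inferInstance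
  obtain ⟨π, hπ1, hπ2⟩ := exists_average (N1 (X := X) hQnS) (CQ' S X Q)
    (MulAut.conjNormal (H := AQ' S X Q)) (pi1 hgr) (pi1_equivariant hgr hQnS)
  -- the values on `AQ'`
  have hπA : ∀ a : AQ' S X Q, π ⟨a, AQ'_le_CQ' a.2⟩ = a ^ (n₁ * r) := by
    intro a
    rw [hπ2 ⟨a, AQ'_le_CQ' a.2⟩, pi1_central hgr a, ← pow_mul]
    intro ν
    have hmem : ν⁻¹ * (a : NQ S X Q) * ν ∈ AQ' S X Q := by
      have := (inferInstance : (AQ' S X Q).Normal).conj_mem a a.2 ν⁻¹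
      rwa [inv_inv] at this
    have e1 : MulAut.conjNormal ν⁻¹ a = (⟨ν⁻¹ * (a : NQ S X Q) * ν, hmem⟩ : AQ' S X Q) := by
      apply Subtype.ext
      rw [MulAut.conjNormal_apply, inv_inv]
    have h1 := pi1_central hgr (⟨ν⁻¹ * (a : NQ S X Q) * ν, hmem⟩ : AQ' S X Q)
    show pi1 hgr ⟨ν⁻¹ * (a : NQ S X Q) * ν, _⟩ = MulAut.conjNormal ν⁻¹ (pi1 hgr ⟨a, AQ'_le_CQ' a.2⟩)
    rw [pi1_central hgr a, map_pow, e1]
    exact h1
  have hA : IsPGroup p (AQ' S X Q) := isPGroup_AQ' hS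
  have hcop : (Nat.card (AQ' S X Q)).Coprime (n₁ * r) := by
    obtain ⟨e, he⟩ := IsPGroup.iff_card.1 hA
    rw [he]
    apply Nat.Coprime.pow_left
    exact (Nat.Prime.coprime_iff_not_dvd Fact.out).2 hm
  refine ⟨π.ker.map (CQ' S X Q).subtype, ?_, ?_, ?_, ?_⟩
  · -- normal
    refine ⟨fun x hx ν => ?_⟩
    obtain ⟨c, hc, rfl⟩ := Subgroup.mem_map.1 hx
    refine Subgroup.mem_map.2 ⟨⟨ν * c * ν⁻¹, (inferInstance : (CQ' S X Q).Normal).conj_mem c c.2 ν⟩, ?_, rfl⟩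
    rw [MonoidHom.mem_ker] at hc ⊢
    rw [hπ1 ν c, hc, map_one]
  · exact Subgroup.map_subtype_le _
  · rw [eq_bot_iff]
    intro x hx
    obtain ⟨hxK, hxL⟩ := Subgroup.mem_inf.1 hx
    obtain ⟨c, hc, rfl⟩ := Subgroup.mem_map.1 hxK
    have hcA : (c : NQ S X Q) ∈ AQ' S X Q := Subgroup.mem_inf.2 ⟨hxL, c.2⟩
    have h1 : π c = (⟨c, hcA⟩ : AQ' S X Q) ^ (n₁ * r) := hπA ⟨c, hcA⟩
    rw [MonoidHom.mem_ker.1 hc] at h1
    -- (c : AQ') ^ (n₁ * r) = 1, so c = 1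
    have h3 : (⟨c, hcA⟩ : AQ' S X Q) = 1 := by
      have h4 : powCoprime hcop (⟨c, hcA⟩ : AQ' S X Q) = powCoprime hcop 1 := by
        show (⟨c, hcA⟩ : AQ' S X Q) ^ (n₁ * r) = 1 ^ (n₁ * r)
        rw [← h1, one_pow]
      exact (powCoprime hcop).injective h4
    rw [Subgroup.mem_bot]
    exact congrArg (Subtype.val : AQ' S X Q → NQ S X Q) h3
  · intro x hx
    set b : AQ' S X Q := π ⟨x, hx⟩ with hb
    set a : AQ' S X Q := (powCoprime hcop).symm b with ha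
    have hab : a ^ (n₁ * r) = b := (powCoprime hcop).apply_symm_apply b
    let ca : CQ' S X Q := ⟨a, AQ'_le_CQ' a.2⟩
    let cx : CQ' S X Q := ⟨x, hx⟩
    have h1 : π (ca⁻¹ * cx) = 1 := by
      rw [map_mul, map_inv]
      show (π ⟨a, AQ'_le_CQ' a.2⟩)⁻¹ * π ⟨x, hx⟩ = 1
      rw [hπA a, hab, hb, inv_mul_cancel]
    have h2 : (a : NQ S X Q)⁻¹ * x ∈ π.ker.map (CQ' S X Q).subtype := by
      refine Subgroup.mem_map.2 ⟨ca⁻¹ * cx, MonoidHom.mem_ker.2 h1, ?_⟩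
      rfl
    have e : x = (a : NQ S X Q) * ((a : NQ S X Q)⁻¹ * x) := by group
    rw [e]
    exact Subgroup.mul_mem_sup a.2 h2

end ModelK7

end Cfsg.Agent.Helper85
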