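import Mathlib
import Cfsg.Agent.Lib.Helper85.ModelK7

set_option autoImplicit false

/-! # The complement of the centre of `Q` in the centralizer of `Q`, in lattice form inside the right centralizer -/

namespace Cfsg.Agent.Helper85

open Cfsg Cfsg.FusionSystem Cfsg.Agent.Helper87 MulAction

universe u

section ModelK8

variable {Ω : Type u} [Group Ω] {S : Subgroup Ω} {X : Type u} [MulAction (S × S) X] {Q : Subgroup Ω}
  {F : FusionSystem S}

/-- **(K)**: in the right centralizer of a characteristic biset, the image of the centre of a normal centric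
subgroup `Q` has a complement in the centralizer of the image of `Q`, normalized by the normalizer of that image -/
theorem exists_model_complement [Finite S] [Finite X] {p : ℕ} [Fact p.Prime] (hS : IsPGroup p S)
    (hgr : ∀ x : X, IsGraph F (MulAction.stabilizer (S × S) x))
    (hst : ∀ K K' : Subgroup (S × S), IsGraph F K → IsGraph F K' → F.IsConj (dom K) (dom K') →
      (fixSet K : Set X).ncard = (fixSet K' : Set X).ncard)
    {k : ℕ} (hk : Nat.card X = Nat.card S * k) (hpk : ¬ p ∣ k)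
    (hQn : F.IsNormal Q) (hQc : F.IsCentric Q) :
    ∃ K : Subgroup (rightCentralizer S X),
      K ≤ Subgroup.centralizer (((Q.subgroupOf S).map (leftHom S X) :
        Subgroup (rightCentralizer S X)) : Set (rightCentralizer S X)) ∧
      Subgroup.normalizer (((Q.subgroupOf S).map (leftHom S X) :
        Subgroup (rightCentralizer S X)) : Set (rightCentralizer S X))
          ≤ Subgroup.normalizer (K : Set (rightCentralizer S X)) ∧
      K ⊓ (Q.subgroupOf S).map (leftHom S X) = ⊥ ∧
      Subgroup.centralizer (((Q.subgroupOf S).map (leftHom S X) :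
        Subgroup (rightCentralizer S X)) : Set (rightCentralizer S X))
        ≤ ((Q.subgroupOf S).map (leftHom S X) ⊓ Subgroup.centralizer (((Q.subgroupOf S).map
          (leftHom S X) : Subgroup (rightCentralizer S X)) : Set (rightCentralizer S X))) ⊔ K := by
  obtain ⟨K, hKn, hKC, hKL, hCK⟩ := exists_complement_in_normalizer hS hgr hst hk hpk hQn hQc
  show ∃ K : Subgroup (rightCentralizer S X),
      K ≤ Subgroup.centralizer (LQ S X Q : Set (rightCentralizer S X)) ∧
      NQ S X Q ≤ Subgroup.normalizer (K : Set (rightCentralizer S X)) ∧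
      K ⊓ LQ S X Q = ⊥ ∧
      Subgroup.centralizer (LQ S X Q : Set (rightCentralizer S X))
        ≤ (LQ S X Q ⊓ Subgroup.centralizer (LQ S X Q : Set (rightCentralizer S X))) ⊔ K
  have hconj : ∀ ν ∈ NQ S X Q, ∀ g ∈ K.map (NQ S X Q).subtype,
      ν * g * ν⁻¹ ∈ K.map (NQ S X Q).subtype := by
    rintro ν hν g ⟨x, hx, rfl⟩
    exact ⟨⟨ν, hν⟩ * x * ⟨ν, hν⟩⁻¹, hKn.conj_mem x hx ⟨ν, hν⟩, rfl⟩
  refine ⟨K.map (NQ S X Q).subtype, ?_, ?_, ?_, ?_⟩
  · rintro g ⟨x, hx, rfl⟩
    exact Subgroup.mem_subgroupOf.1 (hKC hx)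
  · intro ν hν
    rw [Subgroup.mem_normalizer_iff]
    intro g
    constructor
    · exact hconj ν hν g
    · intro hg
      have h1 := hconj ν⁻¹ ((NQ S X Q).inv_mem hν) _ hg
      have e : ν⁻¹ * (ν * g * ν⁻¹) * ν⁻¹⁻¹ = g := by group
      rwa [e] at h1
  · rw [eq_bot_iff]
    rintro g ⟨⟨x, hx, rfl⟩, hgL⟩
    have h1 : x ∈ K ⊓ LQ' S X Q := ⟨hx, Subgroup.mem_subgroupOf.2 hgL⟩
    rw [hKL, Subgroup.mem_bot] at h1
    rw [Subgroup.mem_bot, h1]
    rfl
  · intro c hc
    have hcN : c ∈ NQ S X Q := Subgroup.centralizer_le_normalizer _ hc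
    have h1 : (⟨c, hcN⟩ : NQ S X Q) ∈ AQ' S X Q ⊔ K := hCK (Subgroup.mem_subgroupOf.2 hc)
    have h2 : c ∈ (AQ' S X Q ⊔ K).map (NQ S X Q).subtype := ⟨⟨c, hcN⟩, h1, rfl⟩
    rw [Subgroup.map_sup] at h2
    have h3 : (AQ' S X Q).map (NQ S X Q).subtype
        ≤ LQ S X Q ⊓ Subgroup.centralizer (LQ S X Q : Set (rightCentralizer S X)) := by
      rintro g ⟨a, ha, rfl⟩
      exact Subgroup.mem_inf.2 (mem_AQ'.1 ha)
    exact (sup_le_sup_right h3 (K.map (NQ S X Q).subtype)) h2

end ModelK8

end Cfsg.Agent.Helper85
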