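import Mathlib
import Cfsg.Agent.Lib.Helper85.Trans1

set_option autoImplicit false

/-! # The transfer on involutions; divisibility lemmas for group actions -/

namespace Cfsg.Agent.Helper85

open MulAction

section Div

/-- if every stabilizer has index divisible by `d`, the cardinality of the set is divisible by `d` -/
theorem dvd_card_of_dvd_index {G W : Type*} [Group G] [Finite G] [MulAction G W] [Finite W] (d : ℕ)
    (h : ∀ w : W, d ∣ (MulAction.stabilizer G w).index) : d ∣ Nat.card W := by
  classical
  haveI : Fintype (MulAction.orbitRel.Quotient G W) := Fintype.ofFinite _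
  rw [Nat.card_congr (MulAction.selfEquivSigmaOrbitsQuotientStabilizer G W), Nat.card_sigma]
  apply Finset.dvd_sum
  intro ω _
  rw [← Subgroup.index_eq_card]
  exact h _

/-- a set with a free action of a finite group has cardinality divisible by the order of the group -/
theorem card_dvd_of_free {T Y : Type*} [Group T] [MulAction T Y] [Finite Y]
    (hfree : ∀ (t : T) (y : Y), t • y = y → t = 1) : Nat.card T ∣ Nat.card Y := by
  rw [Nat.card_congr (orbEquiv (T := T) (X := Y) hfree), Nat.card_prod]
  exact Dvd.intro_left _ rfl

end Div

section Invol

variable {G T X A : Type*} [Group G] [Group T] [MulAction G X] [MulAction T X] [SMulCommClass G T X]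
  [CommGroup A] [Fintype (Orb T X)]

open scoped Classical in
/-- the transfer of an involution is the product over the fixed orbits -/
theorem trf_involution (hfree : ∀ (t : T) (x : X), t • x = x → t = 1) (lam : T →* A) (g : G)
    (hg : g * g = 1) :
    trf (X := X) hfree lam g
      = ∏ o ∈ Finset.univ.filter (fun o : Orb T X => orbMap T g o = o), lam (bco T g o) := by
  rw [trf_apply]
  have hσσ : ∀ o : Orb T X, orbMap T g (orbMap T g o) = o := by
    intro o
    rw [← orbMap_mul, hg, orbMap_one]
  have hiter : ∀ (o : Orb T X) (n : ℕ), (⇑(orbPerm T g))^[n] o = if Even n then o else orbMap T g o := by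
    intro o n
    induction n with
    | zero => simp
    | succ n ih =>
      rw [Function.iterate_succ_apply', ih]
      by_cases hn : Even n
      · have : ¬ Even (n + 1) := by rw [Nat.even_add_one]; exact not_not.2 hn
        rw [if_pos hn, if_neg this]; rfl
      · have : Even (n + 1) := by rw [Nat.even_add_one]; exact hn
        rw [if_neg hn, if_pos this]
        exact hσσ o
  have key : ∏ o : Orb T X, (if orbMap T g o = o then 1 else lam (bco T g o)) = 1 := by
    apply prod_eq_one_of_cycles (orbPerm T g)
    intro o n hn hno
    by_cases hfix : orbMap T g o = o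
    · apply Finset.prod_eq_one
      intro k _
      have : (⇑(orbPerm T g))^[k] o = o := by
        rw [hiter]; split_ifs <;> [rfl; exact hfix]
      rw [this, if_pos hfix]
    · have hne : Even n := by
        by_contra hodd
        rw [hiter, if_neg hodd] at hno
        exact hfix hno
      have hterm : ∀ k : ℕ, (if orbMap T g ((⇑(orbPerm T g))^[k] o) = (⇑(orbPerm T g))^[k] o then 1
          else lam (bco T g ((⇑(orbPerm T g))^[k] o))) = lam (bco T g ((⇑(orbPerm T g))^[k] o)) := by
        intro k
        rw [if_neg]
        rw [hiter]
        by_cases hk : Even k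
        · rw [if_pos hk]; exact hfix
        · rw [if_neg hk, hσσ]; exact fun h => hfix h.symm
      rw [Finset.prod_congr rfl (fun k _ => hterm k), ← bco_pow hfree]
      obtain ⟨r, hr⟩ := hne
      have : g ^ n = 1 := by
        rw [hr, ← two_mul, pow_mul, pow_two, hg, one_pow]
      rw [this, bco_one hfree, map_one]
  have hsplit : ∀ o : Orb T X, lam (bco T g o)
      = (if orbMap T g o = o then lam (bco T g o) else 1) *
        (if orbMap T g o = o then 1 else lam (bco T g o)) := by
    intro o
    by_cases h : orbMap T g o = o
    · rw [if_pos h, if_pos h, mul_one]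
    · rw [if_neg h, if_neg h, one_mul]
  rw [Finset.prod_congr rfl (fun o _ => hsplit o), Finset.prod_mul_distrib, key, mul_one,
    Finset.prod_filter]

end Invol

end Cfsg.Agent.Helper85
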