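import Mathlib
import Cfsg.Agent.Lib.Helper85.NormalizerModel

set_option autoImplicit false

namespace Cfsg.Agent.Helper85

open Cfsg Cfsg.FusionSystem Cfsg.Agent.Helper87

variable {Ω : Type*} [Group Ω] {S : Subgroup Ω}

/-- `R` is normal in its normalizer system -/
theorem normalizerSystem_isNormal {F : FusionSystem S} {R : Subgroup Ω} (hR : R ≤ S)
    {E : FusionSystem (normalizerIn S R)} (hE : F.IsNormalizerSystem R E) : E.IsNormal R := by
  rw [isNormal_iff]
  have hRN : R ≤ normalizerIn S R := le_normalizerIn hR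
  refine ⟨hRN, fun P f hf => ?_⟩
  obtain ⟨hfF, hPN, hval, g, hg, e1, e2⟩ := (mor_normalizerSystem_iff hE).1 hf
  refine ⟨g, ?_, e1, e2⟩
  rw [mor_normalizerSystem_iff hE]
  have hiso : Iso F R R g := ⟨hg.restrict le_sup_right, e2⟩
  refine ⟨hg, sup_le hPN hRN, fun x hx => ⟨hg.mem hx, ?_⟩, g, ?_, fun _ _ => rfl, e2⟩
  · exact hg.map_normalizer le_sup_right hiso hx ((sup_le hPN hRN) hx).2
  · rw [sup_assoc, sup_idem]; exact hg

/-- a centric subgroup is centric in its normalizer system -/
theorem normalizerSystem_isCentric [Finite S] {F : FusionSystem S} {R : Subgroup Ω} (hRc : F.IsCentric R)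
    {E : FusionSystem (normalizerIn S R)} (hE : F.IsNormalizerSystem R E) : E.IsCentric R := by
  have hR : R ≤ S := hRc.1
  have hRN : R ≤ normalizerIn S R := le_normalizerIn hR
  haveI : Finite (normalizerIn S R) := finite_of_le (inf_le_left : normalizerIn S R ≤ S)
  refine ⟨hRN, fun R' hR' => ?_⟩
  rw [eq_of_isConj_of_isNormal (normalizerSystem_isNormal hR hE) hR']
  intro x hx
  exact hRc.2 R (isConj_refl hR) ⟨hx.1.1, hx.2⟩

/-- a radical subgroup is radical in its normalizer system -/
theorem normalizerSystem_isRadical {p : ℕ} {F : FusionSystem S} {R : Subgroup Ω} (hRr : F.IsRadical p R)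
    {E : FusionSystem (normalizerIn S R)} (hE : F.IsNormalizerSystem R E) : E.IsRadical p R := by
  have hR : R ≤ S := hRr.1
  refine ⟨le_normalizerIn hR, ?_⟩
  rw [autGroup_normalizerSystem_self hR hE]
  exact hRr.2

/-- the normalizer system of a centric radical subgroup, once saturated, is constrained, and in each of its models
`O_p` is the image of the subgroup -/
theorem normalizerSystem_constrained_model [Finite S] {p : ℕ} [Fact p.Prime] (hS : IsPGroup p S)
    {F : FusionSystem S} {R : Subgroup Ω} (hRc : F.IsCentric R) (hRr : F.IsRadical p R)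
    {E : FusionSystem (normalizerIn S R)} (hE : F.IsNormalizerSystem R E) (hEsat : E.IsSaturated p)
    {G : Type*} [Group G] (ι : ↥(normalizerIn S R) →* G) :
    E.IsConstrained p ∧ (E.IsModel p G ι →
      (pCore p G : Subgroup G) = (R.subgroupOf (normalizerIn S R)).map ι) := by
  have hR : R ≤ S := hRc.1
  haveI : Finite (normalizerIn S R) := finite_of_le (inf_le_left : normalizerIn S R ≤ S)
  have hN : IsPGroup p (normalizerIn S R) := hS.to_le (inf_le_left : normalizerIn S R ≤ S)
  have h1 := normalizerSystem_isNormal hR hE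
  have h2 := normalizerSystem_isCentric hRc hE
  have h3 := normalizerSystem_isRadical hRr hE
  exact ⟨⟨hEsat, R, h1, h2⟩, fun hG => model_pCore_eq hN hG h1 h2 h3⟩

end Cfsg.Agent.Helper85
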