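import Mathlib
import Cfsg.Agent.Lib.Helper85.QuotLift2

set_option autoImplicit false

namespace Cfsg.Agent.Helper85

open Cfsg Cfsg.FusionSystem Cfsg.Agent.Helper87

variable {Ω : Type*} [Group Ω] {S : Subgroup Ω}

theorem liftMod_aut {p : ℕ} [Fact p.Prime] [Finite S] (hS : IsPGroup p S) {F : FusionSystem S}
    (hF : F.IsSaturated p) {T : Subgroup Ω} (hT : F.StronglyClosed T) (R : Subgroup Ω)
    (hfn : F.IsFullyNormalized R)
    (IH : ∀ (P' : Subgroup Ω) (f' : Ω → Ω), Mor F P' f' → Nat.card R < Nat.card P' → LiftMod F T P' f')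
    (α : Ω → Ω) (hα : Iso F R R α) : LiftMod F T R α := by
  classical
  have hR : R ≤ S := hfn.1
  by_cases hTR : T ≤ R
  · refine ⟨α, ?_, fun x hx => ?_⟩
    · rw [sup_eq_left.2 hTR]; exact hα.1
    · rw [inv_mul_cancel]; exact T.one_mem
  · have hRT : R ⊔ T ≤ S := sup_le hR hT.1
    have hne : R ≠ R ⊔ T := fun h => hTR (h ▸ le_sup_right)
    have hpRT : IsPGroup p (R ⊔ T : Subgroup Ω) := hS.to_le hRT
    haveI := finite_of_le hRT
    obtain ⟨n, hn, hnR⟩ := exists_normalizer_not_mem (S := R ⊔ T) hpRT le_sup_left hne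
    have hSn : S ≤ Subgroup.normalizer (T : Set Ω) := stronglyClosed_le_normalizer hT
    have hRn : R ≤ Subgroup.normalizer (T : Set Ω) := hR.trans hSn
    obtain ⟨r, hr, t, ht, rfl⟩ := (mem_sup_iff_of_le_normalizer hRn).1 hn.1
    have htN : t ∈ Subgroup.normalizer (R : Set Ω) := by
      have : t = r⁻¹ * (r * t) := by group
      rw [this]
      exact Subgroup.mul_mem _ (Subgroup.inv_mem _ (Subgroup.le_normalizer hr)) hn.2
    have htR : t ∉ R := fun h => hnR (R.mul_mem hr h)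
    have hfa := fullyAutomized_of_fullyNormalized hS hF hfn
    have hrec := receptive_of_fullyNormalized hS hF hfn
    obtain ⟨-, Syl, hSyl⟩ := hfa
    haveI : Finite R := finite_of_le hR
    haveI : Finite (F.autGroup R) := inferInstance
    let K := trivModSub F T R hT hR
    let a : F.autGroup R := ⟨hα.equiv, hα.equiv_mem_autGroup⟩
    let V : Subgroup (F.autGroup R) := (autInducedBy T R).subgroupOf (F.autGroup R)
    let W : Subgroup (F.autGroup R) := V.map (MulAut.conj a).toMonoidHom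
    have hW : IsPGroup p W :=
      ((isPGroup_autInducedBy (hS.to_le hT.1) R).comap_subtype).map _
    have hVK : V ≤ K := by
      intro v hv
      obtain ⟨g, hg, e⟩ := mem_autInducedBy_iff.1 (Subgroup.mem_subgroupOf.1 hv)
      intro x
      rw [e x]
      have h1 : (x : Ω)⁻¹ ∈ Subgroup.normalizer (T : Set Ω) := Subgroup.inv_mem _ (hRn x.2)
      have h2 : (x : Ω)⁻¹ * g * (x : Ω)⁻¹⁻¹ ∈ T := (Subgroup.mem_normalizer_iff.1 h1 g).1 hg
      have e2 : (x : Ω)⁻¹ * (g * (x : Ω) * g⁻¹) = ((x : Ω)⁻¹ * g * (x : Ω)⁻¹⁻¹) * g⁻¹ := by group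
      rw [e2]
      exact T.mul_mem h2 (T.inv_mem hg)
    have hWK : W ≤ (Syl : Subgroup (F.autGroup R)) ⊔ K := by
      rintro _ ⟨v, hv, rfl⟩
      apply (le_sup_right : K ≤ (Syl : Subgroup (F.autGroup R)) ⊔ K)
      exact (trivModSub_normal F T R hT hR).conj_mem v (hVK hv) a
    obtain ⟨κ, hκ, hκW⟩ := exists_conj_le_sylow_normal Syl K W hW hWK
    let ν : F.autGroup R := κ * a
    have hν : Iso F R R (extAut (ν : MulAut R)) := iso_of_mor_extAut ((mem_autGroup_iff hR).1 ν.2)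
    -- t lies in the extender of ν
    have ht_ext : t ∈ hν.ext := by
      have hct : conjAut R t htN ∈ autInducedBy T R := conjAut_mem_autInducedBy ht htN
      have hctA : conjAut R t htN ∈ F.autGroup R :=
        autInducedBy_le_autGroup F hR (conjAut_mem_autInducedBy (hT.1 ht) htN)
      let c : F.autGroup R := ⟨conjAut R t htN, hctA⟩
      have hcV : c ∈ V := Subgroup.mem_subgroupOf.2 hct
      have h1 : κ * (a * c * a⁻¹) * κ⁻¹ ∈ (Syl : Subgroup (F.autGroup R)) :=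
        hκW _ ⟨c, hcV, rfl⟩
      rw [hSyl, Subgroup.mem_subgroupOf] at h1
      obtain ⟨h, hh, eh⟩ := mem_autInducedBy_iff.1 h1
      refine ⟨hT.1 ht, htN, h, hh, fun x hx => ?_⟩
      have hx' : t * x * t⁻¹ ∈ R := (Subgroup.mem_normalizer_iff.1 htN x).1 hx
      have e1 := eh ((ν : MulAut R) ⟨x, hx⟩)
      rw [extAut_mem _ hx', extAut_mem _ hx, ← e1]
      congr 1
      have e2 : ((κ * (a * c * a⁻¹) * κ⁻¹ : F.autGroup R) : MulAut R) = (ν : MulAut R) * (c : MulAut R) * (ν : MulAut R)⁻¹ := by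
        show ((κ * (a * c * a⁻¹) * κ⁻¹ : F.autGroup R) : MulAut R) = ((ν * c * ν⁻¹ : F.autGroup R) : MulAut R)
        have : κ * (a * c * a⁻¹) * κ⁻¹ = ν * c * ν⁻¹ := by
          show κ * (a * c * a⁻¹) * κ⁻¹ = (κ * a) * c * (κ * a)⁻¹
          group
        rw [this]
      rw [e2]
      show (ν : MulAut R) ⟨t * x * t⁻¹, hx'⟩ = (ν : MulAut R) ((c : MulAut R) ((ν : MulAut R)⁻¹ ((ν : MulAut R) ⟨x, hx⟩)))
      congr 1
      have e3 : (ν : MulAut R)⁻¹ ((ν : MulAut R) ⟨x, hx⟩) = ⟨x, hx⟩ := by simp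
      rw [e3]
      rfl
    obtain ⟨ν', hν', eν⟩ := (isReceptive_iff.1 hrec).2 R _ hν
    have hlt : Nat.card R < Nat.card hν.ext :=
      card_lt_of_not_mem hν.le_ext (hν.ext_le_normalizerIn.trans inf_le_left) ht_ext htR
    have hcl := liftMod_closed hT
    have C1 : LiftMod F T hν.ext ν' := IH _ _ hν' hlt
    have C2 : LiftMod F T R (extAut (ν : MulAut R)) := hcl.congr (hcl.restrict hν' C1 hν.le_ext) eν
    have hκinv : κ⁻¹ ∈ K := K.inv_mem hκ
    have hκmor : Mor F R (extAut ((κ⁻¹ : F.autGroup R) : MulAut R)) := (mem_autGroup_iff hR).1 (κ⁻¹).2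
    have C3 : LiftMod F T R (extAut ((κ⁻¹ : F.autGroup R) : MulAut R)) := by
      refine ⟨fun x => x, Mor.id hRT, fun x hx => ?_⟩
      have h1 := hκinv ⟨x, hx⟩
      rw [extAut_mem _ hx]
      have h2 := T.inv_mem h1
      rw [mul_inv_rev, inv_inv] at h2
      exact h2
    have C4 := hcl.comp hν.1 hκmor (fun x hx => hν.map_mem hx) C2 C3
    refine hcl.congr C4 (fun x hx => ?_)
    show extAut ((κ⁻¹ : F.autGroup R) : MulAut R) (extAut (ν : MulAut R) x) = α x
    rw [← extAut_mul _ _ hx, ← extAut_equiv hα hx]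
    congr 1
    show ((κ⁻¹ * ν : F.autGroup R) : MulAut R) = (a : MulAut R)
    congr 1
    show κ⁻¹ * (κ * a) = a
    group

/-- **Key lemma**: in a saturated system, every map `f` on `P` lifts, modulo a strongly closed subgroup `T`, to a
map on `P ⊔ T`. -/
theorem exists_liftMod {p : ℕ} [Fact p.Prime] [Finite S] (hS : IsPGroup p S) {F : FusionSystem S}
    (hF : F.IsSaturated p) {T : Subgroup Ω} (hT : F.StronglyClosed T) (P : Subgroup Ω) (f : Ω → Ω)
    (hf : Mor F P f) : ∃ f' : Ω → Ω, Mor F (P ⊔ T) f' ∧ ∀ x ∈ P, (f x)⁻¹ * f' x ∈ T :=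
  alperin_ind hS hF (LiftMod F T) (liftMod_closed hT)
    (fun R hfn IH α hα => liftMod_aut hS hF hT R hfn IH α hα) P f hf

end Cfsg.Agent.Helper85
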