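import Mathlib
import Cfsg.Agent.S5133
import Cfsg.Agent.S5134
import Cfsg.Agent.S5128
import Cfsg.Agent.Lib.Helper87.FusionNormalCrit
import Cfsg.Agent.Lib.Helper87.FusionCore

set_option autoImplicit false

namespace Cfsg.Agent.Helper85

open Cfsg Cfsg.FusionSystem Cfsg.Agent.Helper87

variable {Ω : Type*} [Group Ω] {S : Subgroup Ω} {Ω' : Type*} [Group Ω']
variable {F : FusionSystem S} {S' : Subgroup Ω'} {E : FusionSystem S'} {θ : S →* Ω'}

/-- the intersection of two strongly closed subgroups is strongly closed -/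
theorem stronglyClosed_inf {A B : Subgroup Ω} (hA : F.StronglyClosed A) (hB : F.StronglyClosed B) :
    F.StronglyClosed (A ⊓ B) := by
  rw [stronglyClosed_iff] at hA hB ⊢
  refine ⟨inf_le_left.trans hA.1, fun R f hR hf x hx => ⟨?_, ?_⟩⟩
  · exact hA.2 R f (hR.trans inf_le_left) hf x hx
  · exact hB.2 R f (hR.trans inf_le_right) hf x hx

theorem stronglyClosed_bot (F : FusionSystem S) : F.StronglyClosed ⊥ := by
  rw [stronglyClosed_iff]
  refine ⟨bot_le, fun R f hR hf x hx => ?_⟩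
  have : x = 1 := Subgroup.mem_bot.1 (hR hx)
  rw [this, hf.map_one]
  exact Subgroup.one_mem _

theorem stronglyClosed_top' (F : FusionSystem S) : F.StronglyClosed S := by
  rw [stronglyClosed_iff]
  exact ⟨le_rfl, fun R f _ hf x hx => hf.mem hx⟩

/-- the preimage of a strongly closed subgroup under a morphism is strongly closed -/
theorem stronglyClosed_preimage (hθ : F.IsMorphism E θ) {Z : Subgroup Ω'} (hZ : E.StronglyClosed Z) :
    F.StronglyClosed (preimageAlong θ Z) := by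
  rw [stronglyClosed_iff]
  refine ⟨preimageAlong_le θ Z, fun R f hR hf x hx => ?_⟩
  obtain ⟨f', hf', e⟩ := descend hθ hf
  have hRZ : imageAlong θ R ≤ Z := by
    intro y hy
    obtain ⟨r, hrS, hrR, rfl⟩ := mem_img.1 hy
    exact (mem_pre.1 (hR hrR)).2
  have h1 := (stronglyClosed_iff.1 hZ).2 _ f' hRZ hf' (au θ x) (mem_img.2 ⟨x, hf.le hx, hx, rfl⟩)
  rw [e x hx] at h1
  exact mem_pre.2 ⟨hf.mem hx, h1⟩

/-- the image of a strongly closed subgroup containing the kernel under a surjective morphism is strongly closed -/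
theorem stronglyClosed_image (hθ : F.IsSurjectiveMorphism E θ) {W : Subgroup Ω} (hW : F.StronglyClosed W)
    (hker : kerOf θ ≤ W) : E.StronglyClosed (imageAlong θ W) := by
  rw [stronglyClosed_iff]
  have hWS' : imageAlong θ W ≤ S' := imageAlong_le hθ.1.1 W
  refine ⟨hWS', fun R f hR hf y hy => ?_⟩
  have hRS' : R ≤ S' := hR.trans hWS'
  obtain ⟨g, hg, e⟩ := lift hθ hRS' hf
  have hpre : preimageAlong θ R ≤ W := by
    have h1 : preimageAlong θ R ≤ preimageAlong θ (imageAlong θ W) := preimageAlong_mono θ hR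
    rwa [pre_img hW.1 hker] at h1
  have hy' : y ∈ imageAlong θ (preimageAlong θ R) := by rw [img_pre hθ.2.1 hRS']; exact hy
  obtain ⟨x, hxS, hxR, rfl⟩ := mem_img.1 hy'
  rw [e x hxR]
  have h2 := (stronglyClosed_iff.1 hW).2 _ g hpre hg x hxR
  exact mem_img.2 ⟨g x, hW.1 h2, h2, rfl⟩

/-- the centre of a subgroup normal in the system is strongly closed -/
theorem stronglyClosed_center_of_isNormal {U : Subgroup Ω} (hU : F.IsNormal U) :
    F.StronglyClosed (U ⊓ Subgroup.centralizer (U : Set Ω)) := by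
  rw [stronglyClosed_iff]
  obtain ⟨hUS, h⟩ := isNormal_iff.1 hU
  refine ⟨inf_le_left.trans hUS, fun R f hR hf x hx => ?_⟩
  obtain ⟨g, hg, e1, e2⟩ := h R f hf
  rw [← e1 x hx]
  have hxU : x ∈ U := (hR hx).1
  have hxC : x ∈ Subgroup.centralizer (U : Set Ω) := (hR hx).2
  refine ⟨(e2 _).2 ⟨x, hxU, rfl⟩, ?_⟩
  show g x ∈ Subgroup.centralizer (U : Set Ω)
  rw [Subgroup.mem_centralizer_iff]
  intro u hu
  obtain ⟨u', hu', rfl⟩ := (e2 u).1 hu
  have hxs : x ∈ R ⊔ U := (le_sup_left : R ≤ R ⊔ U) hx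
  have hus : u' ∈ R ⊔ U := (le_sup_right : U ≤ R ⊔ U) hu'
  rw [← hg.map_mul hus hxs, ← hg.map_mul hxs hus, (Subgroup.mem_centralizer_iff.1 hxC) u' hu']

end Cfsg.Agent.Helper85
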