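import Mathlib
import Cfsg.Agent.Lib.Helper85.Solvable1
import Cfsg.Agent.S5125

set_option autoImplicit false

namespace Cfsg.Agent.Helper85

open Cfsg Cfsg.FusionSystem Cfsg.Agent.Helper87
open scoped commutatorElement

variable {Ω : Type*} [Group Ω] {S : Subgroup Ω} {Ω' : Type*} [Group Ω']
variable {F : FusionSystem S} {S' : Subgroup Ω'} {E : FusionSystem S'} {θ : S →* Ω'}

theorem kerOf_eq_of_factor {T : Subgroup Ω} (hE : F.IsFactorSystem T θ E) : kerOf θ = T := by
  obtain ⟨hTS, hker, -, -⟩ := hE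
  ext x
  rw [mem_kerOf]
  constructor
  · rintro ⟨hx, h⟩
    rw [au_mem θ hx] at h
    exact (hker _).1 h
  · intro hx
    exact ⟨hTS hx, by rw [au_mem θ (hTS hx)]; exact (hker _).2 hx⟩

theorem factor_finite [Finite S] {T : Subgroup Ω} (hE : F.IsFactorSystem T θ E) : Finite S' := by
  obtain ⟨-, -, hrange, -⟩ := hE
  subst hrange
  exact Finite.of_surjective θ.rangeRestrict θ.rangeRestrict_surjective

theorem factor_isPGroup {p : ℕ} (hS : IsPGroup p S) {T : Subgroup Ω} (hE : F.IsFactorSystem T θ E) :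
    IsPGroup p S' := by
  obtain ⟨-, -, hrange, -⟩ := hE
  subst hrange
  exact hS.of_surjective θ.rangeRestrict θ.rangeRestrict_surjective

theorem factor_surjectiveMorphism [Finite S] {p : ℕ} [Fact p.Prime] (hS : IsPGroup p S) (hF : F.IsSaturated p)
    {T : Subgroup Ω} (hT : F.StronglyClosed T) (hE : F.IsFactorSystem T θ E) : F.IsSurjectiveMorphism E θ :=
  Cfsg.Agent.S5134.result p hS F hF T hT θ E hE

theorem factor_saturated [Finite S] {p : ℕ} [Fact p.Prime] (hS : IsPGroup p S) (hF : F.IsSaturated p)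
    {T : Subgroup Ω} (hT : F.StronglyClosed T) (hE : F.IsFactorSystem T θ E) : E.IsSaturated p :=
  Cfsg.Agent.S5133.result p hS F hF E θ (factor_surjectiveMorphism hS hF hT hE)

/-- if the factor system modulo `T` has a nontrivial normal subgroup then there is a strongly closed subgroup
properly containing `T` with abelian quotient -/
theorem exists_next_of_core_ne_bot [Finite S] {p : ℕ} [Fact p.Prime] (hS : IsPGroup p S) (hF : F.IsSaturated p)
    {T : Subgroup Ω} (hT : F.StronglyClosed T) (hE : F.IsFactorSystem T θ E) (hcore : E.core ≠ ⊥) :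
    ∃ U : Subgroup Ω, F.StronglyClosed U ∧ T ≤ U ∧ ¬ U ≤ T ∧ ⁅U, U⁆ ≤ T := by
  haveI : Finite S' := factor_finite hE
  have hpS' : IsPGroup p S' := factor_isPGroup hS hE
  have hsurj := factor_surjectiveMorphism hS hF hT hE
  have hker : kerOf θ = T := kerOf_eq_of_factor hE
  have hUn : E.IsNormal E.core := isNormal_core E
  have hZ : E.StronglyClosed (E.core ⊓ Subgroup.centralizer (E.core : Set Ω')) :=
    stronglyClosed_center_of_isNormal hUn
  haveI : Nontrivial E.core := (Subgroup.nontrivial_iff_ne_bot _).2 hcore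
  haveI : Finite E.core := finite_of_le hUn.1
  have hpU : IsPGroup p E.core := hpS'.to_le hUn.1
  haveI := hpU.center_nontrivial
  obtain ⟨⟨z, hz⟩, hz1⟩ := exists_ne (1 : Subgroup.center E.core)
  have hzZ : (z : Ω') ∈ E.core ⊓ Subgroup.centralizer (E.core : Set Ω') := by
    refine ⟨z.2, ?_⟩
    show (z : Ω') ∈ Subgroup.centralizer (E.core : Set Ω')
    rw [Subgroup.mem_centralizer_iff]
    intro u hu
    have := Subgroup.mem_center_iff.1 hz ⟨u, hu⟩
    exact congrArg Subtype.val this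
  have hzne : (z : Ω') ≠ 1 := by
    intro h
    apply hz1
    apply Subtype.ext
    apply Subtype.ext
    exact h
  obtain ⟨s, hsS, hsz⟩ := exists_au_eq hsurj.2.1 (hUn.1 z.2)
  refine ⟨preimageAlong θ (E.core ⊓ Subgroup.centralizer (E.core : Set Ω')),
    stronglyClosed_preimage hsurj.1 hZ, ?_, ?_, ?_⟩
  · rw [← hker]; exact kerOf_le_pre θ _
  · intro hle
    have hsU : s ∈ preimageAlong θ (E.core ⊓ Subgroup.centralizer (E.core : Set Ω')) :=
      mem_pre.2 ⟨hsS, by rw [hsz]; exact hzZ⟩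
    have hsT : s ∈ kerOf θ := hker ▸ hle hsU
    apply hzne
    rw [← hsz]
    exact (mem_kerOf.1 hsT).2
  · rw [Subgroup.commutator_le]
    intro x hx y hy
    obtain ⟨hxS, hxZ⟩ := mem_pre.1 hx
    obtain ⟨hyS, hyZ⟩ := mem_pre.1 hy
    rw [← hker, mem_kerOf]
    have hcomm : au θ y * au θ x = au θ x * au θ y :=
      (Subgroup.mem_centralizer_iff.1 hxZ.2) _ hyZ.1
    refine ⟨Subgroup.commutator_le.1 (Subgroup.commutator_le_self S) x hxS y hyS |> fun h => ?_, ?_⟩
    · exact h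
    · rw [commutatorElement_def, au_mul θ (S.mul_mem (S.mul_mem hxS hyS) (S.inv_mem hxS)) (S.inv_mem hyS),
        au_mul θ (S.mul_mem hxS hyS) (S.inv_mem hxS), au_mul θ hxS hyS, au_inv θ hxS, au_inv θ hyS, ← hcomm]
      group

theorem isPGroup_autGroup_bot (E : FusionSystem S') (p : ℕ) : IsPGroup p (E.autGroup ⊥) := by
  intro g
  refine ⟨0, ?_⟩
  apply Subtype.ext
  apply MulEquiv.ext
  intro x
  exact Subsingleton.elim _ _

/-- if some strongly closed `W` not inside `T` has `W/(W ∩ T)` abelian, the factor system modulo `T` has a nontrivial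
normal subgroup -/
theorem core_ne_bot_of_abelian [Finite S] {p : ℕ} [Fact p.Prime] (hS : IsPGroup p S) (hF : F.IsSaturated p)
    {T : Subgroup Ω} (hT : F.StronglyClosed T) (hE : F.IsFactorSystem T θ E) {W : Subgroup Ω}
    (hW : F.StronglyClosed W) (hWT : ¬ W ≤ T) (hab : ⁅W, W⁆ ≤ T) : E.core ≠ ⊥ := by
  haveI : Finite S' := factor_finite hE
  have hpS' : IsPGroup p S' := factor_isPGroup hS hE
  have hsurj := factor_surjectiveMorphism hS hF hT hE
  have hEsat := factor_saturated hS hF hT hE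
  have hker : kerOf θ = T := kerOf_eq_of_factor hE
  have hW' : F.StronglyClosed (W ⊔ T) := Cfsg.Agent.S5128.result p hS F hF W T hW hT
  have hV : E.StronglyClosed (imageAlong θ (W ⊔ T)) :=
    stronglyClosed_image hsurj hW' (hker ▸ le_sup_right)
  have hWn : W ≤ Subgroup.normalizer (T : Set Ω) := hW.1.trans (stronglyClosed_le_normalizer hT)
  -- every element of the image comes from `W`
  have hrep : ∀ y ∈ imageAlong θ (W ⊔ T), ∃ w ∈ W, au θ w = y := by
    intro y hy
    obtain ⟨x, hxS, hxW, rfl⟩ := mem_img.1 hy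
    obtain ⟨w, hw, t, ht, rfl⟩ := (mem_sup_iff_of_le_normalizer hWn).1 hxW
    refine ⟨w, hw, ?_⟩
    rw [au_mul θ (hW.1 hw) (hT.1 ht)]
    have : au θ t = 1 := (mem_kerOf.1 (hker ▸ ht)).2
    rw [this, mul_one]
  have habV : ⁅imageAlong θ (W ⊔ T), imageAlong θ (W ⊔ T)⁆ ≤ (⊥ : Subgroup Ω') := by
    rw [Subgroup.commutator_le]
    intro a ha b hb
    obtain ⟨w₁, hw₁, rfl⟩ := hrep a ha
    obtain ⟨w₂, hw₂, rfl⟩ := hrep b hb
    rw [Subgroup.mem_bot]
    have h1 : ⁅w₁, w₂⁆ ∈ kerOf θ := hker ▸ hab (Subgroup.commutator_mem_commutator hw₁ hw₂)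
    have h2 := (mem_kerOf.1 h1).2
    have hw₁S := hW.1 hw₁
    have hw₂S := hW.1 hw₂
    rw [commutatorElement_def, au_mul θ (S.mul_mem (S.mul_mem hw₁S hw₂S) (S.inv_mem hw₁S)) (S.inv_mem hw₂S),
      au_mul θ (S.mul_mem hw₁S hw₂S) (S.inv_mem hw₁S), au_mul θ hw₁S hw₂S, au_inv θ hw₁S, au_inv θ hw₂S] at h2
    rw [commutatorElement_def]
    exact h2
  have hVn : E.IsNormal (imageAlong θ (W ⊔ T)) :=
    Cfsg.Agent.S5125.result p hpS' E hEsat _ ⊥ hV bot_le (isNormal_bot E) habV (isPGroup_autGroup_bot E p)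
  intro hcore
  apply hWT
  intro w hw
  have h1 : au θ w ∈ E.core := le_core hVn (mem_img.2 ⟨w, hW.1 hw, le_sup_left (a := W) hw, rfl⟩)
  rw [hcore, Subgroup.mem_bot] at h1
  rw [← hker]
  exact mem_kerOf.2 ⟨hW.1 hw, h1⟩

end Cfsg.Agent.Helper85
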