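import Cfsg.Agent.Lib.Helper39.MH4Basic

/-!
# M. Hall's theorem, piece (B1) of helper39's MH4 server: orbit counting for `C_G(s)` on pairs
of moved points lying in different 2-cycles.
-/

set_option autoImplicit false
set_option linter.unusedSectionVars false
set_option linter.unusedVariables false

namespace Cfsg.Agent.Helper85.MH4

open Equiv Cfsg.Agent.Helper39.MH4

variable {α : Type*} [Fintype α] [DecidableEq α] {G : Subgroup (Perm α)}

/-- Orbit-stabilizer for a subgroup `H` of `Perm α` acting on any `Perm α`-set, with the orbit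
given as a finset and the stabilizer as a subgroup of `Perm α`. -/
theorem h85_card_eq_orbit_mul {β : Type*} [MulAction (Perm α) β] (H K : Subgroup (Perm α))
    (b : β) (X : Finset β)
    (horb : ∀ x, x ∈ X ↔ ∃ g ∈ H, g • b = x)
    (hstab : ∀ g, g ∈ K ↔ g ∈ H ∧ g • b = b) :
    Nat.card H = X.card * Nat.card K := by
  have h1 := Subgroup.card_mul_index (MulAction.stabilizer ↥H b)
  rw [MulAction.index_stabilizer] at h1
  have h2 : MulAction.orbit ↥H b = (↑X : Set β) := by
    ext x
    rw [Finset.mem_coe, horb x]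
    constructor
    · rintro ⟨⟨g, hg⟩, hgx⟩
      exact ⟨g, hg, hgx⟩
    · rintro ⟨g, hg, hgx⟩
      exact ⟨⟨g, hg⟩, hgx⟩
  rw [h2, Set.ncard_coe_finset] at h1
  have h3 : Nat.card ↥(MulAction.stabilizer ↥H b) = Nat.card ↥K := by
    apply Nat.card_congr
    refine ⟨fun g => ⟨g.1.1, (hstab g.1.1).2 ⟨g.1.2, g.2⟩⟩,
      fun g => ⟨⟨g.1, ((hstab g.1).1 g.2).1⟩, ((hstab g.1).1 g.2).2⟩, ?_, ?_⟩
    · intro g; rfl
    · intro g; rfl
  rw [h3] at h1
  rw [← h1, mul_comm]

/-- four pairwise distinct points as an embedding of `Fin 4`. -/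
def h85_emb4 (x0 x1 x2 x3 : α) (h01 : x0 ≠ x1) (h02 : x0 ≠ x2) (h03 : x0 ≠ x3)
    (h12 : x1 ≠ x2) (h13 : x1 ≠ x3) (h23 : x2 ≠ x3) : Fin 4 ↪ α :=
  ⟨![x0, x1, x2, x3], by
    intro a b hab
    fin_cases a <;> fin_cases b <;> simp_all⟩

theorem h85_card_moved (s : Perm α) :
    (Finset.univ.filter (fun x => s x ≠ x)).card = Fintype.card α - (fx s).card := by
  have h : (Finset.univ.filter (fun x => s x = x)).card +
      (Finset.univ.filter (fun x => s x ≠ x)).card = (Finset.univ : Finset α).card :=
    Finset.card_filter_add_card_filter_not (s := (Finset.univ : Finset α))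
      (p := fun x => s x = x)
  have h2 : fx s = Finset.univ.filter (fun x => s x = x) := rfl
  rw [h2]
  rw [Finset.card_univ] at h
  omega

/-- the pairs of moved points in different cycles -/
def h85_pairs (s : Perm α) : Finset (α × α) :=
  Finset.univ.filter (fun p => s p.1 ≠ p.1 ∧ s p.2 ≠ p.2 ∧ p.2 ≠ p.1 ∧ p.2 ≠ s p.1)

theorem h85_mem_pairs {s : Perm α} {p : α × α} :
    p ∈ h85_pairs s ↔ s p.1 ≠ p.1 ∧ s p.2 ≠ p.2 ∧ p.2 ≠ p.1 ∧ p.2 ≠ s p.1 := by
  unfold h85_pairs
  rw [Finset.mem_filter]
  simp

theorem h85_card_pairs {s : Perm α} (hs2 : s * s = 1) :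
    (h85_pairs s).card =
      (Fintype.card α - (fx s).card) * (Fintype.card α - (fx s).card - 2) := by
  classical
  set M := Finset.univ.filter (fun x => s x ≠ x) with hM
  have hMm : ∀ x, x ∈ M ↔ s x ≠ x := by
    intro x; rw [hM, Finset.mem_filter]; simp
  have hfib : ∀ b ∈ M, ((h85_pairs s).filter (fun p => p.1 = b)).card = M.card - 2 := by
    intro b hb
    have hb' := (hMm b).1 hb
    have hsb : s b ∈ M := by
      rw [hMm]
      intro h
      apply hb'
      rw [invol_apply_apply hs2] at h
      exact h.symm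
    have heq : (h85_pairs s).filter (fun p => p.1 = b) =
        ((M.erase b).erase (s b)).image (fun y => (b, y)) := by
      ext ⟨x, y⟩
      rw [Finset.mem_filter, h85_mem_pairs, Finset.mem_image]
      constructor
      · rintro ⟨⟨h1, h2, h3, h4⟩, h5⟩
        simp only at h1 h2 h3 h4 h5
        subst h5
        refine ⟨y, ?_, rfl⟩
        rw [Finset.mem_erase, Finset.mem_erase, hMm]
        exact ⟨h4, h3, h2⟩
      · rintro ⟨y', hy', hy'2⟩
        rw [Finset.mem_erase, Finset.mem_erase, hMm] at hy'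
        rw [Prod.mk.injEq] at hy'2
        obtain ⟨rfl, rfl⟩ := hy'2
        exact ⟨⟨hb', hy'.2.2, hy'.2.1, hy'.1⟩, rfl⟩
    rw [heq, Finset.card_image_of_injective _ (fun y y' h => (Prod.mk.injEq _ _ _ _ ▸ h).2),
      Finset.card_erase_of_mem, Finset.card_erase_of_mem hb]
    · omega
    · rw [Finset.mem_erase]
      exact ⟨fun h => hb' h, hsb⟩
  rw [Finset.card_eq_sum_card_fiberwise (f := Prod.fst) (t := M)]
  · rw [Finset.sum_congr rfl hfib, Finset.sum_const, smul_eq_mul, h85_card_moved]
  · intro p hp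
    rw [Finset.mem_coe] at hp ⊢
    rw [hMm]
    exact (h85_mem_pairs.1 hp).1

theorem card_CG_two_cycles (hyp : Hyp G) {s : Perm α} (hs : s ∈ G) (hs2 : s * s = 1)
    (i k : α) (hi : s i ≠ i) (hk : s k ≠ k) (hki : k ≠ i) (hksi : k ≠ s i) :
    Nat.card (CG G s) =
      (Fintype.card α - (fx s).card) * (Fintype.card α - (fx s).card - 2) *
        Nat.card (CPS G {i, s i, k, s k} s) := by
  rw [← h85_card_pairs hs2]
  have hss : ∀ x, s (s x) = x := invol_apply_apply hs2
  have hcomm : ∀ g : Perm α, g * s = s * g → ∀ x, g (s x) = s (g x) := by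
    intro g hg x
    have := congrArg (fun f : Perm α => f x) hg
    simpa [Perm.mul_apply] using this
  apply h85_card_eq_orbit_mul (β := α × α) (CG G s) (CPS G {i, s i, k, s k} s) (i, k)
  · rintro ⟨x, y⟩
    rw [h85_mem_pairs]
    constructor
    · rintro ⟨h1, h2, h3, h4⟩
      simp only at h1 h2 h3 h4
      have hski : s k ≠ i := fun h => hksi (by rw [← h, hss])
      have hsyx : s y ≠ x := fun h => h4 (by rw [← h, hss])
      let a := h85_emb4 i (s i) k (s k) (Ne.symm hi) (Ne.symm hki) (Ne.symm hski)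
        (Ne.symm hksi) (fun h => hki (s.injective h).symm) (Ne.symm hk)
      let b := h85_emb4 x (s x) y (s y) (Ne.symm h1) (Ne.symm h3) (Ne.symm hsyx)
        (Ne.symm h4) (fun h => h3 (s.injective h).symm) (Ne.symm h2)
      obtain ⟨g, hgG, hgs, hgab⟩ := conf_conj hyp hs hs hs2 hs2 a b
        (Equiv.swap 0 1 * Equiv.swap 2 3)
        (by
          intro j
          fin_cases j
          · show s i = s i; rfl
          · show s (s i) = i; exact hss i
          · show s k = s k; rfl
          · show s (s k) = k; exact hss k)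
        (by
          intro j
          fin_cases j
          · show s x = s x; rfl
          · show s (s x) = x; exact hss x
          · show s y = s y; rfl
          · show s (s y) = y; exact hss y)
      refine ⟨g, ⟨hgG, ?_⟩, ?_⟩
      · have : g * s = (g * s * g⁻¹) * g := by group
        rw [this, hgs]
      · have h0 : g i = x := hgab 0
        have h2 : g k = y := hgab 2
        show (g i, g k) = (x, y)
        rw [h0, h2]
    · rintro ⟨g, ⟨hgG, hgs⟩, hg⟩
      have hg' : (g i, g k) = (x, y) := hg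
      rw [Prod.mk.injEq] at hg'
      obtain ⟨rfl, rfl⟩ := hg'
      have hc := hcomm g hgs
      refine ⟨?_, ?_, ?_, ?_⟩
      · show s (g i) ≠ g i
        rw [← hc]; exact fun h => hi (g.injective h)
      · show s (g k) ≠ g k
        rw [← hc]; exact fun h => hk (g.injective h)
      · show g k ≠ g i
        exact fun h => hki (g.injective h)
      · show g k ≠ s (g i)
        rw [← hc]; exact fun h => hksi (g.injective h)
  · intro g
    rw [mem_CPS, mem_CG]
    constructor
    · rintro ⟨hgG, hD, hgs⟩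
      refine ⟨⟨hgG, hgs⟩, ?_⟩
      show (g i, g k) = (i, k)
      rw [hD i (by simp), hD k (by simp)]
    · rintro ⟨⟨hgG, hgs⟩, hg⟩
      have hg' : (g i, g k) = (i, k) := hg
      rw [Prod.mk.injEq] at hg'
      have hc := hcomm g hgs
      refine ⟨hgG, ?_, hgs⟩
      intro x hx
      simp only [Finset.mem_insert, Finset.mem_singleton] at hx
      rcases hx with rfl | rfl | rfl | rfl
      · exact hg'.1
      · rw [hc, hg'.1]
      · exact hg'.2
      · rw [hc, hg'.2]

end Cfsg.Agent.Helper85.MH4
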