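import Mathlib

/-!
# O4320 (BASE1) for helper50's server (S0977): conjugation by an element of prime order `p` on an invariant
set: the number of points is congruent mod `p` to the number of fixed points.
-/

set_option autoImplicit false

namespace Cfsg.Agent.Helper85.O4320

universe u

variable {G : Type u} [Group G] [Finite G]

/-- (BASE1) An element `r` of prime order `p` acts by conjugation on an `r`-invariant set `S`; the
number of points is congruent mod `p` to the number of fixed points. -/
theorem conj_fixed_mod (p : ℕ) [Fact p.Prime] (r : G) (hr : orderOf r = p) (S : Set G)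
    (hS : ∀ x ∈ S, r * x * r⁻¹ ∈ S) :
    Nat.card S ≡ Nat.card {x : G // x ∈ S ∧ Commute r x} [MOD p] := by
  classical
  haveI : Fintype S := Fintype.ofFinite S
  let f : Function.End S := fun x => ⟨r * x.1 * r⁻¹, hS x.1 x.2⟩
  have hpow : ∀ k : ℕ, ∀ x : S, ((f ^ k) x : G) = r ^ k * x.1 * (r ^ k)⁻¹ := by
    intro k
    induction k with
    | zero => intro x; rw [pow_zero, pow_zero]; simp; rfl
    | succ k ih =>
      intro x
      rw [pow_succ']
      show r * ((f ^ k) x : G) * r⁻¹ = _
      rw [ih x, pow_succ']
      group
  have hfr : f ^ p ^ 1 = 1 := by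
    rw [pow_one]
    funext x
    apply Subtype.ext
    rw [hpow p x, ← hr, pow_orderOf_eq_one]
    simp
    rfl
  have hmod := Equiv.Perm.card_fixedPoints_modEq (p := p) (n := 1) hfr
  rw [Nat.card_eq_fintype_card]
  have e : Function.fixedPoints f ≃ {x : G // x ∈ S ∧ Commute r x} :=
    { toFun := fun x => ⟨x.1.1, x.1.2, by
        have h := congrArg (Subtype.val) x.2
        have h2 : r * x.1.1 * r⁻¹ = x.1.1 := h
        show r * x.1.1 = x.1.1 * r
        calc r * x.1.1 = r * x.1.1 * r⁻¹ * r := by group
          _ = x.1.1 * r := by rw [h2]⟩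
      invFun := fun y => ⟨⟨y.1, y.2.1⟩, by
        show f ⟨y.1, y.2.1⟩ = ⟨y.1, y.2.1⟩
        apply Subtype.ext
        show r * y.1 * r⁻¹ = y.1
        have h := y.2.2
        have h2 : r * y.1 = y.1 * r := h
        rw [h2]
        group⟩
      left_inv := fun x => rfl
      right_inv := fun y => rfl }
  rw [← Nat.card_congr e, Nat.card_eq_fintype_card]
  exact hmod

end Cfsg.Agent.Helper85.O4320
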