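import Mathlib
import Cfsg.Agent.Lib.Helper52.FCDefs

/-!
# FC server (helper52, S3816), piece (R1c) `scalar_case`
-/

set_option autoImplicit false

namespace Cfsg.Agent.Helper85.FC

open Subgroup Cfsg.Agent.Helper52.FC
open scoped commutatorElement

universe u

variable {G : Type u} [Group G]

theorem scalar_case [Finite G] {p : ℕ} {a : G} {H : Subgroup G} (mx : MCX p G a H) (V : Subgroup G) (hV : MinNormal a H V) (hVab : Ab V)
    (L : Subgroup G) (hLH : L ≤ H) (hLa : Inv a L) (hLne : L ≠ H) (hLc : comm a L = L) (hVL : V ⊔ L = H)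
    (x : G) (hxL : x ∈ L) (hxa : x ∈ Fix a)
    (hxc : ∀ y ∈ L, ∀ v ∈ V, (x * y * x⁻¹ * y⁻¹) * v = v * (x * y * x⁻¹ * y⁻¹)) (hxV : ∃ v ∈ V, x * v ≠ v * x) : False := by
  classical
  have hxH : x ∈ H := hLH hxL
  have hax : a * x = x * a := by
    have h0 : x ∈ Subgroup.centralizer ({a} : Set G) := hxa
    rw [Subgroup.mem_centralizer_iff] at h0
    exact h0 a rfl
  -- x ∈ star a H
  have hxstar : x ∈ star a H := by
    apply mx.proper L hLH hLne hLa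
    rw [hLc]
    exact ⟨hxL, hxa⟩
  -- W := C_V(x)
  have hWmem : ∀ w, w ∈ V ⊓ Subgroup.centralizer {x} ↔ w ∈ V ∧ x * w = w * x := by
    intro w
    simp only [Subgroup.mem_inf, Subgroup.mem_centralizer_iff, Set.mem_singleton_iff, forall_eq]
  -- L normalises W
  have hLW : ∀ y ∈ L, ∀ w ∈ V ⊓ Subgroup.centralizer {x}, y * w * y⁻¹ ∈ V ⊓ Subgroup.centralizer {x} := by
    intro y hy w hw
    rw [hWmem] at hw ⊢
    obtain ⟨hwV, h2⟩ := hw
    refine ⟨hV.norm y (hLH hy) w hwV, ?_⟩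
    have h1 := hxc y⁻¹ (inv_mem hy) w hwV
    have h1' : (x * y⁻¹ * x⁻¹ * y⁻¹⁻¹)⁻¹ * w = w * (x * y⁻¹ * x⁻¹ * y⁻¹⁻¹)⁻¹ :=
      (Commute.inv_left (show Commute (x * y⁻¹ * x⁻¹ * y⁻¹⁻¹) w from h1)).eq
    have hc : y⁻¹ * x * y = (x * y⁻¹ * x⁻¹ * y⁻¹⁻¹)⁻¹ * x := by group
    calc x * (y * w * y⁻¹) = y * ((y⁻¹ * x * y) * w) * y⁻¹ := by group
      _ = y * (((x * y⁻¹ * x⁻¹ * y⁻¹⁻¹)⁻¹ * x) * w) * y⁻¹ := by rw [hc]
      _ = y * ((x * y⁻¹ * x⁻¹ * y⁻¹⁻¹)⁻¹ * (x * w)) * y⁻¹ := by simp only [mul_assoc]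
      _ = y * ((x * y⁻¹ * x⁻¹ * y⁻¹⁻¹)⁻¹ * (w * x)) * y⁻¹ := by rw [h2]
      _ = y * (((x * y⁻¹ * x⁻¹ * y⁻¹⁻¹)⁻¹ * w) * x) * y⁻¹ := by simp only [mul_assoc]
      _ = y * ((w * (x * y⁻¹ * x⁻¹ * y⁻¹⁻¹)⁻¹) * x) * y⁻¹ := by rw [h1']
      _ = y * w * ((x * y⁻¹ * x⁻¹ * y⁻¹⁻¹)⁻¹ * x) * y⁻¹ := by simp only [mul_assoc]
      _ = y * w * (y⁻¹ * x * y) * y⁻¹ := by rw [hc]
      _ = (y * w * y⁻¹) * x := by group
  -- V normalises W
  have hVW : ∀ v ∈ V, ∀ w ∈ V ⊓ Subgroup.centralizer {x}, v * w * v⁻¹ ∈ V ⊓ Subgroup.centralizer {x} := by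
    intro v hv w hw
    have hwV : w ∈ V := hw.1
    have : v * w * v⁻¹ = w := by rw [hVab v hv w hwV]; group
    rw [this]; exact hw
  -- H normalises W
  have hHW : NormBy H (V ⊓ Subgroup.centralizer {x}) := by
    intro h hh
    rw [← hVL, Subgroup.sup_eq_closure] at hh
    have key : (∀ w ∈ V ⊓ Subgroup.centralizer {x}, h * w * h⁻¹ ∈ V ⊓ Subgroup.centralizer {x}) ∧
        (∀ w ∈ V ⊓ Subgroup.centralizer {x}, h⁻¹ * w * h ∈ V ⊓ Subgroup.centralizer {x}) := by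
      induction hh using Subgroup.closure_induction with
      | mem s hs =>
        rcases hs with hs | hs
        · refine ⟨hVW s hs, fun w hw => ?_⟩
          have := hVW s⁻¹ (inv_mem hs) w hw
          rwa [inv_inv] at this
        · refine ⟨hLW s hs, fun w hw => ?_⟩
          have := hLW s⁻¹ (inv_mem hs) w hw
          rwa [inv_inv] at this
      | one => simp
      | mul s t _ _ ihs iht =>
        refine ⟨fun w hw => ?_, fun w hw => ?_⟩
        · have := ihs.1 _ (iht.1 w hw)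
          have e : s * t * w * (s * t)⁻¹ = s * (t * w * t⁻¹) * s⁻¹ := by group
          rw [e]; exact this
        · have := iht.2 _ (ihs.2 w hw)
          have e : (s * t)⁻¹ * w * (s * t) = t⁻¹ * (s⁻¹ * w * s) * t := by group
          rw [e]; exact this
      | inv s _ ihs =>
        refine ⟨fun w hw => ?_, fun w hw => ?_⟩
        · have := ihs.2 w hw
          rwa [inv_inv]
        · have := ihs.1 w hw
          rwa [inv_inv]
    exact key.1
  -- W is a-invariant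
  have hWa : Inv a (V ⊓ Subgroup.centralizer {x}) := by
    intro w hw
    rw [hWmem] at hw ⊢
    obtain ⟨hwV, h2⟩ := hw
    refine ⟨hV.inv w hwV, ?_⟩
    have c1 : Commute x a := hax.symm
    have c2 : Commute x w := h2
    exact ((c1.mul_right c2).mul_right c1.inv_right).eq
  -- W = ⊥
  have hWbot : V ⊓ Subgroup.centralizer {x} = ⊥ := by
    by_contra hne
    have hWV := hV.min _ inf_le_left hHW hWa hne
    obtain ⟨v, hv, hvx⟩ := hxV
    have : v ∈ V ⊓ Subgroup.centralizer {x} := by rw [hWV]; exact hv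
    rw [hWmem] at this
    exact hvx this.2
  have hker : ∀ v ∈ V, x * v = v * x → v = 1 := by
    intro v hv hvx
    have : v ∈ V ⊓ Subgroup.centralizer {x} := (hWmem v).2 ⟨hv, hvx⟩
    rw [hWbot] at this
    exact Subgroup.mem_bot.1 this
  -- the map u ↦ u x u⁻¹ x⁻¹ on C_V(a)
  have hfmem : ∀ u : ↥(V ⊓ Fix a), (u : G) * x * (u : G)⁻¹ * x⁻¹ ∈ V ⊓ Fix a := by
    intro u
    have uV : (u : G) ∈ V := (Subgroup.mem_inf.1 u.2).1
    have ua : (u : G) ∈ Cfsg.Agent.Helper52.FC.Fix a := (Subgroup.mem_inf.1 u.2).2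
    rw [Subgroup.mem_inf]
    refine ⟨?_, ?_⟩
    · have h1 : x * (u : G)⁻¹ * x⁻¹ ∈ V := hV.norm x hxH _ (inv_mem uV)
      have e : (u : G) * x * (u : G)⁻¹ * x⁻¹ = (u : G) * (x * (u : G)⁻¹ * x⁻¹) := by group
      rw [e]; exact mul_mem uV h1
    · exact mul_mem (mul_mem (mul_mem ua hxa) (inv_mem ua)) (inv_mem hxa)
  let f : ↥(V ⊓ Fix a) → ↥(V ⊓ Fix a) := fun u => ⟨(u : G) * x * (u : G)⁻¹ * x⁻¹, hfmem u⟩
  have hfinj : Function.Injective f := by
    intro u u' huu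
    have h0 : (u : G) * x * (u : G)⁻¹ * x⁻¹ = (u' : G) * x * (u' : G)⁻¹ * x⁻¹ := congrArg Subtype.val huu
    have h1 : (u : G) * x * (u : G)⁻¹ = (u' : G) * x * (u' : G)⁻¹ := mul_right_cancel h0
    have h2 : x * ((u' : G)⁻¹ * (u : G)) = ((u' : G)⁻¹ * (u : G)) * x := by
      have e1 : x * ((u' : G)⁻¹ * (u : G)) = (u' : G)⁻¹ * ((u' : G) * x * (u' : G)⁻¹) * (u : G) := by group
      have e2 : ((u' : G)⁻¹ * (u : G)) * x = (u' : G)⁻¹ * ((u : G) * x * (u : G)⁻¹) * (u : G) := by group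
      rw [e1, e2, h1]
    have h3 := hker _ (mul_mem (inv_mem u'.2.1) u.2.1) h2
    apply Subtype.ext
    have : (u : G) = (u' : G) := by
      have := congrArg (fun t => (u' : G) * t) h3
      simpa using this
    exact this
  have hfsurj : Function.Surjective f := Finite.injective_iff_surjective.1 hfinj
  apply mx.not_le V hV.le hV.norm hV.inv hV.ne
  intro u hu
  obtain ⟨u', hu'⟩ := hfsurj ⟨u, hu⟩
  have hval : (u' : G) * x * (u' : G)⁻¹ * x⁻¹ = u := congrArg Subtype.val hu'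
  rw [← hval]
  have hu'H : (u' : G) ∈ H ⊓ Fix a := ⟨hV.le u'.2.1, u'.2.2⟩
  exact mul_mem (mx.star_conj _ hu'H x hxstar) (inv_mem hxstar)

end Cfsg.Agent.Helper85.FC
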