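import Mathlib
import Cfsg.Agent.Lib.Helper76.RuZDefs

/-!
# RUZ server (helper76, S3174): piece (COMM) `comm_dz`.
-/

set_option autoImplicit false

namespace Cfsg.Agent.Helper85.RuZ

open Cfsg.Agent.Helper76.RuZ

section basics

variable {T : Type*} [Group T]

/-- conjugate `t a t⁻¹`. -/
def h85cj (t a : T) : T := t * a * t⁻¹

/-- commutator `a b a⁻¹ b⁻¹`. -/
def h85cm (a b : T) : T := a * b * a⁻¹ * b⁻¹

theorem h85cj_mul (s t a : T) : h85cj (s * t) a = h85cj s (h85cj t a) := by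
  unfold h85cj; group

theorem h85cj_mul_distrib (t a b : T) : h85cj t (a * b) = h85cj t a * h85cj t b := by
  unfold h85cj; group

theorem h85cj_cm (t a b : T) : h85cj t (h85cm a b) = h85cm (h85cj t a) (h85cj t b) := by
  unfold h85cj h85cm; group

theorem h85cm_self (a : T) : h85cm a a = 1 := by
  unfold h85cm; group

theorem h85cm_inv (a b : T) : (h85cm a b)⁻¹ = h85cm b a := by
  unfold h85cm; group

theorem h85cj_eq_cm_mul (v a : T) : h85cj v a = h85cm v a * a := by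
  unfold h85cj h85cm; group

theorem h85cj_inv_cj (t a : T) : h85cj t (h85cj t⁻¹ a) = a := by
  unfold h85cj; group

theorem h85cm_mul_left_aux (a b c : T) :
    h85cm (a * b) c = a * h85cm b c * a⁻¹ * h85cm a c := by
  unfold h85cm; group

variable {W F Z2 : Subgroup T}

theorem h85cmF (hc : Cfg W F Z2) {a b : T} (ha : a ∈ W) (hb : b ∈ W) : h85cm a b ∈ F :=
  hc.comm a ha b hb

theorem h85cjW (hc : Cfg W F Z2) (t : T) {a : T} (ha : a ∈ W) : h85cj t a ∈ W :=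
  hc.nW.conj_mem a ha t

theorem h85cjF (hc : Cfg W F Z2) (t : T) {f : T} (hf : f ∈ F) : h85cj t f ∈ F :=
  hc.nF.conj_mem f hf t

theorem h85inv_F (hc : Cfg W F Z2) {f : T} (hf : f ∈ F) : f⁻¹ = f :=
  inv_eq_of_mul_eq_one_left (hc.fsq f hf)

theorem h85cm_symm (hc : Cfg W F Z2) {a b : T} (ha : a ∈ W) (hb : b ∈ W) :
    h85cm b a = h85cm a b := by
  rw [← h85cm_inv a b, h85inv_F hc (h85cmF hc ha hb)]

theorem h85cm_mul_left (hc : Cfg W F Z2) {a b c : T} (ha : a ∈ W) (hb : b ∈ W) (hcW : c ∈ W) :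
    h85cm (a * b) c = h85cm a c * h85cm b c := by
  rw [h85cm_mul_left_aux]
  have hf : h85cm b c ∈ F := h85cmF hc hb hcW
  have e1 : a * h85cm b c * a⁻¹ = h85cm b c := by
    rw [← hc.cen _ hf a ha]; group
  rw [e1]
  exact hc.cen _ hf _ (hc.FW (h85cmF hc ha hcW))

theorem h85cm_mul_right (hc : Cfg W F Z2) {a b c : T} (ha : a ∈ W) (hb : b ∈ W) (hcW : c ∈ W) :
    h85cm a (b * c) = h85cm a b * h85cm a c := by
  rw [h85cm_symm hc (W.mul_mem hb hcW) ha, h85cm_mul_left hc hb hcW ha,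
    h85cm_symm hc ha hb, h85cm_symm hc ha hcW]

theorem h85cm_F_left (hc : Cfg W F Z2) {f a : T} (hf : f ∈ F) (ha : a ∈ W) : h85cm f a = 1 := by
  unfold h85cm
  rw [hc.cen f hf a ha]; group

theorem h85cm_F_right (hc : Cfg W F Z2) {f a : T} (hf : f ∈ F) (ha : a ∈ W) : h85cm a f = 1 := by
  rw [h85cm_symm hc (hc.FW hf) ha, h85cm_F_left hc hf ha]

theorem h85memZ_cj (hc : Cfg W F Z2) (t : T) {f : T} (hf : f ∈ F) :
    h85cj t f ∈ Z2 ↔ f ∈ Z2 := by
  have h := hc.act f hf t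
  have e : h85cj t f = (t * f * t⁻¹ * f⁻¹) * f := by unfold h85cj; group
  constructor
  · intro h1
    have : f = (t * f * t⁻¹ * f⁻¹)⁻¹ * h85cj t f := by rw [e]; group
    rw [this]; exact Z2.mul_mem (Z2.inv_mem h) h1
  · intro h1
    rw [e]; exact Z2.mul_mem h h1

theorem h85par_mul (hc : Cfg W F Z2) {f g : T} (hf : f ∈ F) (hg : g ∈ F) :
    f * g ∈ Z2 ↔ (f ∈ Z2 ↔ g ∈ Z2) := by
  constructor
  · intro h
    constructor
    · intro h1
      have : g = f⁻¹ * (f * g) := by group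
      rw [this]; exact Z2.mul_mem (Z2.inv_mem h1) h
    · intro h1
      have : f = (f * g) * g⁻¹ := by group
      rw [this]; exact Z2.mul_mem h (Z2.inv_mem h1)
  · intro h
    by_cases h1 : f ∈ Z2
    · exact Z2.mul_mem h1 (h.1 h1)
    · exact hc.two f hf g hg h1 (fun h2 => h1 (h.2 h2))

end basics


section kappa

variable {T : Type*} [Group T] {W F Z2 : Subgroup T}

/-- `κ(t) = [w^t, w]`. -/
def h85kk (w t : T) : T := h85cm (h85cj t w) w

theorem h85kk_mem (hc : Cfg W F Z2) {w : T} (hw : w ∈ W) (t : T) : h85kk w t ∈ F :=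
  h85cmF hc (h85cjW hc t hw) hw

/-- `w^{b} = f * w^{a}` with `f ∈ F` when `a⁻¹ b ∈ W`. -/
theorem h85cj_congr (hc : Cfg W F Z2) {w : T} (hw : w ∈ W) {a b : T} (hab : a⁻¹ * b ∈ W) :
    ∃ f ∈ F, h85cj b w = f * h85cj a w := by
  refine ⟨h85cj a (h85cm (a⁻¹ * b) w), h85cjF hc a (h85cmF hc hab hw), ?_⟩
  have e : b = a * (a⁻¹ * b) := by group
  rw [← h85cj_mul_distrib, ← h85cj_eq_cm_mul, ← h85cj_mul, ← e]

theorem h85kk_congr (hc : Cfg W F Z2) {w : T} (hw : w ∈ W) {a b : T} (hab : a⁻¹ * b ∈ W) :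
    h85kk w b = h85kk w a := by
  obtain ⟨f, hf, e⟩ := h85cj_congr hc hw hab
  unfold h85kk
  rw [e, h85cm_mul_left hc (hc.FW hf) (h85cjW hc a hw) hw, h85cm_F_left hc hf hw, one_mul]

theorem h85kk_left (hc : Cfg W F Z2) {w : T} (hw : w ∈ W) {v : T} (hv : v ∈ W) (t : T) :
    h85kk w (v * t) = h85kk w t := by
  unfold h85kk
  rw [h85cj_mul, h85cj_eq_cm_mul v,
    h85cm_mul_left hc (hc.FW (h85cmF hc hv (h85cjW hc t hw))) (h85cjW hc t hw) hw,
    h85cm_F_left hc (h85cmF hc hv (h85cjW hc t hw)) hw, one_mul]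

theorem h85kk_one (w : T) : h85kk w 1 = 1 := by
  unfold h85kk h85cj h85cm; group

theorem h85kk_W (hc : Cfg W F Z2) {w : T} (hw : w ∈ W) {v : T} (hv : v ∈ W) :
    h85kk w v = 1 := by
  have := h85kk_left hc hw hv 1
  rw [mul_one] at this
  rw [this, h85kk_one]

theorem h85P_inv (hc : Cfg W F Z2) {w : T} (hw : w ∈ W) (t : T) :
    h85kk w t⁻¹ ∈ Z2 ↔ h85kk w t ∈ Z2 := by
  have e : h85cj t (h85kk w t⁻¹) = h85kk w t := by
    unfold h85kk
    rw [h85cj_cm, h85cj_inv_cj, h85cm_symm hc hw (h85cjW hc t hw)]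
  rw [← e, h85memZ_cj hc t (h85kk_mem hc hw _)]

theorem h85P_of_invol (hc : Cfg W F Z2) {w : T} (hw : w ∈ W) {t : T} (htt : t * t ∈ W)
    (hfix : ∀ f ∈ F, t * f = f * t → f ∈ Z2) : h85kk w t ∈ Z2 := by
  apply hfix _ (h85kk_mem hc hw t)
  have e : h85cj t (h85kk w t) = h85kk w t := by
    unfold h85kk
    rw [h85cj_cm, ← h85cj_mul, h85cj_eq_cm_mul (t * t) w,
      h85cm_mul_left hc (hc.FW (h85cmF hc htt hw)) hw (h85cjW hc t hw),
      h85cm_F_left hc (h85cmF hc htt hw) (h85cjW hc t hw), one_mul,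
      h85cm_symm hc (h85cjW hc t hw) hw]
  unfold h85cj at e
  calc t * h85kk w t = (t * h85kk w t * t⁻¹) * t := by group
    _ = h85kk w t * t := by rw [e]

end kappa

section dihedral

variable {T : Type*} [Group T] {W F Z2 : Subgroup T}

/-- normal-form rewriting in a group with D8 relations -/
theorem h85d8 {Q : Type*} [Group Q] (X Y Z : Q) (hZ2 : Z * Z = 1) (hX2 : X * X = 1) (hY2 : Y * Y = 1)
    (hXZ : Z * X = X * Z) (hYZ : Z * Y = Y * Z) (hXY : X * Y = Y * (X * Z)) :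
    (Y * Z) * (Y * Z) = 1 ∧ (Y * X * Z)⁻¹ * (Y * X)⁻¹ = 1 ∧ (X * Z)⁻¹ * (Z⁻¹ * X) = 1 ∧
    X⁻¹ * (Z⁻¹ * (X * Z)) = 1 ∧ (Y * Z)⁻¹ * (Z⁻¹ * Y) = 1 ∧ Y⁻¹ * (Z⁻¹ * (Y * Z)) = 1 ∧
    (Y * X * Z)⁻¹ * (Z⁻¹ * (Y * X)) = 1 ∧ (Y * X)⁻¹ * (Z⁻¹ * (Y * X * Z)) = 1 := by
  have Zi : Z⁻¹ = Z := inv_eq_of_mul_eq_one_left hZ2
  have Xi : X⁻¹ = X := inv_eq_of_mul_eq_one_left hX2
  have Yi : Y⁻¹ = Y := inv_eq_of_mul_eq_one_left hY2
  have r1 : ∀ a, Z * (Z * a) = a := fun a => by rw [← mul_assoc, hZ2, one_mul]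
  have r2 : ∀ a, X * (X * a) = a := fun a => by rw [← mul_assoc, hX2, one_mul]
  have r3 : ∀ a, Y * (Y * a) = a := fun a => by rw [← mul_assoc, hY2, one_mul]
  have r4 : ∀ a, Z * (X * a) = X * (Z * a) := fun a => by rw [← mul_assoc, hXZ, mul_assoc]
  have r5 : ∀ a, Z * (Y * a) = Y * (Z * a) := fun a => by rw [← mul_assoc, hYZ, mul_assoc]
  have r6 : ∀ a, X * (Y * a) = Y * (X * (Z * a)) := fun a => by
    rw [← mul_assoc, hXY, mul_assoc, mul_assoc]
  refine ⟨?_, ?_, ?_, ?_, ?_, ?_, ?_, ?_⟩ <;>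
  simp only [mul_inv_rev, Zi, Xi, Yi, mul_assoc, hZ2, hX2, hY2, hXZ, hYZ, hXY, r1, r2, r3, r4, r5, r6,
    mul_one, one_mul]

theorem h85mems (hc : Cfg W F Z2) {x y z : T} (hg : Gens W F Z2 x y z) :
    (y * z) * (y * z) ∈ W ∧ (y * x * z)⁻¹ * (y * x)⁻¹ ∈ W ∧ (x * z)⁻¹ * (z⁻¹ * x) ∈ W ∧
    x⁻¹ * (z⁻¹ * (x * z)) ∈ W ∧ (y * z)⁻¹ * (z⁻¹ * y) ∈ W ∧ y⁻¹ * (z⁻¹ * (y * z)) ∈ W ∧
    (y * x * z)⁻¹ * (z⁻¹ * (y * x)) ∈ W ∧ (y * x)⁻¹ * (z⁻¹ * (y * x * z)) ∈ W := by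
  haveI : W.Normal := hc.nW
  have mem : ∀ a : T, a ∈ W ↔ QuotientGroup.mk' W a = 1 := fun a =>
    (QuotientGroup.eq_one_iff a).symm
  have hZ2 : QuotientGroup.mk' W z * QuotientGroup.mk' W z = 1 := by
    rw [← map_mul]; exact (mem _).1 hg.zsq
  have hX2 : QuotientGroup.mk' W x * QuotientGroup.mk' W x = 1 := by
    rw [← map_mul]; exact (mem _).1 hg.xsq
  have hY2 : QuotientGroup.mk' W y * QuotientGroup.mk' W y = 1 := by
    rw [← map_mul]; exact (mem _).1 hg.ysq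
  have hXZ : QuotientGroup.mk' W z * QuotientGroup.mk' W x
      = QuotientGroup.mk' W x * QuotientGroup.mk' W z := by
    have h := (mem _).1 hg.xz
    rw [map_mul, map_mul, map_mul, map_inv, map_inv] at h
    have h2 := mul_inv_eq_one.1 h
    exact (mul_inv_eq_iff_eq_mul.1 h2).symm
  have hYZ : QuotientGroup.mk' W z * QuotientGroup.mk' W y
      = QuotientGroup.mk' W y * QuotientGroup.mk' W z := by
    have h := (mem _).1 hg.yz
    rw [map_mul, map_mul, map_mul, map_inv, map_inv] at h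
    have h2 := mul_inv_eq_one.1 h
    exact (mul_inv_eq_iff_eq_mul.1 h2).symm
  have hXY : QuotientGroup.mk' W x * QuotientGroup.mk' W y
      = QuotientGroup.mk' W y * (QuotientGroup.mk' W x * QuotientGroup.mk' W z) := by
    have h := (mem _).1 hg.yx
    rw [map_mul, map_mul, map_mul, map_inv, map_inv, map_mul] at h
    have h2 := mul_inv_eq_one.1 h
    have Yi : (QuotientGroup.mk' W y)⁻¹ = QuotientGroup.mk' W y := inv_eq_of_mul_eq_one_left hY2
    rw [Yi] at h2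
    rw [← h2, ← mul_assoc, ← mul_assoc, hY2, one_mul]
  have key := h85d8 _ _ _ hZ2 hX2 hY2 hXZ hYZ hXY
  simp only [← map_mul, ← map_inv, ← mem] at key
  exact key

end dihedral

section main

variable {T : Type*} [Group T] {W F Z2 : Subgroup T}

theorem h85final (hc : Cfg W F Z2) {w : T} (hw : w ∈ W) (z g t : T) (hgt : g⁻¹ * t ∈ W)
    (hP : h85kk w g ∈ Z2 ↔ h85kk w (z⁻¹ * g) ∈ Z2) :
    h85cm (dz z w) (h85cj t w) ∈ Z2 := by
  obtain ⟨f, hf, e⟩ := h85cj_congr hc hw hgt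
  have hzw : h85cj z w ∈ W := h85cjW hc z hw
  have hgw : h85cj g w ∈ W := h85cjW hc g hw
  have e2 : dz z w = w * h85cj z w := rfl
  have hd : dz z w ∈ W := by rw [e2]; exact W.mul_mem hw hzw
  rw [e, h85cm_mul_right hc hd (hc.FW hf) hgw, h85cm_F_right hc hf hd, one_mul]
  rw [e2, h85cm_mul_left hc hw hzw hgw]
  have e3 : h85cm w (h85cj g w) = h85kk w g := h85cm_symm hc hgw hw
  have e4 : h85cm (h85cj z w) (h85cj g w) = h85cj z (h85kk w (z⁻¹ * g)) := by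
    unfold h85kk
    rw [h85cj_cm, h85cj_mul, h85cj_inv_cj]
    exact h85cm_symm hc hgw hzw
  rw [e3, e4, h85par_mul hc (h85kk_mem hc hw g) (h85cjF hc z (h85kk_mem hc hw _)),
    h85memZ_cj hc z (h85kk_mem hc hw _)]
  exact hP

end main

variable {T : Type*} [Group T] [Finite T]

theorem comm_dz (W F Z2 : Subgroup T) (x y z : T) (hc : Cfg W F Z2) (hg : Gens W F Z2 x y z)
    (w : T) (hw : w ∈ W) (hN : nrm x y z w * w = w * nrm x y z w) :
    ∀ t : T, dz z w * (t * w * t⁻¹) * (dz z w)⁻¹ * (t * w * t⁻¹)⁻¹ ∈ Z2 := by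
  obtain ⟨m1, m2, m3, m4, m5, m6, m7, m8⟩ := h85mems hc hg
  have Pz : h85kk w z ∈ Z2 := h85P_of_invol hc hw hg.zsq hg.fixz
  have Py : h85kk w y ∈ Z2 := h85P_of_invol hc hw hg.ysq hg.fixy
  have Pyz : h85kk w (y * z) ∈ Z2 := h85P_of_invol hc hw m1 hg.fixyz
  have Pyx : h85kk w (y * x) ∈ Z2 ↔ h85kk w (y * x * z) ∈ Z2 := by
    rw [← h85P_inv hc hw (y * x), h85kk_congr hc hw m2]
  -- the norm relation
  have hsum : h85cm (nrm x y z w) w = 1 := by
    unfold h85cm; rw [hN]; group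
  have hnrm : nrm x y z w = (w * h85cj z w * (h85cj x w * h85cj (x * z) w)) *
      (h85cj y w * h85cj (y * z) w * (h85cj (y * x) w * h85cj (y * x * z) w)) := by
    unfold nrm h85cj; group
  have cW : ∀ g : T, h85cj g w ∈ W := fun g => h85cjW hc g hw
  have E : h85cm (nrm x y z w) w =
      ((h85kk w z) * (h85kk w x * h85kk w (x * z))) *
        ((h85kk w y * h85kk w (y * z)) * (h85kk w (y * x) * h85kk w (y * x * z))) := by
    rw [hnrm,
      h85cm_mul_left hc (W.mul_mem (W.mul_mem hw (cW z)) (W.mul_mem (cW x) (cW (x * z))))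
        (W.mul_mem (W.mul_mem (cW y) (cW (y * z))) (W.mul_mem (cW (y * x)) (cW (y * x * z)))) hw,
      h85cm_mul_left hc (W.mul_mem hw (cW z)) (W.mul_mem (cW x) (cW (x * z))) hw,
      h85cm_mul_left hc (W.mul_mem (cW y) (cW (y * z))) (W.mul_mem (cW (y * x)) (cW (y * x * z))) hw,
      h85cm_mul_left hc hw (cW z) hw,
      h85cm_mul_left hc (cW x) (cW (x * z)) hw,
      h85cm_mul_left hc (cW y) (cW (y * z)) hw,
      h85cm_mul_left hc (cW (y * x)) (cW (y * x * z)) hw,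
      h85cm_self, one_mul]
    rfl
  have kF : ∀ g : T, h85kk w g ∈ F := fun g => h85kk_mem hc hw g
  have hxxz : h85kk w x ∈ Z2 ↔ h85kk w (x * z) ∈ Z2 := by
    have h1 : ((h85kk w z) * (h85kk w x * h85kk w (x * z))) *
        ((h85kk w y * h85kk w (y * z)) * (h85kk w (y * x) * h85kk w (y * x * z))) ∈ Z2 := by
      rw [← E, hsum]; exact Z2.one_mem
    have hB : (h85kk w y * h85kk w (y * z)) * (h85kk w (y * x) * h85kk w (y * x * z)) ∈ Z2 :=
      Z2.mul_mem (Z2.mul_mem Py Pyz)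
        ((h85par_mul hc (kF _) (kF _)).2 Pyx)
    have hA : (h85kk w z) * (h85kk w x * h85kk w (x * z)) ∈ Z2 := by
      have := (h85par_mul hc (F.mul_mem (kF _) (F.mul_mem (kF _) (kF _)))
        (F.mul_mem (F.mul_mem (kF _) (kF _)) (F.mul_mem (kF _) (kF _)))).1 h1
      exact this.2 hB
    have hA2 : h85kk w x * h85kk w (x * z) ∈ Z2 :=
      ((h85par_mul hc (kF _) (F.mul_mem (kF _) (kF _))).1 hA).1 Pz
    exact (h85par_mul hc (kF _) (kF _)).1 hA2
  intro t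
  obtain ⟨g, hg8, hgt⟩ := hg.cover t
  show h85cm (dz z w) (h85cj t w) ∈ Z2
  rcases hg8 with rfl | rfl | rfl | rfl | rfl | rfl | rfl | rfl
  · refine h85final hc hw z _ t hgt ?_
    rw [mul_one, h85P_inv hc hw z, h85kk_one]
    exact ⟨fun _ => Pz, fun _ => Z2.one_mem⟩
  · refine h85final hc hw g g t hgt ?_
    rw [inv_mul_cancel, h85kk_one]
    exact ⟨fun _ => Z2.one_mem, fun _ => Pz⟩
  · refine h85final hc hw z g t hgt ?_
    rw [h85kk_congr hc hw m3]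
    exact hxxz
  · refine h85final hc hw z _ t hgt ?_
    rw [h85kk_congr hc hw m4]
    exact hxxz.symm
  · refine h85final hc hw z g t hgt ?_
    rw [h85kk_congr hc hw m5]
    exact ⟨fun _ => Pyz, fun _ => Py⟩
  · refine h85final hc hw z _ t hgt ?_
    rw [h85kk_congr hc hw m6]
    exact ⟨fun _ => Py, fun _ => Pyz⟩
  · refine h85final hc hw z _ t hgt ?_
    rw [h85kk_congr hc hw m7]
    exact Pyx
  · refine h85final hc hw z _ t hgt ?_
    rw [h85kk_congr hc hw m8]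
    exact Pyx.symm

end Cfsg.Agent.Helper85.RuZ
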