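import Mathlib
import Cfsg.Agent.Lib.Helper85.Solvable2
import Cfsg.Agent.S5132

set_option autoImplicit false

namespace Cfsg.Agent.Helper85

open Cfsg Cfsg.FusionSystem Cfsg.Agent.Helper87
open scoped commutatorElement

variable {Ω : Type*} [Group Ω] {S : Subgroup Ω} {F : FusionSystem S}

/-- a chain of strongly closed subgroups from `T₀` up to `S` with abelian quotients -/
def HasChainFrom (F : FusionSystem S) (T₀ : Subgroup Ω) : Prop :=
  ∃ (n : ℕ) (T : Fin (n + 1) → Subgroup Ω), T 0 = T₀ ∧ T (Fin.last n) = S ∧ Monotone T ∧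
    (∀ i, F.StronglyClosed (T i)) ∧ ∀ i : Fin n, ⁅T i.succ, T i.succ⁆ ≤ T (Fin.castSucc i)

theorem hasChainFrom_top (F : FusionSystem S) : HasChainFrom F S :=
  ⟨0, fun _ => S, rfl, rfl, monotone_const, fun _ => stronglyClosed_top' F, fun i => i.elim0⟩

theorem hasChainFrom_cons {T₀ U : Subgroup Ω} (hT₀ : F.StronglyClosed T₀) (hle : T₀ ≤ U) (hab : ⁅U, U⁆ ≤ T₀)
    (h : HasChainFrom F U) : HasChainFrom F T₀ := by
  obtain ⟨n, T, h0, hl, hmono, hsc, habT⟩ := h
  refine ⟨n + 1, Fin.cons T₀ T, Fin.cons_zero _ _, ?_, ?_, ?_, ?_⟩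
  · have : Fin.last (n + 1) = (Fin.last n).succ := rfl
    rw [this, Fin.cons_succ]
    exact hl
  · rw [Fin.monotone_iff_le_succ]
    intro i
    refine Fin.cases ?_ (fun j => ?_) i
    · rw [Fin.castSucc_zero, Fin.cons_zero, Fin.cons_succ, h0]
      exact hle
    · rw [← Fin.succ_castSucc, Fin.cons_succ, Fin.cons_succ]
      exact hmono (Fin.castSucc_le_succ j)
  · intro i
    refine Fin.cases ?_ (fun j => ?_) i
    · rw [Fin.cons_zero]; exact hT₀
    · rw [Fin.cons_succ]; exact hsc j
  · intro i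
    refine Fin.cases ?_ (fun j => ?_) i
    · rw [Fin.castSucc_zero, Fin.cons_zero, Fin.cons_succ, h0]
      exact hab
    · rw [← Fin.succ_castSucc, Fin.cons_succ, Fin.cons_succ]
      exact habT j

theorem normal_subgroupOf_of_stronglyClosed {T : Subgroup Ω} (hT : F.StronglyClosed T) :
    (T.subgroupOf S).Normal :=
  (Subgroup.normal_subgroupOf_iff_le_normalizer hT.1).2 (stronglyClosed_le_normalizer hT)

theorem hasChainFrom_of_solvable [Finite S] {p : ℕ} [Fact p.Prime] (hS : IsPGroup p S) (hF : F.IsSaturated p)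
    (hsolv : F.IsSolvableSystem) : ∀ (m : ℕ) (T : Subgroup Ω), F.StronglyClosed T →
      Nat.card S - Nat.card T = m → HasChainFrom F T := by
  intro m
  induction m using Nat.strong_induction_on with
  | _ m ih =>
    intro T hT hm
    by_cases hTS : T = S
    · rw [hTS]; exact hasChainFrom_top F
    · haveI : (T.subgroupOf S).Normal := normal_subgroupOf_of_stronglyClosed hT
      obtain ⟨E, hE⟩ := Cfsg.Agent.S5132.result p hS F T hT
      have hcore := hsolv T hT hTS E hE
      obtain ⟨U, hU, hTU, hUT, hab⟩ := exists_next_of_core_ne_bot hS hF hT hE hcore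
      obtain ⟨u, huU, huT⟩ := SetLike.not_le_iff_exists.1 hUT
      have hlt : Nat.card T < Nat.card U := card_lt_of_not_mem hTU hU.1 huU huT
      have hUS : Nat.card U ≤ Nat.card S := Subgroup.card_le_of_le hU.1
      exact hasChainFrom_cons hT hTU hab (ih (Nat.card S - Nat.card U) (by omega) U hU rfl)

theorem solvable_of_hasChainFrom [Finite S] {p : ℕ} [Fact p.Prime] (hS : IsPGroup p S) (hF : F.IsSaturated p)
    (h : HasChainFrom F ⊥) : F.IsSolvableSystem := by
  obtain ⟨n, T, h0, hl, hmono, hsc, habT⟩ := h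
  intro R hR hRS _ E hE
  have hex : ∃ i : Fin n, T (Fin.castSucc i) ≤ R ∧ ¬ T i.succ ≤ R := by
    by_contra hall
    push_neg at hall
    have hallT : ∀ i : Fin (n + 1), T i ≤ R := by
      intro i
      induction i using Fin.induction with
      | zero => rw [h0]; exact bot_le
      | succ j ih => exact hall j ih
    apply hRS
    apply le_antisymm hR.1
    rw [← hl]
    exact hallT _
  obtain ⟨i, hi1, hi2⟩ := hex
  exact core_ne_bot_of_abelian hS hF hR hE (hsc i.succ) hi2 ((habT i).trans hi1)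

end Cfsg.Agent.Helper85
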