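import Mathlib
import Cfsg.Agent.Lib.Helper85.Solvable3
import Cfsg.Agent.Lib.Helper85.Model
import Cfsg.Agent.Lib.Helper84.FusNormal

set_option autoImplicit false

namespace Cfsg.Agent.Helper85

open Cfsg Cfsg.FusionSystem Cfsg.Agent.Helper87
open scoped commutatorElement

variable {Ω : Type*} [Group Ω] {S : Subgroup Ω} {F : FusionSystem S}

/-- the centralizer in `S` of a subgroup normal in the system is strongly closed -/
theorem centralizerIn_stronglyClosed_of_isNormal {Q : Subgroup Ω} (hQ : F.IsNormal Q) :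
    F.StronglyClosed (centralizerIn S Q) := by
  rw [stronglyClosed_iff]
  obtain ⟨hQS, h⟩ := isNormal_iff.1 hQ
  refine ⟨inf_le_left, fun R f hR hf x hx => ?_⟩
  obtain ⟨g, hg, e1, e2⟩ := h R f hf
  rw [← e1 x hx]
  have hxs : x ∈ R ⊔ Q := (le_sup_left : R ≤ R ⊔ Q) hx
  refine ⟨hg.mem hxs, ?_⟩
  show g x ∈ Subgroup.centralizer (Q : Set Ω)
  rw [Subgroup.mem_centralizer_iff]
  intro u hu
  obtain ⟨u', hu', rfl⟩ := (e2 u).1 hu
  have hus : u' ∈ R ⊔ Q := (le_sup_right : Q ≤ R ⊔ Q) hu'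
  have hxC : x ∈ Subgroup.centralizer (Q : Set Ω) := (hR hx).2
  rw [← hg.map_mul hus hxs, ← hg.map_mul hxs hus, (Subgroup.mem_centralizer_iff.1 hxC) u' hu']

/-- the chain `R ≥ R ∩ U ≥ R ∩ Q₁ ≥ 1` -/
def chain3 (U Q₁ R : Subgroup Ω) : ℕ → Subgroup R
  | 0 => ⊤
  | 1 => U.subgroupOf R
  | 2 => Q₁.subgroupOf R
  | _ => ⊥

/-- a strongly closed subgroup `Y` centralizing the normal subgroup `Q₁`, with `[Y, Y] ≤ Q₁`, lies in every centric radical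
subgroup containing `Q₁` -/
theorem le_of_centric_radical_of_centralizes {p : ℕ} [Fact p.Prime] [Finite S] (hS : IsPGroup p S)
    (hF : F.IsSaturated p) {Y Q₁ R : Subgroup Ω} (hY : F.StronglyClosed Y) (hQ₁ : F.StronglyClosed Q₁)
    (hQ₁R : Q₁ ≤ R) (hab : ⁅Y, Y⁆ ≤ Q₁) (hYC : Y ≤ Subgroup.centralizer (Q₁ : Set Ω))
    (hcen : F.IsCentric R) (hrad : F.IsRadical p R) : Y ≤ R := by
  classical
  have hR : R ≤ S := hcen.1
  haveI hfinR : Finite R := finite_of_le hR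
  have hRp : IsPGroup p R := hS.to_le hR
  have hU : F.StronglyClosed (Y ⊔ Q₁) := Cfsg.Agent.S5128.result p hS F hF Y Q₁ hY hQ₁
  have hbot : F.StronglyClosed ⊥ := stronglyClosed_bot F
  have hBn : ((Cfsg.Agent.S5125.trivSub F (Y ⊔ Q₁) S R hU (stronglyClosed_top' F) hR ⊓
      Cfsg.Agent.S5125.trivSub F Q₁ (Y ⊔ Q₁) R hQ₁ hU hR) ⊓
      Cfsg.Agent.S5125.trivSub F ⊥ Q₁ R hbot hQ₁ hR).Normal :=
    Subgroup.normal_inf_normal _ _
  have hBp : IsPGroup p ↥((Cfsg.Agent.S5125.trivSub F (Y ⊔ Q₁) S R hU (stronglyClosed_top' F) hR ⊓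
      Cfsg.Agent.S5125.trivSub F Q₁ (Y ⊔ Q₁) R hQ₁ hU hR) ⊓
      Cfsg.Agent.S5125.trivSub F ⊥ Q₁ R hbot hQ₁ hR) := by
    rintro ⟨β, hβ⟩
    have hpos : orderOf (β : MulAut R) ≠ 0 := (orderOf_pos (β : MulAut R)).ne'
    obtain ⟨e, n, hn, hen⟩ := Nat.exists_eq_pow_mul_and_not_dvd hpos p (Fact.out : p.Prime).ne_one
    have hδB := Subgroup.pow_mem _ hβ (p ^ e)
    have hcop : (orderOf (((β ^ p ^ e : F.autGroup R)) : MulAut R)).Coprime p := by
      rw [Subgroup.coe_pow]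
      exact Helper86.coprime_orderOf_pow_of_not_dvd (β : MulAut R) hn hen
    have hδ1 : ((β ^ p ^ e : F.autGroup R) : MulAut R) = 1 := by
      apply Helper86.coprime_aut_eq_one_of_chain hRp (chain3 (Y ⊔ Q₁) Q₁ R) 3 rfl rfl _ _ hcop
      intro k hk x hx
      match k, hk, hx with
      | 0, _, _ =>
        exact Subgroup.mem_subgroupOf.2 (hδB.1.1 x (hR x.2))
      | 1, _, hx =>
        exact Subgroup.mem_subgroupOf.2 (hδB.1.2 x (Subgroup.mem_subgroupOf.1 hx))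
      | 2, _, hx =>
        have := hδB.2 x (Subgroup.mem_subgroupOf.1 hx)
        have h1 : ((x⁻¹ * ((β ^ p ^ e : F.autGroup R) : MulAut R) x : R) : Ω) = 1 := Subgroup.mem_bot.1 this
        show x⁻¹ * ((β ^ p ^ e : F.autGroup R) : MulAut R) x ∈ (⊥ : Subgroup R)
        rw [Subgroup.mem_bot]
        exact Subtype.ext h1
    refine ⟨e, ?_⟩
    apply Subtype.ext
    apply Subtype.ext
    exact hδ1
  have hle := le_pCore hBn hBp
  have hYn : Y ≤ Subgroup.normalizer (Q₁ : Set Ω) := hY.1.trans (stronglyClosed_le_normalizer hQ₁)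
  have hNY : ∀ y ∈ Y, y ∈ Subgroup.normalizer (R : Set Ω) → y ∈ R := by
    intro y hy hyN
    apply mem_of_conjAut_mem_inn hcen (hY.1 hy) hyN
    rw [← hrad.2]
    have hA : conjAut R y hyN ∈ F.autGroup R :=
      autInducedBy_le_autGroup F hR (conjAut_mem_autInducedBy (hY.1 hy) hyN)
    refine ⟨⟨conjAut R y hyN, hA⟩, hle ⟨⟨?_, ?_⟩, ?_⟩, rfl⟩
    · intro x _
      show (x : Ω)⁻¹ * ((conjAut R y hyN x : R) : Ω) ∈ Y ⊔ Q₁
      rw [conjAut_apply]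
      have h1 : (x : Ω)⁻¹ * (y * x * y⁻¹) = ((x : Ω)⁻¹ * y * (x : Ω)⁻¹⁻¹) * y⁻¹ := by group
      rw [h1]
      exact (le_sup_left : Y ≤ Y ⊔ Q₁)
        (Y.mul_mem (StronglyClosed.conj_mem hY (S.inv_mem (hR x.2)) hy) (Y.inv_mem hy))
    · intro x hx
      show (x : Ω)⁻¹ * ((conjAut R y hyN x : R) : Ω) ∈ Q₁
      rw [conjAut_apply]
      obtain ⟨y', hy', q, hq, hxe⟩ := (mem_sup_iff_of_le_normalizer hYn).1 hx
      have hqy : q * y = y * q := (Subgroup.mem_centralizer_iff.1 (hYC hy)) q hq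
      have hc : ⁅y'⁻¹, y⁆ ∈ Q₁ := hab (Subgroup.commutator_mem_commutator (Y.inv_mem hy') hy)
      have hqy' : q * y⁻¹ = y⁻¹ * q := by
        have : y⁻¹ * (q * y) * y⁻¹ = y⁻¹ * (y * q) * y⁻¹ := by rw [hqy]
        calc q * y⁻¹ = y⁻¹ * (y * q) * y⁻¹ := by group
          _ = y⁻¹ * (q * y) * y⁻¹ := by rw [hqy]
          _ = y⁻¹ * q * (y * y⁻¹) := by group
          _ = y⁻¹ * q := by group
      have h1 : (x : Ω)⁻¹ * (y * x * y⁻¹) = q⁻¹ * ⁅y'⁻¹, y⁆ * q := by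
        rw [hxe, commutatorElement_def]
        calc (y' * q)⁻¹ * (y * (y' * q) * y⁻¹) = q⁻¹ * y'⁻¹ * y * y' * (q * y⁻¹) := by group
          _ = q⁻¹ * y'⁻¹ * y * y' * (y⁻¹ * q) := by rw [hqy']
          _ = q⁻¹ * (y'⁻¹ * y * y'⁻¹⁻¹ * y⁻¹) * q := by group
      rw [h1]
      exact Q₁.mul_mem (Q₁.mul_mem (Q₁.inv_mem hq) hc) hq
    · intro x hx
      show (x : Ω)⁻¹ * ((conjAut R y hyN x : R) : Ω) ∈ (⊥ : Subgroup Ω)
      rw [conjAut_apply, Subgroup.mem_bot]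
      have hxy : (x : Ω) * y = y * x := (Subgroup.mem_centralizer_iff.1 (hYC hy)) x hx
      calc (x : Ω)⁻¹ * (y * x * y⁻¹) = (x : Ω)⁻¹ * ((x : Ω) * y) * y⁻¹ := by rw [hxy]; group
        _ = 1 := by group
  by_contra hne
  have hT : Y ⊔ R ≤ S := sup_le hY.1 hR
  have hTp : IsPGroup p (Y ⊔ R : Subgroup Ω) := hS.to_le hT
  have hTfin : Finite (Y ⊔ R : Subgroup Ω) := finite_of_le hT
  have hRT : R ≠ Y ⊔ R := fun h => hne (h ▸ le_sup_left)
  obtain ⟨n, hn, hnR⟩ := exists_normalizer_not_mem (S := Y ⊔ R) hTp le_sup_right hRT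
  have hRN : R ≤ Subgroup.normalizer (Y : Set Ω) := hR.trans (StronglyClosed.le_normalizer hY)
  have hcoe := Subgroup.coe_mul_of_right_le_normalizer_left Y R hRN
  have hnT : n ∈ (↑(Y ⊔ R) : Set Ω) := hn.1
  rw [hcoe] at hnT
  obtain ⟨q, hq, r, hr, rfl⟩ := hnT
  apply hnR
  have hqN : q ∈ Subgroup.normalizer (R : Set Ω) := by
    have h2 : q = (q * r) * r⁻¹ := by group
    rw [h2]
    exact Subgroup.mul_mem _ hn.2 (Subgroup.inv_mem _ (Subgroup.le_normalizer hr))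
  exact R.mul_mem (hNY q hq hqN) hr

end Cfsg.Agent.Helper85
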