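import Mathlib
import Cfsg.Agent.Lib.Helper85.Solvable4

set_option autoImplicit false

namespace Cfsg.Agent.Helper85

open Cfsg Cfsg.FusionSystem Cfsg.Agent.Helper87
open scoped commutatorElement

variable {Ω : Type*} [Group Ω] {S : Subgroup Ω} {F : FusionSystem S}

/-- a solvable saturated fusion system is constrained: `C_S(O_p(F)) ≤ O_p(F)` -/
theorem constrained_of_solvable [Finite S] {p : ℕ} [Fact p.Prime] (hS : IsPGroup p S) (hF : F.IsSaturated p)
    (hsolv : F.IsSolvableSystem) : F.IsConstrained p := by
  have hQ : F.IsNormal F.core := isNormal_core F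
  have hQsc : F.StronglyClosed F.core := stronglyClosed_of_isNormal hQ
  have hD : F.StronglyClosed (centralizerIn S F.core) := centralizerIn_stronglyClosed_of_isNormal hQ
  obtain ⟨n, T, h0, hl, hmono, hsc, habT⟩ :=
    hasChainFrom_of_solvable hS hF hsolv _ ⊥ (stronglyClosed_bot F) rfl
  have key : ∀ i : Fin (n + 1), centralizerIn S F.core ⊓ T i ≤ F.core := by
    intro i
    induction i using Fin.induction with
    | zero => rw [h0, inf_bot_eq]; exact bot_le
    | succ j ih =>
      have hY : F.StronglyClosed (centralizerIn S F.core ⊓ T j.succ) := stronglyClosed_inf hD (hsc j.succ)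
      have habY : ⁅centralizerIn S F.core ⊓ T j.succ, centralizerIn S F.core ⊓ T j.succ⁆ ≤ F.core := by
        refine le_trans ?_ ih
        apply le_inf
        · exact (Subgroup.commutator_mono inf_le_left inf_le_left).trans (Subgroup.commutator_le_self _)
        · exact (Subgroup.commutator_mono inf_le_right inf_le_right).trans (habT j)
      have hYC : centralizerIn S F.core ⊓ T j.succ ≤ Subgroup.centralizer (F.core : Set Ω) :=
        inf_le_left.trans inf_le_right
      have hYn : F.IsNormal (centralizerIn S F.core ⊓ T j.succ) := by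
        apply isNormal_of_stronglyClosed_of_le hS hF hY
        intro R _ hcen hrad
        have hQR : F.core ≤ R := Cfsg.Agent.Helper84.le_of_normal_centric_radical F hS hQ hcen hrad
        exact le_of_centric_radical_of_centralizes hS hF hY hQsc hQR habY hYC hcen hrad
      exact le_core hYn
  have hDQ : centralizerIn S F.core ≤ F.core := by
    have h1 := key (Fin.last n)
    rw [hl] at h1
    intro x hx
    exact h1 ⟨hx, hx.1⟩
  refine ⟨hF, F.core, hQ, hQ.1, fun Q' hQ' => ?_⟩
  rw [eq_of_isConj_of_isNormal hQ hQ']
  exact hDQ

end Cfsg.Agent.Helper85
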