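import Mathlib
import Cfsg.Agent.Lib.Helper85.Solvable5
import Cfsg.Agent.Lib.Helper87.FusionInvariant

set_option autoImplicit false

namespace Cfsg.Agent.Helper85

open Cfsg Cfsg.FusionSystem Cfsg.Agent.Helper87
open scoped commutatorElement

variable {Ω : Type*} [Group Ω] {S T : Subgroup Ω} {F : FusionSystem S} {E : FusionSystem T}

theorem stronglyClosed_sInf {𝒜 : Set (Subgroup Ω)} (h𝒜 : ∀ A ∈ 𝒜, E.StronglyClosed A) (hne : 𝒜.Nonempty) :
    E.StronglyClosed (sInf 𝒜) := by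
  rw [stronglyClosed_iff]
  obtain ⟨A₀, hA₀⟩ := hne
  refine ⟨(sInf_le hA₀).trans (h𝒜 A₀ hA₀).1, fun R f hR hf x hx => ?_⟩
  rw [Subgroup.mem_sInf]
  intro A hA
  exact (stronglyClosed_iff.1 (h𝒜 A hA)).2 R f (hR.trans (sInf_le hA)) hf x hx

/-- the smallest strongly closed subgroup containing the commutator subgroup of `A` -/
def nextDer (E : FusionSystem T) (A : Subgroup Ω) : Subgroup Ω :=
  sInf {B | E.StronglyClosed B ∧ ⁅A, A⁆ ≤ B}

theorem nextDer_stronglyClosed {A : Subgroup Ω} (hA : E.StronglyClosed A) : E.StronglyClosed (nextDer E A) :=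
  stronglyClosed_sInf (fun _ hB => hB.1) ⟨A, hA, Subgroup.commutator_le_self A⟩

theorem nextDer_le {A : Subgroup Ω} (hA : E.StronglyClosed A) : nextDer E A ≤ A :=
  sInf_le ⟨hA, Subgroup.commutator_le_self A⟩

theorem commutator_le_nextDer (A : Subgroup Ω) : ⁅A, A⁆ ≤ nextDer E A :=
  le_sInf (fun _ hB => hB.2)

theorem nextDer_le_of {A B : Subgroup Ω} (hB : E.StronglyClosed B) (h : ⁅A, A⁆ ≤ B) : nextDer E A ≤ B :=
  sInf_le ⟨hB, h⟩

/-- the canonical descending series of strongly closed subgroups with abelian quotients -/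
def scSeries (E : FusionSystem T) : ℕ → Subgroup Ω
  | 0 => T
  | (k + 1) => nextDer E (scSeries E k)

theorem scSeries_stronglyClosed (E : FusionSystem T) (k : ℕ) : E.StronglyClosed (scSeries E k) := by
  induction k with
  | zero => exact stronglyClosed_top' E
  | succ k ih => exact nextDer_stronglyClosed ih

theorem scSeries_succ_le (E : FusionSystem T) (k : ℕ) : scSeries E (k + 1) ≤ scSeries E k :=
  nextDer_le (scSeries_stronglyClosed E k)

theorem scSeries_le (E : FusionSystem T) (k : ℕ) : scSeries E k ≤ T :=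
  (scSeries_stronglyClosed E k).1

/-- the image of a strongly closed subgroup under an automorphism of `T` normalizing the system is strongly closed -/
theorem imgAut_stronglyClosed (h : E.IsInvariantIn F) {α : MulAut T} (hα : α ∈ F.autGroup T) {B : Subgroup Ω}
    (hB : E.StronglyClosed B) : E.StronglyClosed (imgAut α B) := by
  rw [stronglyClosed_iff]
  refine ⟨imgAut_le α B, fun R f hR hf y hy => ?_⟩
  have hRT : R ≤ T := hR.trans (imgAut_le α B)
  have hαinv : α⁻¹ ∈ F.autGroup T := (F.autGroup T).inv_mem hα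
  have h1 := invariance_fun h hRT hf hαinv
  -- `imgAut α⁻¹ R ≤ B`
  have hle : imgAut α⁻¹ R ≤ B := by
    intro z hz
    obtain ⟨r, hr, rfl⟩ := (mem_imgAut hRT).1 hz
    obtain ⟨b, hb, rfl⟩ := (mem_imgAut hB.1).1 (hR hr)
    rw [extAut_inv_left α (hB.1 hb)]
    exact hb
  have hy' : extAut α⁻¹ y ∈ imgAut α⁻¹ R := (mem_imgAut hRT).2 ⟨y, hy, rfl⟩
  have h2 := (stronglyClosed_iff.1 hB).2 _ _ hle h1 _ hy'
  -- h2 : extAut α⁻¹ (f (extAut α⁻¹⁻¹ (extAut α⁻¹ y))) ∈ B
  have h3 : extAut (α⁻¹)⁻¹ (extAut α⁻¹ y) = y := extAut_inv_left α⁻¹ (hRT hy)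
  have h2' : extAut α⁻¹ (f (extAut (α⁻¹)⁻¹ (extAut α⁻¹ y))) ∈ B := h2
  rw [h3] at h2'
  have hfy : f y ∈ T := hf.mem hy
  refine (mem_imgAut hB.1).2 ⟨_, h2', ?_⟩
  exact extAut_inv_right α hfy

end Cfsg.Agent.Helper85
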