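import Mathlib
import Cfsg.Agent.Lib.Helper85.Solvable6

set_option autoImplicit false

namespace Cfsg.Agent.Helper85

open Cfsg Cfsg.FusionSystem Cfsg.Agent.Helper87
open scoped commutatorElement

variable {Ω : Type*} [Group Ω] {S T : Subgroup Ω} {F : FusionSystem S} {E : FusionSystem T}

/-- the canonical series is invariant under the automorphisms of `T` in the larger system -/
theorem scSeries_invariant (h : E.IsInvariantIn F) (k : ℕ) :
    ∀ α ∈ F.autGroup T, ∀ x ∈ scSeries E k, extAut α x ∈ scSeries E k := by
  have hTS : T ≤ S := h.2.1.1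
  induction k with
  | zero =>
    intro α _ x hx
    exact extAut_mem_self α hx
  | succ k ih =>
    intro α hα x hx
    have hmor : Mor F T (extAut α) := (mem_autGroup_iff hTS).1 hα
    have hαinv : α⁻¹ ∈ F.autGroup T := (F.autGroup T).inv_mem hα
    show extAut α x ∈ sInf {B | E.StronglyClosed B ∧ ⁅scSeries E k, scSeries E k⁆ ≤ B}
    rw [Subgroup.mem_sInf]
    rintro B ⟨hB, hcomm⟩
    -- `x` lies in `imgAut α⁻¹ B`, a member of the family
    have hB' : E.StronglyClosed (imgAut α⁻¹ B) := imgAut_stronglyClosed h hαinv hB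
    have hcomm' : ⁅scSeries E k, scSeries E k⁆ ≤ imgAut α⁻¹ B := by
      rw [Subgroup.commutator_le]
      intro a ha b hb
      have haT := scSeries_le E k ha
      have hbT := scSeries_le E k hb
      have hcT : ⁅a, b⁆ ∈ T := by
        rw [commutatorElement_def]
        exact T.mul_mem (T.mul_mem (T.mul_mem haT hbT) (T.inv_mem haT)) (T.inv_mem hbT)
      refine (mem_imgAut hB.1).2 ⟨extAut α ⁅a, b⁆, hcomm ?_, extAut_inv_left α hcT⟩
      have e : extAut α ⁅a, b⁆ = ⁅extAut α a, extAut α b⁆ := by
        rw [commutatorElement_def, commutatorElement_def,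
          hmor.map_mul (T.mul_mem (T.mul_mem haT hbT) (T.inv_mem haT)) (T.inv_mem hbT),
          hmor.map_mul (T.mul_mem haT hbT) (T.inv_mem haT), hmor.map_mul haT hbT, hmor.map_inv haT,
          hmor.map_inv hbT]
      rw [e]
      exact Subgroup.commutator_mem_commutator (ih α hα a ha) (ih α hα b hb)
    have hx' : x ∈ imgAut α⁻¹ B := (nextDer_le_of hB' hcomm') hx
    obtain ⟨b, hb, rfl⟩ := (mem_imgAut hB.1).1 hx'
    rw [extAut_inv_right α (hB.1 hb)]
    exact hb

/-- the terms of the canonical series of an invariant subsystem are strongly closed in the larger system -/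
theorem scSeries_stronglyClosed_of_invariant (h : E.IsInvariantIn F) (k : ℕ) :
    F.StronglyClosed (scSeries E k) := by
  rw [stronglyClosed_iff]
  have hTS : T ≤ S := h.2.1.1
  refine ⟨(scSeries_le E k).trans hTS, fun R f hR hf x hx => ?_⟩
  have hRT : R ≤ T := hR.trans (scSeries_le E k)
  obtain ⟨α, hα, f₀, hf₀, e⟩ := frattini_fun h hRT hf
  rw [e x hx]
  apply scSeries_invariant h k α hα
  exact (stronglyClosed_iff.1 (scSeries_stronglyClosed E k)).2 R f₀ hR hf₀ x hx

/-- along a chain of strongly closed subgroups with abelian quotients ending at `T`, the canonical series descends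
below the first term -/
theorem exists_scSeries_le (E : FusionSystem T) : ∀ (n : ℕ) (c : Fin (n + 1) → Subgroup Ω), c (Fin.last n) = T →
    (∀ i, E.StronglyClosed (c i)) → (∀ i : Fin n, ⁅c i.succ, c i.succ⁆ ≤ c (Fin.castSucc i)) →
    ∃ k, scSeries E k ≤ c 0 := by
  intro n
  induction n with
  | zero =>
    intro c hl _ _
    refine ⟨0, ?_⟩
    show T ≤ c 0
    rw [← hl]
    exact le_of_eq rfl
  | succ n ih =>
    intro c hl hsc hab
    obtain ⟨k, hk⟩ := ih (fun i => c i.succ) hl (fun i => hsc i.succ) (fun i => hab i.succ)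
    refine ⟨k + 1, ?_⟩
    apply nextDer_le_of (hsc 0)
    exact (Subgroup.commutator_mono hk hk).trans (hab 0)

/-- if `T` is reached by a chain from below in `E` and from `T` up to `S` in `F`, then `F` has a chain from `⊥` -/
theorem hasChainFrom_bot_of_invariant (h : E.IsInvariantIn F) (hET : HasChainFrom E ⊥) (hFT : HasChainFrom F T) :
    HasChainFrom F ⊥ := by
  obtain ⟨n, c, h0, hl, -, hsc, hab⟩ := hET
  obtain ⟨k, hk⟩ := exists_scSeries_le E n c hl hsc hab
  have hall : ∀ j, HasChainFrom F (scSeries E j) := by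
    intro j
    induction j with
    | zero => exact hFT
    | succ j ih =>
      exact hasChainFrom_cons (scSeries_stronglyClosed_of_invariant h (j + 1)) (scSeries_succ_le E j)
        (commutator_le_nextDer _) ih
  have hbot : scSeries E k = ⊥ := by
    rw [h0] at hk
    exact le_bot_iff.1 hk
  rw [← hbot]
  exact hall k

end Cfsg.Agent.Helper85
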