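import Mathlib
import Cfsg.Agent.Lib.Helper85.Solvable7
import Cfsg.Agent.Lib.Helper85.NormalizerModel

set_option autoImplicit false

namespace Cfsg.Agent.Helper85

open Cfsg Cfsg.FusionSystem Cfsg.Agent.Helper87
open scoped commutatorElement

variable {Ω : Type*} [Group Ω] {S T : Subgroup Ω} {F : FusionSystem S} {E : FusionSystem T}
variable {Ω' : Type*} [Group Ω'] {S' : Subgroup Ω'} {D : FusionSystem S'} {θ : S →* Ω'}

theorem solvable_iff_hasChainFrom [Finite S] {p : ℕ} [Fact p.Prime] (hS : IsPGroup p S) (hF : F.IsSaturated p) :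
    F.IsSolvableSystem ↔ HasChainFrom F ⊥ :=
  ⟨fun h => hasChainFrom_of_solvable hS hF h _ ⊥ (stronglyClosed_bot F) rfl,
    fun h => solvable_of_hasChainFrom hS hF h⟩

theorem au_commutator (θ : S →* Ω') {x y : Ω} (hx : x ∈ S) (hy : y ∈ S) :
    au θ ⁅x, y⁆ = ⁅au θ x, au θ y⁆ := by
  rw [commutatorElement_def, commutatorElement_def,
    au_mul θ (S.mul_mem (S.mul_mem hx hy) (S.inv_mem hx)) (S.inv_mem hy),
    au_mul θ (S.mul_mem hx hy) (S.inv_mem hx), au_mul θ hx hy, au_inv θ hx, au_inv θ hy]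

theorem commutator_mem_of_mem {x y : Ω} (hx : x ∈ S) (hy : y ∈ S) : ⁅x, y⁆ ∈ S := by
  rw [commutatorElement_def]
  exact S.mul_mem (S.mul_mem (S.mul_mem hx hy) (S.inv_mem hx)) (S.inv_mem hy)

/-- pulling back a chain along a surjective morphism -/
theorem hasChainFrom_pullback (hθ : F.IsSurjectiveMorphism D θ) (hD : HasChainFrom D ⊥) :
    HasChainFrom F (kerOf θ) := by
  obtain ⟨n, B, h0, hl, hmono, hsc, hab⟩ := hD
  refine ⟨n, fun i => preimageAlong θ (B i), ?_, ?_, fun i j hij => preimageAlong_mono θ (hmono hij),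
    fun i => stronglyClosed_preimage hθ.1 (hsc i), fun i => ?_⟩
  · ext x
    rw [mem_pre, mem_kerOf, h0, Subgroup.mem_bot]
  · ext x
    rw [mem_pre, hl]
    exact ⟨fun h => h.1, fun h => ⟨h, au_mem_range hθ.1.1 h⟩⟩
  · rw [Subgroup.commutator_le]
    intro x hx y hy
    obtain ⟨hxS, hxB⟩ := mem_pre.1 hx
    obtain ⟨hyS, hyB⟩ := mem_pre.1 hy
    refine mem_pre.2 ⟨commutator_mem_of_mem hxS hyS, ?_⟩
    rw [au_commutator θ hxS hyS]
    exact hab i (Subgroup.commutator_mem_commutator hxB hyB)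

/-- intersecting a chain with the subgroup of a subsystem -/
theorem hasChainFrom_inf (hsub : E.IsSubsystemOf F) (hTS : T ≤ S) (hF : HasChainFrom F ⊥) :
    HasChainFrom E ⊥ := by
  obtain ⟨n, B, h0, hl, hmono, hsc, hab⟩ := hF
  refine ⟨n, fun i => B i ⊓ T, ?_, ?_, fun i j hij => inf_le_inf_right T (hmono hij), fun i => ?_, fun i => ?_⟩
  · show B 0 ⊓ T = ⊥
    rw [h0, bot_inf_eq]
  · show B (Fin.last n) ⊓ T = T
    rw [hl]
    exact inf_eq_right.2 hTS
  · rw [stronglyClosed_iff]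
    refine ⟨inf_le_right, fun R f hR hf x hx => ⟨?_, hf.mem hx⟩⟩
    exact (stronglyClosed_iff.1 (hsc i)).2 R f (hR.trans inf_le_left) (hf.of_subsystem hsub) x hx
  · apply le_inf
    · exact (Subgroup.commutator_mono inf_le_left inf_le_left).trans (hab i)
    · exact (Subgroup.commutator_mono inf_le_right inf_le_right).trans (Subgroup.commutator_le_self T)

/-- every element of the image of `W T` comes from `W` -/
theorem exists_rep_of_mem_image_sup {W : Subgroup Ω} (hW : W ≤ S) (hT : F.StronglyClosed T)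
    (hker : kerOf θ = T) {y : Ω'} (hy : y ∈ imageAlong θ (W ⊔ T)) : ∃ w ∈ W, au θ w = y := by
  have hWn : W ≤ Subgroup.normalizer (T : Set Ω) := hW.trans (stronglyClosed_le_normalizer hT)
  obtain ⟨x, hxS, hxW, rfl⟩ := mem_img.1 hy
  obtain ⟨w, hw, t, ht, rfl⟩ := (mem_sup_iff_of_le_normalizer hWn).1 hxW
  refine ⟨w, hw, ?_⟩
  rw [au_mul θ (hW hw) (hT.1 ht)]
  have : au θ t = 1 := (mem_kerOf.1 (hker ▸ ht)).2
  rw [this, mul_one]

/-- pushing a chain forward to a factor system -/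
theorem hasChainFrom_image [Finite S] {p : ℕ} [Fact p.Prime] (hS : IsPGroup p S) (hFsat : F.IsSaturated p)
    (hT : F.StronglyClosed T) (hD : F.IsFactorSystem T θ D) (hF : HasChainFrom F ⊥) : HasChainFrom D ⊥ := by
  have hsurj := factor_surjectiveMorphism hS hFsat hT hD
  have hker : kerOf θ = T := kerOf_eq_of_factor hD
  obtain ⟨n, B, h0, hl, hmono, hsc, hab⟩ := hF
  refine ⟨n, fun i => imageAlong θ (B i ⊔ T), ?_, ?_,
    fun i j hij => imageAlong_mono θ (sup_le_sup_right (hmono hij) T), fun i => ?_, fun i => ?_⟩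
  · show imageAlong θ (B 0 ⊔ T) = ⊥
    rw [h0, bot_sup_eq, eq_bot_iff]
    intro y hy
    obtain ⟨t, htS, htT, rfl⟩ := mem_img.1 hy
    rw [Subgroup.mem_bot]
    exact (mem_kerOf.1 (hker ▸ htT)).2
  · show imageAlong θ (B (Fin.last n) ⊔ T) = S'
    rw [hl, sup_eq_left.2 hT.1]
    apply le_antisymm (imageAlong_le hsurj.1.1 S)
    intro y hy
    obtain ⟨s, hs, rfl⟩ := exists_au_eq hsurj.2.1 hy
    exact mem_img.2 ⟨s, hs, hs, rfl⟩
  · exact stronglyClosed_image hsurj (Cfsg.Agent.S5128.result p hS F hFsat _ T (hsc i) hT)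
      (hker ▸ le_sup_right)
  · rw [Subgroup.commutator_le]
    intro a ha b hb
    obtain ⟨w₁, hw₁, rfl⟩ := exists_rep_of_mem_image_sup (hsc i.succ).1 hT hker ha
    obtain ⟨w₂, hw₂, rfl⟩ := exists_rep_of_mem_image_sup (hsc i.succ).1 hT hker hb
    have hw₁S := (hsc i.succ).1 hw₁
    have hw₂S := (hsc i.succ).1 hw₂
    rw [← au_commutator θ hw₁S hw₂S]
    have hc : ⁅w₁, w₂⁆ ∈ B (Fin.castSucc i) := hab i (Subgroup.commutator_mem_commutator hw₁ hw₂)
    exact mem_img.2 ⟨_, commutator_mem_of_mem hw₁S hw₂S, le_sup_left (a := B (Fin.castSucc i)) hc, rfl⟩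

end Cfsg.Agent.Helper85
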