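import Mathlib
import Cfsg.Agent.Lib.Helper84.Sp4Defs
import Cfsg.Agent.Lib.Helper84.Sp4Basic

/-!
# PSP4F server (helper84, S5320): piece (Q8).
-/

set_option autoImplicit false

namespace Cfsg.Agent.Helper85.Sp4

open Matrix Cfsg.Agent.Helper84.Sp4

variable {F : Type*} [Field F]

/-- on `NTor`, inversion is negation. -/
theorem h85_NTor_inv_eq_neg {X : SL2 F} (hX : X ∈ (NTor : Set (SL2 F))) : X⁻¹ = -X :=
  inv_eq_of_mul_eq_one_right (by rw [mul_neg, NTor_mul_self hX, neg_neg])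

/-- the elements of exponent 4 of `Tor`. -/
theorem h85_Tor_exp_four (h2 : (2 : F) ≠ 0) {c : SL2 F} (hc : c ∈ (Tor : Subgroup (SL2 F)))
    (h4 : c ^ 4 = 1) : c = 1 ∨ c = -1 ∨ c = i0 ∨ c = i0⁻¹ := by
  have hcc : c * c ∈ (Tor : Subgroup (SL2 F)) := Tor.mul_mem hc hc
  have e : (c * c) * (c * c) = 1 := by
    rw [← h4]; simp only [pow_succ, pow_zero, one_mul, mul_assoc]
  rcases Tor_sq_eq_one h2 hcc e with h | h
  · rcases Tor_sq_eq_one h2 hc h with h' | h'
    · exact Or.inl h'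
    · exact Or.inr (Or.inl h')
  · rcases Tor_sq_eq_neg_one h2 hc h with h' | h'
    · exact Or.inr (Or.inr (Or.inl h'))
    · exact Or.inr (Or.inr (Or.inr h'))

theorem Q_caseB [Finite F] (h2 : (2 : F) ≠ 0)
    (hB : ∀ c ∈ (Tor2 : Subgroup (SL2 F)), c ^ 4 = 1) (X : SL2 F) :
    X ∈ (Q : Subgroup (SL2 F)) ↔ X = 1 ∨ X = -1 ∨ X = i0 ∨ X = i0⁻¹ ∨ X = j0 ∨ X = j0⁻¹ ∨
      X = i0 * j0 ∨ X = (i0 * j0)⁻¹ := by
  constructor
  · intro hX
    obtain ⟨c, hc2, hXc⟩ := (mem_Q_iff X).1 hX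
    have hcT : c ∈ (Tor : Subgroup (SL2 F)) := ((mem_Tor2_iff c).1 hc2).1
    have hc := h85_Tor_exp_four h2 hcT (hB c hc2)
    have hk : (i0 : SL2 F) * j0 ∈ (NTor : Set (SL2 F)) :=
      Tor_mul_NTor ((mem_Tor2_iff _).1 i0_mem_Tor2).1 j0_mem
    rcases hXc with rfl | rfl
    · rcases hc with h | h | h | h
      · exact Or.inl h
      · exact Or.inr (Or.inl h)
      · exact Or.inr (Or.inr (Or.inl h))
      · exact Or.inr (Or.inr (Or.inr (Or.inl h)))
    · rcases hc with h | h | h | h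
      · right; right; right; right; left
        rw [h, one_mul]
      · right; right; right; right; right; left
        rw [h, h85_NTor_inv_eq_neg j0_mem, neg_mul, one_mul]
      · right; right; right; right; right; right; left
        rw [h]
      · right; right; right; right; right; right; right
        rw [h, h85_NTor_inv_eq_neg hk, i0_inv, neg_mul]
  · intro hX
    rcases hX with h | h | h | h | h | h | h | h <;> rw [h]
    · exact Q.one_mem
    · exact neg_one_mem_Q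
    · exact i0_mem_Q
    · exact Q.inv_mem i0_mem_Q
    · exact j0_mem_Q
    · exact Q.inv_mem j0_mem_Q
    · exact Q.mul_mem i0_mem_Q j0_mem_Q
    · exact Q.inv_mem (Q.mul_mem i0_mem_Q j0_mem_Q)

end Cfsg.Agent.Helper85.Sp4
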