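import Mathlib
import Cfsg.Agent.Lib.Helper84.Sp4Defs
import Cfsg.Agent.Lib.Helper84.Sp4Basic

/-!
# PSP4F server (helper84, S5320): piece (QN8).
-/

set_option autoImplicit false

namespace Cfsg.Agent.Helper85.Sp4

open Matrix Cfsg.Agent.Helper84.Sp4

variable {F : Type*} [Field F]

theorem h85_i0_mem_Tor : (i0 : SL2 F) ∈ (Tor : Subgroup (SL2 F)) := by
  unfold Tor
  rw [Subgroup.mem_centralizer_iff]
  intro h hh
  rw [Set.mem_singleton_iff] at hh
  rw [hh]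

theorem h85_mem_Tor_of_comm {a : SL2 F} (hi : a * i0 = i0 * a) :
    a ∈ (Tor : Subgroup (SL2 F)) := by
  unfold Tor
  rw [Subgroup.mem_centralizer_iff]
  intro h hh
  rw [Set.mem_singleton_iff] at hh
  rw [hh, hi]

/-- `j0 i0 j0⁻¹ = i0⁻¹`. -/
theorem h85_j0_conj_i0 [Finite F] : (j0 : SL2 F) * i0 * j0⁻¹ = i0⁻¹ :=
  NTor_conj j0_mem h85_i0_mem_Tor

/-- `i0 j0 i0⁻¹ = j0⁻¹`. -/
theorem h85_i0_conj_j0 [Finite F] : (i0 : SL2 F) * j0 * i0⁻¹ = j0⁻¹ := by
  have h := h85_j0_conj_i0 (F := F)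
  have e : (j0 : SL2 F) * i0 = i0⁻¹ * j0 := by
    calc (j0 : SL2 F) * i0 = (j0 * i0 * j0⁻¹) * j0 := by group
      _ = i0⁻¹ * j0 := by rw [h]
  have hj : (j0 : SL2 F)⁻¹ = -j0 :=
    inv_eq_of_mul_eq_one_right (by rw [mul_neg, NTor_mul_self j0_mem, neg_neg])
  have e2 : (i0 : SL2 F) * j0 * i0 = j0 := by
    rw [mul_assoc, e, ← mul_assoc, mul_inv_cancel, one_mul]
  rw [hj, i0_inv, mul_neg, e2]

theorem eq_one_or_neg_one_of_comm [Finite F] (h2 : (2 : F) ≠ 0) (a : SL2 F)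
    (hi : a * i0 = i0 * a) (hj : a * j0 = j0 * a) : a = 1 ∨ a = -1 := by
  have haT : a ∈ (Tor : Subgroup (SL2 F)) := h85_mem_Tor_of_comm hi
  have h1 : (j0 : SL2 F) * a * j0⁻¹ = a⁻¹ := NTor_conj j0_mem haT
  have h3 : (j0 : SL2 F) * a * j0⁻¹ = a := by rw [← hj]; group
  have h4 : a * a = 1 := by
    have : a⁻¹ = a := by rw [← h1, h3]
    calc a * a = a * a⁻¹ := by rw [this]
      _ = 1 := mul_inv_cancel a
  exact Tor_sq_eq_one h2 haT h4

theorem h85_pm_mem_Q {x : SL2 F} (hx : x ∈ (Q : Subgroup (SL2 F))) {b : SL2 F}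
    (hb : b = 1 ∨ b = -1) : b * x ∈ (Q : Subgroup (SL2 F)) := by
  rcases hb with rfl | rfl
  · rw [one_mul]; exact hx
  · exact Q.mul_mem neg_one_mem_Q hx

theorem mem_Q_of_conj_signs [Finite F] (h2 : (2 : F) ≠ 0) (a : SL2 F)
    (hi : a * i0 * a⁻¹ = i0 ∨ a * i0 * a⁻¹ = i0⁻¹)
    (hj : a * j0 * a⁻¹ = j0 ∨ a * j0 * a⁻¹ = j0⁻¹) : a ∈ (Q : Subgroup (SL2 F)) := by
  have hji := h85_j0_conj_i0 (F := F)
  have hij := h85_i0_conj_j0 (F := F)
  rcases hi with hi | hi <;> rcases hj with hj | hj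
  · -- a centralises both
    have h1' : a * i0 = i0 * a := by
      calc a * i0 = (a * i0 * a⁻¹) * a := by group
        _ = i0 * a := by rw [hi]
    have h2' : a * j0 = j0 * a := by
      calc a * j0 = (a * j0 * a⁻¹) * a := by group
        _ = j0 * a := by rw [hj]
    have := eq_one_or_neg_one_of_comm h2 a h1' h2'
    have h3 := h85_pm_mem_Q (Q.one_mem) this
    rwa [mul_one] at h3
  · -- b = a * i0
    have e1 : (a * i0) * i0 = i0 * (a * i0) := by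
      calc (a * i0) * i0 = (a * i0 * a⁻¹) * (a * i0) := by group
        _ = i0 * (a * i0) := by rw [hi]
    have e2 : (a * i0) * j0 = j0 * (a * i0) := by
      calc (a * i0) * j0 = (a * (i0 * j0 * i0⁻¹) * a⁻¹) * (a * i0) := by group
        _ = (a * j0 * a⁻¹)⁻¹ * (a * i0) := by rw [hij]; group
        _ = j0 * (a * i0) := by rw [hj, inv_inv]
    have := eq_one_or_neg_one_of_comm h2 (a * i0) e1 e2
    have h3 := h85_pm_mem_Q (Q.inv_mem i0_mem_Q) this
    have : a * i0 * i0⁻¹ = a := by group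
    rwa [this] at h3
  · -- b = a * j0
    have e1 : (a * j0) * i0 = i0 * (a * j0) := by
      calc (a * j0) * i0 = (a * (j0 * i0 * j0⁻¹) * a⁻¹) * (a * j0) := by group
        _ = (a * i0 * a⁻¹)⁻¹ * (a * j0) := by rw [hji]; group
        _ = i0 * (a * j0) := by rw [hi, inv_inv]
    have e2 : (a * j0) * j0 = j0 * (a * j0) := by
      calc (a * j0) * j0 = (a * j0 * a⁻¹) * (a * j0) := by group
        _ = j0 * (a * j0) := by rw [hj]
    have := eq_one_or_neg_one_of_comm h2 (a * j0) e1 e2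
    have h3 := h85_pm_mem_Q (Q.inv_mem j0_mem_Q) this
    have : a * j0 * j0⁻¹ = a := by group
    rwa [this] at h3
  · -- b = a * (i0 * j0)
    have e1 : (a * (i0 * j0)) * i0 = i0 * (a * (i0 * j0)) := by
      calc (a * (i0 * j0)) * i0 = (a * (i0 * (j0 * i0 * j0⁻¹) * i0⁻¹) * a⁻¹) * (a * (i0 * j0)) := by
            group
        _ = (a * i0 * a⁻¹)⁻¹ * (a * (i0 * j0)) := by rw [hji]; group
        _ = i0 * (a * (i0 * j0)) := by rw [hi, inv_inv]
    have e2 : (a * (i0 * j0)) * j0 = j0 * (a * (i0 * j0)) := by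
      calc (a * (i0 * j0)) * j0 = (a * (i0 * j0 * i0⁻¹) * a⁻¹) * (a * (i0 * j0)) := by group
        _ = (a * j0 * a⁻¹)⁻¹ * (a * (i0 * j0)) := by rw [hij]; group
        _ = j0 * (a * (i0 * j0)) := by rw [hj, inv_inv]
    have := eq_one_or_neg_one_of_comm h2 (a * (i0 * j0)) e1 e2
    have h3 := h85_pm_mem_Q (Q.inv_mem (Q.mul_mem i0_mem_Q j0_mem_Q)) this
    have : a * (i0 * j0) * (i0 * j0)⁻¹ = a := by group
    rwa [this] at h3

end Cfsg.Agent.Helper85.Sp4
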