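import Mathlib
import Cfsg.Prelude.Def_FusionSystem
import Cfsg.Agent.Lib.Helper87.FusionNormal

set_option autoImplicit false

/-! Fusion systems all of whose maps are conjugations by elements of a subgroup `H` ("conjugation type"),
elementwise descriptions, and transport of "normal" and "centric" subgroups along an injective
homomorphism of the ambient groups. -/

namespace Cfsg.Agent.Helper85

open Cfsg Cfsg.FusionSystem Cfsg.Agent.Helper87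

/-- `F` is the system on `T` of all conjugations by elements of `H` with values in `T`. -/
def IsConjType {Ω : Type*} [Group Ω] {T : Subgroup Ω} (F : FusionSystem T) (H : Subgroup Ω) : Prop :=
  ∀ (P : Subgroup Ω) (φ : P →* Ω), φ ∈ F.Hom P ↔
    P ≤ T ∧ (∀ x : P, φ x ∈ T) ∧ ∃ g ∈ H, ∀ x : P, φ x = g * (x : Ω) * g⁻¹

theorem isConjType_fsos {Ω : Type*} [Group Ω] (H T : Subgroup Ω) (hTH : T ≤ H) :
    IsConjType (fusionSystemOfSubgroup H T hTH) H := fun _ _ => Iff.rfl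

theorem isConjType_gfs {Ω : Type*} [Group Ω] (T : Subgroup Ω) :
    IsConjType (groupFusionSystem T) ⊤ := by
  intro P φ
  constructor
  · rintro ⟨a, b, g, hg⟩
    exact ⟨a, b, g, Subgroup.mem_top _, hg⟩
  · rintro ⟨a, b, g, -, hg⟩
    exact ⟨a, b, g, hg⟩

theorem IsConjType.mor_iff {Ω : Type*} [Group Ω] {T H : Subgroup Ω} {F : FusionSystem T}
    (hF : IsConjType F H) {P : Subgroup Ω} {f : Ω → Ω} :
    Mor F P f ↔ P ≤ T ∧ ∃ g ∈ H, ∀ x ∈ P, f x = g * x * g⁻¹ ∧ g * x * g⁻¹ ∈ T := by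
  constructor
  · rintro ⟨φ, hφ, e⟩
    obtain ⟨hP, hφT, g, hg, eg⟩ := (hF P φ).1 hφ
    refine ⟨hP, g, hg, fun x hx => ?_⟩
    have h1 : f x = g * x * g⁻¹ := by rw [← e ⟨x, hx⟩, eg]
    refine ⟨h1, ?_⟩
    rw [← h1, ← e ⟨x, hx⟩]
    exact hφT _
  · rintro ⟨hP, g, hg, h⟩
    refine ⟨conjHom P g, (hF P _).2 ⟨hP, fun x => (h x x.2).2, g, hg, fun x => rfl⟩, fun x => ?_⟩
    exact ((h x x.2).1).symm

section transport

variable {X Y : Type*} [Group X] [Group Y] (ι : X →* Y) (hι : Function.Injective ι)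
  {T₁ H₁ : Subgroup X} {F₁ : FusionSystem T₁} {F₂ : FusionSystem (T₁.map ι)}

include hι in
theorem transport_isNormal (hF₁ : IsConjType F₁ H₁) (hF₂ : IsConjType F₂ (H₁.map ι))
    {Q₂ : Subgroup Y} (hQ₂ : F₂.IsNormal Q₂) : F₁.IsNormal (Q₂.comap ι) := by
  rw [isNormal_iff] at hQ₂ ⊢
  obtain ⟨hQ₂T, hN⟩ := hQ₂
  have hQ₁T : Q₂.comap ι ≤ T₁ := fun x hx => (Subgroup.mem_map_iff_mem hι).1 (hQ₂T hx)
  have hQ₂r : Q₂ ≤ ι.range := hQ₂T.trans (by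
    rintro _ ⟨x, -, rfl⟩
    exact ⟨x, rfl⟩)
  have hQmap : (Q₂.comap ι).map ι = Q₂ := Subgroup.map_comap_eq_self hQ₂r
  refine ⟨hQ₁T, fun P f hf => ?_⟩
  obtain ⟨hP, g, hg, hfg⟩ := hF₁.mor_iff.1 hf
  have hf₂ : Mor F₂ (P.map ι) (fun y => ι g * y * (ι g)⁻¹) := by
    refine hF₂.mor_iff.2 ⟨Subgroup.map_mono hP, ι g, Subgroup.mem_map_of_mem _ hg, ?_⟩
    rintro _ ⟨x, hx, rfl⟩
    refine ⟨rfl, ?_⟩
    have : ι g * ι x * (ι g)⁻¹ = ι (g * x * g⁻¹) := by simp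
    rw [this]
    exact Subgroup.mem_map_of_mem _ (hfg x hx).2
  obtain ⟨g₂, hg₂, hg₂P, hg₂Q⟩ := hN _ _ hf₂
  obtain ⟨-, h₂, hh₂, hgh⟩ := hF₂.mor_iff.1 hg₂
  obtain ⟨h, hh, rfl⟩ := hh₂
  have hmapsup : (P ⊔ Q₂.comap ι).map ι = P.map ι ⊔ Q₂ := by rw [Subgroup.map_sup, hQmap]
  have hconj : ∀ x : X, ι h * ι x * (ι h)⁻¹ = ι (h * x * h⁻¹) := fun x => by simp
  refine ⟨fun x => h * x * h⁻¹, ?_, ?_, ?_⟩
  · refine hF₁.mor_iff.2 ⟨sup_le hP hQ₁T, h, hh, fun x hx => ⟨rfl, ?_⟩⟩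
    have hx₂ : ι x ∈ P.map ι ⊔ Q₂ := by rw [← hmapsup]; exact Subgroup.mem_map_of_mem _ hx
    have := (hgh _ hx₂).2
    rw [hconj] at this
    exact (Subgroup.mem_map_iff_mem hι).1 this
  · intro x hx
    apply hι
    have hx₂ : ι x ∈ P.map ι := Subgroup.mem_map_of_mem _ hx
    have h1 := hg₂P _ hx₂
    have h2 := (hgh _ ((le_sup_left : P.map ι ≤ P.map ι ⊔ Q₂) hx₂)).1
    show ι (h * x * h⁻¹) = ι (f x)
    rw [← hconj, ← h2, h1, (hfg x hx).1]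
    simp
  · intro y
    constructor
    · intro hy
      have hy₂ : ι y ∈ Q₂ := hy
      obtain ⟨x₂, hx₂, e⟩ := (hg₂Q _).1 hy₂
      obtain ⟨x, rfl⟩ := hQ₂r hx₂
      refine ⟨x, hx₂, hι ?_⟩
      rw [← e, (hgh _ ((le_sup_right : Q₂ ≤ P.map ι ⊔ Q₂) hx₂)).1, hconj]
    · rintro ⟨x, hx, rfl⟩
      have hx₂ : ι x ∈ Q₂ := hx
      show ι (h * x * h⁻¹) ∈ Q₂
      rw [← hconj, ← (hgh _ ((le_sup_right : Q₂ ≤ P.map ι ⊔ Q₂) hx₂)).1]
      exact (hg₂Q _).2 ⟨_, hx₂, rfl⟩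

include hι in
theorem transport_isCentric (hF₁ : IsConjType F₁ H₁) (hF₂ : IsConjType F₂ (H₁.map ι))
    {Q₂ : Subgroup Y} (hQ₂ : F₂.IsCentric Q₂) : F₁.IsCentric (Q₂.comap ι) := by
  obtain ⟨hQ₂T, hC⟩ := hQ₂
  have hQ₁T : Q₂.comap ι ≤ T₁ := fun x hx => (Subgroup.mem_map_iff_mem hι).1 (hQ₂T hx)
  have hQ₂r : Q₂ ≤ ι.range := hQ₂T.trans (by
    rintro _ ⟨x, -, rfl⟩
    exact ⟨x, rfl⟩)
  have hQmap : (Q₂.comap ι).map ι = Q₂ := Subgroup.map_comap_eq_self hQ₂r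
  refine ⟨hQ₁T, fun R₁ hR₁ => ?_⟩
  obtain ⟨f, hf, hfR⟩ := isConj_iff.1 hR₁
  obtain ⟨-, g, hg, hfg⟩ := hF₁.mor_iff.1 hf
  have hconj : ∀ x : X, ι g * ι x * (ι g)⁻¹ = ι (g * x * g⁻¹) := fun x => by simp
  have hR₂ : F₂.IsConj Q₂ (R₁.map ι) := by
    refine isConj_iff.2 ⟨fun y => ι g * y * (ι g)⁻¹, ?_, ?_⟩
    · refine hF₂.mor_iff.2 ⟨hQ₂T, ι g, Subgroup.mem_map_of_mem _ hg, ?_⟩
      intro y hy
      obtain ⟨x, rfl⟩ := hQ₂r hy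
      refine ⟨rfl, ?_⟩
      rw [hconj]
      exact Subgroup.mem_map_of_mem _ (hfg x hy).2
    · intro y
      constructor
      · rintro ⟨r, hr, rfl⟩
        obtain ⟨x, hx, rfl⟩ := (hfR r).1 hr
        refine ⟨ι x, hx, ?_⟩
        show ι g * ι x * (ι g)⁻¹ = ι (f x)
        rw [hconj, (hfg x hx).1]
      · rintro ⟨x₂, hx₂, rfl⟩
        obtain ⟨x, rfl⟩ := hQ₂r hx₂
        show ι g * ι x * (ι g)⁻¹ ∈ R₁.map ι
        rw [hconj, ← (hfg x hx₂).1]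
        exact Subgroup.mem_map_of_mem _ ((hfR _).2 ⟨x, hx₂, rfl⟩)
  have hcen := hC _ hR₂
  intro c hc
  have hc₂ : ι c ∈ centralizerIn (T₁.map ι) (R₁.map ι) := by
    refine ⟨Subgroup.mem_map_of_mem _ hc.1, ?_⟩
    show ι c ∈ Subgroup.centralizer ((R₁.map ι : Subgroup Y) : Set Y)
    rw [Subgroup.mem_centralizer_iff]
    rintro _ ⟨r, hr, rfl⟩
    have := (Subgroup.mem_centralizer_iff.1 hc.2) r hr
    show ι r * ι c = ι c * ι r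
    rw [← map_mul, ← map_mul, this]
  exact (Subgroup.mem_map_iff_mem hι).1 (hcen hc₂)

end transport

end Cfsg.Agent.Helper85
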