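import Mathlib
import Cfsg.Agent.Lib.Helper87.FusionNormalCrit
import Cfsg.Agent.Lib.Helper84.GrpStab

set_option autoImplicit false

/-! # Restriction of automorphisms to an invariant self-centralizing subgroup -/

namespace Cfsg.Agent.Helper85

open Cfsg Cfsg.FusionSystem Cfsg.Agent.Helper87

variable {Ω : Type*} [Group Ω] {S : Subgroup Ω}

/-- restriction of an automorphism of `P` in the system to an invariant subgroup `Q ≤ P` -/
def resAutQ (F : FusionSystem S) {P Q : Subgroup Ω} (hQP : Q ≤ P)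
    (hinv : ∀ β ∈ F.autGroup P, ∀ x : P, (x : Ω) ∈ Q → ((β x : P) : Ω) ∈ Q)
    (β : F.autGroup P) : MulAut Q where
  toFun x := ⟨((β : MulAut P) ⟨x, hQP x.2⟩ : P), hinv β β.2 _ x.2⟩
  invFun x := ⟨(((β⁻¹ : F.autGroup P) : MulAut P) ⟨x, hQP x.2⟩ : P), hinv _ (β⁻¹).2 _ x.2⟩
  left_inv x := by
    apply Subtype.ext
    show ((((β⁻¹ : F.autGroup P) : MulAut P) ⟨_, _⟩ : P) : Ω) = x
    have : (⟨(((β : MulAut P) ⟨x, hQP x.2⟩ : P) : Ω), hQP (hinv β β.2 _ x.2)⟩ : P)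
        = (β : MulAut P) ⟨x, hQP x.2⟩ := rfl
    rw [this]
    simp
  right_inv x := by
    apply Subtype.ext
    show ((((β : MulAut P)) ⟨_, _⟩ : P) : Ω) = x
    have : (⟨((((β⁻¹ : F.autGroup P) : MulAut P) ⟨x, hQP x.2⟩ : P) : Ω),
        hQP (hinv _ (β⁻¹).2 _ x.2)⟩ : P) = ((β⁻¹ : F.autGroup P) : MulAut P) ⟨x, hQP x.2⟩ := rfl
    rw [this]
    simp
  map_mul' x y := by
    apply Subtype.ext
    show (((β : MulAut P) ⟨(x * y : Q), _⟩ : P) : Ω) = _
    have : (⟨((x * y : Q) : Ω), hQP (x * y).2⟩ : P) = ⟨x, hQP x.2⟩ * ⟨y, hQP y.2⟩ := rfl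
    rw [this, map_mul]
    rfl

theorem resAutQ_apply (F : FusionSystem S) {P Q : Subgroup Ω} (hQP : Q ≤ P)
    (hinv : ∀ β ∈ F.autGroup P, ∀ x : P, (x : Ω) ∈ Q → ((β x : P) : Ω) ∈ Q)
    (β : F.autGroup P) (x : Q) :
    ((resAutQ F hQP hinv β x : Q) : Ω) = (((β : MulAut P) ⟨x, hQP x.2⟩ : P) : Ω) := rfl

theorem resAutQ_mem (F : FusionSystem S) {P Q : Subgroup Ω} (hQP : Q ≤ P) (hPS : P ≤ S)
    (hinv : ∀ β ∈ F.autGroup P, ∀ x : P, (x : Ω) ∈ Q → ((β x : P) : Ω) ∈ Q)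
    (β : F.autGroup P) : resAutQ F hQP hinv β ∈ F.autGroup Q := by
  rw [mem_autGroup_iff (hQP.trans hPS)]
  have h1 : Mor F P (extAut (β : MulAut P)) := (mem_autGroup_iff hPS).1 β.2
  refine (h1.restrict hQP).congr (fun x hx => ?_)
  rw [extAut_mem _ (hQP hx), extAut_mem _ hx]
  rfl

/-- the restriction homomorphism `Aut_F(P) → Aut_F(Q)` -/
def resHom (F : FusionSystem S) {P Q : Subgroup Ω} (hQP : Q ≤ P) (hPS : P ≤ S)
    (hinv : ∀ β ∈ F.autGroup P, ∀ x : P, (x : Ω) ∈ Q → ((β x : P) : Ω) ∈ Q) :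
    F.autGroup P →* F.autGroup Q where
  toFun β := ⟨resAutQ F hQP hinv β, resAutQ_mem F hQP hPS hinv β⟩
  map_one' := by
    apply Subtype.ext
    ext x
    rfl
  map_mul' β γ := by
    apply Subtype.ext
    ext x
    rfl

theorem resHom_apply (F : FusionSystem S) {P Q : Subgroup Ω} (hQP : Q ≤ P) (hPS : P ≤ S)
    (hinv : ∀ β ∈ F.autGroup P, ∀ x : P, (x : Ω) ∈ Q → ((β x : P) : Ω) ∈ Q)
    (β : F.autGroup P) (x : Q) :
    ((((resHom F hQP hPS hinv β : F.autGroup Q) : MulAut Q) x : Q) : Ω)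
      = (((β : MulAut P) ⟨x, hQP x.2⟩ : P) : Ω) := rfl

/-- the kernel of restriction to a normal self-centralizing subgroup is a `p`-group -/
theorem resHom_ker_isPGroup [Finite S] {p : ℕ} [Fact p.Prime] (hS : IsPGroup p S)
    (F : FusionSystem S) {P Q : Subgroup Ω} (hQP : Q ≤ P) (hPS : P ≤ S)
    (hinv : ∀ β ∈ F.autGroup P, ∀ x : P, (x : Ω) ∈ Q → ((β x : P) : Ω) ∈ Q)
    (hQn : ∀ x ∈ P, ∀ q ∈ Q, x * q * x⁻¹ ∈ Q)
    (hcen : ∀ c ∈ P, (∀ q ∈ Q, c * q = q * c) → c ∈ Q) :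
    IsPGroup p (resHom F hQP hPS hinv).ker := by
  haveI : Finite P := finite_of_le hPS
  let Nc : ℕ → Subgroup P := fun k => match k with
    | 0 => ⊥
    | 1 => Q.subgroupOf P
    | _ => ⊤
  have hNinv : ∀ a ∈ F.autGroup P, ∀ k, ∀ x ∈ Nc k, (a : MulAut P) x ∈ Nc k := by
    intro a ha k x hx
    match k with
    | 0 =>
      have : x = 1 := (Subgroup.mem_bot).1 hx
      rw [this, map_one]; exact Subgroup.one_mem _
    | 1 =>
      exact Subgroup.mem_subgroupOf.2 (hinv a ha x (Subgroup.mem_subgroupOf.1 hx))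
    | (k + 2) => exact Subgroup.mem_top _
  have hle : (resHom F hQP hPS hinv).ker ≤ Cfsg.Agent.Helper84.chainStab (F.autGroup P) Nc hNinv := by
    intro β hβ
    rw [MonoidHom.mem_ker] at hβ
    have hfix : ∀ x : P, (x : Ω) ∈ Q → (β : MulAut P) x = x := by
      intro x hx
      have h1 := resHom_apply F hQP hPS hinv β ⟨x, hx⟩
      rw [hβ] at h1
      apply Subtype.ext
      rw [← h1]
      rfl
    rw [Cfsg.Agent.Helper84.mem_chainStab_iff]
    intro k x hx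
    match k with
    | 0 =>
      have hxQ : (x : Ω) ∈ Q := Subgroup.mem_subgroupOf.1 hx
      rw [hfix x hxQ]
      show x⁻¹ * x ∈ (⊥ : Subgroup P)
      rw [inv_mul_cancel]; exact Subgroup.one_mem _
    | 1 =>
      show x⁻¹ * (β : MulAut P) x ∈ Q.subgroupOf P
      rw [Subgroup.mem_subgroupOf]
      apply hcen _ (x⁻¹ * (β : MulAut P) x).2
      intro q hq
      -- β fixes x q x⁻¹
      have hconj : (x : Ω) * q * (x : Ω)⁻¹ ∈ Q := hQn x x.2 q hq
      have h1 := hfix (x * ⟨q, hQP hq⟩ * x⁻¹) hconj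
      rw [map_mul, map_mul, map_inv, hfix ⟨q, hQP hq⟩ hq] at h1
      have h2 := congrArg Subtype.val h1
      simp only [Subgroup.coe_mul, InvMemClass.coe_inv] at h2 ⊢
      -- h2 : βx * q * (βx)⁻¹ = x * q * x⁻¹
      have h3 : ((x : Ω))⁻¹ * ((β : MulAut P) x : P) * q
          = (x : Ω)⁻¹ * (((β : MulAut P) x : P) * q * (((β : MulAut P) x : P) : Ω)⁻¹) * ((β : MulAut P) x : P) := by
        group
      rw [h3, h2]
      group
    | (k + 2) => exact Subgroup.mem_top _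
  have hp : IsPGroup p (Cfsg.Agent.Helper84.chainStab (F.autGroup P) Nc hNinv) :=
    Cfsg.Agent.Helper84.chainStab_isPGroup (hS.to_le hPS) (F.autGroup P) Nc hNinv rfl
      (fun i => by
        match i with
        | 0 => exact bot_le
        | (i + 1) => exact le_top) 2 rfl
  exact hp.to_le hle

end Cfsg.Agent.Helper85
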