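import Mathlib
import Cfsg.Agent.Lib.Helper85.Constr1
import Cfsg.Agent.Lib.Helper85.QuotLift
import Cfsg.Agent.Lib.Helper84.FusNormal
import Cfsg.Agent.Lib.Helper87.FusionCore

set_option autoImplicit false

/-! # The preimage of `O_p(Aut_F(Q))` for a normal centric `Q` lies in `O_p(F)` -/

namespace Cfsg.Agent.Helper85

open Cfsg Cfsg.FusionSystem Cfsg.Agent.Helper87

variable {Ω : Type*} [Group Ω] {S : Subgroup Ω}

/-- the elements of `S` inducing on `Q` an element of `O_p(Aut_F(Q))` -/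
def preCore (F : FusionSystem S) (p : ℕ) (Q : Subgroup Ω) : Subgroup Ω where
  carrier := {s | s ∈ S ∧ ∃ b ∈ pCore p (F.autGroup Q),
    ∀ x : Q, ((((b : F.autGroup Q) : MulAut Q) x : Q) : Ω) = s * x * s⁻¹}
  one_mem' := ⟨S.one_mem, 1, Subgroup.one_mem _, fun x => by simp⟩
  mul_mem' := by
    rintro s t ⟨hs, b, hb, eb⟩ ⟨ht, c, hc, ec⟩
    refine ⟨S.mul_mem hs ht, b * c, Subgroup.mul_mem _ hb hc, fun x => ?_⟩
    show ((((b : F.autGroup Q) : MulAut Q) (((c : F.autGroup Q) : MulAut Q) x) : Q) : Ω) = _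
    rw [eb, ec]; group
  inv_mem' := by
    rintro s ⟨hs, b, hb, eb⟩
    refine ⟨S.inv_mem hs, b⁻¹, Subgroup.inv_mem _ hb, fun x => ?_⟩
    have h1 := eb ((((b⁻¹ : F.autGroup Q)) : MulAut Q) x)
    have h2 : ((b : F.autGroup Q) : MulAut Q) ((((b⁻¹ : F.autGroup Q)) : MulAut Q) x) = x := by
      show (((b : F.autGroup Q) : MulAut Q) * (((b⁻¹ : F.autGroup Q)) : MulAut Q)) x = x
      rw [← Subgroup.coe_mul, mul_inv_cancel]; rfl
    rw [h2] at h1
    rw [h1]; group

theorem mem_preCore {F : FusionSystem S} {p : ℕ} {Q : Subgroup Ω} {s : Ω} :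
    s ∈ preCore F p Q ↔ s ∈ S ∧ ∃ b ∈ pCore p (F.autGroup Q),
      ∀ x : Q, ((((b : F.autGroup Q) : MulAut Q) x : Q) : Ω) = s * x * s⁻¹ := Iff.rfl

theorem preCore_le (F : FusionSystem S) (p : ℕ) (Q : Subgroup Ω) : preCore F p Q ≤ S :=
  fun _ h => h.1

/-- `preCore` is strongly closed when `Q` is normal in the system -/
theorem preCore_stronglyClosed [Finite S] {F : FusionSystem S} {p : ℕ} {Q : Subgroup Ω}
    (hQ : F.IsNormal Q) : F.StronglyClosed (preCore F p Q) := by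
  rw [stronglyClosed_iff]
  refine ⟨preCore_le F p Q, fun A f hA hf s hs => ?_⟩
  obtain ⟨hQS, hext⟩ := isNormal_iff.1 hQ
  obtain ⟨g, hg, e, hgQ⟩ := hext A f hf
  obtain ⟨hsS, b, hb, eb⟩ := hA hs
  have hisoQ : Iso F Q Q g := ⟨hg.restrict le_sup_right, hgQ⟩
  let a : F.autGroup Q := ⟨hisoQ.equiv, hisoQ.equiv_mem_autGroup⟩
  have hconj : a * b * a⁻¹ ∈ pCore p (F.autGroup Q) := (pCore_normal p _).conj_mem b hb a
  refine ⟨hf.mem hs, a * b * a⁻¹, hconj, fun x => ?_⟩
  -- y := a⁻¹ x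
  set y : Q := hisoQ.equiv.symm x with hy
  have hgy : g (y : Ω) = x := by
    have := hisoQ.equiv_apply y
    rw [← this, hy, MulEquiv.apply_symm_apply]
  have h1 : (((a * b * a⁻¹ : F.autGroup Q) : MulAut Q) x) = hisoQ.equiv (((b : F.autGroup Q) : MulAut Q) y) := rfl
  rw [h1, hisoQ.equiv_apply, eb y]
  have hsA : s ∈ A ⊔ Q := le_sup_left (a := A) hs
  have hyQ : (y : Ω) ∈ A ⊔ Q := le_sup_right (b := Q) y.2
  rw [hg.map_mul (Subgroup.mul_mem _ hsA hyQ) (Subgroup.inv_mem _ hsA), hg.map_mul hsA hyQ,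
    hg.map_inv hsA, hgy, e s hs]

theorem preCore_conj_mem [Finite S] {F : FusionSystem S} {p : ℕ} {Q : Subgroup Ω}
    (hQ : F.IsNormal Q) {s x : Ω} (hs : s ∈ S) (hx : x ∈ preCore F p Q) :
    s * x * s⁻¹ ∈ preCore F p Q :=
  (stronglyClosed_iff.1 (preCore_stronglyClosed (p := p) hQ)).2 _ _ le_rfl
    (Mor.conj (F := F) (preCore_le F p Q) hs) x hx

theorem le_normalizer_preCore [Finite S] {F : FusionSystem S} {p : ℕ} {Q : Subgroup Ω}
    (hQ : F.IsNormal Q) : S ≤ Subgroup.normalizer (preCore F p Q : Set Ω) := by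
  intro s hs
  rw [Subgroup.mem_normalizer_iff]
  intro x
  constructor
  · exact preCore_conj_mem hQ hs
  · intro hx
    have := preCore_conj_mem (p := p) hQ (S.inv_mem hs) hx
    have e : s⁻¹ * (s * x * s⁻¹) * s⁻¹⁻¹ = x := by group
    rwa [e] at this

/-- `preCore` lies in every centric radical subgroup -/
theorem preCore_le_of_centric_radical [Finite S] {p : ℕ} [Fact p.Prime] (hS : IsPGroup p S)
    {F : FusionSystem S} {Q : Subgroup Ω} (hQ : F.IsNormal Q) (hQc : F.IsCentric Q)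
    {P : Subgroup Ω} (hcen : F.IsCentric P) (hrad : F.IsRadical p P) : preCore F p Q ≤ P := by
  have hPS : P ≤ S := hcen.1
  have hQS : Q ≤ S := hQ.1
  have hQP : Q ≤ P := Cfsg.Agent.Helper84.le_of_normal_centric_radical F hS hQ hcen hrad
  have hQsc : F.StronglyClosed Q := stronglyClosed_of_isNormal hQ
  have hinv : ∀ β ∈ F.autGroup P, ∀ x : P, (x : Ω) ∈ Q → ((β x : P) : Ω) ∈ Q := by
    intro β hβ x hx
    have h1 : Mor F P (extAut β) := (mem_autGroup_iff hPS).1 hβ
    have h2 := (stronglyClosed_iff.1 hQsc).2 Q _ le_rfl (h1.restrict hQP) x hx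
    rwa [extAut_mem β (hQP hx)] at h2
  -- Q is normalized by S
  have hQn : ∀ x ∈ P, ∀ q ∈ Q, x * q * x⁻¹ ∈ Q := by
    intro x hx q hq
    exact (stronglyClosed_iff.1 hQsc).2 Q _ le_rfl (Mor.conj (F := F) hQS (hPS hx)) q hq
  have hcenQ : ∀ c ∈ P, (∀ q ∈ Q, c * q = q * c) → c ∈ Q := by
    intro c hc hcq
    apply hQc.2 Q (isConj_refl hQS)
    refine ⟨hPS hc, ?_⟩
    show c ∈ Subgroup.centralizer (Q : Set Ω)
    rw [Subgroup.mem_centralizer_iff]
    intro q hq
    exact (hcq q hq).symm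
  set ρ := resHom F hQP hPS hinv with hρ
  have hker : IsPGroup p ρ.ker := resHom_ker_isPGroup hS F hQP hPS hinv hQn hcenQ
  haveI : Finite (F.autGroup Q) := by
    haveI : Finite Q := finite_of_le hQS
    infer_instance
  have hNp : IsPGroup p ((pCore p (F.autGroup Q)).comap ρ) :=
    (pCore_isPGroup).comap_of_ker_isPGroup ρ hker
  have hNn : ((pCore p (F.autGroup Q)).comap ρ).Normal := (pCore_normal p _).comap ρ
  have hNle : (pCore p (F.autGroup Q)).comap ρ ≤ pCore p (F.autGroup P) := le_pCore hNn hNp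
  -- elements of preCore normalizing P lie in P
  have key : ∀ x ∈ preCore F p Q, x ∈ Subgroup.normalizer (P : Set Ω) → x ∈ P := by
    intro x hx hxN
    obtain ⟨hxS, b, hb, eb⟩ := hx
    have hβmem : conjAut P x hxN ∈ F.autGroup P :=
      autInducedBy_le_autGroup F hPS (conjAut_mem_autInducedBy hxS hxN)
    let β : F.autGroup P := ⟨conjAut P x hxN, hβmem⟩
    have hρβ : ρ β = b := by
      apply Subtype.ext
      ext y
      rw [resHom_apply, eb y]
      rfl
    have hβN : β ∈ (pCore p (F.autGroup Q)).comap ρ := by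
      rw [Subgroup.mem_comap, hρβ]; exact hb
    have hβcore := hNle hβN
    have hinn : conjAut P x hxN ∈ Inn P := by
      rw [← hrad.2]
      exact ⟨β, hβcore, rfl⟩
    exact mem_of_conjAut_mem_inn hcen hxS hxN hinn
  by_contra hnot
  have hPQS : P ⊔ preCore F p Q ≤ S := sup_le hPS (preCore_le F p Q)
  haveI : Finite ↥(P ⊔ preCore F p Q) := finite_of_le hPQS
  have hne : P ≠ P ⊔ preCore F p Q := by
    intro h
    apply hnot
    rw [h]
    exact le_sup_right
  obtain ⟨n, hn, hnP⟩ := exists_normalizer_not_mem (hS.to_le hPQS) (le_sup_left : P ≤ P ⊔ preCore F p Q) hne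
  have hPn : P ≤ Subgroup.normalizer (preCore F p Q : Set Ω) := hPS.trans (le_normalizer_preCore hQ)
  obtain ⟨y, hy, x, hx, rfl⟩ := (mem_sup_iff_of_le_normalizer hPn).1 hn.1
  apply hnP
  have hxN : x ∈ Subgroup.normalizer (P : Set Ω) := by
    have : x = y⁻¹ * (y * x) := by group
    rw [this]
    exact Subgroup.mul_mem _ (Subgroup.inv_mem _ (Subgroup.le_normalizer hy)) hn.2
  exact P.mul_mem hy (key x hx hxN)

/-- **the preimage of `O_p(Aut_F(Q))` lies in `O_p(F)`** for `Q` normal and centric -/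
theorem preCore_le_core [Finite S] {p : ℕ} [Fact p.Prime] (hS : IsPGroup p S)
    {F : FusionSystem S} (hF : F.IsSaturated p) {Q : Subgroup Ω} (hQ : F.IsNormal Q)
    (hQc : F.IsCentric Q) : preCore F p Q ≤ F.core :=
  le_core (isNormal_of_stronglyClosed_of_le hS hF (preCore_stronglyClosed hQ)
    (fun _ _ hcen hrad => preCore_le_of_centric_radical hS hQ hQc hcen hrad))

end Cfsg.Agent.Helper85
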