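import Mathlib
import Cfsg.Prelude.Def_FusionSystem
import Cfsg.Agent.Lib.Helper85.ConjType
import Cfsg.Agent.Lib.Helper85.Constr2
import Cfsg.Agent.Lib.Helper84.GrpFus
import Cfsg.Agent.Lib.Helper84.GrpStab
import Cfsg.Agent.Lib.Helper88.FusionCentricUnique

set_option autoImplicit false

/-! Central quotients: if `F_T(X)` is constrained (`T` a Sylow `p`-subgroup of the finite group `X`) and
`Z ≤ Z(X)`, then `F_{TZ/Z}(X/Z)` is constrained. -/

namespace Cfsg.Agent.Helper85

open Cfsg Cfsg.FusionSystem Cfsg.Agent.Helper87 Cfsg.Agent.Helper84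

/-- the chain `⊥ ≤ N ≤ ⊤ ≤ ⊤ ≤ …` -/
def cqChain3 {P : Type*} [Group P] (N : Subgroup P) : ℕ → Subgroup P
  | 0 => ⊥
  | 1 => N
  | (_ + 2) => ⊤

section

variable {X : Type*} [Group X] [Finite X] {p : ℕ} [Fact p.Prime]

/-- a `p`-element whose image modulo a central subgroup lies in the image of the Sylow subgroup `T`
lies in `T`. -/
theorem mem_sylow_of_map_mem (T : Sylow p X) (Z : Subgroup X) [Z.Normal]
    (hZ : Z ≤ Subgroup.center X) {y : X} (hy : ∃ k : ℕ, y ^ p ^ k = 1)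
    (hyT : QuotientGroup.mk' Z y ∈ (T : Subgroup X).map (QuotientGroup.mk' Z)) :
    y ∈ (T : Subgroup X) := by
  obtain ⟨t, ht, e⟩ := hyT
  have hz : t⁻¹ * y ∈ Z := QuotientGroup.eq.1 e
  set z := t⁻¹ * y with hzdef
  have hzc : z ∈ Subgroup.center X := hZ hz
  obtain ⟨k, hk⟩ := hy
  obtain ⟨a, ha⟩ := T.isPGroup' ⟨t, ht⟩
  have hta : t ^ p ^ a = 1 := by
    have := congrArg Subtype.val ha
    simpa using this
  have hcomm : Commute t⁻¹ y := by
    have h1 : z * t = t * z := (Subgroup.mem_center_iff.1 hzc t).symm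
    have h2 : y * t = t * y := by
      have : y = t * z := by rw [hzdef]; group
      rw [this, mul_assoc, h1, ← mul_assoc]
    show t⁻¹ * y = y * t⁻¹
    calc t⁻¹ * y = t⁻¹ * (y * t) * t⁻¹ := by group
      _ = t⁻¹ * (t * y) * t⁻¹ := by rw [h2]
      _ = y * t⁻¹ := by group
  have hzp : z ^ p ^ (a + k) = 1 := by
    rw [hzdef, hcomm.mul_pow, inv_pow, pow_add, pow_mul, hta, one_pow, inv_one, one_mul,
      mul_comm (p ^ a), pow_mul, hk, one_pow]
  have hN : (Subgroup.zpowers z).Normal := by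
    refine ⟨fun n hn g => ?_⟩
    have hc : n ∈ Subgroup.center X := (Subgroup.zpowers_le.2 hzc) hn
    have h1 : g * n = n * g := (Subgroup.mem_center_iff.1 hc g)
    have : g * n * g⁻¹ = n := by rw [h1]; group
    rw [this]
    exact hn
  have hNp : IsPGroup p (Subgroup.zpowers z) := by
    rintro ⟨w, hw⟩
    obtain ⟨i, rfl⟩ := Subgroup.mem_zpowers_iff.1 hw
    refine ⟨a + k, Subtype.ext ?_⟩
    show (z ^ i) ^ p ^ (a + k) = 1
    rw [← zpow_natCast, ← zpow_mul, mul_comm, zpow_mul, zpow_natCast, hzp, one_zpow]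
  have hzT : z ∈ (T : Subgroup X) :=
    normal_pGroup_le_sylow hN hNp T (Subgroup.mem_zpowers z)
  have : y = t * z := by rw [hzdef]; group
  rw [this]
  exact Subgroup.mul_mem _ ht hzT

theorem map_isNormal (T : Sylow p X) (Z : Subgroup X) [Z.Normal]
    (hZ : Z ≤ Subgroup.center X) {Q : Subgroup X}
    (hQ : (groupFusionSystem (T : Subgroup X)).IsNormal Q) :
    (groupFusionSystem ((T : Subgroup X).map (QuotientGroup.mk' Z))).IsNormal
      (Q.map (QuotientGroup.mk' Z)) := by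
  set π := QuotientGroup.mk' Z with hπ
  have hπs : Function.Surjective π := QuotientGroup.mk'_surjective Z
  have hF := isConjType_gfs (T : Subgroup X)
  have hF' := isConjType_gfs ((T : Subgroup X).map π)
  rw [isNormal_iff] at hQ ⊢
  obtain ⟨hQT, hN⟩ := hQ
  refine ⟨Subgroup.map_mono hQT, fun P' f' hf' => ?_⟩
  obtain ⟨hP', g₀, -, hfg⟩ := hF'.mor_iff.1 hf'
  obtain ⟨g, rfl⟩ := hπs g₀
  set P : Subgroup X := P'.comap π ⊓ T with hPdef
  have hPmap : P.map π = P' := by
    apply le_antisymm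
    · rintro _ ⟨x, hx, rfl⟩
      exact hx.1
    · intro y hy
      obtain ⟨t, ht, rfl⟩ := hP' hy
      exact ⟨t, ⟨hy, ht⟩, rfl⟩
  have hconj : ∀ (a x : X), π a * π x * (π a)⁻¹ = π (a * x * a⁻¹) := fun a x => by simp
  have hfP : Mor (groupFusionSystem (T : Subgroup X)) P (fun x => g * x * g⁻¹) := by
    refine hF.mor_iff.2 ⟨inf_le_right, g, Subgroup.mem_top _, fun x hx => ⟨rfl, ?_⟩⟩
    apply mem_sylow_of_map_mem T Z hZ
    · obtain ⟨k, hk⟩ := T.isPGroup' ⟨x, hx.2⟩
      refine ⟨k, ?_⟩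
      have hxk : x ^ p ^ k = 1 := by simpa using congrArg Subtype.val hk
      rw [conj_pow, hxk]
      group
    · rw [← hconj]
      exact (hfg _ hx.1).2
  obtain ⟨g', hg', hg'P, hg'Q⟩ := hN P _ hfP
  obtain ⟨-, h, -, hgh⟩ := hF.mor_iff.1 hg'
  have hsupmap : (P ⊔ Q).map π = P' ⊔ Q.map π := by rw [Subgroup.map_sup, hPmap]
  refine ⟨fun y => π h * y * (π h)⁻¹, ?_, ?_, ?_⟩
  · refine hF'.mor_iff.2 ⟨sup_le hP' (Subgroup.map_mono hQT), π h, Subgroup.mem_top _,
      fun y hy => ⟨rfl, ?_⟩⟩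
    rw [← hsupmap] at hy
    obtain ⟨y, hy, rfl⟩ := hy
    rw [hconj]
    exact Subgroup.mem_map_of_mem _ (hgh y hy).2
  · intro y hy
    rw [← hPmap] at hy
    obtain ⟨x, hx, rfl⟩ := hy
    show π h * π x * (π h)⁻¹ = f' (π x)
    rw [(hfg _ hx.1).1, hconj, hconj, ← (hgh x ((le_sup_left : P ≤ P ⊔ Q) hx)).1, hg'P x hx]
  · intro y
    constructor
    · rintro ⟨y, hy, rfl⟩
      obtain ⟨x, hx, e⟩ := (hg'Q y).1 hy
      refine ⟨π x, Subgroup.mem_map_of_mem _ hx, ?_⟩
      show π h * π x * (π h)⁻¹ = π y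
      rw [hconj, ← (hgh x ((le_sup_right : Q ≤ P ⊔ Q) hx)).1, e]
    · rintro ⟨_, ⟨x, hx, rfl⟩, rfl⟩
      show π h * π x * (π h)⁻¹ ∈ Q.map π
      rw [hconj, ← (hgh x ((le_sup_right : Q ≤ P ⊔ Q) hx)).1]
      exact Subgroup.mem_map_of_mem _ ((hg'Q _).2 ⟨x, hx, rfl⟩)

/-- an element of `T` centralizing `Q = O_p(F)` modulo a central subgroup lies in `O_p(F)` when `F = F_T(X)` is
constrained. -/
theorem mem_core_of_comm_mem_central (T : Sylow p X) (Z : Subgroup X)
    (hZ : Z ≤ Subgroup.center X)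
    (hsat : (groupFusionSystem (T : Subgroup X)).IsSaturated p)
    (hQc : (groupFusionSystem (T : Subgroup X)).IsCentric (groupFusionSystem (T : Subgroup X)).core)
    {x : X} (hxT : x ∈ (T : Subgroup X))
    (hxc : ∀ q ∈ (groupFusionSystem (T : Subgroup X)).core, q⁻¹ * (x * q * x⁻¹) ∈ Z) :
    x ∈ (groupFusionSystem (T : Subgroup X)).core := by
  set F := groupFusionSystem (T : Subgroup X) with hFdef
  set Q := F.core with hQdef
  haveI : Finite (T : Subgroup X) := inferInstance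
  have hQn : F.IsNormal Q := isNormal_core F
  have hQT : Q ≤ T := hQn.1
  haveI : Finite Q := Cfsg.Agent.Helper87.finite_of_le hQT
  have hQp : IsPGroup p Q := T.isPGroup'.to_le hQT
  have hxN : x ∈ Subgroup.normalizer (Q : Set X) :=
    stronglyClosed_le_normalizer (stronglyClosed_of_isNormal hQn) hxT
  have hAeq : F.autGroup Q = autInducedBy ⊤ Q := gfs_autGroup_eq _ _ hQT
  have hfix : ∀ a ∈ F.autGroup Q, ∀ y : Q, (y : X) ∈ Z → a y = y := by
    intro a ha y hy
    rw [hAeq, Cfsg.Agent.Helper84.mem_autInducedBy_iff] at ha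
    obtain ⟨g, -, hg⟩ := ha
    apply Subtype.ext
    rw [hg]
    have h1 : g * (y : X) = (y : X) * g := (Subgroup.mem_center_iff.1 (hZ hy) g)
    rw [h1]
    group
  have hinv : ∀ a ∈ F.autGroup Q, ∀ k, ∀ y ∈ cqChain3 (Z.subgroupOf Q) k, (a : MulAut Q) y ∈
      cqChain3 (Z.subgroupOf Q) k := by
    intro a ha k y hy
    match k, hy with
    | 0, hy =>
      have : y = 1 := hy
      rw [this, map_one]
      exact Subgroup.one_mem _
    | 1, hy =>
      have hy' : (y : X) ∈ Z := hy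
      rw [hfix a ha y hy']
      exact hy
    | (k + 2), _ => exact Subgroup.mem_top _
  have hnorm := chainStab_normal (F.autGroup Q) (cqChain3 (Z.subgroupOf Q)) hinv
  have hpg : IsPGroup p (chainStab (F.autGroup Q) (cqChain3 (Z.subgroupOf Q)) hinv) :=
    chainStab_isPGroup hQp (F.autGroup Q) (cqChain3 (Z.subgroupOf Q)) hinv rfl
      (by
        intro i
        match i with
        | 0 => exact bot_le
        | 1 => exact le_top
        | (i + 2) => exact le_rfl) 2 rfl
  have hbA : conjAut Q x hxN ∈ F.autGroup Q := by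
    rw [hAeq]
    exact conjAut_mem_autInducedBy (Subgroup.mem_top _) hxN
  have hb : (⟨conjAut Q x hxN, hbA⟩ : F.autGroup Q) ∈
      chainStab (F.autGroup Q) (cqChain3 (Z.subgroupOf Q)) hinv := by
    rw [mem_chainStab_iff]
    intro k y hy
    match k, hy with
    | 0, hy =>
      have hy' : (y : X) ∈ Z := hy
      have : (conjAut Q x hxN) y = y := hfix _ hbA y hy'
      show y⁻¹ * (conjAut Q x hxN) y ∈ (⊥ : Subgroup Q)
      rw [this, inv_mul_cancel]
      exact Subgroup.one_mem _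
    | 1, _ =>
      show ((y⁻¹ * (conjAut Q x hxN) y : Q) : X) ∈ Z
      exact hxc y y.2
    | (k + 2), _ => exact Subgroup.mem_top _
  have hbcore := le_pCore hnorm hpg hb
  have hx : x ∈ preCore F p Q := ⟨hxT, _, hbcore, fun q => rfl⟩
  exact preCore_le_core T.isPGroup' hsat hQn hQc hx

theorem central_quotient_constrained (T : Sylow p X) (Z : Subgroup X) [Z.Normal]
    (hZ : Z ≤ Subgroup.center X)
    (hcon : (groupFusionSystem (T : Subgroup X)).IsConstrained p) :
    (groupFusionSystem ((T : Subgroup X).map (QuotientGroup.mk' Z))).IsConstrained p := by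
  set π := QuotientGroup.mk' Z with hπ
  have hπs : Function.Surjective π := QuotientGroup.mk'_surjective Z
  obtain ⟨hsat, Q', hQ'n, hQ'c⟩ := hcon
  set F := groupFusionSystem (T : Subgroup X) with hFdef
  set Q := F.core with hQdef
  have hQn : F.IsNormal Q := isNormal_core F
  have hQT : Q ≤ T := hQn.1
  have hQc : F.IsCentric Q := Cfsg.Agent.Helper88.isCentric_of_le hQ'c (le_core hQ'n) hQT
  refine ⟨?_, Q.map π, map_isNormal T Z hZ hQn, ?_⟩
  · have := gfs_saturated (T.mapSurjective hπs)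
    rwa [Sylow.coe_mapSurjective] at this
  · have hQn' := map_isNormal T Z hZ hQn
    have hsc := stronglyClosed_iff.1 (stronglyClosed_of_isNormal hQn')
    refine ⟨Subgroup.map_mono hQT, fun R hR => ?_⟩
    obtain ⟨f, hf⟩ := isConj_iff.1 hR
    have hle : R ≤ Q.map π := by
      intro y hy
      obtain ⟨x, hx, rfl⟩ := (hf.2 y).1 hy
      exact hsc.2 _ _ le_rfl hf.1 x hx
    haveI : Finite (X ⧸ Z) := Finite.of_surjective π hπs
    have hRQ : R = Q.map π := Subgroup.eq_of_le_of_card_ge hle (hf.card_eq).le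
    rw [hRQ]
    intro c hc
    obtain ⟨x, hxT, rfl⟩ := hc.1
    have hxc : ∀ q ∈ Q, q⁻¹ * (x * q * x⁻¹) ∈ Z := by
      intro q hq
      have h1 : π q * π x = π x * π q :=
        Subgroup.mem_centralizer_iff.1 hc.2 (π q) (Subgroup.mem_map_of_mem _ hq)
      have h2 : π (q⁻¹ * (x * q * x⁻¹)) = 1 := by
        simp only [map_mul, map_inv]
        rw [← h1]
        group
      exact (QuotientGroup.eq_one_iff _).1 h2
    exact Subgroup.mem_map_of_mem _
      (mem_core_of_comm_mem_central T Z hZ hsat hQc hxT hxc)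

end

end Cfsg.Agent.Helper85
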