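import Mathlib

set_option autoImplicit false

namespace Cfsg.Agent.Helper85

/-- a 1-cocycle with values in an abelian group of exponent prime to the index of a subgroup on which it vanishes
is a coboundary (injectivity of restriction to a Sylow subgroup in degree one) -/
theorem cocycle_coboundary {G A : Type*} [Group G] [Finite G] [CommGroup A] (φ : G →* MulAut A)
    (T : Subgroup G) (n : ℕ) (hA : ∀ a : A, a ^ n = 1) (hcop : Nat.Coprime T.index n)
    (c : G → A) (hc : ∀ g h, c (g * h) = c g * φ g (c h)) (hT : ∀ t ∈ T, c t = 1) :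
    ∃ z : A, ∀ g, c g = z⁻¹ * φ g z := by
  classical
  haveI : Fintype (G ⧸ T) := Fintype.ofFinite _
  have hct : ∀ g t, t ∈ T → c (g * t) = c g := by
    intro g t ht
    rw [hc, hT t ht, map_one, mul_one]
  obtain ⟨cbar, hcbar⟩ : ∃ cbar : G ⧸ T → A, ∀ g : G, cbar (g : G ⧸ T) = c g := by
    refine ⟨fun q => c q.out, fun g => ?_⟩
    have h1 : ((g : G ⧸ T).out)⁻¹ * g ∈ T := QuotientGroup.eq.1 (QuotientGroup.out_eq' (g : G ⧸ T))
    have h2 : g = (g : G ⧸ T).out * (((g : G ⧸ T).out)⁻¹ * g) := by group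
    conv_rhs => rw [h2]
    exact (hct _ _ h1).symm
  have hw : ∀ g : G, φ g (∏ q : G ⧸ T, cbar q) = (c g)⁻¹ ^ T.index * ∏ q : G ⧸ T, cbar q := by
    intro g
    rw [map_prod]
    have h1 : ∀ q : G ⧸ T, φ g (cbar q) = (c g)⁻¹ * cbar (g • q) := by
      intro q
      induction q using QuotientGroup.induction_on with
      | H h =>
        have : g • (h : G ⧸ T) = ((g * h : G) : G ⧸ T) := rfl
        rw [this, hcbar, hcbar, hc, inv_mul_cancel_left]
    simp_rw [h1]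
    rw [Finset.prod_mul_distrib, Finset.prod_const, Finset.card_univ]
    congr 1
    · rw [Subgroup.index, Nat.card_eq_fintype_card]
    · exact Equiv.prod_comp (MulAction.toPerm g) cbar
  obtain ⟨k, hk⟩ : ∃ k : ℤ, ∀ a : A, (a ^ T.index) ^ k = a := by
    refine ⟨Nat.gcdA T.index n, fun a => ?_⟩
    have h1 : ((Nat.gcd T.index n : ℕ) : ℤ) = T.index * Nat.gcdA T.index n + n * Nat.gcdB T.index n :=
      Nat.gcd_eq_gcd_ab _ _
    rw [hcop.gcd_eq_one] at h1
    have h2 : a ^ (1 : ℤ) = a := zpow_one a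
    rw [← zpow_natCast, ← zpow_mul]
    conv_rhs => rw [← h2, show (1 : ℤ) = ((1 : ℕ) : ℤ) by rfl, h1, zpow_add, zpow_mul (a) (n : ℤ), zpow_natCast, hA,
      one_zpow, mul_one]
  refine ⟨((∏ q : G ⧸ T, cbar q) ^ k)⁻¹, fun g => ?_⟩
  have h3 : (c g) ^ T.index = (∏ q : G ⧸ T, cbar q) * (φ g (∏ q : G ⧸ T, cbar q))⁻¹ := by
    rw [hw g, mul_inv, inv_pow, inv_inv, mul_comm ((c g) ^ T.index), mul_inv_cancel_left]
  calc c g = ((c g) ^ T.index) ^ k := (hk _).symm
    _ = ((∏ q : G ⧸ T, cbar q) * (φ g (∏ q : G ⧸ T, cbar q))⁻¹) ^ k := by rw [h3]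
    _ = ((∏ q : G ⧸ T, cbar q) ^ k)⁻¹⁻¹ * φ g ((∏ q : G ⧸ T, cbar q) ^ k)⁻¹ := by
      rw [mul_zpow, inv_inv, map_inv, map_zpow, inv_zpow]

end Cfsg.Agent.Helper85
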