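import Mathlib
import Cfsg.Agent.Lib.Helper85.Constr2
import Cfsg.Agent.Lib.Helper85.Solvable1
import Cfsg.Agent.Lib.Helper87.FusionInvariant
import Cfsg.Agent.Lib.Helper88.FusionCentricUnique

set_option autoImplicit false

/-! # Normal subsystems of constrained systems are constrained -/

namespace Cfsg.Agent.Helper85

open Cfsg Cfsg.FusionSystem Cfsg.Agent.Helper87

variable {Ω : Type*} [Group Ω] {S T : Subgroup Ω}

/-- a subgroup normal in `F` lies in every centric radical subgroup of a subsystem `E` containing it -/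
theorem le_of_normal_centric_radical_sub [Finite S] {p : ℕ} [Fact p.Prime] (hS : IsPGroup p S)
    {F : FusionSystem S} {E : FusionSystem T} (hTS : T ≤ S) (hsub : E.IsSubsystemOf F)
    {R : Subgroup Ω} (hR : F.IsNormal R) (hRT : R ≤ T) {P : Subgroup Ω} (hcen : E.IsCentric P)
    (hrad : E.IsRadical p P) : R ≤ P := by
  have hPT : P ≤ T := hcen.1
  have hPS : P ≤ S := hPT.trans hTS
  have hRsc : F.StronglyClosed R := stronglyClosed_of_isNormal hR
  obtain ⟨hRS, hext⟩ := isNormal_iff.1 hR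
  set R₀ : Subgroup Ω := R ⊓ Subgroup.normalizer (P : Set Ω) with hR₀
  have hR₀T : R₀ ≤ T := inf_le_left.trans hRT
  have hKle : autInducedBy R₀ P ≤ E.autGroup P := by
    intro α hα
    obtain ⟨g, hg, e⟩ := mem_autInducedBy_iff.1 hα
    exact autInducedBy_le_autGroup E hPT (mem_autInducedBy_iff.2 ⟨g, hR₀T hg, e⟩)
  have hKn : ((autInducedBy R₀ P).subgroupOf (E.autGroup P)).Normal := by
    constructor
    intro k hk a
    rw [Subgroup.mem_subgroupOf] at hk ⊢
    obtain ⟨x, hx, ek⟩ := mem_autInducedBy_iff.1 hk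
    have haE : Mor E P (extAut (a : MulAut P)) := (mem_autGroup_iff hPT).1 a.2
    have haF : Mor F P (extAut (a : MulAut P)) := haE.of_subsystem hsub
    obtain ⟨g, hg, e, hgR⟩ := hext P _ haF
    have hxPR : x ∈ P ⊔ R := le_sup_right (b := R) hx.1
    have hkey : ∀ y : P, ((((a * k * a⁻¹ : E.autGroup P) : MulAut P) y : P) : Ω)
        = g x * (y : Ω) * (g x)⁻¹ := by
      intro y
      set z : P := ((a⁻¹ : E.autGroup P) : MulAut P) y with hz
      have h1 : ((a * k * a⁻¹ : E.autGroup P) : MulAut P) y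
          = (a : MulAut P) ((k : MulAut P) z) := rfl
      have haz : (a : MulAut P) z = y := by
        rw [hz]
        show ((a : MulAut P) * ((a⁻¹ : E.autGroup P) : MulAut P)) y = y
        rw [← Subgroup.coe_mul, mul_inv_cancel]; rfl
      have hzPR : (z : Ω) ∈ P ⊔ R := le_sup_left (a := P) z.2
      have h2 : (((a : MulAut P) ((k : MulAut P) z) : P) : Ω) = g (x * z * x⁻¹) := by
        rw [e _ (by rw [← ek z]; exact ((k : MulAut P) z).2), ← ek z, extAut_apply]
      rw [h1, h2, hg.map_mul (Subgroup.mul_mem _ hxPR hzPR) (Subgroup.inv_mem _ hxPR),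
        hg.map_mul hxPR hzPR, hg.map_inv hxPR, e z z.2, extAut_apply, haz]
    rw [mem_autInducedBy_iff]
    refine ⟨g x, ⟨(hgR _).2 ⟨x, hx.1, rfl⟩, mem_normalizer_of_aut _ hkey⟩, hkey⟩
  have hR₀S : R₀ ≤ S := hR₀T.trans hTS
  have hKp : IsPGroup p ((autInducedBy R₀ P).subgroupOf (E.autGroup P)) :=
    (isPGroup_autInducedBy (hS.to_le hR₀S) P).comap_subtype
  have hKcore := le_pCore hKn hKp
  have key : ∀ x ∈ R, x ∈ Subgroup.normalizer (P : Set Ω) → x ∈ P := by
    intro x hx hxN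
    have h1 : conjAut P x hxN ∈ autInducedBy R₀ P := conjAut_mem_autInducedBy (K := R₀) (Subgroup.mem_inf.2 ⟨hx, hxN⟩) hxN
    have hinn : conjAut P x hxN ∈ Inn P := by
      rw [← hrad.2]
      exact ⟨⟨_, hKle h1⟩, hKcore (Subgroup.mem_subgroupOf.2 h1), rfl⟩
    exact mem_of_conjAut_mem_inn hcen (hRT hx) hxN hinn
  by_contra hnot
  have hPRS : P ⊔ R ≤ S := sup_le hPS hRS
  haveI : Finite ↥(P ⊔ R) := finite_of_le hPRS
  have hne : P ≠ P ⊔ R := by
    intro h
    apply hnot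
    rw [h]
    exact le_sup_right
  obtain ⟨n, hn, hnP⟩ := exists_normalizer_not_mem (hS.to_le hPRS) (le_sup_left : P ≤ P ⊔ R) hne
  have hPn : P ≤ Subgroup.normalizer (R : Set Ω) := hPS.trans (stronglyClosed_le_normalizer hRsc)
  obtain ⟨y, hy, x, hx, rfl⟩ := (mem_sup_iff_of_le_normalizer hPn).1 hn.1
  apply hnP
  have hxN : x ∈ Subgroup.normalizer (P : Set Ω) := by
    have : x = y⁻¹ * (y * x) := by group
    rw [this]
    exact Subgroup.mul_mem _ (Subgroup.inv_mem _ (Subgroup.le_normalizer hy)) hn.2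
  exact P.mul_mem hy (key x hx hxN)

/-- the intersection of a strongly closed subgroup with a normal subgroup of the system is normal -/
theorem isNormal_inf_of_stronglyClosed [Finite S] {F : FusionSystem S} {T Q : Subgroup Ω}
    (hT : F.StronglyClosed T) (hQ : F.IsNormal Q) : F.IsNormal (T ⊓ Q) := by
  have hQsc : F.StronglyClosed Q := stronglyClosed_of_isNormal hQ
  have hsc : F.StronglyClosed (T ⊓ Q) := stronglyClosed_inf hT hQsc
  obtain ⟨hQS, hext⟩ := isNormal_iff.1 hQ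
  rw [isNormal_iff]
  refine ⟨inf_le_right.trans hQS, fun P f hf => ?_⟩
  obtain ⟨g, hg, e, hgQ⟩ := hext P f hf
  have hle : P ⊔ T ⊓ Q ≤ P ⊔ Q := sup_le_sup_left inf_le_right P
  have hg' : Mor F (P ⊔ T ⊓ Q) g := hg.restrict hle
  refine ⟨g, hg', e, fun y => ?_⟩
  have hmor : Mor F (T ⊓ Q) g := hg'.restrict le_sup_right
  have hmem : ∀ s ∈ T ⊓ Q, g s ∈ T ⊓ Q :=
    fun s hs => (stronglyClosed_iff.1 hsc).2 _ g le_rfl hmor s hs
  constructor
  · intro hy
    have hiso : Iso F (T ⊓ Q) hmor.image g := Iso.of_mor hmor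
    have hle' : hmor.image ≤ T ⊓ Q := by
      rintro _ ⟨x, hx, rfl⟩
      exact hmem x hx
    haveI : Finite ↥(T ⊓ Q) := finite_of_le hsc.1
    have heq : hmor.image = T ⊓ Q := Subgroup.eq_of_le_of_card_ge hle' (le_of_eq hiso.card_eq)
    rw [← heq] at hy
    obtain ⟨x, hx, rfl⟩ := hy
    exact ⟨x, hx, rfl⟩
  · rintro ⟨x, hx, rfl⟩
    exact hmem x hx

/-- **a normal subsystem of a constrained system is constrained** -/
theorem constrained_of_isNormalIn [Finite S] {p : ℕ} [Fact p.Prime] (hS : IsPGroup p S)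
    {F : FusionSystem S} (hF : F.IsConstrained p) {E : FusionSystem T} (hE : E.IsNormalIn F p) :
    E.IsConstrained p := by
  obtain ⟨hFsat, Q₀, hQ₀n, hQ₀c⟩ := hF
  have hEsat : E.IsSaturated p := hE.1.1
  have hsub : E.IsSubsystemOf F := hE.1.2.2.1
  have hT : F.StronglyClosed T := hE.1.2.2.2.1
  have hTS : T ≤ S := hT.1
  haveI : Finite T := finite_of_le hTS
  have hST : IsPGroup p T := hS.to_le hTS
  set Q := F.core with hQdef
  have hQn : F.IsNormal Q := isNormal_core F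
  have hQc : F.IsCentric Q := Cfsg.Agent.Helper88.isCentric_of_le hQ₀c (le_core hQ₀n) hQn.1
  have hQsc : F.StronglyClosed Q := stronglyClosed_of_isNormal hQn
  have hRF : F.IsNormal (T ⊓ Q) := isNormal_inf_of_stronglyClosed hT hQn
  have hRsc : F.StronglyClosed (T ⊓ Q) := stronglyClosed_of_isNormal hRF
  have hREsc : E.StronglyClosed (T ⊓ Q) :=
    ⟨inf_le_left, fun A hA φ hφ x => hRsc.2 A hA φ (hsub A hφ) x⟩
  have hRE : E.IsNormal (T ⊓ Q) :=
    isNormal_of_stronglyClosed_of_le hST hEsat hREsc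
      (fun P _ hcen hrad => le_of_normal_centric_radical_sub hS hTS hsub hRF inf_le_left hcen hrad)
  refine ⟨hEsat, T ⊓ Q, hRE, inf_le_left, fun R' hRR' => ?_⟩
  -- the only conjugate is `T ⊓ Q` itself
  obtain ⟨f, hf⟩ := isConj_iff.1 hRR'
  have hle : R' ≤ T ⊓ Q := by
    intro y hy
    obtain ⟨x, hx, rfl⟩ := hf.surj hy
    exact (stronglyClosed_iff.1 hREsc).2 _ f le_rfl hf.1 x hx
  haveI : Finite ↥(T ⊓ Q) := finite_of_le hRsc.1
  have heq : R' = T ⊓ Q := Subgroup.eq_of_le_of_card_ge hle (le_of_eq hf.card_eq)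
  rw [heq]
  rintro x ⟨hxT, hxc⟩
  have hxS : x ∈ S := hTS hxT
  have hxc' : ∀ r ∈ T ⊓ Q, r * x = x * r := Subgroup.mem_centralizer_iff.1 hxc
  refine ⟨hxT, ?_⟩
  -- `x` induces on `Q` an element of `O_p(Aut_F(Q))`
  have hQS : Q ≤ S := hQn.1
  haveI : Finite Q := finite_of_le hQS
  have hxN : x ∈ Subgroup.normalizer (Q : Set Ω) := stronglyClosed_le_normalizer hQsc hxS
  have hβmem : conjAut Q x hxN ∈ F.autGroup Q :=
    autInducedBy_le_autGroup F hQS (conjAut_mem_autInducedBy hxS hxN)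
  let Nc : ℕ → Subgroup Q := fun k => match k with
    | 0 => ⊥
    | 1 => (T ⊓ Q).subgroupOf Q
    | _ => ⊤
  have hNinv : ∀ a ∈ F.autGroup Q, ∀ k, ∀ y ∈ Nc k, (a : MulAut Q) y ∈ Nc k := by
    intro a ha k y hy
    match k with
    | 0 =>
      have : y = 1 := (Subgroup.mem_bot).1 hy
      rw [this, map_one]; exact Subgroup.one_mem _
    | 1 =>
      have hyR : (y : Ω) ∈ T ⊓ Q := Subgroup.mem_subgroupOf.1 hy
      have h1 : Mor F Q (extAut a) := (mem_autGroup_iff hQS).1 ha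
      have h2 := (stronglyClosed_iff.1 hRsc).2 _ _ le_rfl (h1.restrict inf_le_right) y hyR
      rw [extAut_apply] at h2
      exact Subgroup.mem_subgroupOf.2 h2
    | (k + 2) => exact Subgroup.mem_top _
  have hchain : (⟨conjAut Q x hxN, hβmem⟩ : F.autGroup Q) ∈
      Cfsg.Agent.Helper84.chainStab (F.autGroup Q) Nc hNinv := by
    rw [Cfsg.Agent.Helper84.mem_chainStab_iff]
    intro k y hy
    match k with
    | 0 =>
      have hyR : (y : Ω) ∈ T ⊓ Q := Subgroup.mem_subgroupOf.1 hy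
      show y⁻¹ * conjAut Q x hxN y ∈ (⊥ : Subgroup Q)
      rw [Subgroup.mem_bot]
      apply Subtype.ext
      show (y : Ω)⁻¹ * (x * y * x⁻¹) = 1
      rw [← hxc' y hyR]; group
    | 1 =>
      show y⁻¹ * conjAut Q x hxN y ∈ (T ⊓ Q).subgroupOf Q
      rw [Subgroup.mem_subgroupOf]
      refine ⟨?_, (y⁻¹ * conjAut Q x hxN y).2⟩
      show (y : Ω)⁻¹ * (x * y * x⁻¹) ∈ T
      have hyN : (y : Ω)⁻¹ ∈ Subgroup.normalizer (T : Set Ω) :=
        stronglyClosed_le_normalizer hT (S.inv_mem (hQS y.2))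
      have h1 : (y : Ω)⁻¹ * x * (y : Ω)⁻¹⁻¹ ∈ T := (Subgroup.mem_normalizer_iff.1 hyN x).1 hxT
      have h2 : (y : Ω)⁻¹ * (x * y * x⁻¹) = ((y : Ω)⁻¹ * x * (y : Ω)⁻¹⁻¹) * x⁻¹ := by group
      rw [h2]
      exact T.mul_mem h1 (T.inv_mem hxT)
    | (k + 2) => exact Subgroup.mem_top _
  have hcn := Cfsg.Agent.Helper84.chainStab_normal (F.autGroup Q) Nc hNinv
  have hcp : IsPGroup p (Cfsg.Agent.Helper84.chainStab (F.autGroup Q) Nc hNinv) :=
    Cfsg.Agent.Helper84.chainStab_isPGroup (hS.to_le hQS) (F.autGroup Q) Nc hNinv rfl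
      (fun i => by
        match i with
        | 0 => exact bot_le
        | (i + 1) => exact le_top) 2 rfl
  have hcore := le_pCore hcn hcp hchain
  have hpre : x ∈ preCore F p Q := ⟨hxS, _, hcore, fun y => rfl⟩
  exact preCore_le_core hS hFsat hQn hQc hpre

end Cfsg.Agent.Helper85
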