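import Mathlib
import Cfsg.Agent.Lib.Helper87.FusionSaturated
import Cfsg.Agent.Lib.Helper85.QuotLift

set_option autoImplicit false

/-! # Full subsystems on a strongly closed commuting factor are saturated -/

namespace Cfsg.Agent.Helper85

open Cfsg Cfsg.FusionSystem Cfsg.Agent.Helper87

variable {Ω : Type*} [Group Ω] {S S₁ S₂ : Subgroup Ω}

/-- `S = S₁ S₂` with `S₁ ≤ S` and `S₁`, `S₂` commuting elementwise -/
structure CommDecomp (S S₁ S₂ : Subgroup Ω) : Prop where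
  le₁ : S₁ ≤ S
  comm : ∀ a ∈ S₁, ∀ b ∈ S₂, a * b = b * a
  dec : ∀ s ∈ S, ∃ a ∈ S₁, ∃ b ∈ S₂, s = a * b

theorem mor_full_iff {F : FusionSystem S} {R : FusionSystem S₁}
    (hR : ∀ P : Subgroup Ω, P ≤ S₁ → R.Hom P = F.Hom P) {P : Subgroup Ω} (hP : P ≤ S₁)
    {f : Ω → Ω} : Mor R P f ↔ Mor F P f := by
  unfold Mor
  rw [hR P hP]

theorem iso_full_iff {F : FusionSystem S} {R : FusionSystem S₁}
    (hR : ∀ P : Subgroup Ω, P ≤ S₁ → R.Hom P = F.Hom P) {P Q : Subgroup Ω} (hP : P ≤ S₁)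
    {f : Ω → Ω} : Iso R P Q f ↔ Iso F P Q f := by
  unfold Iso
  rw [mor_full_iff hR hP]

theorem autInducedBy_eq_of_commDecomp (h : CommDecomp S S₁ S₂) {Q : Subgroup Ω} (hQ : Q ≤ S₁) :
    autInducedBy S Q = autInducedBy S₁ Q := by
  ext α
  rw [mem_autInducedBy_iff, mem_autInducedBy_iff]
  constructor
  · rintro ⟨g, hg, e⟩
    obtain ⟨a, ha, b, hb, rfl⟩ := h.dec g hg
    refine ⟨a, ha, fun x => ?_⟩
    rw [e x]
    have hc : (x : Ω) * b = b * x := h.comm x (hQ x.2) b hb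
    have : a * b * (x : Ω) * (a * b)⁻¹ = a * (b * x * b⁻¹) * a⁻¹ := by group
    rw [this, ← hc]
    group
  · rintro ⟨a, ha, e⟩
    exact ⟨a, h.le₁ ha, e⟩

theorem fullyAutomized_full {p : ℕ} {F : FusionSystem S} {R : FusionSystem S₁}
    (h : CommDecomp S S₁ S₂) (hR : ∀ P : Subgroup Ω, P ≤ S₁ → R.Hom P = F.Hom P)
    {Q : Subgroup Ω} (hQ : Q ≤ S₁) (hfa : F.IsFullyAutomized p Q) : R.IsFullyAutomized p Q := by
  refine ⟨hQ, ?_⟩
  have h1 : R.autGroup Q = F.autGroup Q := by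
    unfold autGroup
    rw [hR Q hQ]
  rw [← autInducedBy_eq_of_commDecomp h hQ]
  have key : ∀ (A B : Subgroup (MulAut Q)), A = B →
      (∃ T : Sylow p A, (T : Subgroup A) = (autInducedBy S Q).subgroupOf A) →
      ∃ T : Sylow p B, (T : Subgroup B) = (autInducedBy S Q).subgroupOf B := by
    rintro A B rfl hh; exact hh
  exact key _ _ h1.symm hfa.2

theorem receptive_full {F : FusionSystem S} {R : FusionSystem S₁}
    (h : CommDecomp S S₁ S₂) (hR : ∀ P : Subgroup Ω, P ≤ S₁ → R.Hom P = F.Hom P)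
    {Q : Subgroup Ω} (hQ : Q ≤ S₁) (hrec : F.IsReceptive Q) : R.IsReceptive Q := by
  rw [isReceptive_iff] at hrec ⊢
  refine ⟨hQ, fun P f hiso => ?_⟩
  have hP : P ≤ S₁ := hiso.le_left
  have hisoF : Iso F P Q f := (iso_full_iff hR hP).1 hiso
  obtain ⟨g, hg, hgf⟩ := hrec.2 P f hisoF
  have hle : hiso.ext ≤ hisoF.ext := by
    intro x hx
    rw [Iso.mem_ext] at hx ⊢
    obtain ⟨h1, h2, k, hk, e⟩ := hx
    exact ⟨h.le₁ h1, h2, k, h.le₁ hk, e⟩
  have hextS₁ : hiso.ext ≤ S₁ := fun x hx => ((Iso.mem_ext hiso).1 hx).1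
  exact ⟨g, (mor_full_iff hR hextS₁).2 (hg.restrict hle), hgf⟩

/-- **Lemma A**: the full subsystem on a strongly closed commuting factor is saturated -/
theorem saturated_full {p : ℕ} {F : FusionSystem S} {R : FusionSystem S₁}
    (h : CommDecomp S S₁ S₂) (hF : F.IsSaturated p) (hsc : F.StronglyClosed S₁)
    (hR : ∀ P : Subgroup Ω, P ≤ S₁ → R.Hom P = F.Hom P) : R.IsSaturated p := by
  intro P hP
  obtain ⟨Q, hPQ, hfa, hrec⟩ := hF P (hP.trans h.le₁)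
  have hQ : Q ≤ S₁ := by
    obtain ⟨φ, hφ, rfl⟩ := hPQ
    rintro _ ⟨x, rfl⟩
    exact hsc.2 P hP φ hφ x
  refine ⟨Q, ?_, fullyAutomized_full h hR hQ hfa, receptive_full h hR hQ hrec⟩
  obtain ⟨φ, hφ, e⟩ := hPQ
  exact ⟨φ, by rw [hR P hP]; exact hφ, e⟩

end Cfsg.Agent.Helper85
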