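import Mathlib
import Cfsg.Agent.Lib.Helper87.FusionNormalCrit
import Cfsg.Agent.Lib.Helper85.DirProd1

set_option autoImplicit false

/-! # Extending maps on a factor across a commuting strongly closed factor -/

namespace Cfsg.Agent.Helper85

open Cfsg Cfsg.FusionSystem Cfsg.Agent.Helper87

variable {Ω : Type*} [Group Ω] {S S₁ S₂ : Subgroup Ω}

theorem le_normalizer_of_comm {A B : Subgroup Ω} (h : ∀ a ∈ A, ∀ b ∈ B, a * b = b * a) :
    A ≤ Subgroup.normalizer (B : Set Ω) := by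
  intro a ha
  rw [Subgroup.mem_normalizer_iff]
  intro s
  constructor
  · intro hs
    have : a * s * a⁻¹ = s := by rw [h a ha s hs]; group
    rw [this]; exact hs
  · intro hs
    have h1 : a * (a * s * a⁻¹) = (a * s * a⁻¹) * a := h a ha _ hs
    have h2 : a * s * a⁻¹ = s := by
      have : a * (a * s * a⁻¹) = a * s := by rw [h1]; group
      exact mul_left_cancel this
    rw [← h2]; exact hs

theorem mem_sup_of_comm {A B : Subgroup Ω} (h : ∀ a ∈ A, ∀ b ∈ B, a * b = b * a) {z : Ω} :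
    z ∈ A ⊔ B ↔ ∃ a ∈ A, ∃ b ∈ B, z = a * b :=
  mem_sup_iff_of_le_normalizer (le_normalizer_of_comm h)

/-- a map of the system defined on an overgroup of a strongly closed `T` maps `T` onto `T` -/
theorem surj_on_stronglyClosed [Finite S] {F : FusionSystem S} {T K : Subgroup Ω}
    (hT : F.StronglyClosed T) {h : Ω → Ω} (hh : Mor F K h) (hTK : T ≤ K) :
    (∀ s ∈ T, h s ∈ T) ∧ ∀ s ∈ T, ∃ s' ∈ T, h s' = s := by
  have hmor : Mor F T h := hh.restrict hTK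
  have hmem : ∀ s ∈ T, h s ∈ T := fun s hs => (stronglyClosed_iff.1 hT).2 T h le_rfl hmor s hs
  refine ⟨hmem, ?_⟩
  have hiso : Iso F T hmor.image h := Iso.of_mor hmor
  have hle : hmor.image ≤ T := by
    rintro _ ⟨x, hx, rfl⟩
    exact hmem x hx
  haveI : Finite T := finite_of_le hT.1
  have heq : hmor.image = T :=
    Subgroup.eq_of_le_of_card_ge hle (le_of_eq hiso.card_eq)
  intro s hs
  rw [← heq] at hs
  obtain ⟨x, hx, rfl⟩ := hs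
  exact ⟨x, hx, rfl⟩

/-- data of the direct-factor situation -/
structure Factors (F : FusionSystem S) (S₁ S₂ : Subgroup Ω) : Prop where
  le₁ : S₁ ≤ S
  le₂ : S₂ ≤ S
  comm : ∀ a ∈ S₁, ∀ b ∈ S₂, a * b = b * a
  sc₁ : F.StronglyClosed S₁
  sc₂ : F.StronglyClosed S₂

namespace Factors

variable {F : FusionSystem S}

theorem comm_of_le (h : Factors F S₁ S₂) {A : Subgroup Ω} (hA : A ≤ S₁) :
    ∀ a ∈ A, ∀ b ∈ S₂, a * b = b * a := fun a ha b hb => h.comm a (hA ha) b hb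

theorem le_centralizerIn (h : Factors F S₁ S₂) {A : Subgroup Ω} (hA : A ≤ S₁) :
    S₂ ≤ centralizerIn S A := by
  intro b hb
  refine ⟨h.le₂ hb, ?_⟩
  show b ∈ Subgroup.centralizer (A : Set Ω)
  rw [Subgroup.mem_centralizer_iff]
  intro a ha
  exact h.comm a (hA ha) b hb

/-- image of `A ⊔ S₂` under a map of the system -/
theorem image_sup [Finite S] (h : Factors F S₁ S₂) {A : Subgroup Ω} (hA : A ≤ S₁) {k : Ω → Ω}
    (hk : Mor F (A ⊔ S₂) k) (y : Ω) :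
    (∃ x ∈ A ⊔ S₂, k x = y) ↔ ∃ a ∈ A, ∃ s ∈ S₂, y = k a * s := by
  obtain ⟨h1, h2⟩ := surj_on_stronglyClosed h.sc₂ hk le_sup_right
  constructor
  · rintro ⟨x, hx, rfl⟩
    obtain ⟨a, ha, s, hs, rfl⟩ := (mem_sup_of_comm (h.comm_of_le hA)).1 hx
    refine ⟨a, ha, k s, h1 s hs, ?_⟩
    exact hk.map_mul (le_sup_left (a := A) ha) (le_sup_right (b := S₂) hs)
  · rintro ⟨a, ha, s, hs, rfl⟩
    obtain ⟨s', hs', rfl⟩ := h2 s hs
    refine ⟨a * s', (mem_sup_of_comm (h.comm_of_le hA)).2 ⟨a, ha, s', hs', rfl⟩, ?_⟩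
    exact hk.map_mul (le_sup_left (a := A) ha) (le_sup_right (b := S₂) hs')

/-- extension to `A ⊔ S₂` of an isomorphism onto a receptive subgroup -/
theorem ext_receptive (h : Factors F S₁ S₂) {A B : Subgroup Ω} (hA : A ≤ S₁)
    (hB : F.IsReceptive B) {θ : Ω → Ω} (hθ : Iso F A B θ) :
    ∃ k, Mor F (A ⊔ S₂) k ∧ ∀ x ∈ A, k x = θ x := by
  obtain ⟨k, hk, e⟩ := (isReceptive_iff.1 hB).2 A θ hθ
  have hle : A ⊔ S₂ ≤ hθ.ext :=
    sup_le hθ.le_ext ((h.le_centralizerIn hA).trans hθ.centralizerIn_le_ext)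
  exact ⟨k, hk.restrict hle, e⟩

/-- **extension lemma**: every map of the system on `Q ≤ S₁` extends to `Q ⊔ S₂`, mapping `S₂` onto `S₂` -/
theorem exists_ext [Finite S] {p : ℕ} (h : Factors F S₁ S₂) (hF : F.IsSaturated p)
    {Q Q' : Subgroup Ω} (hQ : Q ≤ S₁) {g : Ω → Ω} (hg : Iso F Q Q' g) :
    ∃ k, Iso F (Q ⊔ S₂) (Q' ⊔ S₂) k ∧ (∀ x ∈ Q, k x = g x) ∧ (∀ s ∈ S₂, k s ∈ S₂) := by
  have hQ' : Q' ≤ S₁ := by
    intro y hy
    obtain ⟨x, hx, rfl⟩ := hg.surj hy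
    exact (stronglyClosed_iff.1 h.sc₁).2 Q g hQ hg.1 x hx
  obtain ⟨B, hQB, -, hBrec⟩ := hF Q (hQ.trans h.le₁)
  obtain ⟨χ, hχ⟩ := isConj_iff.1 hQB
  obtain ⟨g', hg', hg'1, hg'2⟩ := hg.symm
  have hκ : Iso F Q' B (fun y => χ (g' y)) := hg'.comp hχ
  obtain ⟨k₁, hk₁, e₁⟩ := h.ext_receptive hQ hBrec hχ
  obtain ⟨k₂, hk₂, e₂⟩ := h.ext_receptive hQ' hBrec hκ
  have hB : B ≤ S₁ := by
    intro y hy
    obtain ⟨x, hx, rfl⟩ := hχ.surj hy
    exact (stronglyClosed_iff.1 h.sc₁).2 Q χ hQ hχ.1 x hx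
  -- both extensions are isomorphisms onto `B ⊔ S₂`
  have hi₁ : Iso F (Q ⊔ S₂) (B ⊔ S₂) k₁ := by
    refine ⟨hk₁, fun y => ?_⟩
    rw [h.image_sup hQ hk₁, mem_sup_of_comm (h.comm_of_le hB)]
    constructor
    · rintro ⟨b, hb, s, hs, rfl⟩
      obtain ⟨a, ha, rfl⟩ := hχ.surj hb
      exact ⟨a, ha, s, hs, by rw [e₁ a ha]⟩
    · rintro ⟨a, ha, s, hs, rfl⟩
      exact ⟨χ a, hχ.map_mem ha, s, hs, by rw [e₁ a ha]⟩
  have hi₂ : Iso F (Q' ⊔ S₂) (B ⊔ S₂) k₂ := by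
    refine ⟨hk₂, fun y => ?_⟩
    rw [h.image_sup hQ' hk₂, mem_sup_of_comm (h.comm_of_le hB)]
    constructor
    · rintro ⟨b, hb, s, hs, rfl⟩
      obtain ⟨a, ha, rfl⟩ := hκ.surj hb
      exact ⟨a, ha, s, hs, by rw [e₂ a ha]⟩
    · rintro ⟨a, ha, s, hs, rfl⟩
      exact ⟨χ (g' a), hκ.map_mem ha, s, hs, by rw [e₂ a ha]⟩
  obtain ⟨k₂', hk₂', hk₂'1, hk₂'2⟩ := hi₂.symm
  have hcomp : Iso F (Q ⊔ S₂) (Q' ⊔ S₂) (fun x => k₂' (k₁ x)) := hi₁.comp hk₂'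
  refine ⟨_, hcomp, fun x hx => ?_, fun s hs => ?_⟩
  · show k₂' (k₁ x) = g x
    have h1 : k₂ (g x) = k₁ x := by
      rw [e₂ _ (hg.map_mem hx), e₁ x hx, hg'1 x hx]
    rw [← h1]
    exact hk₂'1 _ (le_sup_left (a := Q') (hg.map_mem hx))
  · exact (surj_on_stronglyClosed h.sc₂ hcomp.1 le_sup_right).1 s hs

end Factors

end Cfsg.Agent.Helper85
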