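import Mathlib
import Cfsg.Agent.Lib.Helper85.DirProd2
import Cfsg.Agent.S5119

set_option autoImplicit false

/-! # Strong invariance of the full subsystem and of the centralizer subsystem on a direct factor -/

namespace Cfsg.Agent.Helper85

open Cfsg Cfsg.FusionSystem Cfsg.Agent.Helper87

variable {Ω : Type*} [Group Ω] {S S₁ S₂ : Subgroup Ω}

/-- function-level description of the maps of the centralizer system of `Q` -/
def CMor (F : FusionSystem S) (Q P : Subgroup Ω) (f : Ω → Ω) : Prop :=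
  P ≤ centralizerIn S Q ∧ (∀ x ∈ P, f x ∈ centralizerIn S Q) ∧
    ∃ g, Mor F (P ⊔ Q) g ∧ (∀ x ∈ P, g x = f x) ∧ ∀ x ∈ Q, g x = x

theorem cmor_iff {F : FusionSystem S} {Q P : Subgroup Ω} {f : Ω → Ω} :
    (∃ φ ∈ F.centralizerHom Q P, ∀ x : P, φ x = f x) ↔ CMor F Q P f := by
  constructor
  · rintro ⟨φ, ⟨hφ, hP, hval, ψ, hψ, e1, e2⟩, e⟩
    refine ⟨hP, fun x hx => ?_, extFun ψ, mor_of_mem hψ, fun x hx => ?_, fun x hx => ?_⟩
    · rw [← e ⟨x, hx⟩]; exact hval _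
    · rw [extFun_mem ψ (le_sup_left (a := P) hx), ← e ⟨x, hx⟩, ← e1 ⟨x, hx⟩]; rfl
    · rw [extFun_mem ψ (le_sup_right (b := Q) hx)]
      exact e2 ⟨x, hx⟩
  · rintro ⟨hP, hval, g, hg, e1, e2⟩
    obtain ⟨ψ, hψ, eψ⟩ := hg
    obtain ⟨φ, hφ, eφ⟩ := (Mor.restrict ⟨ψ, hψ, eψ⟩ (le_sup_left : P ≤ P ⊔ Q))
    refine ⟨φ, ⟨hφ, hP, fun x => ?_, ψ, hψ, fun x => ?_, fun x => ?_⟩, fun x => ?_⟩
    · rw [eφ, e1 _ x.2]; exact hval _ x.2
    · rw [eψ, eφ]; rfl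
    · rw [eψ]; exact e2 _ x.2
    · rw [eφ, e1 _ x.2]

theorem mor_cent_iff {F : FusionSystem S} {R' : FusionSystem S₁}
    (hR' : ∀ P : Subgroup Ω, P ≤ S₁ → R'.Hom P = F.centralizerHom S₂ P) {P : Subgroup Ω}
    (hP : P ≤ S₁) {f : Ω → Ω} : Mor R' P f ↔ CMor F S₂ P f := by
  rw [← cmor_iff]
  unfold Mor
  rw [hR' P hP]

namespace Factors

variable {F : FusionSystem S}

theorem le_centralizerIn₂ (h : Factors F S₁ S₂) : S₁ ≤ centralizerIn S S₂ := by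
  intro a ha
  refine ⟨h.le₁ ha, ?_⟩
  show a ∈ Subgroup.centralizer (S₂ : Set Ω)
  rw [Subgroup.mem_centralizer_iff]
  intro b hb
  exact (h.comm a ha b hb).symm

/-- strong invariance of the full subsystem -/
theorem siFun_full (h : Factors F S₁ S₂) {R : FusionSystem S₁}
    (hR : ∀ P : Subgroup Ω, P ≤ S₁ → R.Hom P = F.Hom P) : Cfsg.Agent.S5119.SIfun R F := by
  intro P Q R_ f g g' hPQ hQ hf hfQ hg hR_ hg'
  have hP : P ≤ S₁ := hPQ.trans hQ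
  have hfF : Mor F P f := (mor_full_iff hR hP).1 hf
  have hgP : Iso F P R_ g := ⟨hg.restrict hPQ, hR_⟩
  have hR_S : R_ ≤ S₁ := by
    intro y hy
    obtain ⟨x, hx, rfl⟩ := hgP.surj hy
    exact (stronglyClosed_iff.1 h.sc₁).2 P g hP hgP.1 x hx
  obtain ⟨g'', hg'', e1, e2⟩ := hgP.symm
  have hg'R : Mor F R_ g' := hg''.1.congr (fun y hy => by
    obtain ⟨x, hx, rfl⟩ := hgP.surj hy
    rw [e1 x hx, hg' x hx])
  have hmapP : ∀ y ∈ R_, g' y ∈ P := by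
    intro y hy
    obtain ⟨x, hx, rfl⟩ := hgP.surj hy
    rw [hg' x hx]; exact hx
  have hc : Mor F R_ (fun y => g (f (g' y))) :=
    (hg'R.comp hfF hmapP).comp hg (fun y hy => hfQ _ (hmapP y hy))
  exact (mor_full_iff hR hR_S).2 hc

/-- strong invariance of the centralizer subsystem -/
theorem siFun_cent [Finite S] {p : ℕ} (h : Factors F S₁ S₂) (hF : F.IsSaturated p)
    {R' : FusionSystem S₁}
    (hR' : ∀ P : Subgroup Ω, P ≤ S₁ → R'.Hom P = F.centralizerHom S₂ P) :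
    Cfsg.Agent.S5119.SIfun R' F := by
  intro P Q R_ f g g' hPQ hQ hf hfQ hg hR_ hg'
  have hP : P ≤ S₁ := hPQ.trans hQ
  obtain ⟨hPc, hfc, f', hf', ef, efix⟩ := (mor_cent_iff hR' hP).1 hf
  have hgP : Iso F P R_ g := ⟨hg.restrict hPQ, hR_⟩
  have hR_S : R_ ≤ S₁ := by
    intro y hy
    obtain ⟨x, hx, rfl⟩ := hgP.surj hy
    exact (stronglyClosed_iff.1 h.sc₁).2 P g hP hgP.1 x hx
  obtain ⟨k, hk, ek, ekS⟩ := h.exists_ext hF hQ (Iso.of_mor hg)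
  have hsupPQ : P ⊔ S₂ ≤ Q ⊔ S₂ := sup_le_sup_right hPQ S₂
  have hkP : Iso F (P ⊔ S₂) (R_ ⊔ S₂) k := by
    refine ⟨hk.1.restrict hsupPQ, fun y => ?_⟩
    rw [h.image_sup hP (hk.1.restrict hsupPQ), mem_sup_of_comm (h.comm_of_le hR_S)]
    constructor
    · rintro ⟨r, hr, s, hs, rfl⟩
      obtain ⟨a, ha, rfl⟩ := hgP.surj hr
      exact ⟨a, ha, s, hs, by rw [ek a (hPQ ha)]⟩
    · rintro ⟨a, ha, s, hs, rfl⟩
      exact ⟨g a, hgP.map_mem ha, s, hs, by rw [ek a (hPQ ha)]⟩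
  obtain ⟨k', hk', e1, e2⟩ := hkP.symm
  rw [mor_cent_iff hR' hR_S]
  have hval : ∀ y ∈ R_, g (f (g' y)) ∈ S₁ := by
    intro y hy
    obtain ⟨x, hx, rfl⟩ := hgP.surj hy
    rw [hg' x hx]
    exact (stronglyClosed_iff.1 h.sc₁).2 Q g hQ hg _ (hfQ x hx)
  refine ⟨hR_S.trans h.le_centralizerIn₂, fun y hy => h.le_centralizerIn₂ (hval y hy), ?_⟩
  have hf'map : ∀ x ∈ P ⊔ S₂, f' x ∈ Q ⊔ S₂ := by
    intro x hx
    obtain ⟨a, ha, s, hs, rfl⟩ := (mem_sup_of_comm (h.comm_of_le hP)).1 hx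
    rw [hf'.map_mul (le_sup_left (a := P) ha) (le_sup_right (b := S₂) hs), ef a ha, efix s hs]
    exact Subgroup.mul_mem _ (le_sup_left (a := Q) (hfQ a ha)) (le_sup_right (b := S₂) hs)
  refine ⟨fun z => k (f' (k' z)),
    (hk'.1.comp hf' (fun z hz => hk'.map_mem hz)).comp hk.1 (fun z hz => hf'map _ (hk'.map_mem hz)),
    fun y hy => ?_, fun s hs => ?_⟩
  · obtain ⟨x, hx, rfl⟩ := hgP.surj hy
    show k (f' (k' (g x))) = g (f (g' (g x)))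
    rw [hg' x hx, ← ek x (hPQ hx), e1 x (le_sup_left (a := P) hx), ef x hx,
      ek _ (hfQ x hx)]
  · show k (f' (k' s)) = s
    have hk's : k' s ∈ S₂ := (surj_on_stronglyClosed h.sc₂ hk'.1 le_sup_right).1 s hs
    rw [efix _ hk's]
    exact e2 s (le_sup_right (b := S₂) hs)

end Factors

end Cfsg.Agent.Helper85
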