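import Mathlib
import Cfsg.Agent.Lib.Helper85.DirProd3
import Cfsg.Agent.S5097
import Cfsg.Agent.S5099

set_option autoImplicit false

/-! # The subsystems on a direct factor: saturation and normality -/

namespace Cfsg.Agent.Helper85

open Cfsg Cfsg.FusionSystem Cfsg.Agent.Helper87

variable {Ω : Type*} [Group Ω] {S S₁ S₂ : Subgroup Ω}

/-- a map of the system from `K` into `K` is an isomorphism onto `K` -/
theorem self_iso_of_mor [Finite S] {F : FusionSystem S} {K : Subgroup Ω} {f : Ω → Ω}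
    (hf : Mor F K f) (hmap : ∀ x ∈ K, f x ∈ K) : Iso F K K f := by
  have hiso : Iso F K hf.image f := Iso.of_mor hf
  have hle : hf.image ≤ K := by
    rintro _ ⟨x, hx, rfl⟩
    exact hmap x hx
  haveI : Finite K := finite_of_le hf.le
  have heq : hf.image = K := Subgroup.eq_of_le_of_card_ge hle (le_of_eq hiso.card_eq)
  rw [heq] at hiso
  exact hiso

/-- automorphisms preserve the centre: `a⁻¹ α(a) ∈ Z(T)` for `a ∈ Z(T)` -/
theorem inv_mul_aut_mem_center {T : Subgroup Ω} (α : MulAut T) {a : Ω} (haT : a ∈ T)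
    (hac : a ∈ Subgroup.centralizer (T : Set Ω)) :
    a⁻¹ * ((α ⟨a, haT⟩ : T) : Ω) ∈ T ⊓ Subgroup.centralizer (T : Set Ω) := by
  refine ⟨T.mul_mem (T.inv_mem haT) (α ⟨a, haT⟩).2, ?_⟩
  apply Subgroup.mul_mem _ (Subgroup.inv_mem _ hac)
  rw [Subgroup.mem_centralizer_iff]
  intro y hy
  -- y = α y'
  obtain ⟨y', hy'⟩ := α.surjective ⟨y, hy⟩
  have h1 : (y' : Ω) * a = a * y' := (Subgroup.mem_centralizer_iff.1 hac) y' y'.2
  have h2 : y' * ⟨a, haT⟩ = ⟨a, haT⟩ * y' := Subtype.ext h1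
  have h3 := congrArg α h2
  rw [map_mul, map_mul, hy'] at h3
  exact congrArg Subtype.val h3

theorem factors_of_prod {F : FusionSystem S} (hprod : Cfsg.IsInternalDirectProduct S₁ S₂ S)
    (h₁ : F.StronglyClosed S₁) (h₂ : F.StronglyClosed S₂) : Factors F S₁ S₂ :=
  ⟨hprod.1, hprod.2.1, hprod.2.2.1, h₁, h₂⟩

theorem commDecomp_of_prod (hprod : Cfsg.IsInternalDirectProduct S₁ S₂ S) : CommDecomp S S₁ S₂ := by
  refine ⟨hprod.1, hprod.2.2.1, fun s hs => ?_⟩
  rw [← hprod.2.2.2.2] at hs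
  exact (mem_sup_of_comm hprod.2.2.1).1 hs

namespace Factors

variable {F : FusionSystem S}

theorem fullyCentralized₂ [Finite S] (h : Factors F S₁ S₂) : F.IsFullyCentralized S₂ := by
  refine ⟨h.le₂, fun Q hQ => ?_⟩
  obtain ⟨f, hf⟩ := isConj_iff.1 hQ
  have hle : Q ≤ S₂ := by
    intro y hy
    obtain ⟨x, hx, rfl⟩ := hf.surj hy
    exact (stronglyClosed_iff.1 h.sc₂).2 S₂ f le_rfl hf.1 x hx
  haveI : Finite S₂ := finite_of_le h.le₂
  have : Q = S₂ := Subgroup.eq_of_le_of_card_ge hle (le_of_eq hf.card_eq)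
  rw [this]

/-- the centralizer subsystem on `S₁` is saturated -/
theorem saturated_cent [Finite S] {p : ℕ} [Fact p.Prime] (hS : IsPGroup p S) (h : Factors F S₁ S₂)
    (hdec : CommDecomp S S₁ S₂) (hF : F.IsSaturated p) {R' : FusionSystem S₁}
    (hR' : ∀ P : Subgroup Ω, P ≤ S₁ → R'.Hom P = F.centralizerHom S₂ P) : R'.IsSaturated p := by
  obtain ⟨E, hE⟩ := Cfsg.Agent.S5097.result F S₂ h.le₂
  have hEsat : E.IsSaturated p := Cfsg.Agent.S5099.result p hS F hF S₂ h.fullyCentralized₂ E hE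
  have hdec' : CommDecomp (centralizerIn S S₂) S₁ S₂ := by
    refine ⟨h.le_centralizerIn₂, h.comm, fun c hc => ?_⟩
    exact hdec.dec c hc.1
  have hsc : E.StronglyClosed S₁ := by
    refine ⟨h.le_centralizerIn₂, fun R hR φ hφ x => ?_⟩
    rw [hE R] at hφ
    exact h.sc₁.2 R hR φ hφ.1 x
  have hfull : ∀ P : Subgroup Ω, P ≤ S₁ → R'.Hom P = E.Hom P := by
    intro P hP
    rw [hR' P hP, hE P]
  exact saturated_full hdec' hEsat hsc hfull

end Factors

end Cfsg.Agent.Helper85
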