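import Mathlib

/-!
# EXT (E1) for helper43's mini server (S5515): all subgroups of order 6 of `S₄` are conjugate.
-/

set_option autoImplicit false

namespace Cfsg.Agent.Helper85.EXT

open Equiv

/-- an element of order 3 of `S₄` has exactly one fixed point. -/
theorem h85_fix_of_cube : ∀ c : Perm (Fin 4), c ^ 3 = 1 → c ≠ 1 →
    ∃ i : Fin 4, c i = i ∧ ∀ j : Fin 4, c j = j → j = i := by
  decide

/-- a point stabiliser of `S₄` has order 6. -/
theorem h85_card_stab (i : Fin 4) : Nat.card (MulAction.stabilizer (Perm (Fin 4)) i) = 6 := by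
  have h1 := MulAction.index_stabilizer_of_transitive (Perm (Fin 4)) i
  have h2 := Subgroup.index_mul_card (MulAction.stabilizer (Perm (Fin 4)) i)
  rw [h1] at h2
  have h3 : Nat.card (Perm (Fin 4)) = 24 := by
    rw [Nat.card_eq_fintype_card, Fintype.card_perm, Fintype.card_fin]
    rfl
  have h4 : Nat.card (Fin 4) = 4 := by simp
  rw [h3, h4] at h2
  omega

/-- a subgroup of order 6 of `S₄` is a point stabiliser. -/
theorem h85_eq_stab (H : Subgroup (Perm (Fin 4))) (hH : Nat.card H = 6) :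
    ∃ i : Fin 4, H = MulAction.stabilizer (Perm (Fin 4)) i := by
  haveI : Fact (Nat.Prime 3) := ⟨by norm_num⟩
  haveI : Finite H := Nat.finite_of_card_ne_zero (by rw [hH]; norm_num)
  obtain ⟨c', hc'⟩ := exists_prime_orderOf_dvd_card' (G := H) 3 (by rw [hH]; norm_num)
  -- the subgroup generated by `c'` has index 2 in `H`, so is normal
  have hK3 : Nat.card (Subgroup.zpowers c') = 3 := by rw [Nat.card_zpowers, hc']
  have hidx : (Subgroup.zpowers c').index = 2 := by
    have := Subgroup.index_mul_card (Subgroup.zpowers c')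
    rw [hK3, hH] at this
    omega
  haveI hnorm : (Subgroup.zpowers c').Normal := Subgroup.normal_of_index_eq_two hidx
  -- the fixed point
  have hc3 : ((c' : Perm (Fin 4))) ^ 3 = 1 := by
    have := pow_orderOf_eq_one c'
    rw [hc'] at this
    have h2 := congrArg (Subtype.val) this
    simpa using h2
  have hc1 : (c' : Perm (Fin 4)) ≠ 1 := by
    intro h
    have : c' = 1 := Subtype.ext h
    rw [this, orderOf_one] at hc'
    norm_num at hc'
  obtain ⟨i, hi, huniq⟩ := h85_fix_of_cube (c' : Perm (Fin 4)) hc3 hc1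
  refine ⟨i, ?_⟩
  have hle : H ≤ MulAction.stabilizer (Perm (Fin 4)) i := by
    intro h hh
    rw [MulAction.mem_stabilizer_iff, Perm.smul_def]
    have hmem : (⟨h, hh⟩ : H) * c' * (⟨h, hh⟩ : H)⁻¹ ∈ Subgroup.zpowers c' :=
      hnorm.conj_mem c' (Subgroup.mem_zpowers c') ⟨h, hh⟩
    obtain ⟨k, hk⟩ := Subgroup.mem_zpowers_iff.mp hmem
    have hk' : ((c' : Perm (Fin 4))) ^ k = h * (c' : Perm (Fin 4)) * h⁻¹ := by
      have h2 := congrArg (Subtype.val) hk
      simpa using h2
    have hfix : ((c' : Perm (Fin 4)) ^ k) i = i :=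
      Equiv.Perm.zpow_apply_eq_self_of_apply_eq_self hi k
    rw [hk'] at hfix
    have h3 : (c' : Perm (Fin 4)) (h⁻¹ i) = h⁻¹ i := by
      have h4 : h ((c' : Perm (Fin 4)) (h⁻¹ i)) = i := by simpa using hfix
      have h5 := congrArg (fun z => h⁻¹ z) h4
      simpa using h5
    have h6 := huniq _ h3
    have h7 := congrArg (fun z => h z) h6
    simpa using h7.symm
  haveI : Finite (MulAction.stabilizer (Perm (Fin 4)) i) := inferInstance
  exact Subgroup.eq_of_le_of_card_ge hle (by rw [h85_card_stab, hH])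

/-- (E1) all subgroups of order 6 of `S₄` are conjugate. -/
theorem perm4_card_six_conj (H₁ H₂ : Subgroup (Equiv.Perm (Fin 4))) (h₁ : Nat.card H₁ = 6)
    (h₂ : Nat.card H₂ = 6) :
    ∃ g : Equiv.Perm (Fin 4), H₂ = H₁.map (MulAut.conj g).toMonoidHom := by
  obtain ⟨i₁, rfl⟩ := h85_eq_stab H₁ h₁
  obtain ⟨i₂, rfl⟩ := h85_eq_stab H₂ h₂
  refine ⟨Equiv.swap i₁ i₂, ?_⟩
  rw [← MulAction.stabilizer_smul_eq_stabilizer_map_conj, Perm.smul_def, Equiv.swap_apply_left]

end Cfsg.Agent.Helper85.EXT
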