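import Mathlib
import Cfsg.Agent.Lib.Helper52.FCDefs

/-!
# FC server (helper52, S3816), piece (A2) `ZZ_inf_star`
-/

set_option autoImplicit false

namespace Cfsg.Agent.Helper85.FC

open Subgroup Cfsg.Agent.Helper52.FC
open scoped commutatorElement

universe u

variable {G : Type u} [Group G]

theorem ZZ_inf_star [Finite G] {p : ℕ} {a : G} {H : Subgroup G} (mx : MCX p G a H) : ZZ a H ⊓ star a H = ⊥ := by
  by_contra hne
  have hmem : ∀ n ∈ ZZ a H ⊓ star a H, n ∈ H ∧ a * n = n * a ∧ ∀ h ∈ H, h * n = n * h := by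
    intro n hn
    have h1 : n ∈ ZZ a H := (Subgroup.mem_inf.1 hn).1
    have h2 : n ∈ H ⊓ Cfsg.Agent.Helper52.FC.Fix a ⊓ Subgroup.centralizer (H : Set G) := h1
    rw [Subgroup.mem_inf, Subgroup.mem_inf] at h2
    obtain ⟨⟨h3, h4⟩, h5⟩ := h2
    have h4' : n ∈ Subgroup.centralizer ({a} : Set G) := h4
    rw [Subgroup.mem_centralizer_iff] at h4' h5
    exact ⟨h3, h4' a rfl, fun h hh => h5 h hh⟩
  apply mx.not_le (ZZ a H ⊓ star a H)
  · intro n hn; exact (hmem n hn).1
  · intro h hh n hn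
    have := (hmem n hn).2.2 h hh
    have e : h * n * h⁻¹ = n := by rw [this]; group
    rw [e]; exact hn
  · intro n hn
    have := (hmem n hn).2.1
    have e : a * n * a⁻¹ = n := by rw [this]; group
    rw [e]; exact hn
  · exact hne
  · intro n hn
    exact (Subgroup.mem_inf.1 (Subgroup.mem_inf.1 hn).1).2

end Cfsg.Agent.Helper85.FC
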