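import Mathlib
import Cfsg.Agent.Lib.Helper52.FCDefs
import Cfsg.Agent.Lib.Helper52.Coprime
import Cfsg.Agent.Lib.Helper63.FCB

/-!
# FC server (helper52, S3816), piece (M1) `mc_comm_eq`
-/

set_option autoImplicit false

namespace Cfsg.Agent.Helper85.FC

open Subgroup Cfsg.Agent.Helper52.FC
open scoped commutatorElement

universe u

variable {G : Type u} [Group G]

/-- `[H,P]` is `a`-invariant. -/
theorem h85_comm_inv (a : G) (H : Subgroup G) : Inv a (comm a H) := by
  intro x hx
  unfold Cfsg.Agent.Helper52.FC.comm at hx ⊢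
  induction hx using Subgroup.closure_induction with
  | mem c hc =>
    obtain ⟨h, hh, i, rfl⟩ := hc
    have e : a * (h⁻¹ * (a ^ i * h * (a ^ i)⁻¹)) * a⁻¹ =
        (h⁻¹ * (a ^ 1 * h * (a ^ 1)⁻¹))⁻¹ * (h⁻¹ * (a ^ (i + 1) * h * (a ^ (i + 1))⁻¹)) := by
      rw [pow_one, pow_succ' a i]; group
    rw [e]
    exact mul_mem (inv_mem (Subgroup.subset_closure ⟨h, hh, 1, rfl⟩))
      (Subgroup.subset_closure ⟨h, hh, i + 1, rfl⟩)
  | one => simp
  | mul s t _ _ ihs iht =>
    have e : a * (s * t) * a⁻¹ = (a * s * a⁻¹) * (a * t * a⁻¹) := by group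
    rw [e]; exact mul_mem ihs iht
  | inv s _ ihs =>
    have e : a * s⁻¹ * a⁻¹ = (a * s * a⁻¹)⁻¹ := by group
    rw [e]; exact inv_mem ihs

theorem mc_comm_eq [Finite G] {p : ℕ} {a : G} {H : Subgroup G} (mc : MC p G a H) : comm a H = H := by
  by_contra hne
  have hHinv := mc.hyp.inv
  have hle : comm a H ≤ H := by
    unfold Cfsg.Agent.Helper52.FC.comm
    rw [closure_le]
    rintro c ⟨h, hh, i, rfl⟩
    exact mul_mem (inv_mem hh) (Cfsg.Agent.Helper63.FC.h63_pow_conj_mem a H hHinv i h hh)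
  have hp1 : 1 ≤ p := mc.hp.one_lt.le
  have hainv : a ^ (p - 1) = a⁻¹ := by
    apply eq_inv_of_mul_eq_one_left
    rw [← pow_succ, Nat.sub_add_cancel hp1, mc.hyp.pow]
  have hnorm : zpowers a ≤ normalizer (H : Set G) := by
    rw [zpowers_le, mem_normalizer_iff]
    intro h
    constructor
    · exact hHinv h
    · intro hh
      have := Cfsg.Agent.Helper63.FC.h63_pow_conj_mem a H hHinv (p - 1) _ hh
      rw [hainv] at this
      have e : a⁻¹ * (a * h * a⁻¹) * a⁻¹⁻¹ = h := by group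
      rwa [e] at this
  have hcop : (Nat.card (zpowers a)).Coprime (Nat.card H) := by
    rw [Nat.card_zpowers]
    exact Nat.Coprime.coprime_dvd_left (orderOf_dvd_of_pow_eq_one mc.hyp.pow) mc.hyp.cop.symm
  have hsol : Group.IsSolvable H := mc.hyp.sol
  have hcc : comm a (comm a H) = comm a H := by
    rw [Cfsg.Agent.Helper63.FC.comm_eq_commutator a (comm a H), Cfsg.Agent.Helper63.FC.comm_eq_commutator a H]
    exact Cfsg.Agent.Helper52.commutator_commutator_eq H (zpowers a) hnorm hcop (Or.inr hsol)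
  have hyp : Hyp p a (comm a H) := by
    refine ⟨mc.hyp.pow, h85_comm_inv a H, ?_, ?_⟩
    · exact solvable_of_solvable_injective (Subgroup.inclusion_injective hle)
    · exact Nat.Coprime.coprime_dvd_left (Subgroup.card_dvd_of_le hle) mc.hyp.cop
  have hlt : Nat.card (comm a H) < Nat.card H := by
    refine lt_of_le_of_ne (Subgroup.card_le_of_le hle) fun heq => hne ?_
    exact Subgroup.eq_of_le_of_card_ge hle heq.ge
  have hthm : Thm a (comm a H) := mc.ih G a (comm a H) hyp hlt
  apply mc.bad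
  unfold Thm at hthm ⊢
  rw [hcc] at hthm
  exact hthm.trans (Cfsg.Agent.Helper63.FC.star_mono a hle)

end Cfsg.Agent.Helper85.FC
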