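import Mathlib
import Cfsg.Prelude.Def_FusionSystem
import Cfsg.Agent.Lib.Helper87.FusionNormalizerSys
import Cfsg.Agent.Lib.Helper87.FusionSaturated

set_option autoImplicit false

/-! # Fusion systems all of whose automorphisms have `p`-power order: basics, normalizer systems, transport -/

namespace Cfsg.Agent.Helper85.KL

open Cfsg Cfsg.FusionSystem Cfsg.Agent.Helper87

universe u

variable {Ω : Type u} [Group Ω] {S : Subgroup Ω}

/-- every automorphism of the system has `p`-power order -/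
def PAutM (F : FusionSystem S) (p : ℕ) : Prop :=
  ∀ (P : Subgroup Ω) (f : Ω → Ω), Iso F P P f → ∃ k : ℕ, ∀ x ∈ P, f^[p ^ k] x = x

theorem iso_iterate {F : FusionSystem S} {P : Subgroup Ω} {f : Ω → Ω} (h : Iso F P P f) (n : ℕ) :
    Iso F P P (f^[n]) := by
  induction n with
  | zero => exact Iso.refl h.le_left
  | succ n ih => exact h.comp ih

theorem iterate_mem {F : FusionSystem S} {P : Subgroup Ω} {f : Ω → Ω} (h : Iso F P P f) (n : ℕ)
    {x : Ω} (hx : x ∈ P) : f^[n] x ∈ P := (iso_iterate h n).map_mem hx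

theorem iterate_congr {P : Subgroup Ω} {f g : Ω → Ω} (hf : ∀ x ∈ P, f x ∈ P)
    (hfg : ∀ x ∈ P, g x = f x) (n : ℕ) {x : Ω} (hx : x ∈ P) : g^[n] x = f^[n] x ∧ f^[n] x ∈ P := by
  induction n generalizing x with
  | zero => exact ⟨rfl, hx⟩
  | succ n ih =>
    rw [Function.iterate_succ_apply, Function.iterate_succ_apply, hfg x hx]
    exact ih (hf x hx)

theorem extAut_iterate {P : Subgroup Ω} (α : MulAut P) (n : ℕ) {x : Ω} (hx : x ∈ P) :
    (extAut α)^[n] x = extAut (α ^ n) x := by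
  induction n generalizing x with
  | zero => rw [pow_zero, Function.iterate_zero, id, extAut_one hx]
  | succ n ih =>
    rw [Function.iterate_succ_apply, ih (extAut_mem_self α hx), pow_succ, extAut_mul _ _ hx]

/-- the automizers of such a system are `p`-groups -/
theorem PAutM.isPGroup {F : FusionSystem S} {p : ℕ} (h : PAutM F p) {P : Subgroup Ω} (hP : P ≤ S) :
    IsPGroup p (F.autGroup P) := by
  rintro ⟨α, hα⟩
  have h1 : Iso F P P (extAut α) := iso_of_mor_extAut ((mem_autGroup_iff hP).1 hα)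
  obtain ⟨k, hk⟩ := h P _ h1
  refine ⟨k, ?_⟩
  apply Subtype.ext
  show α ^ p ^ k = 1
  ext x
  have h2 := hk x x.2
  rw [extAut_iterate α _ x.2, extAut_apply] at h2
  rw [h2]; rfl

/-- a system whose maps are conjugations by elements of the `p`-group `S` -/
theorem pautM_of_inner {p : ℕ} (hS : IsPGroup p S) {F : FusionSystem S}
    (h : ∀ P : Subgroup Ω, F.Hom P = (innerFusionSystem S).Hom P) : PAutM F p := by
  intro P f hf
  obtain ⟨φ, hφ, hφf⟩ := hf.1
  rw [h P] at hφ
  obtain ⟨hPS, g, hg, hgφ⟩ := hφ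
  obtain ⟨k, hk⟩ := hS ⟨g, hg⟩
  have hk' : g ^ p ^ k = 1 := by
    have := congrArg (Subtype.val : S → Ω) hk
    simpa using this
  refine ⟨k, fun x hx => ?_⟩
  have key : ∀ n : ℕ, ∀ y ∈ P, f^[n] y = g ^ n * y * (g ^ n)⁻¹ := by
    intro n
    induction n with
    | zero => intro y _; simp
    | succ n ih =>
      intro y hy
      have h1 : f y = g * y * g⁻¹ := by rw [← hφf ⟨y, hy⟩, hgφ]
      rw [Function.iterate_succ_apply, ih (f y) (hf.map_mem hy), h1, pow_succ]
      group
  rw [key _ x hx, hk']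
  group

/-- a subsystem of such a system is such a system -/
theorem PAutM.mono {T : Subgroup Ω} {E : FusionSystem T} {F : FusionSystem S} {p : ℕ}
    (h : PAutM F p) (hsub : ∀ (P : Subgroup Ω) (f : Ω → Ω), Mor E P f → Mor F P f) : PAutM E p :=
  fun P f hf => h P f ⟨hsub P f hf.1, hf.2⟩

section Normalizer

variable {F : FusionSystem S} {Q : Subgroup Ω} {N : FusionSystem (normalizerIn S Q)}

/-- an automorphism of a subgroup containing `Q` that maps `Q` onto `Q` belongs to the normalizer system -/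
theorem iso_normalizer_of_iso (hN : F.IsNormalizerSystem Q N) {A : Subgroup Ω} {g : Ω → Ω}
    (hg : Iso F A A g) (hQA : Q ≤ A) (hA : A ≤ normalizerIn S Q)
    (hgQ : ∀ y, y ∈ Q ↔ ∃ x ∈ Q, g x = y) : Iso N A A g := by
  refine ⟨(mor_normalizerSystem_iff hN).2 ⟨hg.1, hA, fun x hx => hA (hg.map_mem hx), g, ?_,
    fun _ _ => rfl, hgQ⟩, hg.2⟩
  rw [sup_eq_left.2 hQA]
  exact hg.1

/-- an automorphism in the normalizer system extends to an automorphism of `P ⊔ Q` mapping `Q` onto `Q` -/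
theorem exists_ext_of_iso_normalizer [Finite S] (hN : F.IsNormalizerSystem Q N) {P : Subgroup Ω}
    {f : Ω → Ω} (hf : Iso N P P f) :
    ∃ g, Iso F (P ⊔ Q) (P ⊔ Q) g ∧ (∀ x ∈ P, g x = f x) ∧ ∀ y, y ∈ Q ↔ ∃ x ∈ Q, g x = y := by
  obtain ⟨hfF, hPN, -, g, hg, hgf, hgQ⟩ := (mor_normalizerSystem_iff hN).1 hf.1
  refine ⟨g, ?_, hgf, hgQ⟩
  have hiso := Iso.of_mor hg
  have hle : P ⊔ Q ≤ hg.image := by
    apply sup_le
    · intro y hy
      obtain ⟨x, hx, rfl⟩ := hf.surj hy
      exact ⟨x, (le_sup_left : P ≤ P ⊔ Q) hx, hgf x hx⟩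
    · intro y hy
      obtain ⟨x, hx, rfl⟩ := (hgQ y).1 hy
      exact ⟨x, (le_sup_right : Q ≤ P ⊔ Q) hx, rfl⟩
  have hcard := hiso.card_eq
  haveI : Finite hg.image := Finite.of_injective (Subgroup.inclusion hg.image_le)
    (Subgroup.inclusion_injective _)
  have heq : P ⊔ Q = hg.image := Subgroup.eq_of_le_of_card_ge hle (le_of_eq hcard.symm)
  rw [← heq] at hiso
  exact hiso

end Normalizer

end Cfsg.Agent.Helper85.KL
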