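import Mathlib
import Cfsg.Agent.Lib.Helper85.KL1

set_option autoImplicit false

/-! # Transport of automorphisms normalizing a subgroup to a fully normalized conjugate -/

namespace Cfsg.Agent.Helper85.KL

open Cfsg Cfsg.FusionSystem Cfsg.Agent.Helper87

universe u

variable {Ω : Type u} [Group Ω] {S : Subgroup Ω}

theorem paut_transport [Finite S] {F : FusionSystem S} {p : ℕ} {R R' : Subgroup Ω} {φ : Ω → Ω}
    (hφ : Mor F (normalizerIn S R) φ) (hφR : Iso F R R' φ)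
    {N' : FusionSystem (normalizerIn S R')} (hN' : F.IsNormalizerSystem R' N') (hp : PAutM N' p)
    {A : Subgroup Ω} (hRA : R ≤ A) (hA : A ≤ normalizerIn S R) {g : Ω → Ω} (hg : Iso F A A g)
    (hgR : ∀ y, y ∈ R ↔ ∃ x ∈ R, g x = y) : ∃ k : ℕ, ∀ x ∈ A, g^[p ^ k] x = x := by
  have hRS : R ≤ S := hφR.le_left
  have hRN : R ≤ normalizerIn S R := fun x hx => ⟨hRS hx, Subgroup.le_normalizer hx⟩
  have hφA : Iso F A (hφ.restrict hA).image φ := Iso.of_mor (hφ.restrict hA)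
  obtain ⟨ψ, hψ, h1, h2⟩ := hφA.symm
  set A' := (hφ.restrict hA).image with hA'
  have hβ : Iso F A' A' (fun y => φ (g (ψ y))) := (hψ.comp hg).comp hφA
  have hR'A' : R' ≤ A' := by
    intro y hy
    obtain ⟨x, hx, rfl⟩ := hφR.surj hy
    exact ⟨x, hRA hx, rfl⟩
  -- conjugation by images
  have hconj : ∀ x ∈ normalizerIn S R, ∀ h ∈ R', φ x * h * (φ x)⁻¹ ∈ R' := by
    intro x hx h hh
    obtain ⟨r, hr, rfl⟩ := hφR.surj hh
    have hxi : x⁻¹ ∈ normalizerIn S R := (normalizerIn S R).inv_mem hx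
    have e : φ x * φ r * (φ x)⁻¹ = φ (x * r * x⁻¹) := by
      rw [hφ.map_mul ((normalizerIn S R).mul_mem hx (hRN hr)) hxi, hφ.map_mul hx (hRN hr),
        hφ.map_inv hx]
    rw [e]
    apply hφR.map_mem
    exact (Subgroup.mem_normalizer_iff.1 hx.2 r).1 hr
  have hA'N : A' ≤ normalizerIn S R' := by
    intro y hy
    obtain ⟨x, hx, rfl⟩ := hy
    have hxN := hA hx
    refine ⟨hφ.mem hxN, ?_⟩
    show φ x ∈ Subgroup.normalizer (R' : Set Ω)
    rw [Subgroup.mem_normalizer_iff]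
    intro h
    constructor
    · exact hconj x hxN h
    · intro hh
      have hxi : x⁻¹ ∈ normalizerIn S R := (normalizerIn S R).inv_mem hxN
      have h3 := hconj x⁻¹ hxi _ hh
      rw [hφ.map_inv hxN] at h3
      have e : (φ x)⁻¹ * (φ x * h * (φ x)⁻¹) * (φ x)⁻¹⁻¹ = h := by group
      rwa [e] at h3
  have hβR' : ∀ y, y ∈ R' ↔ ∃ x ∈ R', (fun y => φ (g (ψ y))) x = y := by
    intro y
    constructor
    · intro hy
      obtain ⟨r, hr, rfl⟩ := hφR.surj hy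
      obtain ⟨r₀, hr₀, rfl⟩ := (hgR r).1 hr
      refine ⟨φ r₀, hφR.map_mem hr₀, ?_⟩
      show φ (g (ψ (φ r₀))) = φ (g r₀)
      rw [h1 r₀ (hRA hr₀)]
    · rintro ⟨x, hx, rfl⟩
      obtain ⟨r₀, hr₀, rfl⟩ := hφR.surj hx
      show φ (g (ψ (φ r₀))) ∈ R'
      rw [h1 r₀ (hRA hr₀)]
      exact hφR.map_mem ((hgR _).2 ⟨r₀, hr₀, rfl⟩)
  have hβN : Iso N' A' A' (fun y => φ (g (ψ y))) := iso_normalizer_of_iso hN' hβ hR'A' hA'N hβR'
  obtain ⟨k, hk⟩ := hp A' _ hβN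
  refine ⟨k, ?_⟩
  have key : ∀ n : ℕ, ∀ x ∈ A, (fun y => φ (g (ψ y)))^[n] (φ x) = φ (g^[n] x) := by
    intro n
    induction n with
    | zero => intro x _; rfl
    | succ n ih =>
      intro x hx
      rw [Function.iterate_succ_apply, Function.iterate_succ_apply]
      show (fun y => φ (g (ψ y)))^[n] (φ (g (ψ (φ x)))) = _
      rw [h1 x hx]
      exact ih (g x) (hg.map_mem hx)
  intro x hx
  have h3 := hk (φ x) ⟨x, hx, rfl⟩
  rw [key _ x hx] at h3
  exact hφ.inj (hA (iterate_mem hg _ hx)) (hA hx) h3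

end Cfsg.Agent.Helper85.KL
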