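import Mathlib
import Cfsg.Agent.Lib.Helper85.KL2
import Cfsg.Agent.Lib.Helper87.FusionFactor

set_option autoImplicit false

/-! # Automorphisms of the normalizer system of a subgroup of a factor system lift -/

namespace Cfsg.Agent.Helper85.KL

open Cfsg Cfsg.FusionSystem Cfsg.Agent.Helper87

universe u v

variable {Ω : Type u} [Group Ω] {S : Subgroup Ω} {Ω' : Type v} [Group Ω'] {S' : Subgroup Ω'}

theorem pautM_quotient [Finite S] {F : FusionSystem S} {p : ℕ} {T₀ : Subgroup Ω} {θ : S →* Ω'}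
    {E : FusionSystem S'} (hE : F.IsFactorSystem T₀ θ E) {Vb : Subgroup Ω'}
    {Nb : FusionSystem (normalizerIn S' Vb)} (hNb : E.IsNormalizerSystem Vb Nb)
    {N : FusionSystem (normalizerIn S (preimageAlong θ Vb))}
    (hN : F.IsNormalizerSystem (preimageAlong θ Vb) N)
    (hVn : S ≤ Subgroup.normalizer (preimageAlong θ Vb : Set Ω))
    (hp : PAutM N p) : PAutM Nb p := by
  intro Pb fb hfb
  haveI : Finite S' := factor_finite hE
  obtain ⟨gb, hgb, hgf, hgV⟩ := exists_ext_of_iso_normalizer hNb hfb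
  have hAb : Pb ⊔ Vb ≤ S' := hgb.le_left
  obtain ⟨g, hg, hgθ⟩ := factor_mor_exists hE hgb.1
  set A := preimageAlong θ (Pb ⊔ Vb) with hAdef
  have hAS : A ≤ S := preimageAlong_le' θ _
  have hgA : ∀ x ∈ A, g x ∈ A := by
    intro x hx
    refine mem_preimageAlong_iff.2 ⟨hg.mem hx, ?_⟩
    rw [← hgθ x hx]
    exact hgb.map_mem (mem_preimageAlong_iff.1 hx).2
  have hiso : Iso F A A g := by
    have h0 := Iso.of_mor hg
    have hle : hg.image ≤ A := by
      rintro y ⟨x, hx, rfl⟩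
      exact hgA x hx
    haveI : Finite A := Finite.of_injective (Subgroup.inclusion hAS) (Subgroup.inclusion_injective _)
    have heq : hg.image = A := Subgroup.eq_of_le_of_card_ge hle (le_of_eq h0.card_eq)
    rw [heq] at h0
    exact h0
  have hVA : preimageAlong θ Vb ≤ A := by
    intro x hx
    obtain ⟨h1, h2⟩ := mem_preimageAlong_iff.1 hx
    exact mem_preimageAlong_iff.2 ⟨h1, (le_sup_right : Vb ≤ Pb ⊔ Vb) h2⟩
  have hgVV : ∀ y, y ∈ preimageAlong θ Vb ↔ ∃ x ∈ preimageAlong θ Vb, g x = y := by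
    intro y
    constructor
    · intro hy
      obtain ⟨x, hx, rfl⟩ := hiso.surj (hVA hy)
      refine ⟨x, ?_, rfl⟩
      obtain ⟨h1, h2⟩ := mem_preimageAlong_iff.1 hy
      rw [← hgθ x hx] at h2
      obtain ⟨z, hz, hz2⟩ := (hgV _).1 h2
      have hzA : z ∈ Pb ⊔ Vb := (le_sup_right : Vb ≤ Pb ⊔ Vb) hz
      have := hgb.1.inj hzA (mem_preimageAlong_iff.1 hx).2 hz2
      rw [this] at hz
      exact mem_preimageAlong_iff.2 ⟨hAS hx, hz⟩
    · rintro ⟨x, hx, rfl⟩
      obtain ⟨h1, h2⟩ := mem_preimageAlong_iff.1 hx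
      refine mem_preimageAlong_iff.2 ⟨hg.mem (hVA hx), ?_⟩
      rw [← hgθ x (hVA hx)]
      exact (hgV _).2 ⟨_, h2, rfl⟩
  have hAN : A ≤ normalizerIn S (preimageAlong θ Vb) := fun x hx => ⟨hAS hx, hVn (hAS hx)⟩
  have hgN : Iso N A A g := iso_normalizer_of_iso hN hiso hVA hAN hgVV
  obtain ⟨k, hk⟩ := hp A g hgN
  refine ⟨k, fun y hy => ?_⟩
  have key : ∀ n : ℕ, ∀ x ∈ A, gb^[n] (extHom θ x) = extHom θ (g^[n] x) := by
    intro n
    induction n with
    | zero => intro x _; rfl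
    | succ n ih =>
      intro x hx
      rw [Function.iterate_succ_apply, Function.iterate_succ_apply, hgθ x hx]
      exact ih (g x) (hgA x hx)
  have hyA : y ∈ Pb ⊔ Vb := (le_sup_left : Pb ≤ Pb ⊔ Vb) hy
  obtain ⟨x, hx, rfl⟩ := exists_preimage_of_mem hE hAb hyA
  have h1 := (iterate_congr (P := Pb) (f := fb) (g := gb) (fun x hx => hfb.map_mem hx) hgf (p ^ k) hy).1
  rw [← h1, key _ x hx, hk x hx]

end Cfsg.Agent.Helper85.KL
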