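import Mathlib
import Cfsg.Agent.Lib.Helper85.KL3
import Cfsg.Agent.Lib.Helper85.Solvable4

set_option autoImplicit false

/-! # A saturated system whose factor system modulo its largest normal subgroup has only `p`-automorphisms is constrained -/

namespace Cfsg.Agent.Helper85.KL

open Cfsg Cfsg.FusionSystem Cfsg.Agent.Helper87

universe u v

variable {Ω : Type u} [Group Ω] {S : Subgroup Ω} {Ω' : Type v} [Group Ω'] {S' : Subgroup Ω'}

/-- the chain `R ≥ R ∩ Q₁ ≥ 1` -/
def chain2 (Q₁ R : Subgroup Ω) : ℕ → Subgroup R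
  | 0 => ⊤
  | 1 => Q₁.subgroupOf R
  | _ => ⊥

/-- the centralizer of the normal subgroup lies in every centric radical subgroup -/
theorem centralizerIn_le_of_centric_radical [Finite S] {p : ℕ} [Fact p.Prime] (hS : IsPGroup p S)
    {F : FusionSystem S} (hF : F.IsSaturated p) {Q₁ : Subgroup Ω} (hQ₁ : F.IsNormal Q₁)
    {θ : S →* Ω'} {E : FusionSystem S'} (hE : F.IsFactorSystem Q₁ θ E) (hp : PAutM E p)
    {R : Subgroup Ω} (hcen : F.IsCentric R) (hrad : F.IsRadical p R) : centralizerIn S Q₁ ≤ R := by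
  classical
  have hR : R ≤ S := hcen.1
  haveI hfinR : Finite R := finite_of_le hR
  have hRp : IsPGroup p R := hS.to_le hR
  have hsc : F.StronglyClosed Q₁ := Cfsg.Agent.Helper84.stronglyClosed_of_normal F hQ₁
  have hQ₁R : Q₁ ≤ R := Cfsg.Agent.Helper84.le_of_normal_centric_radical F hS hQ₁ hcen hrad
  have hbot : F.StronglyClosed ⊥ := stronglyClosed_bot F
  have hY : F.StronglyClosed (centralizerIn S Q₁) := centralizerIn_stronglyClosed_of_isNormal hQ₁
  set Y := centralizerIn S Q₁ with hYdef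
  have hBn : (Cfsg.Agent.S5125.trivSub F ⊥ Q₁ R hbot hsc hR).Normal := inferInstance
  have hBp : IsPGroup p ↥(Cfsg.Agent.S5125.trivSub F ⊥ Q₁ R hbot hsc hR) := by
    rintro ⟨β, hβ⟩
    have hpos : orderOf (β : MulAut R) ≠ 0 := (orderOf_pos (β : MulAut R)).ne'
    obtain ⟨e, n, hn, hen⟩ := Nat.exists_eq_pow_mul_and_not_dvd hpos p (Fact.out : p.Prime).ne_one
    have hcop : (orderOf ((β : MulAut R) ^ p ^ e)).Coprime p :=
      Helper86.coprime_orderOf_pow_of_not_dvd (β : MulAut R) hn hen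
    set δ : MulAut R := (β : MulAut R) ^ p ^ e with hδ
    have hδmem : δ ∈ F.autGroup R := Subgroup.pow_mem _ β.2 _
    have hδB : (⟨δ, hδmem⟩ : F.autGroup R) ∈ Cfsg.Agent.S5125.trivSub F ⊥ Q₁ R hbot hsc hR := by
      have := Subgroup.pow_mem _ hβ (p ^ e)
      exact this
    -- push down
    have hf : Iso F R R (extAut δ) := iso_of_mor_extAut ((mem_autGroup_iff hR).1 hδmem)
    obtain ⟨f', hf', hff⟩ := exists_factor_mor hE hsc hQ₁R hf.1
    have hf'iso : Iso E (imageAlong θ R) (imageAlong θ R) f' := by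
      refine ⟨hf', fun y => ?_⟩
      constructor
      · intro hy
        obtain ⟨x, hxS, hxR, rfl⟩ := mem_imageAlong_iff.1 hy
        obtain ⟨x₀, hx₀, rfl⟩ := hf.surj hxR
        exact ⟨extHom θ x₀, mem_imageAlong_iff.2 ⟨x₀, hR hx₀, hx₀, rfl⟩, hff x₀ hx₀⟩
      · rintro ⟨xb, hxb, rfl⟩
        obtain ⟨x₀, hx₀S, hx₀, rfl⟩ := mem_imageAlong_iff.1 hxb
        rw [hff x₀ hx₀]
        exact mem_imageAlong_iff.2 ⟨_, hR (hf.map_mem hx₀), hf.map_mem hx₀, rfl⟩
    obtain ⟨k, hk⟩ := hp _ _ hf'iso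
    have key : ∀ n : ℕ, ∀ x ∈ R, f'^[n] (extHom θ x) = extHom θ ((extAut δ)^[n] x) := by
      intro n
      induction n with
      | zero => intro x _; rfl
      | succ n ih =>
        intro x hx
        rw [Function.iterate_succ_apply, Function.iterate_succ_apply, hff x hx]
        exact ih _ (hf.map_mem hx)
    -- δ ^ p ^ k stabilizes the chain
    have hδ'cop : (orderOf (δ ^ p ^ k)).Coprime p :=
      Nat.Coprime.coprime_dvd_left (orderOf_pow_dvd _) hcop
    have hδ'1 : δ ^ p ^ k = 1 := by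
      apply Helper86.coprime_aut_eq_one_of_chain hRp (chain2 Q₁ R) 2 rfl rfl _ _ hδ'cop
      intro j hj x hx
      match j, hj, hx with
      | 0, _, _ =>
        apply Subgroup.mem_subgroupOf.2
        have h1 := hk (extHom θ (x : Ω)) (mem_imageAlong_iff.2 ⟨x, hR x.2, x.2, rfl⟩)
        rw [key _ x x.2, extAut_iterate δ _ x.2, extAut_apply] at h1
        have h2 := (factor_eq_iff hE (hR ((δ ^ p ^ k) x).2) (hR x.2)).1 h1
        have h3 := Q₁.inv_mem h2
        have e : (((δ ^ p ^ k) x : R) : Ω)⁻¹ * (x : Ω) = ((x : Ω)⁻¹ * (((δ ^ p ^ k) x : R) : Ω))⁻¹ := by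
          group
        rw [e, inv_inv] at h3
        exact h3
      | 1, _, hx =>
        have hB' := Subgroup.pow_mem _ hδB (p ^ k)
        have := hB' x (Subgroup.mem_subgroupOf.1 hx)
        have h1 : ((x⁻¹ * (δ ^ p ^ k) x : R) : Ω) = 1 := Subgroup.mem_bot.1 this
        show x⁻¹ * (δ ^ p ^ k) x ∈ (⊥ : Subgroup R)
        rw [Subgroup.mem_bot]
        exact Subtype.ext h1
    refine ⟨e + k, ?_⟩
    apply Subtype.ext
    apply Subtype.ext
    show (β : MulAut R) ^ p ^ (e + k) = 1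
    rw [pow_add, pow_mul]
    exact hδ'1
  have hle := le_pCore hBn hBp
  have hNY : ∀ y ∈ Y, y ∈ Subgroup.normalizer (R : Set Ω) → y ∈ R := by
    intro y hy hyN
    apply mem_of_conjAut_mem_inn hcen (hY.1 hy) hyN
    rw [← hrad.2]
    have hA : conjAut R y hyN ∈ F.autGroup R :=
      autInducedBy_le_autGroup F hR (conjAut_mem_autInducedBy (hY.1 hy) hyN)
    refine ⟨⟨conjAut R y hyN, hA⟩, hle ?_, rfl⟩
    intro x hx
    show (x : Ω)⁻¹ * ((conjAut R y hyN x : R) : Ω) ∈ (⊥ : Subgroup Ω)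
    rw [conjAut_apply, Subgroup.mem_bot]
    have hyC : y ∈ Subgroup.centralizer (Q₁ : Set Ω) := hy.2
    have hxy : (x : Ω) * y = y * x := (Subgroup.mem_centralizer_iff.1 hyC) x hx
    calc (x : Ω)⁻¹ * (y * x * y⁻¹) = (x : Ω)⁻¹ * ((x : Ω) * y) * y⁻¹ := by rw [hxy]; group
      _ = 1 := by group
  by_contra hne
  have hT : Y ⊔ R ≤ S := sup_le hY.1 hR
  have hTp : IsPGroup p (Y ⊔ R : Subgroup Ω) := hS.to_le hT
  have hTfin : Finite (Y ⊔ R : Subgroup Ω) := finite_of_le hT
  have hRT : R ≠ Y ⊔ R := fun h => hne (h ▸ le_sup_left)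
  obtain ⟨n, hn, hnR⟩ := exists_normalizer_not_mem (S := Y ⊔ R) hTp le_sup_right hRT
  have hRN : R ≤ Subgroup.normalizer (Y : Set Ω) := hR.trans (StronglyClosed.le_normalizer hY)
  have hcoe := Subgroup.coe_mul_of_right_le_normalizer_left Y R hRN
  have hnT : n ∈ (↑(Y ⊔ R) : Set Ω) := hn.1
  rw [hcoe] at hnT
  obtain ⟨q, hq, r, hr, rfl⟩ := hnT
  apply hnR
  have hqN : q ∈ Subgroup.normalizer (R : Set Ω) := by
    have h2 : q = (q * r) * r⁻¹ := by group
    rw [h2]
    exact Subgroup.mul_mem _ hn.2 (Subgroup.inv_mem _ (Subgroup.le_normalizer hr))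
  exact R.mul_mem (hNY q hq hqN) hr

/-- a saturated system whose factor system modulo its largest normal subgroup has only `p`-automorphisms is constrained -/
theorem constrained_of_pautM_factor [Finite S] {p : ℕ} [Fact p.Prime] (hS : IsPGroup p S)
    {F : FusionSystem S} (hF : F.IsSaturated p)
    {θ : S →* Ω'} {E : FusionSystem S'} (hE : F.IsFactorSystem F.core θ E) (hp : PAutM E p) :
    F.IsConstrained p := by
  have hQ₁ : F.IsNormal F.core := isNormal_core F
  have hsc : F.StronglyClosed F.core := Cfsg.Agent.Helper84.stronglyClosed_of_normal F hQ₁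
  have hY : F.StronglyClosed (centralizerIn S F.core) := centralizerIn_stronglyClosed_of_isNormal hQ₁
  have hU : F.StronglyClosed (centralizerIn S F.core ⊔ F.core) :=
    Cfsg.Agent.S5128.result p hS F hF _ _ hY hsc
  have hnorm : F.IsNormal (centralizerIn S F.core ⊔ F.core) := by
    apply Cfsg.Agent.Helper84.normal_of_alperin_invariant F hS hF
    intro P hP
    have hPS : P ≤ S := by
      rcases hP with rfl | hP
      · exact le_rfl
      · exact hP.1.1
    have hle : centralizerIn S F.core ⊔ F.core ≤ P := by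
      rcases hP with rfl | hP
      · exact hU.1
      · have hrad := Cfsg.Agent.Helper84.essential_radical F hS hF hP
        exact sup_le (centralizerIn_le_of_centric_radical hS hF hQ₁ hE hp hP.1 hrad)
          (Cfsg.Agent.Helper84.le_of_normal_centric_radical F hS hQ₁ hP.1 hrad)
    refine ⟨hle, fun α hα => ?_⟩
    exact Cfsg.Agent.Helper84.aut_map_eq_of_stronglyClosed F hU hPS hle hα
  have hle : centralizerIn S F.core ⊔ F.core ≤ F.core := le_sSup hnorm
  refine ⟨hF, F.core, hQ₁, hQ₁.1, fun Q' hc => ?_⟩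
  rw [eq_of_isConj_of_isNormal hQ₁ hc]
  exact le_sup_left.trans hle

end Cfsg.Agent.Helper85.KL
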