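import Mathlib
import Cfsg.Agent.Lib.Helper2.Frobenius
import Cfsg.Agent.Lib.Helper85.QuotLift2

set_option autoImplicit false

/-! # Frobenius' normal `p`-complement theorem in a form adapted to fusion systems -/

namespace Cfsg.Agent.Helper85.KL

open Cfsg

universe u

variable {G : Type u} [Group G]

theorem conj_map_eq_of_mem_normalizer {K : Subgroup G} {g : G}
    (hg : g ∈ Subgroup.normalizer (K : Set G)) : K.map (MulAut.conj g).toMonoidHom = K := by
  ext y
  rw [Subgroup.mem_map_equiv]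
  have h1 := Subgroup.mem_normalizer_iff.1 hg (g⁻¹ * y * g)
  have e : g * (g⁻¹ * y * g) * g⁻¹ = y := by group
  rw [e] at h1
  simpa [MulAut.conj_symm_apply] using h1

theorem mem_normalizer_sup {X Y : Subgroup G} {g : G} (hX : g ∈ Subgroup.normalizer (X : Set G))
    (hY : g ∈ Subgroup.normalizer (Y : Set G)) : g ∈ Subgroup.normalizer ((X ⊔ Y : Subgroup G) : Set G) := by
  have h1 : (X ⊔ Y).map (MulAut.conj g).toMonoidHom = X ⊔ Y := by
    rw [Subgroup.map_sup, conj_map_eq_of_mem_normalizer hX, conj_map_eq_of_mem_normalizer hY]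
  rw [Subgroup.mem_normalizer_iff]
  intro h
  constructor
  · intro hh
    rw [← h1]
    exact ⟨h, hh, by simp [MulAut.conj_apply]⟩
  · intro hh
    rw [← h1] at hh
    obtain ⟨h', hh', e⟩ := hh
    have e2 : g * h' * g⁻¹ = g * h * g⁻¹ := by simpa [MulAut.conj_apply] using e
    have : h' = h := by
      have := mul_left_cancel (mul_right_cancel e2)
      exact this
    rwa [← this]

/-- if the elements of `H` normalizing a subgroup of a Sylow `p`-subgroup act on it as `p`-elements, then `H` has a normal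
`p`-complement -/
theorem hasNormalPComplement_of_local [Finite G] {p : ℕ} [Fact p.Prime] (P : Sylow p G) (H : Subgroup G)
    (hPH : (P : Subgroup G) ≤ H)
    (h : ∀ g ∈ H, ∀ X : Subgroup G, X ≤ (P : Subgroup G) → g ∈ Subgroup.normalizer (X : Set G) →
      ∃ k : ℕ, ∀ x ∈ X, g ^ p ^ k * x * (g ^ p ^ k)⁻¹ = x) :
    HasNormalPComplement p ↥H := by
  apply Cfsg.Agent.Helper2.frobenius
  intro X' hX' g' hg' hcop
  rw [Subgroup.mem_centralizer_iff]
  intro x' hx'
  -- move to `G`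
  set X₀ : Subgroup G := X'.map H.subtype with hX₀
  have hX₀p : IsPGroup p X₀ := hX'.map H.subtype
  have hX₀H : X₀ ≤ H := by
    rintro _ ⟨y, -, rfl⟩
    exact y.2
  obtain ⟨m, hm, hmX⟩ := exists_conj_le_sylow P H hPH X₀ hX₀p hX₀H
  set X₁ : Subgroup G := X₀.map (MulAut.conj m).toMonoidHom with hX₁
  have hX₁P : X₁ ≤ (P : Subgroup G) := by
    rintro _ ⟨y, hy, rfl⟩
    simpa [MulAut.conj_apply] using hmX y hy
  set g₁ : G := m * (g' : G) * m⁻¹ with hg₁
  have hg₁H : g₁ ∈ H := H.mul_mem (H.mul_mem hm g'.2) (H.inv_mem hm)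
  -- `g'` normalizes `X₀`
  have hg'X₀ : ∀ y : G, y ∈ X₀ ↔ (g' : G) * y * (g' : G)⁻¹ ∈ X₀ := by
    intro y
    constructor
    · rintro ⟨z, hz, rfl⟩
      exact ⟨g' * z * g'⁻¹, (Subgroup.mem_normalizer_iff.1 hg' z).1 hz, rfl⟩
    · rintro ⟨z, hz, hzy⟩
      have h1 := (Subgroup.mem_normalizer_iff.1 (Subgroup.inv_mem _ hg') z).1 hz
      refine ⟨g'⁻¹ * z * g'⁻¹⁻¹, h1, ?_⟩
      show (g' : G)⁻¹ * (z : G) * ((g' : G)⁻¹)⁻¹ = y
      have hzy' : (z : G) = (g' : G) * y * (g' : G)⁻¹ := hzy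
      rw [hzy']; group
  have hg₁N : g₁ ∈ Subgroup.normalizer (X₁ : Set G) := by
    rw [Subgroup.mem_normalizer_iff]
    intro y
    have hmem : ∀ z : G, z ∈ X₁ ↔ m⁻¹ * z * m ∈ X₀ := by
      intro z
      rw [hX₁, Subgroup.mem_map_equiv]
      simp [MulAut.conj_symm_apply]
    rw [hmem, hmem, hg'X₀ (m⁻¹ * y * m)]
    have e : m⁻¹ * (g₁ * y * g₁⁻¹) * m = (g' : G) * (m⁻¹ * y * m) * (g' : G)⁻¹ := by
      rw [hg₁]; group
    rw [e]
  obtain ⟨k, hk⟩ := h g₁ hg₁H X₁ hX₁P hg₁N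
  -- `g₁` is a power of `g₁ ^ p ^ k`
  have hord : orderOf g₁ = orderOf g' := by
    have h1 : orderOf g₁ = orderOf (g' : G) := by
      rw [hg₁]
      have := orderOf_injective (MulAut.conj m).toMonoidHom (MulAut.conj m).injective (g' : G)
      simpa [MulAut.conj_apply] using this
    rw [h1]
    exact Subgroup.orderOf_coe g'
  have hcop' : (orderOf g₁).Coprime (p ^ k) := by
    rw [hord]
    exact Nat.Coprime.pow_right k hcop
  have hcent : g₁ ^ p ^ k ∈ Subgroup.centralizer (X₁ : Set G) := by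
    rw [Subgroup.mem_centralizer_iff]
    intro y hy
    have := hk y hy
    calc y * g₁ ^ p ^ k = (g₁ ^ p ^ k * y * (g₁ ^ p ^ k)⁻¹) * g₁ ^ p ^ k := by rw [this]
      _ = g₁ ^ p ^ k * y := by group
  have hzp : Subgroup.zpowers (g₁ ^ p ^ k) = Subgroup.zpowers g₁ := by
    apply Subgroup.eq_of_le_of_card_ge
    · rw [Subgroup.zpowers_le]
      exact Subgroup.pow_mem _ (Subgroup.mem_zpowers g₁) _
    · rw [Nat.card_zpowers, Nat.card_zpowers, Nat.Coprime.orderOf_pow hcop']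
  have hg₁C : g₁ ∈ Subgroup.centralizer (X₁ : Set G) := by
    have h1 : g₁ ∈ Subgroup.zpowers (g₁ ^ p ^ k) := by
      rw [hzp]; exact Subgroup.mem_zpowers g₁
    exact (Subgroup.zpowers_le.2 hcent) h1
  -- back to `g'` and `x'`
  have hx₁ : m * (x' : G) * m⁻¹ ∈ X₁ := ⟨(x' : G), ⟨x', hx', rfl⟩, by simp [MulAut.conj_apply]⟩
  have h3 := (Subgroup.mem_centralizer_iff.1 hg₁C) _ hx₁
  apply Subtype.ext
  show (x' : G) * (g' : G) = (g' : G) * (x' : G)
  have h4 : m * ((x' : G) * (g' : G)) * m⁻¹ = m * ((g' : G) * (x' : G)) * m⁻¹ := by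
    calc m * ((x' : G) * (g' : G)) * m⁻¹ = (m * (x' : G) * m⁻¹) * g₁ := by rw [hg₁]; group
      _ = g₁ * (m * (x' : G) * m⁻¹) := h3
      _ = m * ((g' : G) * (x' : G)) * m⁻¹ := by rw [hg₁]; group
  exact mul_left_cancel (mul_right_cancel h4)

end Cfsg.Agent.Helper85.KL
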