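import Mathlib
import Cfsg.Agent.Lib.Helper85.KL4
import Cfsg.Agent.Lib.Helper85.KL5
import Cfsg.Agent.Lib.Helper85.Realized
import Cfsg.Agent.Lib.Helper31.GTControl

set_option autoImplicit false

/-! # Characteristic `p`-functors with a normal `p`-complement criterion, and the case of a model -/

namespace Cfsg.Agent.Helper85.KL

open Cfsg Cfsg.FusionSystem Cfsg.Agent.Helper87

universe u

/-- a characteristic `p`-functor (nontrivial on nontrivial `p`-groups, invariant under isomorphisms) with a normal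
`p`-complement criterion for groups of characteristic `p` -/
structure Hyp (p : ℕ) (W : ∀ (Q : Type u) [Group Q], Subgroup Q) : Prop where
  ne_bot : ∀ (Q : Type u) [Group Q] [Finite Q], IsPGroup p Q → Nontrivial Q → W Q ≠ ⊥
  map_eq : ∀ (Q R : Type u) [Group Q] [Group R] [Finite Q], IsPGroup p Q → ∀ φ : Q ≃* R,
    (W Q).map φ.toMonoidHom = W R
  crit : ∀ (G : Type u) [Group G] [Finite G] (P : Sylow p G),
    Subgroup.centralizer ((pCore p G : Subgroup G) : Set G) ≤ pCore p G →
    HasNormalPComplement p ↥(Subgroup.normalizer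
      (((W ↥(P : Subgroup G)).map (P : Subgroup G).subtype : Subgroup G) : Set G)) →
    HasNormalPComplement p G

variable {Ω : Type u} [Group Ω]

/-- the value of the functor on a subgroup, inside the ambient group -/
def WS (W : ∀ (Q : Type u) [Group Q], Subgroup Q) (S : Subgroup Ω) : Subgroup Ω :=
  (W ↥S).map S.subtype

variable {p : ℕ} {W : ∀ (Q : Type u) [Group Q], Subgroup Q} {S : Subgroup Ω}

theorem WS_le : WS W S ≤ S := by
  rintro _ ⟨x, -, rfl⟩
  exact x.2

theorem WS_subgroupOf : (WS W S).subgroupOf S = W ↥S :=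
  Subgroup.comap_map_eq_self_of_injective S.subtype_injective _

theorem WS_characteristic (hW : Hyp p W) [Finite S] (hS : IsPGroup p S) : (W ↥S).Characteristic := by
  rw [Subgroup.characteristic_iff_map_eq]
  intro φ
  exact hW.map_eq ↥S ↥S hS φ

theorem WS_normalizer (hW : Hyp p W) [Finite S] (hS : IsPGroup p S) :
    S ≤ Subgroup.normalizer (WS W S : Set Ω) := by
  haveI := WS_characteristic hW hS
  haveI hn : (W ↥S).Normal := inferInstance
  intro s hs
  rw [Subgroup.mem_normalizer_iff]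
  have key : ∀ t ∈ S, ∀ h ∈ WS W S, t * h * t⁻¹ ∈ WS W S := by
    rintro t ht _ ⟨x, hx, rfl⟩
    exact ⟨⟨t, ht⟩ * x * ⟨t, ht⟩⁻¹, hn.conj_mem x hx ⟨t, ht⟩, rfl⟩
  intro h
  constructor
  · exact key s hs h
  · intro hh
    have := key s⁻¹ (S.inv_mem hs) _ hh
    have e : s⁻¹ * (s * h * s⁻¹) * s⁻¹⁻¹ = h := by group
    rwa [e] at this

theorem WS_ne_bot (hW : Hyp p W) [Finite S] (hS : IsPGroup p S) (hne : S ≠ ⊥) : WS W S ≠ ⊥ := by
  haveI : Nontrivial S := (Subgroup.nontrivial_iff_ne_bot S).2 hne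
  have h1 := hW.ne_bot ↥S hS inferInstance
  intro h
  apply h1
  have e := WS_subgroupOf (W := W) (S := S)
  rw [h] at e
  rw [← e]
  exact Subgroup.bot_subgroupOf S

/-- iterating a map that is conjugation by `g` when read through `ι` -/
theorem au_iterate {G : Type*} [Group G] {ι : S →* G} {A : Subgroup Ω} {f : Ω → Ω} {g : G}
    (hfA : ∀ x ∈ A, f x ∈ A) (hf : ∀ x ∈ A, au ι (f x) = g * au ι x * g⁻¹) (n : ℕ) :
    ∀ x ∈ A, au ι (f^[n] x) = g ^ n * au ι x * (g ^ n)⁻¹ := by
  induction n with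
  | zero => intro x _; simp
  | succ n ih =>
    intro x hx
    rw [Function.iterate_succ_apply, ih (f x) (hfA x hx), hf x hx, pow_succ]
    group

section Model

variable {G : Type u} [Group G] {ι : S →* G}

/-- conjugation by an element normalizing `Y ≤ ι(S)`, read back in `S` -/
theorem conj_back (hinj : Function.Injective ι) {Y : Subgroup G} (hY : Y ≤ ι.range) {g : G}
    (hg : g ∈ Subgroup.normalizer (Y : Set G)) :
    (∀ x ∈ preimageAlong ι Y, au (backHom ι hinj) (g * au ι x * g⁻¹) ∈ preimageAlong ι Y ∧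
      au ι (au (backHom ι hinj) (g * au ι x * g⁻¹)) = g * au ι x * g⁻¹) ∧
    ∀ y ∈ preimageAlong ι Y, ∃ x ∈ preimageAlong ι Y, au (backHom ι hinj) (g * au ι x * g⁻¹) = y := by
  constructor
  · intro x hx
    obtain ⟨hxS, hxY⟩ := mem_pre.1 hx
    have h1 : g * au ι x * g⁻¹ ∈ Y := (Subgroup.mem_normalizer_iff.1 hg _).1 hxY
    have h2 := au_au_back ι hinj (hY h1)
    refine ⟨mem_pre.2 ⟨au_backHom_mem ι hinj _, ?_⟩, h2⟩
    rw [h2]; exact h1
  · intro y hy
    obtain ⟨hyS, hyY⟩ := mem_pre.1 hy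
    have hg' : g⁻¹ ∈ Subgroup.normalizer (Y : Set G) := inv_mem hg
    have h1 : g⁻¹ * au ι y * g ∈ Y := by
      have := (Subgroup.mem_normalizer_iff.1 hg' _).1 hyY
      rwa [inv_inv] at this
    have h2 := au_au_back ι hinj (hY h1)
    refine ⟨au (backHom ι hinj) (g⁻¹ * au ι y * g), mem_pre.2 ⟨au_backHom_mem ι hinj _, ?_⟩, ?_⟩
    · rw [h2]; exact h1
    · rw [h2]
      have e : g * (g⁻¹ * au ι y * g) * g⁻¹ = au ι y := by group
      rw [e]
      exact au_back_au ι hinj hyS

end Model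

end Cfsg.Agent.Helper85.KL
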