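import Mathlib
import Cfsg.Agent.Lib.Helper85.KL6

set_option autoImplicit false

/-! # The case of a model: if `N_F(W(S))` has only `p`-automorphisms then so does `F` -/

namespace Cfsg.Agent.Helper85.KL

open Cfsg Cfsg.FusionSystem Cfsg.Agent.Helper87

universe u

variable {Ω : Type u} [Group Ω] {S : Subgroup Ω} {p : ℕ} {W : ∀ (Q : Type u) [Group Q], Subgroup Q}
  {G : Type u} [Group G] {ι : S →* G}

/-- the image of `W(S)` in a group containing `S` as the subgroup `T` -/
theorem imageAlong_WS (hW : Hyp p W) [Finite S] (hS : IsPGroup p S) (hinj : Function.Injective ι)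
    {T : Subgroup G} (hT : T = ι.range) : imageAlong ι (WS W S) = WS W T := by
  subst hT
  have e := hW.map_eq ↥S ↥ι.range hS (MonoidHom.ofInjective hinj)
  unfold imageAlong
  rw [WS_subgroupOf]
  unfold WS
  rw [← e, Subgroup.map_map]
  rfl

theorem preimageAlong_imageAlong_of_inj (hinj : Function.Injective ι) {V : Subgroup Ω} (hV : V ≤ S) :
    preimageAlong ι (imageAlong ι V) = V := by
  ext y
  rw [mem_pre]
  constructor
  · rintro ⟨hy, h⟩
    obtain ⟨x, hxS, hxV, hxy⟩ := mem_img.1 h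
    rw [← au_injOn hinj hxS hy hxy]
    exact hxV
  · intro hy
    exact ⟨hV hy, mem_img.2 ⟨y, hV hy, hy, rfl⟩⟩

theorem pautM_of_isPGroup {F : FusionSystem S} (hreal : F.IsRealizedBy ι) (hG : IsPGroup p G) :
    PAutM F p := by
  intro P₀ f₀ hf₀
  obtain ⟨hP₀, hfS, g, hg⟩ := (realized_mor_iff hreal).1 hf₀.1
  obtain ⟨k, hk⟩ := hG g
  refine ⟨k, fun x hx => ?_⟩
  have h1 := au_iterate (ι := ι) (A := P₀) (f := f₀) (g := g) (fun x hx => hf₀.map_mem hx) hg (p ^ k) x hx
  rw [hk] at h1
  have h2 : au ι (f₀^[p ^ k] x) = au ι x := by rw [h1]; group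
  exact au_injOn hreal.1 (hP₀ (iterate_mem hf₀ _ hx)) (hP₀ hx) h2

theorem pautM_of_model [Fact p.Prime] (hW : Hyp p W) [Finite S] (hS : IsPGroup p S) {F : FusionSystem S}
    (hG : F.IsModel p G ι) {N : FusionSystem (normalizerIn S (WS W S))}
    (hN : F.IsNormalizerSystem (WS W S) N) (hp : PAutM N p) : PAutM F p := by
  obtain ⟨hfin, hreal, ⟨P, hP⟩, hcen⟩ := hG
  have hinj := hreal.1
  have hPp : IsPGroup p ↥(P : Subgroup G) := P.isPGroup'
  have hιV : imageAlong ι (WS W S) = WS W (P : Subgroup G) := imageAlong_WS hW hS hinj hP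
  have hVle : WS W (P : Subgroup G) ≤ ι.range := by rw [← hP]; exact WS_le
  have hPH : (P : Subgroup G) ≤ Subgroup.normalizer (WS W (P : Subgroup G) : Set G) :=
    WS_normalizer hW hPp
  have hpre : preimageAlong ι (WS W (P : Subgroup G)) = WS W S := by
    rw [← hιV]; exact preimageAlong_imageAlong_of_inj hinj WS_le
  have hloc : HasNormalPComplement p ↥(Subgroup.normalizer (WS W (P : Subgroup G) : Set G)) := by
    apply hasNormalPComplement_of_local P _ hPH
    intro g hg X hX hgX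
    have hX' : X ⊔ WS W (P : Subgroup G) ≤ ι.range := by
      rw [← hP]; exact sup_le hX WS_le
    have hgn := mem_normalizer_sup hgX hg
    obtain ⟨hA1, hA2⟩ := conj_back hinj hX' hgn
    obtain ⟨hV1, hV2⟩ := conj_back hinj hVle hg
    rw [hpre] at hV1 hV2
    set A := preimageAlong ι (X ⊔ WS W (P : Subgroup G)) with hA
    set f : Ω → Ω := fun x => au (backHom ι hinj) (g * au ι x * g⁻¹) with hf
    have hAS : A ≤ S := fun x hx => (mem_pre.1 hx).1
    have hmor : Mor F A f :=
      (realized_mor_iff hreal).2 ⟨hAS, fun x hx => hAS (hA1 x hx).1, g, fun x hx => (hA1 x hx).2⟩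
    have hiso : Iso F A A f := by
      refine ⟨hmor, fun y => ⟨fun hy => ?_, ?_⟩⟩
      · exact hA2 y hy
      · rintro ⟨x, hx, rfl⟩
        exact (hA1 x hx).1
    have hVA : WS W S ≤ A := by
      intro v hv
      refine mem_pre.2 ⟨WS_le hv, ?_⟩
      have : au ι v ∈ imageAlong ι (WS W S) := mem_img.2 ⟨v, WS_le hv, hv, rfl⟩
      rw [hιV] at this
      exact (le_sup_right : _ ≤ X ⊔ WS W (P : Subgroup G)) this
    have hAN : A ≤ normalizerIn S (WS W S) := fun x hx => ⟨hAS hx, WS_normalizer hW hS (hAS hx)⟩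
    have hisoN : Iso N A A f := by
      refine iso_normalizer_of_iso hN hiso hVA hAN (fun y => ⟨fun hy => ?_, ?_⟩)
      · exact hV2 y hy
      · rintro ⟨x, hx, rfl⟩
        exact (hV1 x hx).1
    obtain ⟨k, hk⟩ := hp A f hisoN
    refine ⟨k, fun x hx => ?_⟩
    have hxr : x ∈ ι.range := by rw [← hP]; exact hX hx
    obtain ⟨s, rfl⟩ := hxr
    have hsA : (s : Ω) ∈ A := by
      refine mem_pre.2 ⟨s.2, ?_⟩
      rw [au_mem ι s.2]
      exact (le_sup_left : X ≤ X ⊔ WS W (P : Subgroup G)) hx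
    have h1 := au_iterate (ι := ι) (A := A) (f := f) (g := g) (fun x hx => (hA1 x hx).1)
      (fun x hx => (hA1 x hx).2) (p ^ k) s hsA
    rw [hk _ hsA, au_mem ι s.2] at h1
    exact h1.symm
  have hnpc : HasNormalPComplement p G := hW.crit G P hcen hloc
  exact pautM_of_isPGroup hreal (Cfsg.Agent.Helper31.GTG.isPGroup_of_hnpc_of_constrained hcen hnpc)

end Cfsg.Agent.Helper85.KL
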