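import Mathlib
import Cfsg.Agent.Lib.Helper85.KL7
import Cfsg.Agent.Lib.Helper24.CharSub
import Cfsg.Agent.Lib.Helper84.FusAlp
import Cfsg.Agent.S5096
import Cfsg.Agent.S5098

set_option autoImplicit false

/-! # Reduction steps: fully normalized subgroups with a normalizer system that has an automorphism not of `p`-power order -/

namespace Cfsg.Agent.Helper85.KL

open Cfsg Cfsg.FusionSystem Cfsg.Agent.Helper87

universe u

variable {Ω : Type u} [Group Ω] {S : Subgroup Ω} {p : ℕ} {W : ∀ (Q : Type u) [Group Q], Subgroup Q}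

theorem WS_normalizer' (hW : Hyp p W) [Finite S] (hS : IsPGroup p S) :
    Subgroup.normalizer (S : Set Ω) ≤ Subgroup.normalizer (WS W S : Set Ω) := by
  haveI := WS_characteristic hW hS
  exact Cfsg.Agent.Helper24.normalizer_le_normalizer_map_subtype_of_characteristic S (W ↥S)

theorem card_lt_of_lt' {H K : Subgroup Ω} [Finite K] (h : H < K) : Nat.card H < Nat.card K := by
  by_contra hc
  exact h.ne (Subgroup.eq_of_le_of_card_ge h.le (not_lt.1 hc))

theorem pautM_of_bot {F : FusionSystem S} (h : S = ⊥) : PAutM F p := by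
  intro P f hf
  refine ⟨0, fun x hx => ?_⟩
  have hx1 : x = 1 := by
    have := hf.le_left hx
    rw [h] at this
    exact Subgroup.mem_bot.1 this
  subst hx1
  simpa using hf.1.map_one

theorem ne_bot_of_iso {F : FusionSystem S} {P P' : Subgroup Ω} {φ : Ω → Ω} (h : Iso F P P' φ)
    (hP : P ≠ ⊥) : P' ≠ ⊥ := by
  rintro rfl
  apply hP
  rw [eq_bot_iff]
  intro x hx
  have h1 : φ x = 1 := Subgroup.mem_bot.1 (h.map_mem hx)
  have h2 : φ x = φ 1 := by rw [h1, h.1.map_one]
  exact Subgroup.mem_bot.2 (h.1.inj hx P.one_mem h2)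

/-- maps of a normalizer system in a subsystem are maps of the normalizer system in the whole system -/
theorem mor_normalizer_mono {T : Subgroup Ω} {F₁ : FusionSystem T} {F : FusionSystem S} (hTS : T ≤ S)
    (hsub : ∀ (P : Subgroup Ω) (f : Ω → Ω), Mor F₁ P f → Mor F P f) {R : Subgroup Ω}
    {N₁ : FusionSystem (normalizerIn T R)} (hN₁ : F₁.IsNormalizerSystem R N₁)
    {N : FusionSystem (normalizerIn S R)} (hN : F.IsNormalizerSystem R N) :
    ∀ (P : Subgroup Ω) (f : Ω → Ω), Mor N₁ P f → Mor N P f := by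
  intro P f h
  obtain ⟨h1, h2, h3, g, hg, hgf, hgR⟩ := (mor_normalizerSystem_iff hN₁).1 h
  have hle : normalizerIn T R ≤ normalizerIn S R := fun x hx => ⟨hTS hx.1, hx.2⟩
  exact (mor_normalizerSystem_iff hN).2
    ⟨hsub _ _ h1, h2.trans hle, fun x hx => hle (h3 x hx), g, hsub _ _ hg, hgf, hgR⟩

theorem mor_of_mor_normalizer {F : FusionSystem S} {Q : Subgroup Ω} {N : FusionSystem (normalizerIn S Q)}
    (hN : F.IsNormalizerSystem Q N) : ∀ (P : Subgroup Ω) (f : Ω → Ω), Mor N P f → Mor F P f :=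
  fun _ _ h => ((mor_normalizerSystem_iff hN).1 h).1

/-- if the normalizer systems of all nontrivial fully normalized subgroups have only `p`-automorphisms, so has `F` -/
theorem pautM_of_good [Fact p.Prime] [Finite S] (hS : IsPGroup p S) {F : FusionSystem S}
    (hF : F.IsSaturated p)
    (h : ∀ Q : Subgroup Ω, F.IsFullyNormalized Q → Q ≠ ⊥ →
      ∀ N : FusionSystem (normalizerIn S Q), F.IsNormalizerSystem Q N → PAutM N p) : PAutM F p := by
  intro P f hf
  by_cases hP : P = ⊥
  · subst hP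
    refine ⟨0, fun x hx => ?_⟩
    have hx1 : x = 1 := Subgroup.mem_bot.1 hx
    subst hx1
    simpa using hf.1.map_one
  obtain ⟨P', hconj, hfn⟩ := Cfsg.Agent.Helper87.exists_fullyNormalized_conj F hf.le_left
  obtain ⟨φ, hφ, hφP⟩ := exists_map_normalizer_to_fullyNormalized hS hF hfn hconj
  have hP' : P' ≠ ⊥ := ne_bot_of_iso hφP hP
  obtain ⟨N', hN'⟩ := Cfsg.Agent.S5096.result F P' hfn.1
  exact paut_transport hφ hφP hN' (h P' hfn hP' N' hN') le_rfl
    (fun x hx => ⟨hf.le_left hx, Subgroup.le_normalizer hx⟩) hf hf.2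

/-- first case of the reduction: the normalizer of `Q` in `S` is a proper subgroup -/
theorem pautM_case1 [Fact p.Prime] (hW : Hyp p W) [Finite S] (hS : IsPGroup p S) {F : FusionSystem S}
    (hF : F.IsSaturated p) {Q : Subgroup Ω} {NQ : FusionSystem (normalizerIn S Q)}
    (hNQ : F.IsNormalizerSystem Q NQ) (hQne : Q ≠ ⊥) (hQS : Q ≤ S) (hlt : normalizerIn S Q < S)
    (hgood : ∀ R' : Subgroup Ω, F.IsFullyNormalized R' → R' ≠ ⊥ →
      Nat.card (normalizerIn S Q) < Nat.card (normalizerIn S R') →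
      ∀ N' : FusionSystem (normalizerIn S R'), F.IsNormalizerSystem R' N' → PAutM N' p)
    {NR : FusionSystem (normalizerIn (normalizerIn S Q) (WS W (normalizerIn S Q)))}
    (hNR : NQ.IsNormalizerSystem (WS W (normalizerIn S Q)) NR) : PAutM NR p := by
  have hTS : normalizerIn S Q ≤ S := inf_le_left
  haveI : Finite (normalizerIn S Q) := finite_of_le hTS
  have hTp : IsPGroup p (normalizerIn S Q) := hS.to_le hTS
  have hQT : Q ≤ normalizerIn S Q := fun x hx => ⟨hQS hx, Subgroup.le_normalizer hx⟩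
  have hTne : normalizerIn S Q ≠ ⊥ := fun h => hQne (le_bot_iff.1 (h ▸ hQT))
  have hRne : WS W (normalizerIn S Q) ≠ ⊥ := WS_ne_bot hW hTp hTne
  have hRT : WS W (normalizerIn S Q) ≤ normalizerIn S Q := WS_le
  have hRS : WS W (normalizerIn S Q) ≤ S := hRT.trans hTS
  have h1 : normalizerIn S Q < normalizerIn S (normalizerIn S Q) :=
    Cfsg.Agent.Helper84.lt_normalizerIn hS hlt
  have h2 : normalizerIn S (normalizerIn S Q) ≤ normalizerIn S (WS W (normalizerIn S Q)) :=
    fun x hx => ⟨hx.1, WS_normalizer' hW hTp hx.2⟩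
  haveI : Finite (normalizerIn S (WS W (normalizerIn S Q))) := finite_of_le inf_le_left
  have hcard : Nat.card (normalizerIn S Q) < Nat.card (normalizerIn S (WS W (normalizerIn S Q))) :=
    card_lt_of_lt' (lt_of_lt_of_le h1 h2)
  obtain ⟨R', hconj, hfn⟩ := Cfsg.Agent.Helper87.exists_fullyNormalized_conj F hRS
  obtain ⟨φ, hφ, hφR⟩ := exists_map_normalizer_to_fullyNormalized hS hF hfn hconj
  have hR'ne : R' ≠ ⊥ := ne_bot_of_iso hφR hRne
  have hcard' : Nat.card (normalizerIn S Q) < Nat.card (normalizerIn S R') :=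
    lt_of_lt_of_le hcard (hfn.2 _ (isConj_symm hconj))
  obtain ⟨N', hN'⟩ := Cfsg.Agent.S5096.result F R' hfn.1
  have hpN' : PAutM N' p := hgood R' hfn hR'ne hcard' N' hN'
  intro A f hf
  obtain ⟨g, hg, hgf, hgR⟩ := exists_ext_of_iso_normalizer hNR hf
  have hgF : Iso F (A ⊔ WS W (normalizerIn S Q)) (A ⊔ WS W (normalizerIn S Q)) g :=
    ⟨mor_of_mor_normalizer hNQ _ _ hg.1, hg.2⟩
  have hAle : A ≤ normalizerIn (normalizerIn S Q) (WS W (normalizerIn S Q)) := hf.le_left
  have hle : A ⊔ WS W (normalizerIn S Q) ≤ normalizerIn S (WS W (normalizerIn S Q)) :=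
    sup_le (fun x hx => ⟨hTS (hAle hx).1, (hAle hx).2⟩)
      (fun x hx => ⟨hRS hx, Subgroup.le_normalizer hx⟩)
  obtain ⟨k, hk⟩ := paut_transport hφ hφR hN' hpN' le_sup_right hle hgF hgR
  refine ⟨k, fun x hx => ?_⟩
  have h3 := iterate_congr (P := A) (f := f) (g := g) (fun x hx => hf.map_mem hx) hgf (p ^ k) hx
  rw [← h3.1]
  exact hk x ((le_sup_left : A ≤ A ⊔ WS W (normalizerIn S Q)) hx)

end Cfsg.Agent.Helper85.KL
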