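import Mathlib
import Cfsg.Agent.Lib.Helper85.KL8
import Cfsg.Agent.Lib.Helper85.Solvable3
import Cfsg.Agent.Lib.Helper85.NormalizerSys
import Cfsg.Agent.Lib.Helper87.FusionCore
import Cfsg.Agent.S5090
import Cfsg.Agent.S5132

set_option autoImplicit false

/-! # Reduction: second case (normal subgroup), and the main theorem -/

namespace Cfsg.Agent.Helper85.KL

open Cfsg Cfsg.FusionSystem Cfsg.Agent.Helper87

universe u

variable {Ω : Type u} [Group Ω] {S : Subgroup Ω} {p : ℕ} {W : ∀ (Q : Type u) [Group Q], Subgroup Q}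

theorem le_normalizer_preimageAlong {Ω' : Type*} [Group Ω'] {θ : S →* Ω'} {Vb : Subgroup Ω'}
    (h : ∀ s : S, θ s ∈ Subgroup.normalizer (Vb : Set Ω')) :
    S ≤ Subgroup.normalizer (preimageAlong θ Vb : Set Ω) := by
  have key : ∀ s ∈ S, ∀ v ∈ preimageAlong θ Vb, s * v * s⁻¹ ∈ preimageAlong θ Vb := by
    intro s hs v hv
    obtain ⟨hvS, hv'⟩ := mem_pre.1 hv
    refine mem_pre.2 ⟨S.mul_mem (S.mul_mem hs hvS) (S.inv_mem hs), ?_⟩
    rw [au_conj θ hs hvS]
    have := h ⟨s, hs⟩
    rw [← au_mem θ hs] at this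
    exact (Subgroup.mem_normalizer_iff.1 this _).1 hv'
  intro s hs
  rw [Subgroup.mem_normalizer_iff]
  intro v
  constructor
  · exact key s hs v
  · intro hv
    have := key s⁻¹ (S.inv_mem hs) _ hv
    have e : s⁻¹ * (s * v * s⁻¹) * s⁻¹⁻¹ = v := by group
    rwa [e] at this

/-- second case of the reduction: `Q` is normal in `S` -/
theorem pautM_case2 [Fact p.Prime] (hW : Hyp p W) [Finite S] (hS : IsPGroup p S) {F : FusionSystem S}
    (hF : F.IsSaturated p) {Q : Subgroup Ω} (hQ : F.IsFullyNormalized Q)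
    {NQ : FusionSystem (normalizerIn S Q)} (hNQ : F.IsNormalizerSystem Q NQ) (hQne : Q ≠ ⊥)
    (hTS : normalizerIn S Q = S)
    (ih : ∀ (Ω' : Type u) [Group Ω'] (S' : Subgroup Ω') [Finite S'], Nat.card S' < Nat.card S →
      IsPGroup p S' → ∀ F' : FusionSystem S', F'.IsSaturated p →
      ∀ N' : FusionSystem (normalizerIn S' (WS W S')), F'.IsNormalizerSystem (WS W S') N' →
      PAutM N' p → PAutM F' p)
    (hgood : ∀ V : Subgroup Ω, V ≤ S → S ≤ Subgroup.normalizer (V : Set Ω) → Nat.card Q < Nat.card V →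
      ∀ N' : FusionSystem (normalizerIn S V), F.IsNormalizerSystem V N' → PAutM N' p)
    {N : FusionSystem (normalizerIn S (WS W S))} (hN : F.IsNormalizerSystem (WS W S) N)
    (hp : PAutM N p) : PAutM NQ p := by
  have hTle : normalizerIn S Q ≤ S := inf_le_left
  haveI : Finite (normalizerIn S Q) := finite_of_le hTle
  have hTp : IsPGroup p (normalizerIn S Q) := hS.to_le hTle
  have hsat : NQ.IsSaturated p := Cfsg.Agent.S5098.result p hS F hF Q hQ NQ hNQ
  have hQn : NQ.IsNormal Q := normalizerSystem_isNormal hQ.1 hNQ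
  have hQ₁n : NQ.IsNormal NQ.core := isNormal_core NQ
  have hQQ₁ : Q ≤ NQ.core := le_sSup hQn
  have hsc : NQ.StronglyClosed NQ.core := Cfsg.Agent.Helper84.stronglyClosed_of_normal NQ hQ₁n
  haveI hnorm : (NQ.core.subgroupOf (normalizerIn S Q)).Normal := normal_subgroupOf_of_stronglyClosed hsc
  obtain ⟨E, hE⟩ := Cfsg.Agent.S5132.result p hTp NQ NQ.core hsc
  haveI hfinE : Finite (⊤ : Subgroup (↥(normalizerIn S Q) ⧸ NQ.core.subgroupOf (normalizerIn S Q))) :=
    Cfsg.Agent.Helper87.factor_finite hE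
  have hEp : IsPGroup p (⊤ : Subgroup (↥(normalizerIn S Q) ⧸ NQ.core.subgroupOf (normalizerIn S Q))) :=
    factor_isPGroup hTp hE
  have hEsat : E.IsSaturated p := factor_saturated hTp hsat hsc hE
  -- the quotient is smaller
  have hcard : Nat.card (⊤ : Subgroup (↥(normalizerIn S Q) ⧸ NQ.core.subgroupOf (normalizerIn S Q)))
      < Nat.card S := by
    have hcS : Nat.card (normalizerIn S Q) = Nat.card S := by rw [hTS]
    rw [Subgroup.card_top, ← hcS]
    have h1 := Subgroup.card_eq_card_quotient_mul_card_subgroup (NQ.core.subgroupOf (normalizerIn S Q))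
    have h2 : 1 < Nat.card (NQ.core.subgroupOf (normalizerIn S Q)) := by
      rw [Subgroup.one_lt_card_iff_ne_bot]
      intro hbot
      apply hQne
      rw [eq_bot_iff]
      intro x hx
      have hxT : x ∈ normalizerIn S Q := ⟨hQ.1 hx, Subgroup.le_normalizer hx⟩
      have : (⟨x, hxT⟩ : normalizerIn S Q) ∈ NQ.core.subgroupOf (normalizerIn S Q) :=
        Subgroup.mem_subgroupOf.2 (hQQ₁ hx)
      rw [hbot, Subgroup.mem_bot] at this
      exact Subgroup.mem_bot.2 (congrArg Subtype.val this)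
    have h3 : 0 < Nat.card (↥(normalizerIn S Q) ⧸ NQ.core.subgroupOf (normalizerIn S Q)) :=
      Nat.card_pos
    nlinarith
  -- the factor system has only `p`-automorphisms
  have hpE : PAutM E p := by
    by_cases htriv : (⊤ : Subgroup (↥(normalizerIn S Q) ⧸ NQ.core.subgroupOf (normalizerIn S Q))) = ⊥
    · exact pautM_of_bot htriv
    obtain ⟨Nb, hNb⟩ := Cfsg.Agent.S5096.result E
      (WS W (⊤ : Subgroup (↥(normalizerIn S Q) ⧸ NQ.core.subgroupOf (normalizerIn S Q)))) WS_le
    apply ih _ ⊤ hcard hEp E hEsat Nb hNb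
    have hVb : WS W (⊤ : Subgroup (↥(normalizerIn S Q) ⧸ NQ.core.subgroupOf (normalizerIn S Q))) ≠ ⊥ :=
      WS_ne_bot hW hEp htriv
    have hVT : preimageAlong (QuotientGroup.mk' (NQ.core.subgroupOf (normalizerIn S Q)))
        (WS W (⊤ : Subgroup (↥(normalizerIn S Q) ⧸ NQ.core.subgroupOf (normalizerIn S Q))))
        ≤ normalizerIn S Q := preimageAlong_le' _ _
    obtain ⟨NV, hNV⟩ := Cfsg.Agent.S5096.result NQ _ hVT
    have hVn : normalizerIn S Q ≤ Subgroup.normalizer
        (preimageAlong (QuotientGroup.mk' (NQ.core.subgroupOf (normalizerIn S Q)))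
        (WS W (⊤ : Subgroup (↥(normalizerIn S Q) ⧸ NQ.core.subgroupOf (normalizerIn S Q)))) : Set Ω) :=
      le_normalizer_preimageAlong (fun s => WS_normalizer hW hEp (Subgroup.mem_top _))
    apply pautM_quotient hE hNb hNV hVn
    obtain ⟨NV', hNV'⟩ := Cfsg.Agent.S5096.result F _ (hVT.trans hTle)
    have hlt : Nat.card Q < Nat.card (preimageAlong (QuotientGroup.mk' (NQ.core.subgroupOf (normalizerIn S Q)))
        (WS W (⊤ : Subgroup (↥(normalizerIn S Q) ⧸ NQ.core.subgroupOf (normalizerIn S Q))))) := by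
      haveI : Finite (preimageAlong (QuotientGroup.mk' (NQ.core.subgroupOf (normalizerIn S Q)))
        (WS W (⊤ : Subgroup (↥(normalizerIn S Q) ⧸ NQ.core.subgroupOf (normalizerIn S Q))))) :=
        finite_of_le (hVT.trans hTle)
      apply card_lt_of_lt'
      have hle : NQ.core ≤ preimageAlong (QuotientGroup.mk' (NQ.core.subgroupOf (normalizerIn S Q)))
          (WS W (⊤ : Subgroup (↥(normalizerIn S Q) ⧸ NQ.core.subgroupOf (normalizerIn S Q)))) := by
        intro x hx
        have hxT : x ∈ normalizerIn S Q := hQ₁n.1 hx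
        refine mem_pre.2 ⟨hxT, ?_⟩
        rw [au_mem _ hxT, (hE.2.1 ⟨x, hxT⟩).2 hx]
        exact Subgroup.one_mem _
      refine lt_of_le_of_ne (hQQ₁.trans hle) ?_
      intro heq
      apply hVb
      rw [eq_bot_iff]
      intro y hy
      obtain ⟨t, rfl⟩ := QuotientGroup.mk'_surjective (NQ.core.subgroupOf (normalizerIn S Q)) y
      have ht : (t : Ω) ∈ preimageAlong (QuotientGroup.mk' (NQ.core.subgroupOf (normalizerIn S Q)))
          (WS W (⊤ : Subgroup (↥(normalizerIn S Q) ⧸ NQ.core.subgroupOf (normalizerIn S Q)))) := by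
        refine mem_pre.2 ⟨t.2, ?_⟩
        rw [au_mem _ t.2]
        exact hy
      rw [← heq] at ht
      exact Subgroup.mem_bot.2 ((hE.2.1 t).2 (hQQ₁ ht))
    have hpV' : PAutM NV' p := hgood _ (hVT.trans hTle) ((le_of_eq hTS.symm).trans hVn) hlt NV' hNV'
    exact hpV'.mono (mor_normalizer_mono hTle (mor_of_mor_normalizer hNQ) hNV hNV')
  have hcon : NQ.IsConstrained p := constrained_of_pautM_factor hTp hsat hE hpE
  obtain ⟨G, _, ι, hG⟩ := Cfsg.Agent.S5090.result p hTp NQ hcon
  obtain ⟨N₁, hN₁⟩ := Cfsg.Agent.S5096.result NQ (WS W (normalizerIn S Q)) WS_le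
  apply pautM_of_model hW hTp hG hN₁
  have hWeq : WS W (normalizerIn S Q) = WS W S := by rw [hTS]
  obtain ⟨N', hN', hp'⟩ : ∃ N' : FusionSystem (normalizerIn S (WS W (normalizerIn S Q))),
      F.IsNormalizerSystem (WS W (normalizerIn S Q)) N' ∧ PAutM N' p := by
    rw [hWeq]; exact ⟨N, hN, hp⟩
  exact hp'.mono (mor_normalizer_mono hTle (mor_of_mor_normalizer hNQ) hN₁ hN')

end Cfsg.Agent.Helper85.KL
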