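import Mathlib
import Cfsg.Agent.Lib.Helper85.KL9
import Cfsg.Agent.Lib.Helper86.FusionWeakAlperin

set_option autoImplicit false

/-! # The Kessar–Linckelmann reduction: a characteristic `p`-functor with a normal `p`-complement criterion controls
whether a saturated fusion system is the system of its `p`-group -/

namespace Cfsg.Agent.Helper85.KL

open Cfsg Cfsg.FusionSystem Cfsg.Agent.Helper87

universe u

variable {p : ℕ} {W : ∀ (Q : Type u) [Group Q], Subgroup Q}

theorem fullyNormalized_of_normal {Ω : Type u} [Group Ω] {S : Subgroup Ω} [Finite S] (F : FusionSystem S)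
    {V : Subgroup Ω} (hV : V ≤ S) (h : S ≤ Subgroup.normalizer (V : Set Ω)) : F.IsFullyNormalized V := by
  refine ⟨hV, fun Q' _ => ?_⟩
  have e : normalizerIn S V = S := inf_eq_left.2 h
  have hle : normalizerIn S Q' ≤ S := inf_le_left
  have h1 : Nat.card (normalizerIn S Q') ≤ Nat.card S := Subgroup.card_le_of_le hle
  have h2 : Nat.card (normalizerIn S V) = Nat.card S := by rw [e]
  omega

/-- main theorem, in terms of automorphisms of `p`-power order -/
theorem pautM_main [Fact p.Prime] (hW : Hyp p W) : ∀ n : ℕ, ∀ (Ω : Type u) [Group Ω] (S : Subgroup Ω)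
    [Finite S], Nat.card S = n → IsPGroup p S → ∀ F : FusionSystem S, F.IsSaturated p →
    ∀ N : FusionSystem (normalizerIn S (WS W S)), F.IsNormalizerSystem (WS W S) N → PAutM N p →
    PAutM F p := by
  intro n
  induction n using Nat.strong_induction_on with
  | _ n ih =>
  intro Ω _ S _ hn hS F hF N hN hp
  subst hn
  apply pautM_of_good hS hF
  by_contra hbad
  push Not at hbad
  obtain ⟨Q₀, hQ₀fn, hQ₀ne, NQ₀, hNQ₀, hnp₀⟩ := hbad
  -- a counterexample maximizing first the order of the normalizer and then its own order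
  let m : Subgroup Ω → ℕ := fun Q => Nat.card (normalizerIn S Q) * (Nat.card S + 1) + Nat.card Q
  let Bad : Subgroup Ω → Prop := fun Q => F.IsFullyNormalized Q ∧ Q ≠ ⊥ ∧
    ∃ NQ : FusionSystem (normalizerIn S Q), F.IsNormalizerSystem Q NQ ∧ ¬ PAutM NQ p
  have hbound : ∀ Q : Subgroup Ω, Q ≤ S → m Q ≤ Nat.card S * (Nat.card S + 1) + Nat.card S := by
    intro Q hQ
    have h1 : Nat.card (normalizerIn S Q) ≤ Nat.card S :=
      Subgroup.card_le_of_le (inf_le_left : normalizerIn S Q ≤ S)
    have h2 : Nat.card Q ≤ Nat.card S := Subgroup.card_le_of_le hQ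
    exact Nat.add_le_add (Nat.mul_le_mul_right _ h1) h2
  obtain ⟨Q, hQbad, hmax⟩ : ∃ Q, Bad Q ∧ ∀ Q', Bad Q' → m Q' ≤ m Q := by
    classical
    have hex : ∃ k, ∃ Q, Bad Q ∧ Nat.card S * (Nat.card S + 1) + Nat.card S - m Q = k :=
      ⟨_, Q₀, ⟨hQ₀fn, hQ₀ne, NQ₀, hNQ₀, hnp₀⟩, rfl⟩
    obtain ⟨Q, hQbad, hk⟩ := Nat.find_spec hex
    refine ⟨Q, hQbad, fun Q' hQ' => ?_⟩
    have h1 : Nat.find hex ≤ Nat.card S * (Nat.card S + 1) + Nat.card S - m Q' :=
      Nat.find_min' hex ⟨Q', hQ', rfl⟩
    have h2 := hbound Q' hQ'.1.1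
    have h3 := hbound Q hQbad.1.1
    omega
  obtain ⟨hQfn, hQne, NQ, hNQ, hnp⟩ := hQbad
  apply hnp
  have hgood : ∀ Q' : Subgroup Ω, F.IsFullyNormalized Q' → Q' ≠ ⊥ → m Q < m Q' →
      ∀ N' : FusionSystem (normalizerIn S Q'), F.IsNormalizerSystem Q' N' → PAutM N' p := by
    intro Q' h1 h2 h3 N' hN'
    by_contra h4
    exact absurd (hmax Q' ⟨h1, h2, N', hN', h4⟩) (not_le.2 h3)
  have hQcard : Nat.card Q ≤ Nat.card S := Subgroup.card_le_of_le hQfn.1
  by_cases hTS : normalizerIn S Q = S
  · refine pautM_case2 hW hS hF hQfn hNQ hQne hTS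
      (fun Ω' _ S' _ hlt hS' F' hF' N' hN' hp' => ih _ hlt Ω' S' rfl hS' F' hF' N' hN' hp') ?_ hN hp
    intro V hVS hVn hlt N' hN'
    have hVfn : F.IsFullyNormalized V := fullyNormalized_of_normal F hVS hVn
    have hVne : V ≠ ⊥ := by
      rintro rfl
      rw [Subgroup.card_bot] at hlt
      haveI : Finite Q := finite_of_le hQfn.1
      have hpos : 0 < Nat.card Q := Nat.card_pos
      omega
    refine hgood V hVfn hVne ?_ N' hN'
    have e : normalizerIn S V = S := inf_eq_left.2 hVn
    show Nat.card (normalizerIn S Q) * (Nat.card S + 1) + Nat.card Q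
      < Nat.card (normalizerIn S V) * (Nat.card S + 1) + Nat.card V
    have e1 : Nat.card (normalizerIn S V) = Nat.card S := by rw [e]
    have e2 : Nat.card (normalizerIn S Q) = Nat.card S := by rw [hTS]
    rw [e1, e2]
    omega
  · have hTle : normalizerIn S Q ≤ S := inf_le_left
    have hlt : normalizerIn S Q < S := lt_of_le_of_ne hTle hTS
    haveI : Finite (normalizerIn S Q) := finite_of_le hTle
    have hTp : IsPGroup p (normalizerIn S Q) := hS.to_le hTle
    have hsat : NQ.IsSaturated p := Cfsg.Agent.S5098.result p hS F hF Q hQfn NQ hNQ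
    obtain ⟨NR, hNR⟩ := Cfsg.Agent.S5096.result NQ (WS W (normalizerIn S Q)) WS_le
    have hpNR : PAutM NR p := by
      refine pautM_case1 hW hS hF hNQ hQne hQfn.1 hlt ?_ hNR
      intro R' hR'fn hR'ne hcard N' hN'
      refine hgood R' hR'fn hR'ne ?_ N' hN'
      show Nat.card (normalizerIn S Q) * (Nat.card S + 1) + Nat.card Q
        < Nat.card (normalizerIn S R') * (Nat.card S + 1) + Nat.card R'
      have h1 : (Nat.card (normalizerIn S Q) + 1) * (Nat.card S + 1)
          ≤ Nat.card (normalizerIn S R') * (Nat.card S + 1) := Nat.mul_le_mul_right _ hcard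
      have h2 : (Nat.card (normalizerIn S Q) + 1) * (Nat.card S + 1)
          = Nat.card (normalizerIn S Q) * (Nat.card S + 1) + (Nat.card S + 1) := by ring
      omega
    exact ih (Nat.card (normalizerIn S Q)) (card_lt_of_lt' hlt) Ω (normalizerIn S Q) rfl hTp NQ hsat
      NR hNR hpNR

variable {Ω : Type u} [Group Ω] {S : Subgroup Ω}

/-- **Kessar–Linckelmann**: for a characteristic `p`-functor `W` with a normal `p`-complement criterion, a saturated
fusion system `F` on `S` is the system of `S` if and only if `N_F(W(S))` is the system of `N_S(W(S)) = S` -/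
theorem inner_iff_normalizer_inner [Fact p.Prime] (hW : Hyp p W) [Finite S] (hS : IsPGroup p S)
    (F : FusionSystem S) (hF : F.IsSaturated p) :
    (∀ P : Subgroup Ω, F.Hom P = (innerFusionSystem S).Hom P) ↔
    ∀ N : FusionSystem (normalizerIn S (WS W S)), F.IsNormalizerSystem (WS W S) N →
      ∀ P : Subgroup Ω, N.Hom P = (innerFusionSystem (normalizerIn S (WS W S))).Hom P := by
  have hTle : normalizerIn S (WS W S) ≤ S := inf_le_left
  haveI : Finite (normalizerIn S (WS W S)) := finite_of_le hTle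
  have hTp : IsPGroup p (normalizerIn S (WS W S)) := hS.to_le hTle
  constructor
  · intro h N hN
    have hfn : F.IsFullyNormalized (WS W S) := fullyNormalized_of_normal F WS_le (WS_normalizer hW hS)
    have hsat : N.IsSaturated p := Cfsg.Agent.S5098.result p hS F hF _ hfn N hN
    have hpF : PAutM F p := pautM_of_inner hS h
    have hpN : PAutM N p := hpF.mono (mor_of_mor_normalizer hN)
    exact Cfsg.Agent.Helper86.hom_eq_inner_of_isPGroup_autGroup hTp N hsat
      (fun P hP => hpN.isPGroup hP)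
  · intro h
    obtain ⟨N, hN⟩ := Cfsg.Agent.S5096.result F (WS W S) WS_le
    have hpN : PAutM N p := pautM_of_inner hTp (h N hN)
    have hpF : PAutM F p := pautM_main hW _ Ω S rfl hS F hF N hN hpN
    exact Cfsg.Agent.Helper86.hom_eq_inner_of_isPGroup_autGroup hS F hF (fun P hP => hpF.isPGroup hP)

end Cfsg.Agent.Helper85.KL
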