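import Mathlib
import Cfsg.Agent.Lib.Helper85.KL10

set_option autoImplicit false

/-! # Generalizations of the steps of the reduction: arbitrary normal subgroups in place of `W(S)` -/

namespace Cfsg.Agent.Helper85.KLD

open Cfsg Cfsg.FusionSystem Cfsg.Agent.Helper87 Cfsg.Agent.Helper85.KL

universe u

variable {Ω : Type u} [Group Ω] {S : Subgroup Ω} {p : ℕ} {W : ∀ (Q : Type u) [Group Q], Subgroup Q}

section Model

variable {G : Type u} [Group G] {ι : S →* G}

theorem range_le_normalizer_imageAlong {V : Subgroup Ω} (hVS : V ≤ S)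
    (hVn : S ≤ Subgroup.normalizer (V : Set Ω)) :
    ι.range ≤ Subgroup.normalizer (imageAlong ι V : Set G) := by
  have key : ∀ s ∈ S, ∀ z ∈ imageAlong ι V, au ι s * z * (au ι s)⁻¹ ∈ imageAlong ι V := by
    intro s hs z hz
    obtain ⟨v, hvS, hvV, rfl⟩ := mem_img.1 hz
    rw [← au_conj ι hs hvS]
    exact mem_img.2 ⟨_, S.mul_mem (S.mul_mem hs hvS) (S.inv_mem hs),
      (Subgroup.mem_normalizer_iff.1 (hVn hs) v).1 hvV, rfl⟩
  rintro _ ⟨s, rfl⟩
  rw [Subgroup.mem_normalizer_iff]
  intro z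
  have e0 : ι s = au ι (s : Ω) := (au_mem ι s.2).symm
  constructor
  · intro hz
    rw [e0]
    exact key s s.2 z hz
  · intro hz
    have h1 := key (s : Ω)⁻¹ (S.inv_mem s.2) _ hz
    rw [au_inv ι s.2, ← e0] at h1
    have e : (ι s)⁻¹ * (ι s * z * (ι s)⁻¹) * (ι s)⁻¹⁻¹ = z := by group
    rwa [e] at h1

/-- if the normalizer system of a normal subgroup `V` of `S` has only `p`-automorphisms, the normalizer of the image
of `V` in a finite group realizing the system has a normal `p`-complement -/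
theorem hnpc_normalizer_of_pautM [Fact p.Prime] [Finite G] {F : FusionSystem S} (hreal : F.IsRealizedBy ι)
    (P : Sylow p G) (hP : (P : Subgroup G) = ι.range) {V : Subgroup Ω} (hVS : V ≤ S)
    (hVn : S ≤ Subgroup.normalizer (V : Set Ω)) {N : FusionSystem (normalizerIn S V)}
    (hN : F.IsNormalizerSystem V N) (hp : PAutM N p) :
    HasNormalPComplement p ↥(Subgroup.normalizer (imageAlong ι V : Set G)) := by
  have hinj := hreal.1
  have hVle : imageAlong ι V ≤ ι.range := by
    intro z hz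
    obtain ⟨v, hvS, -, rfl⟩ := mem_img.1 hz
    exact au_mem_range' ι hvS
  have hPH : (P : Subgroup G) ≤ Subgroup.normalizer (imageAlong ι V : Set G) := by
    rw [hP]; exact range_le_normalizer_imageAlong hVS hVn
  have hpre : preimageAlong ι (imageAlong ι V) = V := preimageAlong_imageAlong_of_inj hinj hVS
  apply hasNormalPComplement_of_local P _ hPH
  intro g hg X hX hgX
  have hX' : X ⊔ imageAlong ι V ≤ ι.range := by
    refine sup_le ?_ hVle
    rw [← hP]; exact hX
  have hgn := mem_normalizer_sup hgX hg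
  obtain ⟨hA1, hA2⟩ := conj_back hinj hX' hgn
  obtain ⟨hV1, hV2⟩ := conj_back hinj hVle hg
  rw [hpre] at hV1 hV2
  set A := preimageAlong ι (X ⊔ imageAlong ι V) with hA
  set f : Ω → Ω := fun x => au (backHom ι hinj) (g * au ι x * g⁻¹) with hf
  have hAS : A ≤ S := fun x hx => (mem_pre.1 hx).1
  have hmor : Mor F A f :=
    (realized_mor_iff hreal).2 ⟨hAS, fun x hx => hAS (hA1 x hx).1, g, fun x hx => (hA1 x hx).2⟩
  have hiso : Iso F A A f := by
    refine ⟨hmor, fun y => ⟨fun hy => ?_, ?_⟩⟩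
    · exact hA2 y hy
    · rintro ⟨x, hx, rfl⟩
      exact (hA1 x hx).1
  have hVA : V ≤ A := by
    intro v hv
    refine mem_pre.2 ⟨hVS hv, ?_⟩
    have : au ι v ∈ imageAlong ι V := mem_img.2 ⟨v, hVS hv, hv, rfl⟩
    exact (le_sup_right : _ ≤ X ⊔ imageAlong ι V) this
  have hAN : A ≤ normalizerIn S V := fun x hx => ⟨hAS hx, hVn (hAS hx)⟩
  have hisoN : Iso N A A f := by
    refine iso_normalizer_of_iso hN hiso hVA hAN (fun y => ⟨fun hy => ?_, ?_⟩)
    · exact hV2 y hy
    · rintro ⟨x, hx, rfl⟩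
      exact (hV1 x hx).1
  obtain ⟨k, hk⟩ := hp A f hisoN
  refine ⟨k, fun x hx => ?_⟩
  have hxr : x ∈ ι.range := by rw [← hP]; exact hX hx
  obtain ⟨s, rfl⟩ := hxr
  have hsA : (s : Ω) ∈ A := by
    refine mem_pre.2 ⟨s.2, ?_⟩
    rw [au_mem ι s.2]
    exact (le_sup_left : X ≤ X ⊔ imageAlong ι V) hx
  have h1 := au_iterate (ι := ι) (A := A) (f := f) (g := g) (fun x hx => (hA1 x hx).1)
    (fun x hx => (hA1 x hx).2) (p ^ k) s hsA
  rw [hk _ hsA, au_mem ι s.2] at h1
  exact h1.symm

/-- a subgroup strongly closed in a realized system has strongly closed image -/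
theorem isStronglyClosed_imageAlong {F : FusionSystem S} (hreal : F.IsRealizedBy ι) {T : Subgroup G}
    (hT : T = ι.range) {D : Subgroup Ω} (hD : F.StronglyClosed D) :
    IsStronglyClosed (imageAlong ι D) T := by
  have hinj := hreal.1
  subst hT
  refine ⟨?_, ?_⟩
  · intro z hz
    obtain ⟨v, hvS, -, rfl⟩ := mem_img.1 hz
    exact au_mem_range' ι hvS
  · intro x hx g hgx
    obtain ⟨d, hdS, hdD, rfl⟩ := mem_img.1 hx
    -- the elements of `D` that `g` conjugates into the image of `S`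
    set B : Subgroup Ω := D ⊓ preimageAlong ι (ι.range.comap (MulAut.conj g).toMonoidHom) with hB
    have hmemB : ∀ y, y ∈ B ↔ y ∈ D ∧ y ∈ S ∧ g * au ι y * g⁻¹ ∈ ι.range := by
      intro y
      rw [hB, Subgroup.mem_inf, mem_pre, Subgroup.mem_comap]
      simp [MulAut.conj_apply]
    set f : Ω → Ω := fun x => au (backHom ι hinj) (g * au ι x * g⁻¹) with hf
    have hBS : B ≤ S := fun y hy => ((hmemB y).1 hy).2.1
    have hmor : Mor F B f := by
      refine (realized_mor_iff hreal).2 ⟨hBS, fun y _ => au_backHom_mem ι hinj _, g, fun y hy => ?_⟩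
      exact au_au_back ι hinj ((hmemB y).1 hy).2.2
    have hdB : d ∈ B := (hmemB d).2 ⟨hdD, hdS, hgx⟩
    have h1 : f d ∈ D := by
      obtain ⟨φ, hφ, e⟩ := hmor
      have := hD.2 B inf_le_left φ hφ ⟨d, hdB⟩
      rw [e] at this
      exact this
    have h2 : au ι (f d) = g * au ι d * g⁻¹ := au_au_back ι hinj hgx
    rw [← h2]
    exact mem_img.2 ⟨f d, au_backHom_mem ι hinj _, h1, rfl⟩

end Model

end Cfsg.Agent.Helper85.KLD
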