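import Mathlib
import Cfsg.Agent.Lib.Helper85.KLD1

set_option autoImplicit false

/-! # Characteristic functors applied to a strongly closed subgroup: the case of a model, and the first reduction step -/

namespace Cfsg.Agent.Helper85.KLD

open Cfsg Cfsg.FusionSystem Cfsg.Agent.Helper87 Cfsg.Agent.Helper85.KL

universe u

variable {Ω : Type u} [Group Ω] {S : Subgroup Ω} {p : ℕ} {W : ∀ (Q : Type u) [Group Q], Subgroup Q}

/-- a characteristic `p`-functor with a normal `p`-complement criterion relative to strongly closed subgroups -/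
structure HypD (p : ℕ) (W : ∀ (Q : Type u) [Group Q], Subgroup Q) : Prop where
  base : Hyp p W
  critD : ∀ (G : Type u) [Group G] [Finite G] (P : Sylow p G) (D : Subgroup G),
    IsStronglyClosed D (P : Subgroup G) →
    Subgroup.centralizer ((pCore p G : Subgroup G) : Set G) ≤ pCore p G →
    HasNormalPComplement p ↥(Subgroup.normalizer ((WS W D : Subgroup G) : Set G)) →
    HasNormalPComplement p G

/-- an isomorphism of the system from `D` onto `D` maps `W(D)` onto `W(D)` -/
theorem iso_WS (hW : Hyp p W) [Finite S] (hS : IsPGroup p S) {F : FusionSystem S} {D : Subgroup Ω}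
    {g : Ω → Ω} (h : Iso F D D g) : ∀ y, y ∈ WS W D ↔ ∃ x ∈ WS W D, g x = y := by
  have hDS := h.le_left
  haveI : Finite D := finite_of_le hDS
  have hDp : IsPGroup p D := hS.to_le hDS
  have e := hW.map_eq ↥D ↥D hDp h.equiv
  intro y
  constructor
  · rintro ⟨d, hd, rfl⟩
    rw [← e] at hd
    obtain ⟨c, hc, rfl⟩ := hd
    exact ⟨(c : Ω), ⟨c, hc, rfl⟩, (h.equiv_apply c).symm⟩
  · rintro ⟨_, ⟨c, hc, rfl⟩, rfl⟩
    refine ⟨h.equiv c, ?_, h.equiv_apply c⟩
    rw [← e]
    exact ⟨c, hc, rfl⟩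

section Model

variable {G : Type u} [Group G] {ι : S →* G}

/-- the image of `W(D)` is `W` of the image of `D` -/
theorem imageAlong_WS_sub (hW : Hyp p W) [Finite S] (hS : IsPGroup p S) (hinj : Function.Injective ι)
    {D : Subgroup Ω} (hDS : D ≤ S) : imageAlong ι (WS W D) = WS W (imageAlong ι D) := by
  haveI : Finite D := finite_of_le hDS
  have hDp : IsPGroup p D := hS.to_le hDS
  let e : ↥D ≃* ↥(imageAlong ι D) :=
    (Subgroup.subgroupOfEquivOfLe hDS).symm.trans ((D.subgroupOf S).equivMapOfInjective ι hinj)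
  have he : ∀ d : ↥D, ((e d : ↥(imageAlong ι D)) : G) = au ι (d : Ω) := by
    intro d
    rw [au_mem ι (hDS d.2)]
    rfl
  have hmap := hW.map_eq ↥D ↥(imageAlong ι D) hDp e
  ext z
  rw [mem_img]
  constructor
  · rintro ⟨x, hxS, ⟨d, hd, rfl⟩, rfl⟩
    refine ⟨e d, ?_, ?_⟩
    · rw [← hmap]; exact ⟨d, hd, rfl⟩
    · exact he d
  · rintro ⟨d', hd', rfl⟩
    rw [← hmap] at hd'
    obtain ⟨d, hd, rfl⟩ := hd'
    exact ⟨(d : Ω), hDS d.2, ⟨d, hd, rfl⟩, (he d).symm⟩

theorem pautM_of_modelD [Fact p.Prime] (hW : HypD p W) [Finite S] (hS : IsPGroup p S)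
    {F : FusionSystem S} (hG : F.IsModel p G ι) {D : Subgroup Ω} (hD : F.StronglyClosed D)
    {N : FusionSystem (normalizerIn S (WS W D))} (hN : F.IsNormalizerSystem (WS W D) N)
    (hp : PAutM N p) : PAutM F p := by
  obtain ⟨hfin, hreal, ⟨P, hP⟩, hcen⟩ := hG
  have hDS := hD.1
  haveI : Finite D := finite_of_le hDS
  have hDp : IsPGroup p D := hS.to_le hDS
  have hDn : S ≤ Subgroup.normalizer (D : Set Ω) := StronglyClosed.le_normalizer hD
  have hVn : S ≤ Subgroup.normalizer (WS W D : Set Ω) := hDn.trans (WS_normalizer' hW.base hDp)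
  have hloc := hnpc_normalizer_of_pautM hreal P hP (WS_le.trans hDS) hVn hN hp
  rw [imageAlong_WS_sub hW.base hS hreal.1 hDS] at hloc
  have hsc : IsStronglyClosed (imageAlong ι D) (P : Subgroup G) :=
    isStronglyClosed_imageAlong hreal hP hD
  have hnpc := hW.critD G P _ hsc hcen hloc
  exact pautM_of_isPGroup hreal (Cfsg.Agent.Helper31.GTG.isPGroup_of_hnpc_of_constrained hcen hnpc)

end Model

/-- first case of the reduction, for an arbitrary nontrivial subgroup `R` of `N_S(Q)` normalized by `N_S(N_S(Q))` -/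
theorem pautM_case1_gen [Fact p.Prime] [Finite S] (hS : IsPGroup p S) {F : FusionSystem S}
    (hF : F.IsSaturated p) {Q : Subgroup Ω} {NQ : FusionSystem (normalizerIn S Q)}
    (hNQ : F.IsNormalizerSystem Q NQ) (hlt : normalizerIn S Q < S)
    {R : Subgroup Ω} (hRne : R ≠ ⊥) (hRT : R ≤ normalizerIn S Q)
    (h2 : normalizerIn S (normalizerIn S Q) ≤ normalizerIn S R)
    (hgood : ∀ R' : Subgroup Ω, F.IsFullyNormalized R' → R' ≠ ⊥ →
      Nat.card (normalizerIn S Q) < Nat.card (normalizerIn S R') →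
      ∀ N' : FusionSystem (normalizerIn S R'), F.IsNormalizerSystem R' N' → PAutM N' p)
    {NR : FusionSystem (normalizerIn (normalizerIn S Q) R)}
    (hNR : NQ.IsNormalizerSystem R NR) : PAutM NR p := by
  have hTS : normalizerIn S Q ≤ S := inf_le_left
  haveI : Finite (normalizerIn S Q) := finite_of_le hTS
  have hRS : R ≤ S := hRT.trans hTS
  have h1 : normalizerIn S Q < normalizerIn S (normalizerIn S Q) :=
    Cfsg.Agent.Helper84.lt_normalizerIn hS hlt
  haveI : Finite (normalizerIn S R) := finite_of_le inf_le_left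
  have hcard : Nat.card (normalizerIn S Q) < Nat.card (normalizerIn S R) :=
    card_lt_of_lt' (lt_of_lt_of_le h1 h2)
  obtain ⟨R', hconj, hfn⟩ := Cfsg.Agent.Helper87.exists_fullyNormalized_conj F hRS
  obtain ⟨φ, hφ, hφR⟩ := exists_map_normalizer_to_fullyNormalized hS hF hfn hconj
  have hR'ne : R' ≠ ⊥ := ne_bot_of_iso hφR hRne
  have hcard' : Nat.card (normalizerIn S Q) < Nat.card (normalizerIn S R') :=
    lt_of_lt_of_le hcard (hfn.2 _ (isConj_symm hconj))
  obtain ⟨N', hN'⟩ := Cfsg.Agent.S5096.result F R' hfn.1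
  have hpN' : PAutM N' p := hgood R' hfn hR'ne hcard' N' hN'
  intro A f hf
  obtain ⟨g, hg, hgf, hgR⟩ := exists_ext_of_iso_normalizer hNR hf
  have hgF : Iso F (A ⊔ R) (A ⊔ R) g := ⟨mor_of_mor_normalizer hNQ _ _ hg.1, hg.2⟩
  have hAle : A ≤ normalizerIn (normalizerIn S Q) R := hf.le_left
  have hle : A ⊔ R ≤ normalizerIn S R :=
    sup_le (fun x hx => ⟨hTS (hAle hx).1, (hAle hx).2⟩)
      (fun x hx => ⟨hRS hx, Subgroup.le_normalizer hx⟩)
  obtain ⟨k, hk⟩ := paut_transport hφ hφR hN' hpN' le_sup_right hle hgF hgR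
  refine ⟨k, fun x hx => ?_⟩
  have h3 := iterate_congr (P := A) (f := f) (g := g) (fun x hx => hf.map_mem hx) hgf (p ^ k) hx
  rw [← h3.1]
  exact hk x ((le_sup_left : A ≤ A ⊔ R) hx)

end Cfsg.Agent.Helper85.KLD
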