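import Mathlib
import Cfsg.Agent.Lib.Helper85.KLD2
import Cfsg.Agent.Lib.Helper85.DirProd2
import Cfsg.Agent.Lib.Helper85.Solvable2
import Cfsg.Agent.Lib.Helper87.FusionNormal

set_option autoImplicit false

/-! # Second case of the reduction relative to a strongly closed subgroup -/

namespace Cfsg.Agent.Helper85.KLD

open Cfsg Cfsg.FusionSystem Cfsg.Agent.Helper87 Cfsg.Agent.Helper85.KL

universe u

variable {Ω : Type u} [Group Ω] {S : Subgroup Ω} {p : ℕ} {W : ∀ (Q : Type u) [Group Q], Subgroup Q}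

/-- an extension of an automorphism of `P` to `P ⊔ Q` mapping `Q` onto `Q` is an automorphism of `P ⊔ Q` -/
theorem iso_sup_of_ext [Finite S] {F : FusionSystem S} {P Q : Subgroup Ω} {f g : Ω → Ω}
    (hf : Iso F P P f) (hg : Mor F (P ⊔ Q) g) (hgf : ∀ x ∈ P, g x = f x)
    (hgQ : ∀ y, y ∈ Q ↔ ∃ x ∈ Q, g x = y) : Iso F (P ⊔ Q) (P ⊔ Q) g := by
  have hiso := Iso.of_mor hg
  have hle : P ⊔ Q ≤ hg.image := by
    apply sup_le
    · intro y hy
      obtain ⟨x, hx, rfl⟩ := hf.surj hy
      exact ⟨x, (le_sup_left : P ≤ P ⊔ Q) hx, hgf x hx⟩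
    · intro y hy
      obtain ⟨x, hx, rfl⟩ := (hgQ y).1 hy
      exact ⟨x, (le_sup_right : Q ≤ P ⊔ Q) hx, rfl⟩
  have hcard := hiso.card_eq
  haveI : Finite hg.image := Finite.of_injective (Subgroup.inclusion hg.image_le)
    (Subgroup.inclusion_injective _)
  have heq : P ⊔ Q = hg.image := Subgroup.eq_of_le_of_card_ge hle (le_of_eq hcard.symm)
  rw [← heq] at hiso
  exact hiso

/-- a subgroup of `N_S(Q)` strongly closed in `F` is strongly closed in `N_F(Q)` -/
theorem stronglyClosed_normalizerSystem {F : FusionSystem S} {Q : Subgroup Ω}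
    {NQ : FusionSystem (normalizerIn S Q)} (hNQ : F.IsNormalizerSystem Q NQ) {D : Subgroup Ω}
    (hD : F.StronglyClosed D) : NQ.StronglyClosed (D ⊓ normalizerIn S Q) := by
  refine ⟨inf_le_right, fun R hR φ hφ x => ⟨?_, (NQ.le_of_mem hφ).2 x⟩⟩
  have hφF : φ ∈ F.Hom R := by
    have := hφ
    rw [hNQ R] at this
    exact this.1
  exact hD.2 R (hR.trans inf_le_left) φ hφF x

/-- second case of the reduction relative to a strongly closed subgroup: `Q` is normal in `S` -/
theorem pautM_case2D [Fact p.Prime] (hW : HypD p W) [Finite S] (hS : IsPGroup p S) {F : FusionSystem S}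
    (hF : F.IsSaturated p) {Q : Subgroup Ω} (hQ : F.IsFullyNormalized Q)
    {NQ : FusionSystem (normalizerIn S Q)} (hNQ : F.IsNormalizerSystem Q NQ) (hQne : Q ≠ ⊥)
    (hTS : normalizerIn S Q = S) {D : Subgroup Ω} (hD : F.StronglyClosed D)
    (ih : ∀ (Ω' : Type u) [Group Ω'] (S' : Subgroup Ω') [Finite S'], Nat.card S' < Nat.card S →
      IsPGroup p S' → ∀ F' : FusionSystem S', F'.IsSaturated p →
      ∀ D' : Subgroup Ω', F'.StronglyClosed D' →
      ∀ N' : FusionSystem (normalizerIn S' (WS W D')), F'.IsNormalizerSystem (WS W D') N' →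
      PAutM N' p → PAutM F' p)
    (hgood : ∀ V : Subgroup Ω, V ≤ S → S ≤ Subgroup.normalizer (V : Set Ω) → Nat.card Q < Nat.card V →
      ∀ N' : FusionSystem (normalizerIn S V), F.IsNormalizerSystem V N' → PAutM N' p)
    {N : FusionSystem (normalizerIn S (WS W D))} (hN : F.IsNormalizerSystem (WS W D) N)
    (hp : PAutM N p) : PAutM NQ p := by
  have hTle : normalizerIn S Q ≤ S := inf_le_left
  haveI : Finite (normalizerIn S Q) := finite_of_le hTle
  have hTp : IsPGroup p (normalizerIn S Q) := hS.to_le hTle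
  have hDS : D ≤ S := hD.1
  haveI : Finite D := finite_of_le hDS
  have hDp : IsPGroup p D := hS.to_le hDS
  have hDn : S ≤ Subgroup.normalizer (D : Set Ω) := StronglyClosed.le_normalizer hD
  have hWn : S ≤ Subgroup.normalizer (WS W D : Set Ω) := hDn.trans (WS_normalizer' hW.base hDp)
  have hDT : D ≤ normalizerIn S Q := by rw [hTS]; exact hDS
  have hDsc : NQ.StronglyClosed D := by
    have := stronglyClosed_normalizerSystem hNQ hD
    rwa [inf_eq_left.2 hDT] at this
  have hsat : NQ.IsSaturated p := Cfsg.Agent.S5098.result p hS F hF Q hQ NQ hNQ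
  have hQn : NQ.IsNormal Q := normalizerSystem_isNormal hQ.1 hNQ
  have hQ₁n : NQ.IsNormal NQ.core := isNormal_core NQ
  have hQQ₁ : Q ≤ NQ.core := le_sSup hQn
  have hsc : NQ.StronglyClosed NQ.core := Cfsg.Agent.Helper84.stronglyClosed_of_normal NQ hQ₁n
  by_cases hDQ : D ≤ NQ.core
  · -- `D` is contained in the largest normal subgroup: every automorphism extends to one normalizing `W(D)`
    intro P f hf
    obtain ⟨g, hg, hgf, hgQ⟩ := (isNormal_iff.1 hQ₁n).2 P f hf.1
    have hgiso : Iso NQ (P ⊔ NQ.core) (P ⊔ NQ.core) g := iso_sup_of_ext hf hg hgf hgQ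
    have hgF : Iso F (P ⊔ NQ.core) (P ⊔ NQ.core) g := ⟨mor_of_mor_normalizer hNQ _ _ hgiso.1, hgiso.2⟩
    have hDA : D ≤ P ⊔ NQ.core := hDQ.trans le_sup_right
    have hgD := surj_on_stronglyClosed hD hgF.1 hDA
    have hisoD : Iso F D D g :=
      ⟨hgF.1.restrict hDA, fun y => ⟨fun hy => hgD.2 y hy, by rintro ⟨x, hx, rfl⟩; exact hgD.1 x hx⟩⟩
    have hgW := iso_WS hW.base hS hisoD
    have hAS : P ⊔ NQ.core ≤ S := hgF.le_left
    have hisoN : Iso N (P ⊔ NQ.core) (P ⊔ NQ.core) g :=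
      iso_normalizer_of_iso hN hgF (WS_le.trans hDA) (fun x hx => ⟨hAS hx, hWn (hAS hx)⟩) hgW
    obtain ⟨k, hk⟩ := hp _ g hisoN
    refine ⟨k, fun x hx => ?_⟩
    have h3 := iterate_congr (P := P) (f := f) (g := g) (fun x hx => hf.map_mem hx) hgf (p ^ k) hx
    rw [← h3.1]
    exact hk x ((le_sup_left : P ≤ P ⊔ NQ.core) hx)
  -- otherwise pass to the factor system modulo the largest normal subgroup
  haveI hnorm : (NQ.core.subgroupOf (normalizerIn S Q)).Normal := normal_subgroupOf_of_stronglyClosed hsc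
  obtain ⟨E, hE⟩ := Cfsg.Agent.S5132.result p hTp NQ NQ.core hsc
  haveI hfinE : Finite (⊤ : Subgroup (↥(normalizerIn S Q) ⧸ NQ.core.subgroupOf (normalizerIn S Q))) :=
    Cfsg.Agent.Helper87.factor_finite hE
  have hEp : IsPGroup p (⊤ : Subgroup (↥(normalizerIn S Q) ⧸ NQ.core.subgroupOf (normalizerIn S Q))) :=
    factor_isPGroup hTp hE
  have hEsat : E.IsSaturated p := factor_saturated hTp hsat hsc hE
  have hsurj := factor_surjectiveMorphism hTp hsat hsc hE
  have hker : kerOf (QuotientGroup.mk' (NQ.core.subgroupOf (normalizerIn S Q))) = NQ.core :=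
    kerOf_eq_of_factor hE
  have hcard : Nat.card (⊤ : Subgroup (↥(normalizerIn S Q) ⧸ NQ.core.subgroupOf (normalizerIn S Q)))
      < Nat.card S := by
    have hcS : Nat.card (normalizerIn S Q) = Nat.card S := by rw [hTS]
    rw [Subgroup.card_top, ← hcS]
    have h1 := Subgroup.card_eq_card_quotient_mul_card_subgroup (NQ.core.subgroupOf (normalizerIn S Q))
    have h2 : 1 < Nat.card (NQ.core.subgroupOf (normalizerIn S Q)) := by
      rw [Subgroup.one_lt_card_iff_ne_bot]
      intro hbot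
      apply hQne
      rw [eq_bot_iff]
      intro x hx
      have hxT : x ∈ normalizerIn S Q := ⟨hQ.1 hx, Subgroup.le_normalizer hx⟩
      have : (⟨x, hxT⟩ : normalizerIn S Q) ∈ NQ.core.subgroupOf (normalizerIn S Q) :=
        Subgroup.mem_subgroupOf.2 (hQQ₁ hx)
      rw [hbot, Subgroup.mem_bot] at this
      exact Subgroup.mem_bot.2 (congrArg Subtype.val this)
    have h3 : 0 < Nat.card (↥(normalizerIn S Q) ⧸ NQ.core.subgroupOf (normalizerIn S Q)) :=
      Nat.card_pos
    nlinarith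
  -- the image of `D` in the quotient
  have hU : NQ.StronglyClosed (D ⊔ NQ.core) := Cfsg.Agent.S5128.result p hTp NQ hsat D NQ.core hDsc hsc
  have hDb : E.StronglyClosed (imageAlong (QuotientGroup.mk' (NQ.core.subgroupOf (normalizerIn S Q)))
      (D ⊔ NQ.core)) := stronglyClosed_image hsurj hU ((le_of_eq hker).trans le_sup_right)
  have hDbne : imageAlong (QuotientGroup.mk' (NQ.core.subgroupOf (normalizerIn S Q))) (D ⊔ NQ.core) ≠ ⊥ := by
    intro hbot
    apply hDQ
    intro d hd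
    have h1 : au (QuotientGroup.mk' (NQ.core.subgroupOf (normalizerIn S Q))) d ∈
        imageAlong (QuotientGroup.mk' (NQ.core.subgroupOf (normalizerIn S Q))) (D ⊔ NQ.core) :=
      mem_img.2 ⟨d, hDT hd, (le_sup_left : D ≤ D ⊔ NQ.core) hd, rfl⟩
    rw [hbot, Subgroup.mem_bot] at h1
    have : d ∈ kerOf (QuotientGroup.mk' (NQ.core.subgroupOf (normalizerIn S Q))) :=
      mem_kerOf.2 ⟨hDT hd, h1⟩
    rwa [hker] at this
  set Db := imageAlong (QuotientGroup.mk' (NQ.core.subgroupOf (normalizerIn S Q))) (D ⊔ NQ.core) with hDbdef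
  haveI : Finite Db := finite_of_le hDb.1
  have hDbp : IsPGroup p Db := hEp.to_le hDb.1
  have hVb : WS W Db ≠ ⊥ := WS_ne_bot hW.base hDbp hDbne
  have hVbn : (⊤ : Subgroup (↥(normalizerIn S Q) ⧸ NQ.core.subgroupOf (normalizerIn S Q)))
      ≤ Subgroup.normalizer (WS W Db : Set _) :=
    (StronglyClosed.le_normalizer hDb).trans (WS_normalizer' hW.base hDbp)
  have hpE : PAutM E p := by
    obtain ⟨Nb, hNb⟩ := Cfsg.Agent.S5096.result E (WS W Db) (WS_le.trans hDb.1)
    apply ih _ ⊤ hcard hEp E hEsat Db hDb Nb hNb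
    have hVT : preimageAlong (QuotientGroup.mk' (NQ.core.subgroupOf (normalizerIn S Q))) (WS W Db)
        ≤ normalizerIn S Q := preimageAlong_le' _ _
    obtain ⟨NV, hNV⟩ := Cfsg.Agent.S5096.result NQ _ hVT
    have hVn : normalizerIn S Q ≤ Subgroup.normalizer
        (preimageAlong (QuotientGroup.mk' (NQ.core.subgroupOf (normalizerIn S Q))) (WS W Db) : Set Ω) :=
      le_normalizer_preimageAlong (fun s => hVbn (Subgroup.mem_top _))
    apply pautM_quotient hE hNb hNV hVn
    obtain ⟨NV', hNV'⟩ := Cfsg.Agent.S5096.result F _ (hVT.trans hTle)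
    have hlt : Nat.card Q < Nat.card (preimageAlong (QuotientGroup.mk' (NQ.core.subgroupOf (normalizerIn S Q)))
        (WS W Db)) := by
      haveI : Finite (preimageAlong (QuotientGroup.mk' (NQ.core.subgroupOf (normalizerIn S Q)))
        (WS W Db)) := finite_of_le (hVT.trans hTle)
      apply card_lt_of_lt'
      have hle : NQ.core ≤ preimageAlong (QuotientGroup.mk' (NQ.core.subgroupOf (normalizerIn S Q)))
          (WS W Db) := by
        intro x hx
        have hxT : x ∈ normalizerIn S Q := hQ₁n.1 hx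
        refine mem_pre.2 ⟨hxT, ?_⟩
        rw [au_mem _ hxT, (hE.2.1 ⟨x, hxT⟩).2 hx]
        exact Subgroup.one_mem _
      refine lt_of_le_of_ne (hQQ₁.trans hle) ?_
      intro heq
      apply hVb
      rw [eq_bot_iff]
      intro y hy
      obtain ⟨t, rfl⟩ := QuotientGroup.mk'_surjective (NQ.core.subgroupOf (normalizerIn S Q)) y
      have ht : (t : Ω) ∈ preimageAlong (QuotientGroup.mk' (NQ.core.subgroupOf (normalizerIn S Q)))
          (WS W Db) := by
        refine mem_pre.2 ⟨t.2, ?_⟩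
        rw [au_mem _ t.2]
        exact hy
      rw [← heq] at ht
      exact Subgroup.mem_bot.2 ((hE.2.1 t).2 (hQQ₁ ht))
    have hpV' : PAutM NV' p := hgood _ (hVT.trans hTle) ((le_of_eq hTS.symm).trans hVn) hlt NV' hNV'
    exact hpV'.mono (mor_normalizer_mono hTle (mor_of_mor_normalizer hNQ) hNV hNV')
  have hcon : NQ.IsConstrained p := constrained_of_pautM_factor hTp hsat hE hpE
  obtain ⟨G, _, ι, hG⟩ := Cfsg.Agent.S5090.result p hTp NQ hcon
  obtain ⟨N₁, hN₁⟩ := Cfsg.Agent.S5096.result NQ (WS W D) (WS_le.trans hDT)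
  apply pautM_of_modelD hW hTp hG hDsc hN₁
  exact hp.mono (mor_normalizer_mono hTle (mor_of_mor_normalizer hNQ) hN₁ hN)

end Cfsg.Agent.Helper85.KLD
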