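import Mathlib
import Cfsg.Agent.Lib.Helper85.KLD3
import Cfsg.Agent.Lib.Helper54.PConstrainedLocal

set_option autoImplicit false

/-! # The reduction relative to a strongly closed subgroup: main theorem -/

namespace Cfsg.Agent.Helper85.KLD

open Cfsg Cfsg.FusionSystem Cfsg.Agent.Helper87 Cfsg.Agent.Helper85.KL

universe u

variable {p : ℕ} {W : ∀ (Q : Type u) [Group Q], Subgroup Q}

theorem mem_normalizer_inf {G : Type*} [Group G] {X Y : Subgroup G} {g : G}
    (hX : g ∈ Subgroup.normalizer (X : Set G)) (hY : g ∈ Subgroup.normalizer (Y : Set G)) :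
    g ∈ Subgroup.normalizer ((X ⊓ Y : Subgroup G) : Set G) := by
  rw [Subgroup.mem_normalizer_iff] at hX hY ⊢
  intro h
  rw [Subgroup.mem_inf, Subgroup.mem_inf, ← hX h, ← hY h]

/-- a nontrivial normal subgroup of a finite `p`-group `S` meets the centre of `S` -/
theorem exists_central_mem {Ω : Type u} [Group Ω] {S : Subgroup Ω} [Fact p.Prime] [Finite S]
    (hS : IsPGroup p S) {D : Subgroup Ω} (hDS : D ≤ S) (hDn : S ≤ Subgroup.normalizer (D : Set Ω))
    (hD : D ≠ ⊥) : ∃ x ∈ D, x ≠ 1 ∧ ∀ s ∈ S, s * x = x * s := by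
  haveI : Group.IsNilpotent S := hS.isNilpotent
  haveI : (D.subgroupOf S).Normal := by
    rw [← Subgroup.normalizer_eq_top_iff]
    rw [eq_top_iff]
    intro s _
    rw [Subgroup.mem_normalizer_iff]
    intro h
    rw [Subgroup.mem_subgroupOf, Subgroup.mem_subgroupOf]
    exact Subgroup.mem_normalizer_iff.1 (hDn s.2) h
  have hne : D.subgroupOf S ≠ ⊥ := by
    intro h
    apply hD
    rw [eq_bot_iff]
    intro x hx
    have : (⟨x, hDS hx⟩ : S) ∈ D.subgroupOf S := Subgroup.mem_subgroupOf.2 hx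
    rw [h, Subgroup.mem_bot] at this
    exact Subgroup.mem_bot.2 (congrArg Subtype.val this)
  have h1 := Cfsg.Agent.Helper54.normal_inf_center_ne_bot (D.subgroupOf S) hne
  obtain ⟨x, hx1⟩ := (Subgroup.ne_bot_iff_exists_ne_one).1 h1
  have hxm : (x : S) ∈ D.subgroupOf S ⊓ Subgroup.center S := x.2
  refine ⟨((x : S) : Ω), Subgroup.mem_subgroupOf.1 hxm.1, ?_, fun s hs => ?_⟩
  · intro h
    apply hx1
    apply Subtype.ext
    apply Subtype.ext
    exact h
  · have := Subgroup.mem_center_iff.1 hxm.2 ⟨s, hs⟩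
    exact congrArg Subtype.val this

/-- main theorem relative to a strongly closed subgroup, in terms of automorphisms of `p`-power order -/
theorem pautM_mainD [Fact p.Prime] (hW : HypD p W) : ∀ n : ℕ, ∀ (Ω : Type u) [Group Ω] (S : Subgroup Ω)
    [Finite S], Nat.card S = n → IsPGroup p S → ∀ F : FusionSystem S, F.IsSaturated p →
    ∀ D : Subgroup Ω, F.StronglyClosed D →
    ∀ N : FusionSystem (normalizerIn S (WS W D)), F.IsNormalizerSystem (WS W D) N → PAutM N p →
    PAutM F p := by
  intro n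
  induction n using Nat.strong_induction_on with
  | _ n ih =>
  intro Ω _ S _ hn hS F hF D hD N hN hp
  subst hn
  have hDS : D ≤ S := hD.1
  have hDn : S ≤ Subgroup.normalizer (D : Set Ω) := StronglyClosed.le_normalizer hD
  by_cases hDbot : D = ⊥
  · -- then the normalizer system is the whole system
    have hbot : WS W D = ⊥ := by
      rw [eq_bot_iff]
      exact WS_le.trans (le_of_eq hDbot)
    intro P f hf
    have hPS := hf.le_left
    refine hp P f (iso_normalizer_of_iso hN hf ?_ ?_ ?_)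
    · rw [hbot]; exact bot_le
    · intro x hx
      refine ⟨hPS hx, ?_⟩
      rw [hbot]
      refine Subgroup.mem_normalizer_iff.2 (fun h => ?_)
      simp [Subgroup.mem_bot]
    · intro y
      rw [hbot]
      constructor
      · intro hy
        rw [Subgroup.mem_bot] at hy
        exact ⟨1, Subgroup.one_mem _, by rw [hy, hf.1.map_one]⟩
      · rintro ⟨x, hx, rfl⟩
        rw [Subgroup.mem_bot] at hx
        rw [hx, hf.1.map_one]
        exact Subgroup.one_mem _
  apply pautM_of_good hS hF
  by_contra hbad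
  push Not at hbad
  obtain ⟨Q₀, hQ₀fn, hQ₀ne, NQ₀, hNQ₀, hnp₀⟩ := hbad
  let m : Subgroup Ω → ℕ := fun Q => Nat.card (normalizerIn S Q) * (Nat.card S + 1) + Nat.card Q
  let Bad : Subgroup Ω → Prop := fun Q => F.IsFullyNormalized Q ∧ Q ≠ ⊥ ∧
    ∃ NQ : FusionSystem (normalizerIn S Q), F.IsNormalizerSystem Q NQ ∧ ¬ PAutM NQ p
  have hbound : ∀ Q : Subgroup Ω, Q ≤ S → m Q ≤ Nat.card S * (Nat.card S + 1) + Nat.card S := by
    intro Q hQ
    have h1 : Nat.card (normalizerIn S Q) ≤ Nat.card S :=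
      Subgroup.card_le_of_le (inf_le_left : normalizerIn S Q ≤ S)
    have h2 : Nat.card Q ≤ Nat.card S := Subgroup.card_le_of_le hQ
    exact Nat.add_le_add (Nat.mul_le_mul_right _ h1) h2
  obtain ⟨Q, hQbad, hmax⟩ : ∃ Q, Bad Q ∧ ∀ Q', Bad Q' → m Q' ≤ m Q := by
    classical
    have hex : ∃ k, ∃ Q, Bad Q ∧ Nat.card S * (Nat.card S + 1) + Nat.card S - m Q = k :=
      ⟨_, Q₀, ⟨hQ₀fn, hQ₀ne, NQ₀, hNQ₀, hnp₀⟩, rfl⟩
    obtain ⟨Q, hQbad, hk⟩ := Nat.find_spec hex
    refine ⟨Q, hQbad, fun Q' hQ' => ?_⟩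
    have h1 : Nat.find hex ≤ Nat.card S * (Nat.card S + 1) + Nat.card S - m Q' :=
      Nat.find_min' hex ⟨Q', hQ', rfl⟩
    have h2 := hbound Q' hQ'.1.1
    have h3 := hbound Q hQbad.1.1
    omega
  obtain ⟨hQfn, hQne, NQ, hNQ, hnp⟩ := hQbad
  apply hnp
  have hgood : ∀ Q' : Subgroup Ω, F.IsFullyNormalized Q' → Q' ≠ ⊥ → m Q < m Q' →
      ∀ N' : FusionSystem (normalizerIn S Q'), F.IsNormalizerSystem Q' N' → PAutM N' p := by
    intro Q' h1 h2 h3 N' hN'
    by_contra h4
    exact absurd (hmax Q' ⟨h1, h2, N', hN', h4⟩) (not_le.2 h3)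
  have hQcard : Nat.card Q ≤ Nat.card S := Subgroup.card_le_of_le hQfn.1
  by_cases hTS : normalizerIn S Q = S
  · refine pautM_case2D hW hS hF hQfn hNQ hQne hTS hD
      (fun Ω' _ S' _ hlt hS' F' hF' D' hD' N' hN' hp' =>
        ih _ hlt Ω' S' rfl hS' F' hF' D' hD' N' hN' hp') ?_ hN hp
    intro V hVS hVn hlt N' hN'
    have hVfn : F.IsFullyNormalized V := fullyNormalized_of_normal F hVS hVn
    have hVne : V ≠ ⊥ := by
      rintro rfl
      rw [Subgroup.card_bot] at hlt
      haveI : Finite Q := finite_of_le hQfn.1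
      have hpos : 0 < Nat.card Q := Nat.card_pos
      omega
    refine hgood V hVfn hVne ?_ N' hN'
    have e : normalizerIn S V = S := inf_eq_left.2 hVn
    show Nat.card (normalizerIn S Q) * (Nat.card S + 1) + Nat.card Q
      < Nat.card (normalizerIn S V) * (Nat.card S + 1) + Nat.card V
    have e1 : Nat.card (normalizerIn S V) = Nat.card S := by rw [e]
    have e2 : Nat.card (normalizerIn S Q) = Nat.card S := by rw [hTS]
    rw [e1, e2]
    omega
  · have hTle : normalizerIn S Q ≤ S := inf_le_left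
    have hlt : normalizerIn S Q < S := lt_of_le_of_ne hTle hTS
    haveI : Finite (normalizerIn S Q) := finite_of_le hTle
    have hTp : IsPGroup p (normalizerIn S Q) := hS.to_le hTle
    have hsat : NQ.IsSaturated p := Cfsg.Agent.S5098.result p hS F hF Q hQfn NQ hNQ
    have hDTsc : NQ.StronglyClosed (D ⊓ normalizerIn S Q) := stronglyClosed_normalizerSystem hNQ hD
    have hDTle : D ⊓ normalizerIn S Q ≤ normalizerIn S Q := inf_le_right
    haveI : Finite (D ⊓ normalizerIn S Q : Subgroup Ω) := finite_of_le (hDTle.trans hTle)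
    have hDTp : IsPGroup p (D ⊓ normalizerIn S Q : Subgroup Ω) := hS.to_le (hDTle.trans hTle)
    have hDTne : D ⊓ normalizerIn S Q ≠ ⊥ := by
      obtain ⟨x, hxD, hx1, hxc⟩ := exists_central_mem hS hDS hDn hDbot
      intro h
      apply hx1
      have hxT : x ∈ normalizerIn S Q := by
        refine ⟨hDS hxD, Subgroup.mem_normalizer_iff.2 (fun q => ?_)⟩
        constructor
        · intro hq
          have : x * q * x⁻¹ = q := by
            rw [← hxc q (hQfn.1 hq)]; group
          rwa [this]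
        · intro hq
          have hqS : x * q * x⁻¹ ∈ S := hQfn.1 hq
          have hqS' : q ∈ S := by
            have := S.mul_mem (S.mul_mem (S.inv_mem (hDS hxD)) hqS) (hDS hxD)
            have e : x⁻¹ * (x * q * x⁻¹) * x = q := by group
            rwa [e] at this
          have : x * q * x⁻¹ = q := by
            rw [← hxc q hqS']; group
          rwa [this] at hq
      have : x ∈ D ⊓ normalizerIn S Q := ⟨hxD, hxT⟩
      rw [h] at this
      exact Subgroup.mem_bot.1 this
    have hRne : WS W (D ⊓ normalizerIn S Q) ≠ ⊥ := WS_ne_bot hW.base hDTp hDTne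
    have hRT : WS W (D ⊓ normalizerIn S Q) ≤ normalizerIn S Q := WS_le.trans hDTle
    have h2 : normalizerIn S (normalizerIn S Q) ≤ normalizerIn S (WS W (D ⊓ normalizerIn S Q)) := by
      intro x hx
      refine ⟨hx.1, WS_normalizer' hW.base hDTp (mem_normalizer_inf (hDn hx.1) hx.2)⟩
    obtain ⟨NR, hNR⟩ := Cfsg.Agent.S5096.result NQ (WS W (D ⊓ normalizerIn S Q)) hRT
    have hpNR : PAutM NR p := by
      refine pautM_case1_gen hS hF hNQ hlt hRne hRT h2 ?_ hNR
      intro R' hR'fn hR'ne hcard N' hN'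
      refine hgood R' hR'fn hR'ne ?_ N' hN'
      show Nat.card (normalizerIn S Q) * (Nat.card S + 1) + Nat.card Q
        < Nat.card (normalizerIn S R') * (Nat.card S + 1) + Nat.card R'
      have h1 : (Nat.card (normalizerIn S Q) + 1) * (Nat.card S + 1)
          ≤ Nat.card (normalizerIn S R') * (Nat.card S + 1) := Nat.mul_le_mul_right _ hcard
      have h2 : (Nat.card (normalizerIn S Q) + 1) * (Nat.card S + 1)
          = Nat.card (normalizerIn S Q) * (Nat.card S + 1) + (Nat.card S + 1) := by ring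
      omega
    exact ih (Nat.card (normalizerIn S Q)) (card_lt_of_lt' hlt) Ω (normalizerIn S Q) rfl hTp NQ hsat
      (D ⊓ normalizerIn S Q) hDTsc NR hNR hpNR

variable {Ω : Type u} [Group Ω] {S : Subgroup Ω}

/-- **Kessar–Linckelmann relative to a strongly closed subgroup `D`** -/
theorem inner_iff_normalizer_innerD [Fact p.Prime] (hW : HypD p W) [Finite S] (hS : IsPGroup p S)
    (F : FusionSystem S) (hF : F.IsSaturated p) {D : Subgroup Ω} (hD : F.StronglyClosed D) :
    (∀ P : Subgroup Ω, F.Hom P = (innerFusionSystem S).Hom P) ↔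
    ∀ N : FusionSystem (normalizerIn S (WS W D)), F.IsNormalizerSystem (WS W D) N →
      ∀ P : Subgroup Ω, N.Hom P = (innerFusionSystem (normalizerIn S (WS W D))).Hom P := by
  have hTle : normalizerIn S (WS W D) ≤ S := inf_le_left
  haveI : Finite (normalizerIn S (WS W D)) := finite_of_le hTle
  have hTp : IsPGroup p (normalizerIn S (WS W D)) := hS.to_le hTle
  have hDS : D ≤ S := hD.1
  haveI : Finite D := finite_of_le hDS
  have hDp : IsPGroup p D := hS.to_le hDS
  have hDn : S ≤ Subgroup.normalizer (D : Set Ω) := StronglyClosed.le_normalizer hD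
  have hWn : S ≤ Subgroup.normalizer (WS W D : Set Ω) := hDn.trans (WS_normalizer' hW.base hDp)
  constructor
  · intro h N hN
    have hfn : F.IsFullyNormalized (WS W D) := fullyNormalized_of_normal F (WS_le.trans hDS) hWn
    have hsat : N.IsSaturated p := Cfsg.Agent.S5098.result p hS F hF _ hfn N hN
    have hpF : PAutM F p := pautM_of_inner hS h
    have hpN : PAutM N p := hpF.mono (mor_of_mor_normalizer hN)
    exact Cfsg.Agent.Helper86.hom_eq_inner_of_isPGroup_autGroup hTp N hsat
      (fun P hP => hpN.isPGroup hP)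
  · intro h
    obtain ⟨N, hN⟩ := Cfsg.Agent.S5096.result F (WS W D) (WS_le.trans hDS)
    have hpN : PAutM N p := pautM_of_inner hTp (h N hN)
    have hpF : PAutM F p := pautM_mainD hW _ Ω S rfl hS F hF D hD N hN hpN
    exact Cfsg.Agent.Helper86.hom_eq_inner_of_isPGroup_autGroup hS F hF (fun P hP => hpF.isPGroup hP)

end Cfsg.Agent.Helper85.KLD
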