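import Mathlib
import Cfsg.Agent.Lib.Helper85.KLD4
import Cfsg.Agent.Lib.Helper30.SectionFunctor
import Cfsg.Agent.Lib.Helper33.KInfB
import Cfsg.Agent.S1984
import Cfsg.Agent.S5197

set_option autoImplicit false

/-! # `K_∞` controls transfer at every Sylow subgroup, for `p ≥ 5`; systems whose top automizer is a `p`-group -/

namespace Cfsg.Agent.Helper85.FocK

open Cfsg Cfsg.FusionSystem Cfsg.Agent.Helper87 Cfsg.Agent.Helper85.KL

universe u

section Group

variable {G : Type u} [Group G] {p : ℕ} {W : ∀ (Q : Type u) [Group Q], Subgroup Q}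

/-- control of transfer, read at an arbitrary Sylow `p`-subgroup -/
theorem ct_at_sylow [Fact p.Prime] [Finite G] (hW : IsCharPFunctor.{u} p W)
    (h : ControlsTransferIn p (inducedFunctor (G := G) W) ⊤) (P : Sylow p G) :
    (P : Subgroup G) ⊓ commutator G = (P : Subgroup G) ⊓
      ⁅Subgroup.normalizer ((inducedFunctor W (P : Subgroup G) : Subgroup G) : Set G),
        Subgroup.normalizer ((inducedFunctor W (P : Subgroup G) : Subgroup G) : Set G)⁆ := by
  obtain ⟨T, hTp, hTidx, hT⟩ := (Cfsg.Agent.Helper30.controlsTransferIn_top_iff _).1 h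
  obtain ⟨g, hg⟩ := MulAction.exists_smul_eq G (hTp.toSylow hTidx) P
  have hPT : (P : Subgroup G) = T.map (MulAut.conj g).toMonoidHom := by
    rw [← hg, Sylow.coe_subgroup_smul, IsPGroup.toSylow_coe, Subgroup.pointwise_smul_def]
    rfl
  have hbij : Function.Bijective (MulAut.conj g).toMonoidHom := (MulAut.conj g).bijective
  haveI : Finite T := inferInstance
  have hWmap := Cfsg.Agent.Helper30.inducedFunctor_map_equiv W hW (MulAut.conj g) T hTp
  have hcomm : (commutator G).map (MulAut.conj g).toMonoidHom = commutator G := by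
    rw [commutator_def, Subgroup.map_commutator,
      ← MonoidHom.range_eq_map, MonoidHom.range_eq_top.2 hbij.2]
  rw [hPT, ← hWmap, ← Subgroup.map_normalizer_eq_of_bijective _ hbij, ← Subgroup.map_commutator,
    ← Subgroup.map_inf _ _ _ hbij.1, ← hT, Subgroup.map_inf _ _ _ hbij.1, hcomm]

/-- the local condition of the theorem on control of transfer, for `K_∞` and `p ≥ 5` -/
theorem hT_kInf [Fact p.Prime] (hp : 5 ≤ p) [Finite G] (P : Sylow p G) :
    Cfsg.pCore p G ⊓ commutator G = Cfsg.pCore p G ⊓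
      (commutator ↥(Subgroup.normalizer
        (((kInfLower ↥(P : Subgroup G)).map (P : Subgroup G).subtype : Subgroup G) : Set G))).map
        (Subgroup.normalizer
          (((kInfLower ↥(P : Subgroup G)).map (P : Subgroup G).subtype : Subgroup G) : Set G)).subtype := by
  have h1 := ct_at_sylow (Cfsg.Agent.Helper33.isCharPFunctor_kInfLower (p := p))
    (Cfsg.Agent.S1984.result (G := G) hp) P
  have hle : Cfsg.pCore p G ≤ (P : Subgroup G) := Cfsg.Agent.Helper11.ZJ.pCore_le_sylow' P
  rw [Subgroup.map_subtype_commutator]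
  have e1 : Cfsg.pCore p G ⊓ commutator G = Cfsg.pCore p G ⊓ ((P : Subgroup G) ⊓ commutator G) := by
    rw [← inf_assoc, inf_eq_left.2 hle]
  rw [e1, h1, ← inf_assoc, inf_eq_left.2 hle]
  rfl

end Group

variable {Ω : Type u} [Group Ω] {S : Subgroup Ω} {p : ℕ}

/-- the automorphisms of `S` in the system have `p`-power order -/
def TopP (F : FusionSystem S) (p : ℕ) : Prop :=
  ∀ f : Ω → Ω, Iso F S S f → ∃ k : ℕ, ∀ x ∈ S, f^[p ^ k] x = x

theorem topP_of_isPGroup {F : FusionSystem S} (h : IsPGroup p (F.autGroup S)) : TopP F p := by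
  intro f hf
  obtain ⟨k, hk⟩ := h ⟨hf.equiv, hf.equiv_mem_autGroup⟩
  have hk' : (hf.equiv : MulAut S) ^ p ^ k = 1 := by
    have := congrArg Subtype.val hk
    simpa using this
  refine ⟨k, fun x hx => ?_⟩
  have h1 := (iterate_congr (P := S) (f := f) (g := extAut (hf.equiv : MulAut S))
    (fun x hx => hf.map_mem hx) (fun x hx => extAut_equiv hf hx) (p ^ k) hx).1
  rw [← h1, extAut_iterate _ _ hx, hk', extAut_one hx]

end Cfsg.Agent.Helper85.FocK
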