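import Mathlib
import Cfsg.Agent.Lib.Helper85.FocK1
import Cfsg.Agent.Lib.Helper54.KInfCrit

set_option autoImplicit false

/-! # For `p ≥ 5`, a saturated fusion system on `S ≠ 1` whose automizer of `S` is a `p`-group has proper focal subgroup -/

namespace Cfsg.Agent.Helper85.FocK

open Cfsg Cfsg.FusionSystem Cfsg.Agent.Helper87 Cfsg.Agent.Helper85.KL Cfsg.Agent.Helper85.KLD
  Cfsg.Agent.Helper87.TrfFunctor
open scoped commutatorElement

universe u

variable {p : ℕ}

theorem commutator_lt_of_isPGroup [Fact p.Prime] {Ω : Type u} [Group Ω] {T : Subgroup Ω} [Finite T]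
    (hT : IsPGroup p T) (hne : T ≠ ⊥) : ⁅T, T⁆ < T := by
  haveI : Group.IsNilpotent T := hT.isNilpotent
  haveI : Nontrivial T := (Subgroup.nontrivial_iff_ne_bot _).2 hne
  have h1 := Group.IsSolvable.commutator_lt_top_of_nontrivial T
  rw [← Subgroup.map_subtype_commutator]
  have h2 : (commutator ↥T).map T.subtype < (⊤ : Subgroup ↥T).map T.subtype :=
    Subgroup.map_subtype_lt_map_subtype.2 h1
  rwa [← MonoidHom.range_eq_map, Subgroup.range_subtype] at h2

theorem focal_lt_main [Fact p.Prime] (hp : 5 ≤ p) : ∀ n : ℕ, ∀ (Ω : Type u) [Group Ω] (S : Subgroup Ω)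
    [Finite S], Nat.card S = n → IsPGroup p S → S ≠ ⊥ → ∀ F : FusionSystem S, F.IsSaturated p →
    TopP F p → ∃ D₀ : Subgroup Ω, D₀ < S ∧ F.focalSubgroup ≤ D₀ := by
  intro n
  induction n using Nat.strong_induction_on with
  | _ n ih =>
  intro Ω _ S _ hn hS hS1 F hF htop
  subst hn
  have hchar := Cfsg.Agent.Helper33.isCharPFunctor_kInfLower.{u} (p := p)
  have hKS : (kInfLower ↥S).map S.subtype ≤ S := by
    rintro _ ⟨x, -, rfl⟩; exact x.2
  haveI : Nontrivial S := (Subgroup.nontrivial_iff_ne_bot S).2 hS1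
  have hKne : (kInfLower ↥S).map S.subtype ≠ ⊥ := by
    intro h
    exact hchar.1 ↥S hS inferInstance
      ((Subgroup.map_eq_bot_iff_of_injective _ S.subtype_injective).1 h)
  haveI hKchar : (kInfLower ↥S).Characteristic := (Cfsg.Agent.Helper54.KInf.kInf_characteristic ↥S).1
  have hKn : S ≤ Subgroup.normalizer (((kInfLower ↥S).map S.subtype : Subgroup Ω) : Set Ω) :=
    Subgroup.le_normalizer.trans
      (Cfsg.Agent.Helper24.normalizer_le_normalizer_map_subtype_of_characteristic S (kInfLower ↥S))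
  obtain ⟨N₁, hN₁⟩ := Cfsg.Agent.S5096.result F ((kInfLower ↥S).map S.subtype) hKS
  have hfoc : N₁.focalSubgroup = F.focalSubgroup :=
    Cfsg.Agent.S5197.result kInfLower hchar.1 hchar.2 (fun G _ _ P _ => hT_kInf hp P) hS F hF N₁ hN₁
  have hTS : normalizerIn S ((kInfLower ↥S).map S.subtype) = S := inf_eq_left.2 hKn
  have hTle : normalizerIn S ((kInfLower ↥S).map S.subtype) ≤ S := inf_le_left
  haveI : Finite (normalizerIn S ((kInfLower ↥S).map S.subtype)) := finite_of_le hTle
  have hTp : IsPGroup p (normalizerIn S ((kInfLower ↥S).map S.subtype)) := hS.to_le hTle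
  have hsat₁ : N₁.IsSaturated p :=
    Cfsg.Agent.S5098.result p hS F hF _ (fullyNormalized_of_normal F hKS hKn) N₁ hN₁
  have hKn₁ : N₁.IsNormal ((kInfLower ↥S).map S.subtype) := normalizerSystem_isNormal hKS hN₁
  have hKsc : N₁.StronglyClosed ((kInfLower ↥S).map S.subtype) :=
    Cfsg.Agent.Helper84.stronglyClosed_of_normal N₁ hKn₁
  have hKT : (kInfLower ↥S).map S.subtype ≤ normalizerIn S ((kInfLower ↥S).map S.subtype) := hKn₁.1
  have htop₁ : TopP N₁ p := by
    intro f hf
    have hfF : Iso F (normalizerIn S ((kInfLower ↥S).map S.subtype))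
        (normalizerIn S ((kInfLower ↥S).map S.subtype)) f :=
      ⟨mor_of_mor_normalizer hN₁ _ _ hf.1, hf.2⟩
    rw [hTS] at hfF
    obtain ⟨k, hk⟩ := htop f hfF
    exact ⟨k, fun x hx => hk x (hTle hx)⟩
  rw [← hfoc]
  suffices H : ∃ D₀ : Subgroup Ω, D₀ < normalizerIn S ((kInfLower ↥S).map S.subtype) ∧
      N₁.focalSubgroup ≤ D₀ by
    obtain ⟨D₀, h1, h2⟩ := H
    exact ⟨D₀, lt_of_lt_of_le h1 hTle, h2⟩
  haveI hnorm : (((kInfLower ↥S).map S.subtype).subgroupOf
      (normalizerIn S ((kInfLower ↥S).map S.subtype))).Normal := normal_subgroupOf_of_stronglyClosed hKsc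
  obtain ⟨E, hE⟩ := Cfsg.Agent.S5132.result p hTp N₁ _ hKsc
  haveI hfinE : Finite (⊤ : Subgroup (↥(normalizerIn S ((kInfLower ↥S).map S.subtype)) ⧸
      ((kInfLower ↥S).map S.subtype).subgroupOf (normalizerIn S ((kInfLower ↥S).map S.subtype)))) :=
    Cfsg.Agent.Helper87.factor_finite hE
  have hEp := factor_isPGroup hTp hE
  have hEsat := factor_saturated hTp hsat₁ hKsc hE
  by_cases htriv : (⊤ : Subgroup (↥(normalizerIn S ((kInfLower ↥S).map S.subtype)) ⧸
      ((kInfLower ↥S).map S.subtype).subgroupOf (normalizerIn S ((kInfLower ↥S).map S.subtype)))) = ⊥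
  · -- `K = S`: the system is the system of `S`
    have hKeq : normalizerIn S ((kInfLower ↥S).map S.subtype) ≤ (kInfLower ↥S).map S.subtype := by
      intro x hx
      have : (QuotientGroup.mk' (((kInfLower ↥S).map S.subtype).subgroupOf
          (normalizerIn S ((kInfLower ↥S).map S.subtype)))) ⟨x, hx⟩ ∈ (⊤ : Subgroup _) :=
        Subgroup.mem_top _
      rw [htriv, Subgroup.mem_bot] at this
      exact (hE.2.1 ⟨x, hx⟩).1 this
    have hpaut : PAutM N₁ p := by
      intro P f hf
      obtain ⟨g, hg, hgf, hgK⟩ := (isNormal_iff.1 hKn₁).2 P f hf.1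
      have hgiso := iso_sup_of_ext hf hg hgf hgK
      have hPK : P ⊔ (kInfLower ↥S).map S.subtype = normalizerIn S ((kInfLower ↥S).map S.subtype) :=
        le_antisymm (sup_le hf.le_left hKT) (hKeq.trans le_sup_right)
      rw [hPK] at hgiso
      obtain ⟨k, hk⟩ := htop₁ g hgiso
      refine ⟨k, fun x hx => ?_⟩
      have h3 := iterate_congr (P := P) (f := f) (g := g) (fun x hx => hf.map_mem hx) hgf (p ^ k) hx
      rw [← h3.1]
      exact hk x (hf.le_left hx)
    have hinner := Cfsg.Agent.Helper86.hom_eq_inner_of_isPGroup_autGroup hTp N₁ hsat₁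
      (fun P hP => hpaut.isPGroup hP)
    refine ⟨⁅normalizerIn S ((kInfLower ↥S).map S.subtype),
      normalizerIn S ((kInfLower ↥S).map S.subtype)⁆, ?_, ?_⟩
    · exact commutator_lt_of_isPGroup hTp (fun h => hKne (le_bot_iff.1 (h ▸ hKT)))
    · rw [focal_le_iff]
      intro P f hf x hx
      obtain ⟨φ, hφ, e⟩ := hf
      rw [hinner P] at hφ
      obtain ⟨hPT, s, hs, hsφ⟩ := hφ
      rw [← e ⟨x, hx⟩, hsφ]
      show x⁻¹ * (s * x * s⁻¹) ∈ _
      have e2 : x⁻¹ * (s * x * s⁻¹) = ⁅x⁻¹, s⁆ := by rw [commutatorElement_def]; group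
      rw [e2]
      exact Subgroup.commutator_mem_commutator (inv_mem (hPT hx)) hs
  · -- pass to the factor system modulo `K`
    have hcard : Nat.card (⊤ : Subgroup (↥(normalizerIn S ((kInfLower ↥S).map S.subtype)) ⧸
        ((kInfLower ↥S).map S.subtype).subgroupOf (normalizerIn S ((kInfLower ↥S).map S.subtype))))
        < Nat.card S := by
      have hcS : Nat.card (normalizerIn S ((kInfLower ↥S).map S.subtype)) = Nat.card S := by rw [hTS]
      rw [Subgroup.card_top, ← hcS]
      have h1 := Subgroup.card_eq_card_quotient_mul_card_subgroup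
        (((kInfLower ↥S).map S.subtype).subgroupOf (normalizerIn S ((kInfLower ↥S).map S.subtype)))
      have h2 : 1 < Nat.card (((kInfLower ↥S).map S.subtype).subgroupOf
          (normalizerIn S ((kInfLower ↥S).map S.subtype))) := by
        rw [Subgroup.one_lt_card_iff_ne_bot]
        intro hbot
        apply hKne
        rw [eq_bot_iff]
        intro x hx
        have hxT : x ∈ normalizerIn S ((kInfLower ↥S).map S.subtype) := hKT hx
        have : (⟨x, hxT⟩ : normalizerIn S ((kInfLower ↥S).map S.subtype)) ∈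
            ((kInfLower ↥S).map S.subtype).subgroupOf (normalizerIn S ((kInfLower ↥S).map S.subtype)) :=
          Subgroup.mem_subgroupOf.2 hx
        rw [hbot, Subgroup.mem_bot] at this
        exact Subgroup.mem_bot.2 (congrArg Subtype.val this)
      have h3 : 0 < Nat.card (↥(normalizerIn S ((kInfLower ↥S).map S.subtype)) ⧸
          ((kInfLower ↥S).map S.subtype).subgroupOf (normalizerIn S ((kInfLower ↥S).map S.subtype))) :=
        Nat.card_pos
      nlinarith
    have hpre : preimageAlong (QuotientGroup.mk' (((kInfLower ↥S).map S.subtype).subgroupOf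
        (normalizerIn S ((kInfLower ↥S).map S.subtype)))) ⊤
        = normalizerIn S ((kInfLower ↥S).map S.subtype) := by
      ext x
      rw [mem_preimageAlong_iff]
      exact ⟨fun h => h.1, fun h => ⟨h, Subgroup.mem_top _⟩⟩
    have htopE : TopP E p := by
      intro f' hf'
      obtain ⟨g, hg, hgθ⟩ := factor_mor_exists hE hf'.1
      rw [hpre] at hg hgθ
      have hgT : ∀ x ∈ normalizerIn S ((kInfLower ↥S).map S.subtype),
          g x ∈ normalizerIn S ((kInfLower ↥S).map S.subtype) := fun x hx => hg.mem hx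
      have hiso : Iso N₁ (normalizerIn S ((kInfLower ↥S).map S.subtype))
          (normalizerIn S ((kInfLower ↥S).map S.subtype)) g := by
        have h0 := Iso.of_mor hg
        have hle : hg.image ≤ normalizerIn S ((kInfLower ↥S).map S.subtype) := by
          rintro y ⟨x, hx, rfl⟩
          exact hgT x hx
        have heq : hg.image = normalizerIn S ((kInfLower ↥S).map S.subtype) :=
          Subgroup.eq_of_le_of_card_ge hle (le_of_eq h0.card_eq)
        rw [heq] at h0
        exact h0
      obtain ⟨k, hk⟩ := htop₁ g hiso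
      refine ⟨k, fun y hy => ?_⟩
      have key : ∀ n : ℕ, ∀ x ∈ normalizerIn S ((kInfLower ↥S).map S.subtype),
          f'^[n] (extHom (QuotientGroup.mk' (((kInfLower ↥S).map S.subtype).subgroupOf
            (normalizerIn S ((kInfLower ↥S).map S.subtype)))) x)
          = extHom (QuotientGroup.mk' (((kInfLower ↥S).map S.subtype).subgroupOf
            (normalizerIn S ((kInfLower ↥S).map S.subtype)))) (g^[n] x) := by
        intro n
        induction n with
        | zero => intro x _; rfl
        | succ n ih =>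
          intro x hx
          rw [Function.iterate_succ_apply, Function.iterate_succ_apply, hgθ x hx]
          exact ih (g x) (hgT x hx)
      obtain ⟨x, hx, rfl⟩ := exists_preimage_of_mem hE le_rfl hy
      rw [hpre] at hx
      rw [key _ x hx, hk x hx]
    obtain ⟨Db, hDblt, hDbfoc⟩ := ih _ hcard _ ⊤ rfl hEp htriv E hEsat htopE
    refine ⟨preimageAlong (QuotientGroup.mk' (((kInfLower ↥S).map S.subtype).subgroupOf
        (normalizerIn S ((kInfLower ↥S).map S.subtype)))) Db, ?_, ?_⟩
    · refine lt_of_le_of_ne (preimageAlong_le' _ _) ?_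
      intro heq
      apply hDblt.ne
      apply le_antisymm hDblt.le
      intro y _
      obtain ⟨t, rfl⟩ := QuotientGroup.mk'_surjective _ y
      have ht : (t : Ω) ∈ preimageAlong (QuotientGroup.mk' (((kInfLower ↥S).map S.subtype).subgroupOf
          (normalizerIn S ((kInfLower ↥S).map S.subtype)))) Db := by
        rw [heq]; exact t.2
      have := (mem_preimageAlong_iff.1 ht).2
      rwa [extHom_mem _ t.2] at this
    · rw [focal_le_iff]
      intro P f hf x hx
      obtain ⟨g, hg, hgf, hgK⟩ := (isNormal_iff.1 hKn₁).2 P f hf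
      obtain ⟨f', hf', hf'e⟩ := exists_factor_mor hE hKsc
        (le_sup_right : (kInfLower ↥S).map S.subtype ≤ P ⊔ (kInfLower ↥S).map S.subtype) hg
      have hxA : x ∈ P ⊔ (kInfLower ↥S).map S.subtype := (le_sup_left : P ≤ _) hx
      have hxT := hg.le hxA
      have hfx := hf.mem hx
      refine mem_preimageAlong_iff.2 ⟨Subgroup.mul_mem _ (Subgroup.inv_mem _ hxT) hfx, ?_⟩
      rw [extHom_mul _ (Subgroup.inv_mem _ hxT) hfx, extHom_inv _ hxT, ← hgf x hx, ← hf'e x hxA]
      apply hDbfoc
      exact mem_focal hf' (mem_imageAlong_iff.2 ⟨x, hxT, hxA, rfl⟩)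

end Cfsg.Agent.Helper85.FocK
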