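import Mathlib
import Cfsg.Agent.Lib.Helper92.G24Defs
import Cfsg.Agent.Lib.Helper23.G24Pack

/-!
# G24 (helper92 server, S1679) piece (REL): the six matrices satisfy the 18 relators (helper85),
via helper23's packed kernel certificates `RelOK`.
-/

set_option autoImplicit false
set_option maxRecDepth 100000

namespace Cfsg.Agent.Helper85.G24

open Cfsg.Agent.Helper92.G24

theorem h85_relOK_all : ∀ r ∈ rel4, Cfsg.Agent.Helper23.G24.RelOK r := by
  decide +kernel

/-- (REL) the six matrices satisfy the 18 relators of the Suzuki presentation on `a..f`. -/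
theorem A_rel : ∀ r ∈ rel4, (r.map A).prod = 1 :=
  fun r hr => Cfsg.Agent.Helper23.G24.rel_of_ok (h85_relOK_all r hr)

end Cfsg.Agent.Helper85.G24
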