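import Mathlib
import Cfsg.Agent.Lib.Helper92.G24Defs

/-!
# G24 (helper92 server, S1679) piece (SQ): the six matrices are involutions (helper85)
-/

set_option autoImplicit false
set_option maxRecDepth 100000

namespace Cfsg.Agent.Helper85.G24

open Cfsg.Agent.Helper92.G24

/-- (SQ) the six matrices are involutions. -/
theorem A_sq : ∀ k < 6, A k * A k = 1 := by
  decide +kernel

end Cfsg.Agent.Helper85.G24
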