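import Mathlib
import Cfsg.Agent.Lib.Helper31.G2Defs
import Cfsg.Agent.Lib.Helper31.SGAll

/-!
# G2 server (helper31, S3795): piece (AB) `g2_abelian`.
-/

set_option autoImplicit false

namespace Cfsg.Agent.Helper85.G2

open Module Subgroup Cfsg.Agent.Helper31.SG Cfsg.Agent.Helper31.G2

universe u uG uK uV

/-- A common eigenvector is not a sum of common eigenvectors for other weights. -/
theorem h85_indep {K : Type*} [Field K] {V : Type*} [AddCommGroup V] [Module K V]
    {G : Type*} (f : G → Module.End K V) (A : Set G) (l : G → K) {ι : Type*} [DecidableEq ι]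
    (S : Finset ι) :
    ∀ (w : ι → V) (μ : ι → G → K), (∀ i ∈ S, ∀ a ∈ A, f a (w i) = μ i a • w i) →
      (∀ i ∈ S, ∃ a ∈ A, μ i a ≠ l a) → ∀ u : V, (∀ a ∈ A, f a u = l a • u) →
      u = ∑ i ∈ S, w i → u = 0 := by
  induction S using Finset.induction_on with
  | empty =>
    intro w μ _ _ u _ hu
    simpa using hu
  | insert j S hj ih =>
    intro w μ hw hμ u hu hsum
    obtain ⟨a, haA, hne⟩ := hμ j (Finset.mem_insert_self j S)
    have hc : l a - μ j a ≠ 0 := sub_ne_zero.mpr (Ne.symm hne)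
    have h1 : (l a - μ j a) • u = ∑ i ∈ S, (μ i a - μ j a) • w i := by
      have e1 : f a u - μ j a • u = (l a - μ j a) • u := by
        rw [hu a haA, sub_smul]
      have e2 : f a u - μ j a • u = ∑ i ∈ S, (μ i a - μ j a) • w i := by
        rw [hsum, Finset.sum_insert hj, map_add, hw j (Finset.mem_insert_self j S) a haA, map_sum,
          smul_add, Finset.smul_sum]
        have e3 : ∑ i ∈ S, f a (w i) = ∑ i ∈ S, μ i a • w i :=
          Finset.sum_congr rfl (fun i hi => hw i (Finset.mem_insert_of_mem hi) a haA)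
        rw [e3]
        have e4 : ∑ i ∈ S, (μ i a - μ j a) • w i
            = ∑ i ∈ S, μ i a • w i - ∑ i ∈ S, μ j a • w i := by
          rw [← Finset.sum_sub_distrib]
          exact Finset.sum_congr rfl (fun i _ => sub_smul _ _ _)
        rw [e4]; abel
      rw [← e1, e2]
    apply ih (fun i => (l a - μ j a)⁻¹ • (μ i a - μ j a) • w i) μ
    · intro i hi b hb
      show f b ((l a - μ j a)⁻¹ • (μ i a - μ j a) • w i) = _
      rw [map_smul, map_smul, hw i (Finset.mem_insert_of_mem hi) b hb]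
      rw [smul_comm (μ i b) ((l a - μ j a)⁻¹), smul_comm (μ i b) (μ i a - μ j a)]
    · intro i hi
      exact hμ i (Finset.mem_insert_of_mem hi)
    · exact hu
    · have : u = (l a - μ j a)⁻¹ • ((l a - μ j a) • u) := by
        rw [smul_smul, inv_mul_cancel₀ hc, one_smul]
      rw [this, h1, Finset.smul_sum]

/-- A commuting family of endomorphisms of a nonzero finite-dimensional space over an algebraically
closed field has a common eigenvector. -/
theorem h85_common_eigen {K : Type*} [Field K] [IsAlgClosed K] {V : Type*} [AddCommGroup V]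
    [Module K V] [FiniteDimensional K V] [Nontrivial V] {G : Type*} (f : G → Module.End K V)
    (A : Set G) (hab : ∀ a ∈ A, ∀ b ∈ A, f a * f b = f b * f a) :
    ∃ v : V, v ≠ 0 ∧ ∃ l : G → K, ∀ a ∈ A, f a v = l a • v := by
  classical
  let P : Submodule K V → Prop := fun W => W ≠ ⊥ ∧ ∀ a ∈ A, ∀ w ∈ W, f a w ∈ W
  let S : Set ℕ := {n | ∃ W, P W ∧ finrank K W = n}
  have hS : S.Nonempty := ⟨_, ⊤, ⟨top_ne_bot, fun _ _ _ _ => Submodule.mem_top⟩, rfl⟩
  obtain ⟨W, hW, hWn⟩ := Nat.sInf_mem hS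
  have hmin : ∀ W', P W' → finrank K W ≤ finrank K W' := by
    intro W' h
    rw [hWn]
    exact Nat.sInf_le ⟨W', h, rfl⟩
  haveI : Nontrivial W := Submodule.nontrivial_iff_ne_bot.mpr hW.1
  have hsc : ∀ a ∈ A, ∃ μ : K, ∀ w ∈ W, f a w = μ • w := by
    intro a ha
    obtain ⟨μ, hμ⟩ := Module.End.exists_eigenvalue ((f a).restrict (hW.2 a ha))
    obtain ⟨w, hw⟩ := hμ.exists_hasEigenvector
    refine ⟨μ, ?_⟩
    let E : Submodule K V := W ⊓ LinearMap.ker (f a - μ • (1 : Module.End K V))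
    have hker : ∀ v : V, v ∈ LinearMap.ker (f a - μ • (1 : Module.End K V)) ↔ f a v = μ • v := by
      intro v
      rw [LinearMap.mem_ker, LinearMap.sub_apply, LinearMap.smul_apply, Module.End.one_apply,
        sub_eq_zero]
    have hwE : (w : V) ∈ E := by
      refine Submodule.mem_inf.mpr ⟨w.2, ?_⟩
      rw [hker]
      have := hw.apply_eq_smul
      exact congrArg Subtype.val this
    have hE : P E := by
      refine ⟨?_, ?_⟩
      · intro h0
        have : (w : V) ∈ (⊥ : Submodule K V) := h0 ▸ hwE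
        rw [Submodule.mem_bot] at this
        exact hw.2 (Subtype.ext this)
      · intro b hb e he
        obtain ⟨he1, he2⟩ := Submodule.mem_inf.mp he
        refine Submodule.mem_inf.mpr ⟨hW.2 b hb e he1, ?_⟩
        rw [hker] at he2 ⊢
        have h3 : f a (f b e) = f b (f a e) := by
          have := congrArg (fun T : Module.End K V => T e) (hab a ha b hb)
          simpa [Module.End.mul_apply] using this
        rw [h3, he2, map_smul]
    have hEW : E = W :=
      Submodule.eq_of_le_of_finrank_le inf_le_left (hmin E hE)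
    intro v hv
    have hvE : v ∈ E := hEW ▸ hv
    exact (hker v).mp (Submodule.mem_inf.mp hvE).2
  choose! l hl using hsc
  obtain ⟨v, hvW, hv0⟩ := Submodule.exists_mem_ne_zero_of_ne_bot hW.1
  exact ⟨v, hv0, l, fun a ha => hl a ha v hvW⟩

section weights

variable {K : Type*} [Field K] {V : Type*} [AddCommGroup V] [Module K V] {G : Type*} [Group G]

theorem h85_transport (ρ : Representation K G V) (g b : G) (v : V) :
    ρ b (ρ g v) = ρ g (ρ (g⁻¹ * b * g) v) := by
  rw [← Module.End.mul_apply, ← map_mul, ← Module.End.mul_apply, ← map_mul]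
  congr 2
  group

theorem h85_eigen_transport (ρ : Representation K G V) (A : Subgroup G) [hAn : A.Normal]
    (v₀ : V) (l : G → K) (hl : ∀ a ∈ A, ρ a v₀ = l a • v₀) (g : G) {a : G} (ha : a ∈ A) :
    ρ a (ρ g v₀) = l (g⁻¹ * a * g) • ρ g v₀ := by
  have hmem : g⁻¹ * a * g ∈ A := by
    have := hAn.conj_mem a ha g⁻¹
    rwa [inv_inv] at this
  rw [h85_transport, hl _ hmem, map_smul]

theorem h85_pow_eq (x : G) (n : ℕ) (hx : x ^ 2 ^ (n + 1) = 1) (i : ℕ) (hi0 : 0 < i)
    (hi : i < 2 ^ (n + 1)) : ∃ k : ℕ, x ^ (i * k) = x ^ 2 ^ n := by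
  obtain ⟨e, m, hm, rfl⟩ := Nat.exists_eq_two_pow_mul_odd (Nat.pos_iff_ne_zero.mp hi0)
  obtain ⟨t, rfl⟩ := hm
  have he : e ≤ n := by
    by_contra hcon
    push Not at hcon
    have h1 : 2 ^ (n + 1) ≤ 2 ^ e := Nat.pow_le_pow_right (by norm_num) hcon
    have h2 : 2 ^ e ≤ 2 ^ e * (2 * t + 1) := Nat.le_mul_of_pos_right _ (by omega)
    omega
  refine ⟨2 ^ (n - e), ?_⟩
  have h3 : 2 ^ e * (2 * t + 1) * 2 ^ (n - e) = 2 ^ n + 2 ^ (n + 1) * t := by
    have h4 : 2 ^ e * 2 ^ (n - e) = 2 ^ n := by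
      rw [← pow_add]; congr 1; omega
    calc 2 ^ e * (2 * t + 1) * 2 ^ (n - e) = (2 ^ e * 2 ^ (n - e)) * (2 * t + 1) := by ring
      _ = 2 ^ n * (2 * t + 1) := by rw [h4]
      _ = 2 ^ n + 2 ^ (n + 1) * t := by ring
  rw [h3, pow_add, pow_mul, hx, one_pow, mul_one]

theorem h85_stab (A : Subgroup G) [hAn : A.Normal] (l : G → K) (x : G) (i : ℕ)
    (h : ∀ a ∈ A, l ((x ^ i)⁻¹ * a * x ^ i) = l a) :
    ∀ k : ℕ, ∀ a ∈ A, l ((x ^ (i * k))⁻¹ * a * x ^ (i * k)) = l a := by
  intro k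
  induction k with
  | zero =>
    intro a _
    simp
  | succ k ih =>
    intro a ha
    have hmem : (x ^ (i * k))⁻¹ * a * x ^ (i * k) ∈ A := by
      have := hAn.conj_mem a ha (x ^ (i * k))⁻¹
      rwa [inv_inv] at this
    have e : (x ^ (i * (k + 1)))⁻¹ * a * x ^ (i * (k + 1))
        = (x ^ i)⁻¹ * ((x ^ (i * k))⁻¹ * a * x ^ (i * k)) * x ^ i := by
      rw [Nat.mul_succ, pow_add]; group
    rw [e, h _ hmem, ih a ha]

theorem h85_weight (ρ : Representation K G V) (A : Subgroup G) [hAn : A.Normal] (x : G) (n : ℕ)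
    (hx : x ^ 2 ^ (n + 1) = 1) (hfix : ∀ v : V, ρ x v = v → v = 0) (v₀ : V) (hv₀ : v₀ ≠ 0)
    (l : G → K) (hl : ∀ a ∈ A, ρ a v₀ = l a • v₀) :
    ∀ a ∈ A, l ((x ^ 2 ^ n)⁻¹ * a * x ^ 2 ^ n) = l a := by
  classical
  by_contra hcon
  have hcon' : ∃ a₁ ∈ A, l ((x ^ 2 ^ n)⁻¹ * a₁ * x ^ 2 ^ n) ≠ l a₁ := by
    by_contra h
    exact hcon (fun a ha => by_contra fun hne => h ⟨a, ha, hne⟩)
  obtain ⟨a₁, ha₁, hne₁⟩ := hcon'
  have hsep : ∀ i : ℕ, 0 < i → i < 2 ^ (n + 1) → ∃ a ∈ A, l ((x ^ i)⁻¹ * a * x ^ i) ≠ l a := by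
    intro i hi0 hi
    by_contra h
    have h' : ∀ a ∈ A, l ((x ^ i)⁻¹ * a * x ^ i) = l a :=
      fun a ha => by_contra fun hne => h ⟨a, ha, hne⟩
    obtain ⟨k, hk⟩ := h85_pow_eq x n hx i hi0 hi
    have := h85_stab A l x i h' k a₁ ha₁
    rw [hk] at this
    exact hne₁ this
  have hXM : ((ρ x) ^ 2 ^ (n + 1)) v₀ = v₀ := by
    rw [← map_pow, hx, map_one, Module.End.one_apply]
  have hsumfix := sum_pow_fixed (ρ x) (2 ^ (n + 1)) v₀ hXM
  have hsum0 : ∑ i ∈ Finset.range (2 ^ (n + 1)), ((ρ x) ^ i) v₀ = 0 := hfix _ hsumfix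
  have h0mem : 0 ∈ Finset.range (2 ^ (n + 1)) := Finset.mem_range.mpr (by positivity)
  rw [← Finset.add_sum_erase _ _ h0mem, pow_zero, Module.End.one_apply] at hsum0
  have hv : v₀ = ∑ i ∈ (Finset.range (2 ^ (n + 1))).erase 0, (fun i => -(((ρ x) ^ i) v₀)) i := by
    rw [Finset.sum_neg_distrib]
    exact eq_neg_of_add_eq_zero_left hsum0
  apply hv₀
  refine h85_indep (fun g => ρ g) (A : Set G) l ((Finset.range (2 ^ (n + 1))).erase 0)
    (fun i => -(((ρ x) ^ i) v₀)) (fun i a => l ((x ^ i)⁻¹ * a * x ^ i)) ?_ ?_ v₀ hl hv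
  · intro i _ a ha
    show ρ a (-(((ρ x) ^ i) v₀)) = l ((x ^ i)⁻¹ * a * x ^ i) • -(((ρ x) ^ i) v₀)
    rw [map_neg, smul_neg, ← map_pow, h85_eigen_transport ρ A v₀ l hl (x ^ i) ha]
  · intro i hi
    rw [Finset.mem_erase, Finset.mem_range] at hi
    exact hsep i (Nat.pos_of_ne_zero hi.1) hi.2

theorem h85_comm_on_span (ρ : Representation K G V) (A : Subgroup G) [hAn : A.Normal] (x : G)
    (n : ℕ) (hx : x ^ 2 ^ (n + 1) = 1) (hfix : ∀ v : V, ρ x v = v → v = 0) (v₀ : V)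
    (hv₀ : v₀ ≠ 0) (l : G → K) (hl : ∀ a ∈ A, ρ a v₀ = l a • v₀) {a : G} (ha : a ∈ A) :
    ∀ u ∈ Submodule.span K (Set.range (fun i : ℕ => ρ (x ^ i) v₀)),
      ρ a (ρ (x ^ 2 ^ n) u) = ρ (x ^ 2 ^ n) (ρ a u) := by
  have hle : Submodule.span K (Set.range (fun i : ℕ => ρ (x ^ i) v₀)) ≤
      LinearMap.eqLocus (ρ a * ρ (x ^ 2 ^ n)) (ρ (x ^ 2 ^ n) * ρ a) := by
    rw [Submodule.span_le]
    rintro _ ⟨i, rfl⟩
    show (ρ a * ρ (x ^ 2 ^ n)) (ρ (x ^ i) v₀) = (ρ (x ^ 2 ^ n) * ρ a) (ρ (x ^ i) v₀)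
    rw [Module.End.mul_apply, Module.End.mul_apply]
    have hmem : (x ^ i)⁻¹ * a * x ^ i ∈ A := by
      have := hAn.conj_mem a ha (x ^ i)⁻¹
      rwa [inv_inv] at this
    have hw := h85_weight ρ A x n hx hfix v₀ hv₀ l hl _ hmem
    have e1 : ρ (x ^ 2 ^ n) (ρ (x ^ i) v₀) = ρ (x ^ i * x ^ 2 ^ n) v₀ := by
      rw [← Module.End.mul_apply, ← map_mul, ← pow_add, ← pow_add, add_comm]
    rw [h85_eigen_transport ρ A v₀ l hl (x ^ i) ha, map_smul, e1,
      h85_eigen_transport ρ A v₀ l hl (x ^ i * x ^ 2 ^ n) ha]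
    congr 1
    rw [← hw]
    congr 1
    group
  intro u hu
  have := hle hu
  rw [LinearMap.mem_eqLocus, Module.End.mul_apply, Module.End.mul_apply] at this
  exact this

end weights

open Cfsg.Agent.Helper31 in
theorem h85_ab_aux {K : Type uK} [Field K] [IsAlgClosed K] (r s : ℕ) [hr : Fact r.Prime]
    [hs : Fact s.Prime] (hrs : r ≠ s) [CharP K r] {G : Type uG} [Group G] [Finite G]
    (A : Subgroup G) (x : G) (n : ℕ) (hA : IsPGroup s A) (hxA : ∀ a ∈ A, x * a * x⁻¹ ∈ A)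
    (hx : x ^ 2 ^ (n + 1) = 1) (hgen : A ⊔ zpowers x = ⊤) :
    ∀ (N : ℕ) (V : Type uV) [AddCommGroup V] [Module K V] [FiniteDimensional K V]
      (ρ : Representation K G V), finrank K V ≤ N → (∀ v : V, ρ x v = v → v = 0) →
      (∀ a ∈ A, ∀ b ∈ A, ρ a * ρ b = ρ b * ρ a) →
      ∀ a ∈ A, ρ a * ρ (x ^ 2 ^ n) = ρ (x ^ 2 ^ n) * ρ a := by
  haveI hAn : A.Normal := by
    rw [← normalizer_eq_top_iff, eq_top_iff, ← hgen]
    exact sup_le le_normalizer
      (HH.zpowers_le_normalizer_of_conj_mem A x (by positivity) hx hxA)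
  intro N
  induction N with
  | zero =>
    intro V _ _ _ ρ hN _ _ a _
    have h0 : finrank K V = 0 := Nat.le_zero.mp hN
    haveI : Subsingleton V := Module.finrank_zero_iff.mp h0
    apply LinearMap.ext
    intro v
    exact Subsingleton.elim _ _
  | succ N ih =>
    intro V _ _ _ ρ hN hfix hab a ha
    by_cases hnt : Nontrivial V
    swap
    · rw [not_nontrivial_iff_subsingleton] at hnt
      apply LinearMap.ext
      intro v
      exact Subsingleton.elim _ _
    obtain ⟨v₀, hv₀, l, hl⟩ := h85_common_eigen (fun g => ρ g) (A : Set G) hab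
    obtain ⟨U, hUdef⟩ : ∃ U : Submodule K V,
        U = Submodule.span K (Set.range (fun i : ℕ => ρ (x ^ i) v₀)) := ⟨_, rfl⟩
    have hgenU : ∀ i : ℕ, ρ (x ^ i) v₀ ∈ U := by
      intro i
      rw [hUdef]
      exact Submodule.subset_span ⟨i, rfl⟩
    have hv₀U : v₀ ∈ U := by
      have := hgenU 0
      rwa [pow_zero, map_one, Module.End.one_apply] at this
    have hUx : ∀ u ∈ U, ρ x u ∈ U := by
      have hle : U ≤ U.comap (ρ x) := by
        rw [hUdef, Submodule.span_le]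
        rintro _ ⟨i, rfl⟩
        rw [SetLike.mem_coe, Submodule.mem_comap]
        change ρ x (ρ (x ^ i) v₀) ∈ Submodule.span K (Set.range fun i : ℕ => ρ (x ^ i) v₀)
        rw [← Module.End.mul_apply, ← map_mul, ← pow_succ', ← hUdef]
        exact hgenU (i + 1)
      exact fun u hu => hle hu
    have hUA : ∀ b ∈ A, ∀ u ∈ U, ρ b u ∈ U := by
      intro b hb
      have hle : U ≤ U.comap (ρ b) := by
        rw [hUdef, Submodule.span_le]
        rintro _ ⟨i, rfl⟩
        rw [SetLike.mem_coe, Submodule.mem_comap]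
        change ρ b (ρ (x ^ i) v₀) ∈ Submodule.span K (Set.range fun i : ℕ => ρ (x ^ i) v₀)
        rw [h85_eigen_transport ρ A v₀ l hl (x ^ i) hb, ← hUdef]
        exact U.smul_mem _ (hgenU i)
      exact fun u hu => hle hu
    have hU : HH.Inv ρ U := HH.inv_of_gen ρ A x hgen U hUA hUx
    have h1 : ∀ u ∈ U, ρ a (ρ (x ^ 2 ^ n) u) = ρ (x ^ 2 ^ n) (ρ a u) := by
      rw [hUdef]
      exact h85_comm_on_span ρ A x n hx hfix v₀ hv₀ l hl ha
    -- the quotient
    have hUpos : 0 < finrank K U :=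
      Module.finrank_pos_iff_exists_ne_zero.mpr
        ⟨⟨v₀, hv₀U⟩, fun h => hv₀ (congrArg Subtype.val h)⟩
    have hlt : finrank K (V ⧸ U) ≤ N := by
      have := Submodule.finrank_quotient_add_finrank U
      omega
    have hfixq : ∀ w : V ⧸ U, HH.quotRep ρ U hU x w = w → w = 0 := by
      intro w
      obtain ⟨v, rfl⟩ := Submodule.Quotient.mk_surjective U w
      rw [HH.quotRep_mk]
      intro h
      have hdiff : ρ x v - v ∈ U := (Submodule.Quotient.eq U).mp h
      rw [Submodule.Quotient.mk_eq_zero]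
      have hDU : ∀ u ∈ U, (ρ x - 1 : Module.End K V) u ∈ U := by
        intro u hu
        rw [LinearMap.sub_apply, Module.End.one_apply]
        exact U.sub_mem (hUx u hu) hu
      have hinj : Function.Injective ((ρ x - 1 : Module.End K V).restrict hDU) := by
        rw [← LinearMap.ker_eq_bot, LinearMap.ker_eq_bot']
        intro u hu
        have h2 : (ρ x - 1 : Module.End K V) (u : V) = 0 := by
          have := congrArg Subtype.val hu
          simpa using this
        rw [LinearMap.sub_apply, Module.End.one_apply, sub_eq_zero] at h2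
        exact Subtype.ext (hfix _ h2)
      have hsurj := LinearMap.injective_iff_surjective.mp hinj
      obtain ⟨u, hu⟩ := hsurj ⟨ρ x v - v, hdiff⟩
      have h3 : (ρ x - 1 : Module.End K V) (u : V) = ρ x v - v := by
        have := congrArg Subtype.val hu
        simpa using this
      rw [LinearMap.sub_apply, Module.End.one_apply] at h3
      have h4 : ρ x (v - u) = v - u := by
        rw [map_sub]
        calc ρ x v - ρ x (u : V) = (ρ x v - v) - (ρ x (u : V) - (u : V)) + (v - (u : V)) := by abel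
          _ = v - (u : V) := by rw [h3, sub_self, zero_add]
      have h5 := hfix _ h4
      have h6 : v = (u : V) := sub_eq_zero.mp h5
      rw [h6]
      exact u.2
    have habq : ∀ b ∈ A, ∀ c ∈ A, HH.quotRep ρ U hU b * HH.quotRep ρ U hU c
        = HH.quotRep ρ U hU c * HH.quotRep ρ U hU b := by
      intro b hb c hc
      apply LinearMap.ext
      intro w
      obtain ⟨v, rfl⟩ := Submodule.Quotient.mk_surjective U w
      rw [Module.End.mul_apply, Module.End.mul_apply, HH.quotRep_mk, HH.quotRep_mk, HH.quotRep_mk,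
        HH.quotRep_mk]
      have := congrArg (fun T : Module.End K V => T v) (hab b hb c hc)
      simp only [Module.End.mul_apply] at this
      rw [this]
    have hq := ih (V ⧸ U) (HH.quotRep ρ U hU) hlt hfixq habq a ha
    have h2 : ∀ v : V, ρ a (ρ (x ^ 2 ^ n) v) - ρ (x ^ 2 ^ n) (ρ a v) ∈ U := by
      intro v
      have := congrArg (fun T : Module.End K (V ⧸ U) => T (Submodule.Quotient.mk v)) hq
      simp only [Module.End.mul_apply, HH.quotRep_mk] at this
      exact (Submodule.Quotient.eq U).mp this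
    have hAτ : ∀ g ∈ A, x ^ 2 ^ n * g * (x ^ 2 ^ n)⁻¹ ∈ A :=
      fun g hg => hAn.conj_mem g hg _
    exact HH.commute_of_sub_quot r s hrs ρ A hA (x ^ 2 ^ n) hAτ U hU a ha h1 h2

open Cfsg.Agent.Helper31 in
theorem g2_abelian {K : Type uK} [Field K] [IsAlgClosed K] (r s : ℕ) [hr : Fact r.Prime]
    [hs : Fact s.Prime] (hr2 : r ≠ 2) (hrs : r ≠ s) [CharP K r]
    {V : Type uV} [AddCommGroup V] [Module K V] [FiniteDimensional K V]
    {G : Type uG} [Group G] [Finite G] (ρ : Representation K G V) (A : Subgroup G) (x : G) (n : ℕ)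
    (hA : IsPGroup s A) (hxA : ∀ a ∈ A, x * a * x⁻¹ ∈ A) (hx : x ^ 2 ^ (n + 1) = 1)
    (hfix : ∀ v : V, ρ x v = v → v = 0)
    (hab : ∀ a ∈ A, ∀ b ∈ A, ρ a * ρ b = ρ b * ρ a) :
    ∀ a ∈ A, ρ a * ρ (x ^ 2 ^ n) = ρ (x ^ 2 ^ n) * ρ a := by
  have hxΓ : x ∈ A ⊔ zpowers x := (le_sup_right : zpowers x ≤ A ⊔ zpowers x) (mem_zpowers x)
  have hAΓ : A ≤ A ⊔ zpowers x := le_sup_left
  have hgen' := HH.gen_subgroupOf A x hxΓ
  have hA' : IsPGroup s (A.subgroupOf (A ⊔ zpowers x)) := hA.comap_subtype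
  have hxA' : ∀ a ∈ A.subgroupOf (A ⊔ zpowers x),
      (⟨x, hxΓ⟩ : ↥(A ⊔ zpowers x)) * a * (⟨x, hxΓ⟩ : ↥(A ⊔ zpowers x))⁻¹ ∈
        A.subgroupOf (A ⊔ zpowers x) := by
    intro a ha
    rw [mem_subgroupOf] at ha ⊢
    exact hxA _ ha
  have hx' : (⟨x, hxΓ⟩ : ↥(A ⊔ zpowers x)) ^ 2 ^ (n + 1) = 1 := by
    apply Subtype.ext
    rw [Subgroup.coe_pow]
    exact hx
  have key := h85_ab_aux.{uG, uK, uV} r s hrs (A.subgroupOf (A ⊔ zpowers x)) ⟨x, hxΓ⟩ n hA' hxA' hx'
    hgen' (finrank K V) V (ρ.comp (A ⊔ zpowers x).subtype) le_rfl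
    (fun v hv => hfix v hv)
    (fun a ha b hb => hab _ (mem_subgroupOf.mp ha) _ (mem_subgroupOf.mp hb))
  intro a ha
  have := key ⟨a, hAΓ ha⟩ (mem_subgroupOf.mpr ha)
  simpa using this

end Cfsg.Agent.Helper85.G2
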