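import Mathlib
import Cfsg.Agent.Lib.Helper85.Trans1

set_option autoImplicit false

/-! # An averaging construction: extending stable homomorphisms through a free commuting action -/

namespace Cfsg.Agent.Helper85

open MulAction

section Gasch

variable {G T X A : Type*} [Group G] [Group T] [MulAction G X] [MulAction T X] [SMulCommClass G T X]
  [CommGroup A]

/-- the data of the averaging construction: a normal subgroup `Q` of `T`, a function `ν` multiplicative and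
conjugation-stable on `Q`, and a function `ρ` to `T`, equivariant on the right and equivariant modulo `Q` on the left -/
structure GaschData (ι : T →* G) (Q : Subgroup T) (ν : T → A) (ρ : X → T) : Prop where
  normal : ∀ (t q : T), q ∈ Q → t * q * t⁻¹ ∈ Q
  mul : ∀ a b : T, a ∈ Q → b ∈ Q → ν (a * b) = ν a * ν b
  stable : ∀ (t q : T), q ∈ Q → ν (t * q * t⁻¹) = ν q
  right : ∀ (t : T) (x : X), ρ (t • x) = ρ x * t⁻¹
  left : ∀ (t : T) (x : X), t * ρ x * (ρ (ι t • x))⁻¹ ∈ Q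

variable {ι : T →* G} {Q : Subgroup T} {ν : T → A} {ρ : X → T}

theorem GaschData.nu_one (h : GaschData ι Q ν ρ) : ν 1 = 1 := by
  have h1 := h.mul 1 1 Q.one_mem Q.one_mem
  rw [mul_one] at h1
  exact (mul_eq_left (a := ν 1)).1 h1.symm

theorem GaschData.nu_inv (h : GaschData ι Q ν ρ) {a : T} (ha : a ∈ Q) : ν a⁻¹ = (ν a)⁻¹ := by
  have h1 := h.mul a a⁻¹ ha (Q.inv_mem ha)
  rw [mul_inv_cancel, h.nu_one] at h1
  exact eq_inv_of_mul_eq_one_right h1.symm

/-- the local term -/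
def gD (ι : T →* G) (ν : T → A) (ρ : X → T) (t : T) (x : X) : A := ν (t * ρ x * (ρ (ι t • x))⁻¹)

theorem gD_smul (h : GaschData ι Q ν ρ) (t s : T) (x : X) : gD ι ν ρ t (s • x) = gD ι ν ρ t x := by
  unfold gD
  rw [smul_comm (ι t) s x, h.right, h.right]
  congr 1
  group

theorem gD_mul (h : GaschData ι Q ν ρ) (t t' : T) (x : X) :
    gD ι ν ρ (t * t') x = gD ι ν ρ t' x * gD ι ν ρ t (ι t' • x) := by
  unfold gD
  have e : t * t' * ρ x * (ρ (ι (t * t') • x))⁻¹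
      = (t * (t' * ρ x * (ρ (ι t' • x))⁻¹) * t⁻¹) * (t * ρ (ι t' • x) * (ρ (ι t • ι t' • x))⁻¹) := by
    rw [map_mul, mul_smul]
    group
  rw [e, h.mul _ _ (h.normal _ _ (h.left t' x)) (h.left t (ι t' • x)), h.stable _ _ (h.left t' x)]

variable [Fintype (Orb T X)]

/-- the averaged function -/
noncomputable def gd (ι : T →* G) (ν : T → A) (ρ : X → T) (t : T) : A :=
  ∏ o : Orb T X, gD ι ν ρ t (orbRep o)

theorem gD_orbMap (h : GaschData ι Q ν ρ) (t : T) (g : G) (o : Orb T X) :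
    gD ι ν ρ t (orbRep (orbMap T g o)) = gD ι ν ρ t (g • orbRep o) := by
  rw [← bco_spec (T := T) g o, gD_smul h]

theorem gd_mul (h : GaschData ι Q ν ρ) (t t' : T) :
    gd (X := X) ι ν ρ (t * t') = gd (X := X) ι ν ρ t * gd (X := X) ι ν ρ t' := by
  unfold gd
  simp_rw [gD_mul h]
  rw [Finset.prod_mul_distrib, mul_comm]
  congr 1
  rw [← Equiv.prod_comp (orbPerm T (ι t')) (fun o => gD ι ν ρ t (orbRep o))]
  apply Finset.prod_congr rfl
  intro o _
  rw [orbPerm_apply, gD_orbMap h]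

theorem gd_one (h : GaschData ι Q ν ρ) : gd (X := X) ι ν ρ (1 : T) = 1 := by
  have h1 := gd_mul (X := X) h 1 1
  rw [mul_one] at h1
  exact (mul_eq_left (a := gd (X := X) ι ν ρ (1 : T))).1 h1.symm

/-- the averaged homomorphism -/
noncomputable def gdHom (h : GaschData ι Q ν ρ) : T →* A where
  toFun := gd (X := X) ι ν ρ
  map_one' := gd_one h
  map_mul' := gd_mul h

theorem gdHom_apply (h : GaschData ι Q ν ρ) (t : T) : gdHom (X := X) h t = gd (X := X) ι ν ρ t := rfl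

/-- a telescoping product -/
theorem prod_telescope (h : GaschData ι Q ν ρ) (a : ℕ → T) (ha : ∀ k, a k * (a (k + 1))⁻¹ ∈ Q) (n : ℕ) :
    a 0 * (a n)⁻¹ ∈ Q ∧ ∏ k ∈ Finset.range n, ν (a k * (a (k + 1))⁻¹) = ν (a 0 * (a n)⁻¹) := by
  induction n with
  | zero =>
    rw [mul_inv_cancel, Finset.range_zero, Finset.prod_empty, h.nu_one]
    exact ⟨Q.one_mem, rfl⟩
  | succ n ih =>
    have e : a 0 * (a (n + 1))⁻¹ = (a 0 * (a n)⁻¹) * (a n * (a (n + 1))⁻¹) := by group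
    refine ⟨?_, ?_⟩
    · rw [e]; exact Q.mul_mem ih.1 (ha n)
    · rw [Finset.prod_range_succ, ih.2, e, h.mul _ _ ih.1 (ha n)]

open scoped Classical in
/-- the behaviour of the averaged function under an intertwined pair -/
theorem gd_rel (hfree : ∀ (t : T) (x : X), t • x = x → t = 1) (h : GaschData ι Q ν ρ) {u v : T} (hu : u ∈ Q)
    (hv : v ∈ Q) (ε : G) (hε : ι v * ε = ε * ι u) :
    gd (X := X) ι ν ρ v = gd (X := X) ι ν ρ u * (ν v * (ν u)⁻¹) ^ Fintype.card (Orb T X) := by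
  -- the comparison function
  let γ : X → T := fun y => ρ (ε • y) * (ρ y)⁻¹
  have hγ : ∀ (t : T) (y : X), γ (t • y) = γ y := by
    intro t y
    show ρ (ε • t • y) * (ρ (t • y))⁻¹ = ρ (ε • y) * (ρ y)⁻¹
    rw [smul_comm ε t y, h.right, h.right]
    group
  have hεy : ∀ y : X, ι v • ε • y = ε • ι u • y := by
    intro y
    rw [← mul_smul, hε, mul_smul]
  -- the key identity
  have key : ∀ y : X, γ y * (γ (ι u • y))⁻¹ ∈ Q ∧
      gD ι ν ρ v (ε • y) = gD ι ν ρ u y * (ν v * (ν u)⁻¹) * ν (γ y * (γ (ι u • y))⁻¹) := by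
    intro y
    have he₁ := h.left v (ε • y)
    have he₂ := h.left u y
    rw [hεy] at he₁
    set e₁ := v * ρ (ε • y) * (ρ (ε • ι u • y))⁻¹ with he₁d
    set e₂ := u * ρ y * (ρ (ι u • y))⁻¹ with he₂d
    have e : γ y * (γ (ι u • y))⁻¹ = (γ y * (e₂⁻¹ * u) * (γ y)⁻¹) * (v⁻¹ * e₁) := by
      show ρ (ε • y) * (ρ y)⁻¹ * (ρ (ε • ι u • y) * (ρ (ι u • y))⁻¹)⁻¹
        = (ρ (ε • y) * (ρ y)⁻¹ * (e₂⁻¹ * u) * (ρ (ε • y) * (ρ y)⁻¹)⁻¹) * (v⁻¹ * e₁)
      rw [he₁d, he₂d]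
      group
    have hm1 : e₂⁻¹ * u ∈ Q := Q.mul_mem (Q.inv_mem he₂) hu
    have hm2 : v⁻¹ * e₁ ∈ Q := Q.mul_mem (Q.inv_mem hv) he₁
    refine ⟨?_, ?_⟩
    · rw [e]
      exact Q.mul_mem (h.normal _ _ hm1) hm2
    · rw [e, h.mul _ _ (h.normal _ _ hm1) hm2, h.stable _ _ hm1, h.mul _ _ (Q.inv_mem he₂) hu,
        h.mul _ _ (Q.inv_mem hv) he₁, h.nu_inv he₂, h.nu_inv hv]
      have d1 : gD ι ν ρ v (ε • y) = ν e₁ := by
        unfold gD
        rw [hεy]
      have d2 : gD ι ν ρ u y = ν e₂ := rfl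
      rw [d1, d2]
      have : ν e₂ * (ν v * (ν u)⁻¹) * ((ν e₂)⁻¹ * ν u * ((ν v)⁻¹ * ν e₁)) = ν e₁ := by
        calc ν e₂ * (ν v * (ν u)⁻¹) * ((ν e₂)⁻¹ * ν u * ((ν v)⁻¹ * ν e₁))
            = (ν e₂ * (ν e₂)⁻¹) * (ν v * (ν v)⁻¹) * ((ν u)⁻¹ * ν u) * ν e₁ := by
              simp only [mul_assoc, mul_comm, mul_left_comm]
          _ = ν e₁ := by rw [mul_inv_cancel, mul_inv_cancel, inv_mul_cancel, one_mul, one_mul, one_mul]
      exact this.symm
  -- reindex the product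
  have h1 : gd (X := X) ι ν ρ v = ∏ o : Orb T X, gD ι ν ρ v (ε • orbRep o) := by
    unfold gd
    rw [← Equiv.prod_comp (orbPerm T ε) (fun o => gD ι ν ρ v (orbRep o))]
    apply Finset.prod_congr rfl
    intro o _
    rw [orbPerm_apply, gD_orbMap h]
  rw [h1]
  simp_rw [fun o : Orb T X => (key (orbRep o)).2]
  rw [Finset.prod_mul_distrib, Finset.prod_mul_distrib, Finset.prod_const, Finset.card_univ]
  have h2 : ∏ o : Orb T X, ν (γ (orbRep o) * (γ (ι u • orbRep o))⁻¹) = 1 := by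
    have hγo : ∀ y : X, γ y = γ (orbRep (Quotient.mk'' y : Orb T X)) := by
      intro y
      conv_lhs => rw [← delta_spec (T := T) y]
      rw [hγ]
    apply prod_eq_one_of_cycles (orbPerm T (ι u))
    intro o n _ hn
    set a : ℕ → T := fun k => γ (orbRep ((⇑(orbPerm T (ι u)))^[k] o)) with had
    have hstep : ∀ k, γ (ι u • orbRep ((⇑(orbPerm T (ι u)))^[k] o)) = a (k + 1) := by
      intro k
      rw [hγo (ι u • orbRep ((⇑(orbPerm T (ι u)))^[k] o)), ← orbMap_mk, mk_orbRep, had]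
      show _ = γ (orbRep ((⇑(orbPerm T (ι u)))^[k + 1] o))
      rw [Function.iterate_succ_apply']
      rfl
    have ha : ∀ k, a k * (a (k + 1))⁻¹ ∈ Q := by
      intro k
      rw [← hstep k]
      exact (key _).1
    have h3 := (prod_telescope h a ha n).2
    have h4 : ∏ k ∈ Finset.range n, ν (γ (orbRep ((⇑(orbPerm T (ι u)))^[k] o)) *
        (γ (ι u • orbRep ((⇑(orbPerm T (ι u)))^[k] o)))⁻¹)
        = ∏ k ∈ Finset.range n, ν (a k * (a (k + 1))⁻¹) := by
      apply Finset.prod_congr rfl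
      intro k _
      rw [hstep k]
    rw [h4, h3]
    have h5 : a n = a 0 := by
      show γ (orbRep ((⇑(orbPerm T (ι u)))^[n] o)) = γ (orbRep ((⇑(orbPerm T (ι u)))^[0] o))
      rw [hn]
      rfl
    rw [h5, mul_inv_cancel, h.nu_one]
  rw [h2, mul_one]
  rfl

open scoped Classical in
/-- if `Q` is generated by the quotients of the intertwined pairs, the averaged homomorphism restricts to a power of `ν` -/
theorem gd_eq_pow (hfree : ∀ (t : T) (x : X), t • x = x → t = 1) (h : GaschData ι Q ν ρ)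
    (hgen : Q ≤ Subgroup.closure {y : T | ∃ u v : T, u ∈ Q ∧ v ∈ Q ∧ (∃ ε : G, ι v * ε = ε * ι u) ∧ y = u⁻¹ * v})
    (q : T) (hq : q ∈ Q) : gd (X := X) ι ν ρ q = ν q ^ Fintype.card (Orb T X) := by
  have key : ∀ y ∈ Subgroup.closure {y : T | ∃ u v : T, u ∈ Q ∧ v ∈ Q ∧ (∃ ε : G, ι v * ε = ε * ι u) ∧ y = u⁻¹ * v},
      y ∈ Q ∧ gd (X := X) ι ν ρ y = ν y ^ Fintype.card (Orb T X) := by
    intro y hy
    induction hy using Subgroup.closure_induction with
    | mem y hy =>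
      obtain ⟨u, v, hu, hv, ⟨ε, hε⟩, rfl⟩ := hy
      refine ⟨Q.mul_mem (Q.inv_mem hu) hv, ?_⟩
      have h1 := gd_rel hfree h hu hv ε hε
      rw [gd_mul h, h.mul _ _ (Q.inv_mem hu) hv, h.nu_inv hu, h1]
      have h2 : gd (X := X) ι ν ρ u⁻¹ = (gd (X := X) ι ν ρ u)⁻¹ := by
        have := gd_mul (X := X) h u u⁻¹
        rw [mul_inv_cancel, gd_one h] at this
        exact eq_inv_of_mul_eq_one_right this.symm
      rw [h2, inv_mul_cancel_left, mul_comm (ν v)]
    | one => exact ⟨Q.one_mem, by rw [gd_one h, h.nu_one, one_pow]⟩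
    | mul a b _ _ iha ihb =>
      exact ⟨Q.mul_mem iha.1 ihb.1, by rw [gd_mul h, iha.2, ihb.2, h.mul _ _ iha.1 ihb.1, mul_pow]⟩
    | inv a _ iha =>
      refine ⟨Q.inv_mem iha.1, ?_⟩
      have := gd_mul (X := X) h a a⁻¹
      rw [mul_inv_cancel, gd_one h] at this
      rw [eq_inv_of_mul_eq_one_right this.symm, iha.2, h.nu_inv iha.1, inv_pow]
  exact (key q (hgen hq)).2

end Gasch

end Cfsg.Agent.Helper85
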