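import Mathlib
import Cfsg.Prelude.Def_FusionSystem
import Cfsg.Agent.Lib.Helper85.Trans3
import Cfsg.Agent.Lib.Helper85.Gasch1

set_option autoImplicit false

/-! # Extending stable homomorphisms from a normal subgroup modulo which the system is inner -/

namespace Cfsg.Agent.Helper85

open Cfsg Cfsg.FusionSystem Cfsg.Agent.Helper87 MulAction

universe u

section Gasch2

variable {Ω : Type u} [Group Ω] {S : Subgroup Ω} {F : FusionSystem S}

/-- a function on the biset, equivariant on both sides modulo `Q` -/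
theorem exists_rho₁ {X : Type u} [MulAction (S × S) X]
    (hgr : ∀ x : X, IsGraph F (MulAction.stabilizer (S × S) x))
    (Q : Subgroup S) [hQn : Q.Normal]
    (hinn : ∀ (P : Subgroup Ω) (f : Ω → Ω), Mor F P f →
      ∃ c : S, ∀ a b : S, (a : Ω) ∈ P → f a = b → (c⁻¹ * a * c)⁻¹ * b ∈ Q) :
    ∃ ρ₁ : X → S, ∀ (s t : S) (x : X), (s * ρ₁ x * t⁻¹)⁻¹ * ρ₁ ((s, t) • x) ∈ Q := by
  have hc : ∀ x : X, ∃ c : S, ∀ a b : S, (a, b) ∈ MulAction.stabilizer (S × S) x →
      (c⁻¹ * a * c)⁻¹ * b ∈ Q := by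
    intro x
    obtain ⟨P, f, hf, hmem⟩ := hgr x
    obtain ⟨c, hc⟩ := hinn P f hf
    refine ⟨c, fun a b hab => ?_⟩
    obtain ⟨h1, h2⟩ := (hmem a b).1 hab
    exact hc a b h1 h2
  choose c hc using hc
  let r : X → X := fun x => orbRep (Quotient.mk'' x : Orb (S × S) X)
  let ρ₁ : X → S := fun x => (delta (S × S) x).1 * c (r x) * ((delta (S × S) x).2)⁻¹
  have P1 : ∀ (x : X) (a b : S), ((a, b) : S × S) • r x = x → (a * c (r x) * b⁻¹)⁻¹ * ρ₁ x ∈ Q := by
    intro x a b hab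
    have h1 : delta (S × S) x • r x = x := delta_spec x
    set a' := (delta (S × S) x).1 with ha'
    set b' := (delta (S × S) x).2 with hb'
    have h2 : ((a⁻¹ * a', b⁻¹ * b') : S × S) ∈ MulAction.stabilizer (S × S) (r x) := by
      rw [MulAction.mem_stabilizer_iff]
      have e : ((a⁻¹ * a', b⁻¹ * b') : S × S) = (a, b)⁻¹ * delta (S × S) x := by
        apply Prod.ext <;> simp [ha', hb']
      rw [e, mul_smul, h1, inv_smul_eq_iff, hab]
    have h3 := hc (r x) _ _ h2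
    have e : (a * c (r x) * b⁻¹)⁻¹ * ρ₁ x
        = b' * (((c (r x))⁻¹ * (a⁻¹ * a') * c (r x))⁻¹ * (b⁻¹ * b'))⁻¹ * b'⁻¹ := by
      show (a * c (r x) * b⁻¹)⁻¹ * (a' * c (r x) * b'⁻¹) = _
      group
    rw [e]
    exact hQn.conj_mem _ (Q.inv_mem h3) b'
  refine ⟨ρ₁, fun s t x => ?_⟩
  have hr : r ((s, t) • x) = r x := by
    show orbRep (Quotient.mk'' (((s, t) : S × S) • x) : Orb (S × S) X) = orbRep (Quotient.mk'' x)
    rw [mk_smul]
  have h1 : delta (S × S) x • r x = x := delta_spec x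
  have h2 : ((s * (delta (S × S) x).1, t * (delta (S × S) x).2) : S × S) • r ((s, t) • x) = ((s, t) : S × S) • x := by
    rw [hr]
    have e : ((s * (delta (S × S) x).1, t * (delta (S × S) x).2) : S × S) = (s, t) * delta (S × S) x := rfl
    rw [e, mul_smul, h1]
  have h3 := P1 (((s, t) : S × S) • x) _ _ h2
  rw [hr] at h3
  have e : s * ρ₁ x * t⁻¹ = s * (delta (S × S) x).1 * c (r x) * (t * (delta (S × S) x).2)⁻¹ := by
    show s * ((delta (S × S) x).1 * c (r x) * ((delta (S × S) x).2)⁻¹) * t⁻¹ = _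
    group
  rw [e]
  exact h3

/-- a function on the biset, equivariant on the right and equivariant modulo `Q` on the left -/
theorem exists_rho {X : Type u} [MulAction (S × S) X]
    (hgr : ∀ x : X, IsGraph F (MulAction.stabilizer (S × S) x))
    (Q : Subgroup S) [hQn : Q.Normal]
    (hinn : ∀ (P : Subgroup Ω) (f : Ω → Ω), Mor F P f →
      ∃ c : S, ∀ a b : S, (a : Ω) ∈ P → f a = b → (c⁻¹ * a * c)⁻¹ * b ∈ Q) :
    ∃ ρ : X → S, (∀ (t : S) (x : X), ρ (((1 : S), t) • x) = ρ x * t⁻¹) ∧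
      ∀ (s : S) (x : X), s * ρ x * (ρ ((s, (1 : S)) • x))⁻¹ ∈ Q := by
  obtain ⟨ρ₁, hρ₁⟩ := exists_rho₁ hgr Q hinn
  letI : MulAction S X := rightAct S X
  have hsm : ∀ (t : S) (x : X), t • x = ((1 : S), t) • x := fun _ _ => rfl
  have hfree : ∀ (t : S) (x : X), t • x = x → t = 1 := fun t x h => rightAct_free hgr t x h
  let ρ : X → S := fun x => ρ₁ (orbRep (Quotient.mk'' x : Orb S X)) * (delta S x)⁻¹
  refine ⟨ρ, ?_, ?_⟩
  · intro t x
    show ρ₁ (orbRep (Quotient.mk'' (t • x) : Orb S X)) * (delta S (t • x))⁻¹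
      = ρ₁ (orbRep (Quotient.mk'' x : Orb S X)) * (delta S x)⁻¹ * t⁻¹
    rw [mk_smul, delta_smul hfree]
    group
  · intro s x
    set y := ((s, (1 : S)) : S × S) • x with hy
    set r := orbRep (Quotient.mk'' x : Orb S X) with hr
    set r' := orbRep (Quotient.mk'' y : Orb S X) with hr'
    have h1 : ((1 : S), delta S x) • r = x := delta_spec (T := S) x
    have h2 : ((1 : S), delta S y) • r' = y := delta_spec (T := S) y
    have h3 : r' = ((s, (delta S y)⁻¹ * delta S x) : S × S) • r := by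
      have e : ((s, (delta S y)⁻¹ * delta S x) : S × S)
          = ((1 : S), delta S y)⁻¹ * ((s, (1 : S)) * ((1 : S), delta S x)) := by
        apply Prod.ext <;> simp
      rw [e, mul_smul, mul_smul, h1, ← hy, eq_inv_smul_iff, h2]
    have h4 := hρ₁ s ((delta S y)⁻¹ * delta S x) r
    rw [← h3] at h4
    set m := s * ρ₁ r * ((delta S y)⁻¹ * delta S x)⁻¹ with hm
    have e : s * ρ x * (ρ y)⁻¹ = m * (m⁻¹ * ρ₁ r')⁻¹ * m⁻¹ := by
      show s * (ρ₁ r * (delta S x)⁻¹) * (ρ₁ r' * (delta S y)⁻¹)⁻¹ = _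
      rw [hm]
      group
    rw [e]
    exact hQn.conj_mem _ (Q.inv_mem h4) m

open scoped Classical in
/-- **Extension of stable homomorphisms.** Let `Q` be normal in `S` such that every map of the saturated system `F` is,
modulo `Q`, a conjugation by an element of `S`, and such that `Q` is generated by the quotients `x⁻¹ φ(x)` lying in `Q`.
Then a power, prime to `p`, of every `S`-stable homomorphism on `Q` extends to `S`. -/
theorem exists_hom_extension [Finite S] {p : ℕ} [Fact p.Prime] (hS : IsPGroup p S) (hF : F.IsSaturated p)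
    (Q : Subgroup S) [hQn : Q.Normal]
    (hinn : ∀ (P : Subgroup Ω) (f : Ω → Ω), Mor F P f →
      ∃ c : S, ∀ a b : S, (a : Ω) ∈ P → f a = b → (c⁻¹ * a * c)⁻¹ * b ∈ Q)
    (hgen : Q ≤ Subgroup.closure {y : S | ∃ (P : Subgroup Ω) (φ : P →* Ω) (hφ : φ ∈ F.Hom P) (x : P),
        (⟨x, (F.le_of_mem hφ).1 x.2⟩ : S) ∈ Q ∧ (⟨φ x, (F.le_of_mem hφ).2 x⟩ : S) ∈ Q ∧
        y = (⟨x, (F.le_of_mem hφ).1 x.2⟩ : S)⁻¹ * ⟨φ x, (F.le_of_mem hφ).2 x⟩})
    {A : Type*} [CommGroup A] (ν : Q →* A)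
    (hν : ∀ (s : S) (q : Q), ν ⟨s * q * s⁻¹, hQn.conj_mem q q.2 s⟩ = ν q) :
    ∃ (μ : S →* A) (k : ℕ), ¬ p ∣ k ∧ ∀ q : Q, μ q = ν q ^ k := by
  obtain ⟨X, iX, fX, hgr, hst, k₀, hk₀, hpk₀⟩ := exists_char_biset hS hF
  letI : MulAction S X := rightAct S X
  have hsm : ∀ (t : S) (x : X), t • x = ((1 : S), t) • x := fun _ _ => rfl
  haveI : SMulCommClass (rightCentralizer S X) S X := ⟨fun γ t x => by
    show (γ : Equiv.Perm X) (t • x) = t • (γ : Equiv.Perm X) x
    rw [hsm, hsm]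
    exact mem_rightCentralizer.1 γ.2 t x⟩
  have hfree : ∀ (t : S) (x : X), t • x = x → t = 1 := fun t x h => rightAct_free hgr t x h
  haveI : Fintype (Orb S X) := Fintype.ofFinite _
  have hcard : Fintype.card (Orb S X) = k₀ := by
    have h1 := Nat.card_congr (orbEquiv (T := S) (X := X) hfree)
    rw [Nat.card_prod, hk₀, mul_comm, Nat.card_eq_fintype_card (α := Orb S X)] at h1
    have hpos : 0 < Nat.card S := Nat.card_pos
    exact (Nat.eq_of_mul_eq_mul_right hpos h1).symm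
  obtain ⟨ρ, hρr, hρl⟩ := exists_rho hgr Q hinn
  let νh : S → A := fun t => if h : t ∈ Q then ν ⟨t, h⟩ else 1
  have hνh : ∀ (t : S) (h : t ∈ Q), νh t = ν ⟨t, h⟩ := fun t h => dif_pos h
  have hdata : GaschData (leftHom S X) Q νh ρ := by
    refine ⟨fun t q hq => hQn.conj_mem q hq t, ?_, ?_, ?_, ?_⟩
    · intro a b ha hb
      rw [hνh _ (Q.mul_mem ha hb), hνh _ ha, hνh _ hb, ← map_mul]
      rfl
    · intro t q hq
      rw [hνh _ (hQn.conj_mem q hq t), hνh _ hq]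
      exact hν t ⟨q, hq⟩
    · intro t x
      exact hρr t x
    · intro t x
      exact hρl t x
  refine ⟨gdHom (X := X) hdata, k₀, hpk₀, fun q => ?_⟩
  rw [gdHom_apply, ← hcard, ← hνh q q.2]
  apply gd_eq_pow hfree hdata _ q q.2
  refine le_trans hgen (Subgroup.closure_mono ?_)
  rintro y ⟨P, φ, hφ, x, hx, hφx, rfl⟩
  obtain ⟨ε, hε⟩ := exists_intertwiner hgr hst (F.le_of_mem hφ).1 hφ (F.le_of_mem hφ).2
  refine ⟨_, _, hx, hφx, ⟨ε, ?_⟩, rfl⟩
  rw [hε x]
  group

end Gasch2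

end Cfsg.Agent.Helper85
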