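import Mathlib
import Cfsg.Agent.Lib.Helper85.KL10
import Cfsg.Agent.Lib.Helper31.GTMain
import Cfsg.Agent.Lib.Helper11.ZJ11

set_option autoImplicit false

/-! # The functor `Z(J(-))` satisfies the hypotheses of the reduction, for odd `p` (Glauberman–Thompson) -/

namespace Cfsg.Agent.Helper85.KL

open Cfsg Cfsg.FusionSystem Cfsg.Agent.Helper87

universe u

/-- the functor `Q ↦ Z(J(Q))` (abelian version of the Thompson subgroup) -/
def ZJfun (Q : Type u) [Group Q] : Subgroup Q :=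
  thompsonSubgroupA Q ⊓ Subgroup.centralizer (thompsonSubgroupA Q : Set Q)

theorem WS_ZJfun {Ω : Type u} [Group Ω] (S : Subgroup Ω) : WS ZJfun S = centerThompsonAOf S :=
  (Cfsg.Agent.Helper11.ZJ.centerThompsonAOf_eq' S).symm

section Map

variable {Q R : Type u} [Group Q] [Group R]

theorem maxAb_map (φ : Q ≃* R) {A : Subgroup Q} (hA : A ∈ maxAbelianSubgroups Q) :
    A.map φ.toMonoidHom ∈ maxAbelianSubgroups R := by
  obtain ⟨hc, hmax⟩ := hA
  refine ⟨Cfsg.Agent.Helper11.ZJ.comm_push _ A hc, fun B hB => ?_⟩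
  have h1 : IsMulCommutative (B.map φ.symm.toMonoidHom) := Cfsg.Agent.Helper11.ZJ.comm_push _ B hB
  have h2 := hmax _ h1
  rw [Subgroup.card_map_of_injective φ.symm.injective] at h2
  rw [Subgroup.card_map_of_injective φ.injective]
  exact h2

theorem map_symm_map (φ : Q ≃* R) (B : Subgroup R) :
    (B.map φ.symm.toMonoidHom).map φ.toMonoidHom = B := by
  ext y
  constructor
  · rintro ⟨_, ⟨z, hz, rfl⟩, rfl⟩
    simpa using hz
  · intro hy
    exact ⟨φ.symm y, ⟨y, hy, rfl⟩, by simp⟩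

theorem thompsonSubgroupA_map (φ : Q ≃* R) :
    (thompsonSubgroupA Q).map φ.toMonoidHom = thompsonSubgroupA R := by
  apply le_antisymm
  · rw [Subgroup.map_le_iff_le_comap]
    apply sSup_le
    intro A hA
    rw [← Subgroup.map_le_iff_le_comap]
    exact le_sSup (maxAb_map φ hA)
  · apply sSup_le
    intro B hB
    have h1 : B.map φ.symm.toMonoidHom ≤ thompsonSubgroupA Q := le_sSup (maxAb_map φ.symm hB)
    calc B = (B.map φ.symm.toMonoidHom).map φ.toMonoidHom := (map_symm_map φ B).symm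
      _ ≤ _ := Subgroup.map_mono h1

theorem ZJfun_map (φ : Q ≃* R) : (ZJfun Q).map φ.toMonoidHom = ZJfun R := by
  ext y
  constructor
  · rintro ⟨x, ⟨hxJ, hxC⟩, rfl⟩
    refine ⟨?_, ?_⟩
    · rw [← thompsonSubgroupA_map φ]; exact ⟨x, hxJ, rfl⟩
    · refine Subgroup.mem_centralizer_iff.2 (fun z hz => ?_)
      have hz' : z ∈ (thompsonSubgroupA Q).map φ.toMonoidHom := by
        rw [thompsonSubgroupA_map φ]; exact hz
      obtain ⟨w, hw, rfl⟩ := hz'
      have := Subgroup.mem_centralizer_iff.1 hxC w hw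
      show φ w * φ x = φ x * φ w
      rw [← map_mul, ← map_mul, this]
  · rintro ⟨hyJ, hyC⟩
    have hyJ' : y ∈ (thompsonSubgroupA Q).map φ.toMonoidHom := by
      rw [thompsonSubgroupA_map φ]; exact hyJ
    obtain ⟨x, hxJ, rfl⟩ := hyJ'
    refine ⟨x, ⟨hxJ, Subgroup.mem_centralizer_iff.2 (fun w hw => ?_)⟩, rfl⟩
    apply φ.injective
    rw [map_mul, map_mul]
    refine Subgroup.mem_centralizer_iff.1 hyC (φ w) ?_
    have : φ w ∈ (thompsonSubgroupA Q).map φ.toMonoidHom := ⟨w, hw, rfl⟩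
    rw [thompsonSubgroupA_map φ] at this
    exact this

end Map

theorem ZJfun_ne_bot {p : ℕ} [Fact p.Prime] (Q : Type u) [Group Q] [Finite Q] (hQ : IsPGroup p Q)
    (hne : Nontrivial Q) : ZJfun Q ≠ ⊥ := by
  have hT : IsPGroup p (⊤ : Subgroup Q) := hQ.to_subgroup ⊤
  have hTne : (⊤ : Subgroup Q) ≠ ⊥ := by
    intro h
    obtain ⟨x, hx⟩ := exists_ne (1 : Q)
    have : x ∈ (⊤ : Subgroup Q) := Subgroup.mem_top x
    rw [h, Subgroup.mem_bot] at this
    exact hx this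
  have h0 := Cfsg.Agent.Helper11.ZJ.ZJ_ne_bot hT hTne
  have h1 : centerThompsonAOf (⊤ : Subgroup Q) ≠ ⊥ := by
    rw [Cfsg.Agent.Helper11.ZJ.centerThompsonAOf_eq_W]; exact h0
  rw [Cfsg.Agent.Helper11.ZJ.centerThompsonAOf_eq'] at h1
  intro h
  apply h1
  have e := ZJfun_map (Subgroup.topEquiv (G := Q))
  rw [h] at e
  have e2 : ZJfun ↥(⊤ : Subgroup Q) = ⊥ :=
    (Subgroup.map_eq_bot_iff_of_injective _ (Subgroup.topEquiv (G := Q)).injective).1 e
  show (ZJfun ↥(⊤ : Subgroup Q)).map (⊤ : Subgroup Q).subtype = ⊥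
  rw [e2, Subgroup.map_bot]

theorem hyp_ZJfun {p : ℕ} [Fact p.Prime] (hp : p ≠ 2) : Hyp.{u} p ZJfun := by
  refine ⟨fun Q _ _ hQ hne => ZJfun_ne_bot Q hQ hne, fun Q R _ _ _ _ φ => ZJfun_map φ, ?_⟩
  intro G _ _ P _ hN
  apply Cfsg.Agent.Helper31.GT.glauberman_thompson hp P
  have e : (ZJfun ↥(P : Subgroup G)).map (P : Subgroup G).subtype
      = Cfsg.Agent.Helper11.ZJ.ZJ (P : Subgroup G) := by
    have e1 := Cfsg.Agent.Helper11.ZJ.centerThompsonAOf_eq_W (P : Subgroup G)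
    rw [Cfsg.Agent.Helper11.ZJ.centerThompsonAOf_eq'] at e1
    exact e1
  rw [← e]
  exact hN

end Cfsg.Agent.Helper85.KL
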