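import Mathlib
import Cfsg.Agent.Lib.Helper85.KLD4
import Cfsg.Agent.Lib.Helper85.KL11
import Cfsg.Agent.Lib.Helper11.GTsc2

set_option autoImplicit false

/-! # The functor `Z(J(-))` satisfies the hypotheses of the reduction relative to strongly closed subgroups, `p` odd -/

namespace Cfsg.Agent.Helper85.KLD

open Cfsg Cfsg.FusionSystem Cfsg.Agent.Helper87 Cfsg.Agent.Helper85.KL

universe u

theorem hypD_ZJfun {p : ℕ} [Fact p.Prime] (hp : p ≠ 2) : HypD.{u} p ZJfun := by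
  refine ⟨hyp_ZJfun hp, ?_⟩
  intro G _ _ P D hD _ hN
  rw [WS_ZJfun, Cfsg.Agent.Helper11.ZJ.centerThompsonAOf_eq_W] at hN
  exact Cfsg.Agent.Helper11.GTsc.gtD (Cfsg.Agent.Helper11.ZJ.commSys p) hp P D hD hN

end Cfsg.Agent.Helper85.KLD
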