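import Mathlib

/-!
# M11CT (AS) for helper49's server (S4429): the type-count puzzle `solve_types`.
Staging: parity of `hdc` kills the types with `|c5| = 2`; `hB2`/`hdB` force the two `B ≠ 0` characters to be a pair of
equal degree and opposite `B` (peeling from the largest degree, each step an LP fact); seven cases, each closed by
`linarith` with at most one integer branching.  No `omega` on the big system.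
-/

set_option autoImplicit false
set_option maxHeartbeats 400000
namespace Cfsg.Agent.Helper85.M11CT

theorem h85_bpairs (n3 n4 n5 n6 n7 n8 n14 n15 n16 n17 n23 n25 n26 n27 n33 n34 n38 : ℕ)
    (hB : (n3 : ℤ) + (n4 : ℤ) + (n5 : ℤ) + (n6 : ℤ) + (n7 : ℤ) + (n8 : ℤ) + (n14 : ℤ) + (n15 : ℤ) + (n16 : ℤ) + (n17 : ℤ) + (n23 : ℤ) + (n25 : ℤ) + (n26 : ℤ) + (n27 : ℤ) + (n33 : ℤ) + (n34 : ℤ) + (n38 : ℤ) = 2)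
    (hd : (-4) * (n3 : ℤ) + (4) * (n4 : ℤ) + (-5) * (n5 : ℤ) + (5) * (n6 : ℤ) + (-6) * (n7 : ℤ) + (6) * (n8 : ℤ) + (-15) * (n14 : ℤ) + (15) * (n15 : ℤ) + (-16) * (n16 : ℤ) + (16) * (n17 : ℤ) + (-30) * (n23 : ℤ) + (36) * (n25 : ℤ) + (-40) * (n26 : ℤ) + (40) * (n27 : ℤ) + (-60) * (n33 : ℤ) + (60) * (n34 : ℤ) + (80) * (n38 : ℤ) = 0) :
    n23 = 0 ∧ n25 = 0 ∧ n38 = 0 ∧ n3 = n4 ∧ n5 = n6 ∧ n7 = n8 ∧ n14 = n15 ∧ n16 = n17 ∧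
      n26 = n27 ∧ n33 = n34 := by
  have a1 : n38 = 0 := by linarith
  have a2 : n33 = n34 := by linarith
  have a3 : n26 = n27 := by linarith
  have a4 : n25 = 0 := by linarith
  have a5 : n23 = 0 := by linarith
  have a6 : n16 = n17 := by linarith
  have a7 : n14 = n15 := by linarith
  have a8 : n7 = n8 := by linarith
  have a9 : n5 = n6 := by linarith
  have a10 : n3 = n4 := by linarith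
  exact ⟨a5, a4, a1, a10, a9, a8, a7, a6, a3, a2⟩

theorem h85_odd_pos (a b : ℕ) (W : ℤ) (h : (a : ℤ) + b + 1 = 2 * W) : 1 ≤ a + b := by omega

theorem h85_sum13 (n1 n2 n9 n13 n18 n19 n21 n24 n30 n31 n36 n37 n39 : ℕ) (h : n1 + n2 + n9 + n13 + n18 + n19 + n21 + n24 + n30 + n31 + n36 + n37 + n39 < 1) : n1 = 0 ∧ n2 = 0 ∧ n9 = 0 ∧ n13 = 0 ∧ n18 = 0 ∧ n19 = 0 ∧ n21 = 0 ∧ n24 = 0 ∧ n30 = 0 ∧ n31 = 0 ∧ n36 = 0 ∧ n37 = 0 ∧ n39 = 0 := by omega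

theorem h85_seven (a b c d e f g : ℕ) (h : (a : ℤ) + a + b + b + c + c + d + d + e + e + f + f + g + g = 2) :
    (a = 1 ∧ b = 0 ∧ c = 0 ∧ d = 0 ∧ e = 0 ∧ f = 0 ∧ g = 0) ∨
    (a = 0 ∧ b = 1 ∧ c = 0 ∧ d = 0 ∧ e = 0 ∧ f = 0 ∧ g = 0) ∨
    (a = 0 ∧ b = 0 ∧ c = 1 ∧ d = 0 ∧ e = 0 ∧ f = 0 ∧ g = 0) ∨
    (a = 0 ∧ b = 0 ∧ c = 0 ∧ d = 1 ∧ e = 0 ∧ f = 0 ∧ g = 0) ∨
    (a = 0 ∧ b = 0 ∧ c = 0 ∧ d = 0 ∧ e = 1 ∧ f = 0 ∧ g = 0) ∨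
    (a = 0 ∧ b = 0 ∧ c = 0 ∧ d = 0 ∧ e = 0 ∧ f = 1 ∧ g = 0) ∨
    (a = 0 ∧ b = 0 ∧ c = 0 ∧ d = 0 ∧ e = 0 ∧ f = 0 ∧ g = 1) := by omega

theorem solve_types (n0 : ℕ) (n1 : ℕ) (n2 : ℕ) (n3 : ℕ) (n4 : ℕ) (n5 : ℕ) (n6 : ℕ) (n7 : ℕ) (n8 : ℕ) (n9 : ℕ) (n10 : ℕ) (n11 : ℕ) (n12 : ℕ) (n13 : ℕ) (n14 : ℕ) (n15 : ℕ) (n16 : ℕ) (n17 : ℕ) (n18 : ℕ) (n19 : ℕ) (n20 : ℕ) (n21 : ℕ) (n22 : ℕ) (n23 : ℕ) (n24 : ℕ) (n25 : ℕ) (n26 : ℕ) (n27 : ℕ) (n28 : ℕ) (n29 : ℕ) (n30 : ℕ) (n31 : ℕ) (n32 : ℕ) (n33 : ℕ) (n34 : ℕ) (n35 : ℕ) (n36 : ℕ) (n37 : ℕ) (n38 : ℕ) (n39 : ℕ)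
    (h1 : (n0 : ℤ) = 1)
    (hsq : 1 * (n0 : ℤ) + 4 * (n1 : ℤ) + 9 * (n2 : ℤ) + 16 * (n3 : ℤ) + 16 * (n4 : ℤ) + 25 * (n5 : ℤ) + 25 * (n6 : ℤ) + 36 * (n7 : ℤ) + 36 * (n8 : ℤ) + 64 * (n9 : ℤ) + 81 * (n10 : ℤ) + 100 * (n11 : ℤ) + 121 * (n12 : ℤ) + 144 * (n13 : ℤ) + 225 * (n14 : ℤ) + 225 * (n15 : ℤ) + 256 * (n16 : ℤ) + 256 * (n17 : ℤ) + 324 * (n18 : ℤ) + 324 * (n19 : ℤ) + 400 * (n20 : ℤ) + 484 * (n21 : ℤ) + 576 * (n22 : ℤ) + 900 * (n23 : ℤ) + 1089 * (n24 : ℤ) + 1296 * (n25 : ℤ) + 1600 * (n26 : ℤ) + 1600 * (n27 : ℤ) + 1936 * (n28 : ℤ) + 2025 * (n29 : ℤ) + 2304 * (n30 : ℤ) + 2304 * (n31 : ℤ) + 3025 * (n32 : ℤ) + 3600 * (n33 : ℤ) + 3600 * (n34 : ℤ) + 4356 * (n35 : ℤ) + 5184 * (n36 : ℤ) + 5184 * (n37 : ℤ) + 6400 * (n38 : ℤ) + 7744 * (n39 : ℤ) = 7920)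
    (hc2 : 1 * (n0 : ℤ) + 4 * (n1 : ℤ) + 4 * (n2 : ℤ) + 1 * (n3 : ℤ) + 1 * (n4 : ℤ) + 1 * (n7 : ℤ) + 1 * (n8 : ℤ) + 4 * (n9 : ℤ) + 1 * (n10 : ℤ) + 1 * (n12 : ℤ) + 4 * (n13 : ℤ) + 1 * (n16 : ℤ) + 1 * (n17 : ℤ) + 4 * (n18 : ℤ) + 4 * (n19 : ℤ) + 4 * (n21 : ℤ) + 1 * (n22 : ℤ) + 4 * (n24 : ℤ) + 1 * (n25 : ℤ) + 1 * (n28 : ℤ) + 4 * (n30 : ℤ) + 4 * (n31 : ℤ) + 1 * (n35 : ℤ) + 4 * (n36 : ℤ) + 4 * (n37 : ℤ) + 4 * (n39 : ℤ) = 5)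
    (hdc : 1 * (n0 : ℤ) + 4 * (n1 : ℤ) + (-6) * (n2 : ℤ) + (-4) * (n3 : ℤ) + (-4) * (n4 : ℤ) + 6 * (n7 : ℤ) + 6 * (n8 : ℤ) + (-16) * (n9 : ℤ) + (-9) * (n10 : ℤ) + 11 * (n12 : ℤ) + 24 * (n13 : ℤ) + 16 * (n16 : ℤ) + 16 * (n17 : ℤ) + (-36) * (n18 : ℤ) + (-36) * (n19 : ℤ) + 44 * (n21 : ℤ) + (-24) * (n22 : ℤ) + (-66) * (n24 : ℤ) + 36 * (n25 : ℤ) + (-44) * (n28 : ℤ) + (-96) * (n30 : ℤ) + (-96) * (n31 : ℤ) + 66 * (n35 : ℤ) + 144 * (n36 : ℤ) + 144 * (n37 : ℤ) + (-176) * (n39 : ℤ) = 0)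
    (hA2 : 1 * (n0 : ℤ) + 4 * (n1 : ℤ) + 4 * (n2 : ℤ) + 4 * (n3 : ℤ) + 1 * (n4 : ℤ) + 1 * (n5 : ℤ) + 1 * (n8 : ℤ) + 4 * (n9 : ℤ) + 4 * (n10 : ℤ) + 1 * (n11 : ℤ) + 1 * (n13 : ℤ) + 4 * (n14 : ℤ) + 1 * (n15 : ℤ) + 1 * (n16 : ℤ) + 1 * (n18 : ℤ) + 4 * (n19 : ℤ) + 4 * (n20 : ℤ) + 4 * (n22 : ℤ) + 4 * (n23 : ℤ) + 4 * (n25 : ℤ) + 1 * (n26 : ℤ) + 4 * (n27 : ℤ) + 1 * (n29 : ℤ) + 4 * (n30 : ℤ) + 1 * (n31 : ℤ) + 1 * (n33 : ℤ) + 1 * (n37 : ℤ) + 4 * (n38 : ℤ) = 6)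
    (hAB : (-2) * (n2 : ℤ) + 2 * (n3 : ℤ) + (-1) * (n4 : ℤ) + 1 * (n5 : ℤ) + 1 * (n8 : ℤ) + (-2) * (n9 : ℤ) + 2 * (n14 : ℤ) + (-1) * (n15 : ℤ) + 1 * (n16 : ℤ) + (-1) * (n18 : ℤ) + 2 * (n19 : ℤ) + (-2) * (n23 : ℤ) + (-2) * (n25 : ℤ) + (-1) * (n26 : ℤ) + 2 * (n27 : ℤ) + 2 * (n30 : ℤ) + (-1) * (n31 : ℤ) + 1 * (n33 : ℤ) + 1 * (n37 : ℤ) + (-2) * (n38 : ℤ) = 1)
    (hB2 : 1 * (n2 : ℤ) + 1 * (n3 : ℤ) + 1 * (n4 : ℤ) + 1 * (n5 : ℤ) + 1 * (n6 : ℤ) + 1 * (n7 : ℤ) + 1 * (n8 : ℤ) + 1 * (n9 : ℤ) + 1 * (n14 : ℤ) + 1 * (n15 : ℤ) + 1 * (n16 : ℤ) + 1 * (n17 : ℤ) + 1 * (n18 : ℤ) + 1 * (n19 : ℤ) + 1 * (n23 : ℤ) + 1 * (n25 : ℤ) + 1 * (n26 : ℤ) + 1 * (n27 : ℤ) + 1 * (n30 : ℤ) + 1 * (n31 : ℤ) + 1 * (n33 : ℤ) + 1 * (n34 : ℤ) + 1 * (n36 : ℤ) + 1 * (n37 : ℤ) + 1 * (n38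 : ℤ) = 2)
    (hdA : 1 * (n0 : ℤ) + 4 * (n1 : ℤ) + (-6) * (n2 : ℤ) + (-8) * (n3 : ℤ) + (-4) * (n4 : ℤ) + (-5) * (n5 : ℤ) + 6 * (n8 : ℤ) + 16 * (n9 : ℤ) + (-18) * (n10 : ℤ) + (-10) * (n11 : ℤ) + 12 * (n13 : ℤ) + (-30) * (n14 : ℤ) + (-15) * (n15 : ℤ) + (-16) * (n16 : ℤ) + 18 * (n18 : ℤ) + 36 * (n19 : ℤ) + (-40) * (n20 : ℤ) + 48 * (n22 : ℤ) + 60 * (n23 : ℤ) + (-72) * (n25 : ℤ) + 40 * (n26 : ℤ) + 80 * (n27 : ℤ) + 45 * (n29 : ℤ) + (-96) * (n30 : ℤ) + (-48) * (n31 : ℤ) + (-60) * (n33 : ℤ) + 72 * (n37 : ℤ) + (-160) * (n38 : ℤ) = 0)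
    (hdB : 3 * (n2 : ℤ) + (-4) * (n3 : ℤ) + 4 * (n4 : ℤ) + (-5) * (n5 : ℤ) + 5 * (n6 : ℤ) + (-6) * (n7 : ℤ) + 6 * (n8 : ℤ) + (-8) * (n9 : ℤ) + (-15) * (n14 : ℤ) + 15 * (n15 : ℤ) + (-16) * (n16 : ℤ) + 16 * (n17 : ℤ) + (-18) * (n18 : ℤ) + 18 * (n19 : ℤ) + (-30) * (n23 : ℤ) + 36 * (n25 : ℤ) + (-40) * (n26 : ℤ) + 40 * (n27 : ℤ) + (-48) * (n30 : ℤ) + 48 * (n31 : ℤ) + (-60) * (n33 : ℤ) + 60 * (n34 : ℤ) + (-72) * (n36 : ℤ) + 72 * (n37 : ℤ) + 80 * (n38 : ℤ) = 0) :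
    n0 = 1 ∧ n1 = 0 ∧ n2 = 0 ∧ n3 = 0 ∧ n4 = 0 ∧ n5 = 0 ∧ n6 = 0 ∧ n7 = 0 ∧ n8 = 0 ∧ n9 = 0 ∧ n10 = 0 ∧ n11 = 3 ∧ n12 = 1 ∧ n13 = 0 ∧ n14 = 0 ∧ n15 = 0 ∧ n16 = 1 ∧ n17 = 1 ∧ n18 = 0 ∧ n19 = 0 ∧ n20 = 0 ∧ n21 = 0 ∧ n22 = 0 ∧ n23 = 0 ∧ n24 = 0 ∧ n25 = 0 ∧ n26 = 0 ∧ n27 = 0 ∧ n28 = 1 ∧ n29 = 1 ∧ n30 = 0 ∧ n31 = 0 ∧ n32 = 1 ∧ n33 = 0 ∧ n34 = 0 ∧ n35 = 0 ∧ n36 = 0 ∧ n37 = 0 ∧ n38 = 0 ∧ n39 = 0  := by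
  obtain ⟨W, hW⟩ : ∃ W : ℤ, (n10 : ℤ) + n12 + 1 = 2 * W :=
    ⟨5 * (n10 : ℤ) - 5 * (n12 : ℤ) - ((2) * (n1 : ℤ) + (-3) * (n2 : ℤ) + (-2) * (n3 : ℤ) + (-2) * (n4 : ℤ) + (3) * (n7 : ℤ) + (3) * (n8 : ℤ) + (-8) * (n9 : ℤ) + (12) * (n13 : ℤ) + (8) * (n16 : ℤ) + (8) * (n17 : ℤ) + (-18) * (n18 : ℤ) + (-18) * (n19 : ℤ) + (22) * (n21 : ℤ) + (-12) * (n22 : ℤ) + (-33) * (n24 : ℤ) + (18) * (n25 : ℤ) + (-22) * (n28 : ℤ) + (-48) * (n30 : ℤ) + (-48) * (n31 : ℤ) + (33) * (n35 : ℤ) + (72) * (n36 : ℤ) + (72) * (n37 : ℤ) + (-88) * (n39 : ℤ)), by linear_combination hdc - h1⟩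
  have hpos : 1 ≤ n10 + n12 := h85_odd_pos n10 n12 W hW
  clear hW W
  have s1 : n1 + n2 + n9 + n13 + n18 + n19 + n21 + n24 + n30 + n31 + n36 + n37 + n39 < 1 := by
    clear hsq hdc hA2 hAB hB2 hdA hdB
    linarith
  obtain ⟨rfl, rfl, rfl, rfl, rfl, rfl, rfl, rfl, rfl, rfl, rfl, rfl, rfl⟩ := h85_sum13 _ _ _ _ _ _ _ _ _ _ _ _ _ s1
  clear s1 hpos
  simp only [Nat.cast_zero, mul_zero, add_zero, zero_add] at hsq hc2 hdc hA2 hAB hB2 hdA hdB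
  obtain ⟨rfl, rfl, rfl, rfl, rfl, rfl, rfl, rfl, rfl, rfl⟩ :=
    h85_bpairs n3 n4 n5 n6 n7 n8 n14 n15 n16 n17 n23 n25 n26 n27 n33 n34 n38
      (by linear_combination hB2) (by linear_combination hdB)
  simp only [Nat.cast_zero, mul_zero, add_zero, zero_add] at hsq hc2 hdc hA2 hAB hB2 hdA hdB
  have h7 := h85_seven n3 n5 n7 n14 n16 n26 n33 (by linear_combination hB2)
  clear hAB hB2 hdB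
  have hn0 : n0 = 1 := by exact_mod_cast h1
  subst hn0
  rcases h7 with ⟨rfl, rfl, rfl, rfl, rfl, rfl, rfl⟩ | ⟨rfl, rfl, rfl, rfl, rfl, rfl, rfl⟩ |
    ⟨rfl, rfl, rfl, rfl, rfl, rfl, rfl⟩ | ⟨rfl, rfl, rfl, rfl, rfl, rfl, rfl⟩ |
    ⟨rfl, rfl, rfl, rfl, rfl, rfl, rfl⟩ | ⟨rfl, rfl, rfl, rfl, rfl, rfl, rfl⟩ |
    ⟨rfl, rfl, rfl, rfl, rfl, rfl, rfl⟩
  · -- (3,4)
    exfalso; linarith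
  · -- (5,6)
    have e10 : n10 = 0 := by linarith
    have e20 : n20 = 0 := by linarith
    have e22 : n22 = 0 := by linarith
    rcases Nat.eq_zero_or_pos n29 with h | h
    · exfalso; subst h; norm_num at hA2 hdA; linarith
    · exfalso; linarith
  · -- (7,8)
    have e10 : n10 = 0 := by linarith
    have e20 : n20 = 0 := by linarith
    have e22 : n22 = 0 := by linarith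
    rcases Nat.eq_zero_or_pos n29 with h | h
    · exfalso; subst h; norm_num at hA2 hdA; linarith
    · exfalso; linarith
  · -- (14,15)
    exfalso; linarith
  · -- (16,17)
    have e10 : n10 = 0 := by linarith
    have e20 : n20 = 0 := by linarith
    have e22 : n22 = 0 := by linarith
    have e29 : n29 = 1 := by linarith
    have e11 : n11 = 3 := by linarith
    have e35 : n35 = 0 := by linarith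
    have e28 : n28 = 1 := by linarith
    have e12 : n12 = 1 := by linarith
    have e32 : n32 = 1 := by linarith
    subst e10 e20 e22 e29 e11 e35 e28 e12 e32
    simp
  · -- (26,27)
    exfalso; linarith
  · -- (33,34)
    have e10 : n10 = 0 := by linarith
    have e20 : n20 = 0 := by linarith
    have e22 : n22 = 0 := by linarith
    rcases Nat.eq_zero_or_pos n29 with h | h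
    · exfalso; subst h; norm_num at hA2 hdA; linarith
    · exfalso; linarith

end Cfsg.Agent.Helper85.M11CT
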