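import Mathlib

/-!
# O2520 / S3C (helper86 sub-server, S0984) piece (K1): fusion control for an abelian Sylow (helper85)
-/

set_option autoImplicit false

namespace Cfsg.Agent.Helper85.O2520

open scoped Classical

universe u

/-- (K1) FUSION CONTROL (Burnside): two elements of an abelian Sylow subgroup that are conjugate in `G`
are conjugate by an element of its normaliser. -/
theorem fusion_abelian_sylow {G : Type u} [Group G] [Finite G] {p : ℕ} [Fact p.Prime] (P : Sylow p G)
    (hab : ∀ a ∈ (P : Subgroup G), ∀ b ∈ (P : Subgroup G), a * b = b * a)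
    (z z' : G) (hz : z ∈ (P : Subgroup G)) (hz' : z' ∈ (P : Subgroup G)) (h : IsConj z z') :
    ∃ n ∈ Subgroup.normalizer ((P : Subgroup G) : Set G), n * z * n⁻¹ = z' := by
  obtain ⟨g, hg⟩ := isConj_iff.mp h
  have hxc : z ∈ Subgroup.centralizer ((P : Subgroup G) : Set G) := by
    rw [Subgroup.mem_centralizer_iff]
    intro b hb
    exact hab b hb z hz
  have hyc : (g⁻¹)⁻¹ * z * g⁻¹ ∈ Subgroup.centralizer ((P : Subgroup G) : Set G) := by
    rw [inv_inv, hg, Subgroup.mem_centralizer_iff]
    intro b hb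
    exact hab b hb z' hz'
  obtain ⟨n, hn, hn'⟩ := Sylow.conj_eq_normalizer_conj_of_mem_centralizer P z g⁻¹ hxc hyc
  refine ⟨n⁻¹, Subgroup.inv_mem _ hn, ?_⟩
  rw [inv_inv, ← hn', inv_inv, hg]

end Cfsg.Agent.Helper85.O2520
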