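import Mathlib
import Cfsg.Agent.Lib.Helper17.Simple
import Cfsg.Agent.Lib.Helper17.SylowLink
import Cfsg.Agent.Lib.Helper17.PrimeSylow
import Cfsg.Agent.Lib.Helper17.Burnside

/-!
# O2520 / S3C (helper86 sub-server, S0984) piece (K6): `|C_G(y)| ∈ {9, 36}` (helper85)
-/

set_option autoImplicit false

namespace Cfsg.Agent.Helper85.O2520

open scoped Classical

universe u

/-- an element of order `r` commuting with an element `w` of prime order `q`, where the Sylow `q`-subgroups have
order `q`: `r` divides the order of the normaliser of the Sylow `q`-subgroup containing `w`, and `y`, `w` lie in its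
centraliser -/
theorem h85_commuting_prime {G : Type u} [Group G] [Finite G] {q : ℕ} [hq : Fact q.Prime]
    (hS : ∀ Q : Sylow q G, Nat.card (Q : Subgroup G) = q) (y w : G) (hw : orderOf w = q)
    (hyw : y * w = w * y) :
    ∃ Q : Sylow q G, y ∈ Subgroup.centralizer ((Q : Subgroup G) : Set G) ∧
      w ∈ Subgroup.centralizer ((Q : Subgroup G) : Set G) := by
  obtain ⟨Q, hwQ⟩ := Cfsg.Agent.Helper17.exists_sylow_mem_of_orderOf w hw
  have hw1 : w ≠ 1 := by
    intro h
    rw [h, orderOf_one] at hw
    exact hq.out.one_lt.ne hw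
  have hz := (Cfsg.Agent.Helper17.zpowers_eq_of_card_prime (Q : Subgroup G) (hS Q) w hwQ hw1).1
  refine ⟨Q, ?_, ?_⟩
  · rw [Subgroup.mem_centralizer_iff]
    intro h hh
    rw [SetLike.mem_coe, ← hz, Subgroup.mem_zpowers_iff] at hh
    obtain ⟨k, rfl⟩ := hh
    have hc : Commute y w := hyw
    exact (hc.zpow_right k).eq.symm
  · rw [Subgroup.mem_centralizer_iff]
    intro h hh
    rw [SetLike.mem_coe, ← hz, Subgroup.mem_zpowers_iff] at hh
    obtain ⟨k, rfl⟩ := hh
    exact ((Commute.refl w).zpow_right k).eq.symm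

/-- (K6) `|C_G(y)| ∈ {9, 36}`. -/
theorem card_centralizer_cases {G : Type u} [Group G] [Finite G] [IsSimpleGroup G] (hG : Nat.card G = 2520)
    (h7 : Nat.card (Sylow 7 G) = 120) (h5 : Nat.card (Sylow 5 G) = 126) (P : Sylow 3 G)
    (hab : ∀ a ∈ (P : Subgroup G), ∀ b ∈ (P : Subgroup G), a * b = b * a)
    (y : G) (hyP : y ∈ (P : Subgroup G)) (hy : orderOf y = 3)
    (hNy : ∀ n ∈ Subgroup.normalizer ((P : Subgroup G) : Set G), n * y = y * n → n ∈ (P : Subgroup G)) :
    Nat.card (Subgroup.centralizer ({y} : Set G)) = 9 ∨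
      Nat.card (Subgroup.centralizer ({y} : Set G)) = 36 := by
  haveI : Fact (Nat.Prime 3) := ⟨by norm_num⟩
  haveI : Fact (Nat.Prime 5) := ⟨by norm_num⟩
  haveI : Fact (Nat.Prime 7) := ⟨by norm_num⟩
  have hP9 : Nat.card (P : Subgroup G) = 9 := by
    have hG3 : Nat.card G = 3 ^ 2 * 280 := by rw [hG]; norm_num
    have := Cfsg.Agent.Helper17.sylow_card_eq P hG3 (by norm_num)
    simpa using this
  have hS5 : ∀ Q : Sylow 5 G, Nat.card (Q : Subgroup G) = 5 := fun Q => by
    have hG5 : Nat.card G = 5 ^ 1 * 504 := by rw [hG]; norm_num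
    have := Cfsg.Agent.Helper17.sylow_card_eq Q hG5 (by norm_num)
    simpa using this
  have hS7 : ∀ Q : Sylow 7 G, Nat.card (Q : Subgroup G) = 7 := fun Q => by
    have hG7 : Nat.card G = 7 ^ 1 * 360 := by rw [hG]; norm_num
    have := Cfsg.Agent.Helper17.sylow_card_eq Q hG7 (by norm_num)
    simpa using this
  have hPM : (P : Subgroup G) ≤ Subgroup.centralizer ({y} : Set G) := by
    intro a ha
    rw [Subgroup.mem_centralizer_singleton_iff]
    exact hab a ha y hyP
  have hd9 : 9 ∣ Nat.card (Subgroup.centralizer ({y} : Set G)) := by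
    rw [← hP9]; exact Subgroup.card_dvd_of_le hPM
  have hdG : Nat.card (Subgroup.centralizer ({y} : Set G)) ∣ 2520 := by
    rw [← hG]; exact Subgroup.card_subgroup_dvd_card _
  -- normaliser orders
  have hnorm : ∀ (q m : ℕ) [Fact q.Prime] (Q : Sylow q G), Nat.card (Sylow q G) = m →
      Nat.card (Subgroup.normalizer ((Q : Subgroup G) : Set G)) * m = 2520 := by
    intro q m _ Q hm
    have h3 : Nat.card (Sylow q G) = (Subgroup.normalizer ((Q : Subgroup G) : Set G)).index :=
      Sylow.card_eq_index_normalizer Q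
    have h4 := Subgroup.card_mul_index (Subgroup.normalizer ((Q : Subgroup G) : Set G))
    rw [← h3, hm, hG] at h4
    exact h4
  -- 5 does not divide
  have hn5 : ¬ 5 ∣ Nat.card (Subgroup.centralizer ({y} : Set G)) := by
    intro hd
    obtain ⟨w, hw⟩ := exists_prime_orderOf_dvd_card' (G := Subgroup.centralizer ({y} : Set G)) 5 hd
    have hw' : orderOf (w : G) = 5 := by rw [Subgroup.orderOf_coe]; exact hw
    have hyw : y * (w : G) = (w : G) * y := by
      have := w.2
      rw [Subgroup.mem_centralizer_singleton_iff] at this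
      exact this.symm
    obtain ⟨Q, hyQ, -⟩ := h85_commuting_prime hS5 y (w : G) hw' hyw
    have hyN := Subgroup.centralizer_le_normalizer _ hyQ
    have hcard := hnorm 5 126 Q h5
    have hN20 : Nat.card (Subgroup.normalizer ((Q : Subgroup G) : Set G)) = 20 := by omega
    have h1 : orderOf (⟨y, hyN⟩ : Subgroup.normalizer ((Q : Subgroup G) : Set G)) ∣
        Nat.card (Subgroup.normalizer ((Q : Subgroup G) : Set G)) := orderOf_dvd_natCard _
    rw [Subgroup.orderOf_mk, hy, hN20] at h1
    omega
  -- 7 does not divide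
  have hn7 : ¬ 7 ∣ Nat.card (Subgroup.centralizer ({y} : Set G)) := by
    intro hd
    obtain ⟨w, hw⟩ := exists_prime_orderOf_dvd_card' (G := Subgroup.centralizer ({y} : Set G)) 7 hd
    have hw' : orderOf (w : G) = 7 := by rw [Subgroup.orderOf_coe]; exact hw
    have hyw : y * (w : G) = (w : G) * y := by
      have := w.2
      rw [Subgroup.mem_centralizer_singleton_iff] at this
      exact this.symm
    obtain ⟨Q, hyQ, hwQ⟩ := h85_commuting_prime hS7 y (w : G) hw' hyw
    have hcard := hnorm 7 120 Q h7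
    have hN21 : Nat.card (Subgroup.normalizer ((Q : Subgroup G) : Set G)) = 21 := by omega
    have h1 : orderOf (⟨y, hyQ⟩ : Subgroup.centralizer ((Q : Subgroup G) : Set G)) ∣
        Nat.card (Subgroup.centralizer ((Q : Subgroup G) : Set G)) := orderOf_dvd_natCard _
    rw [Subgroup.orderOf_mk, hy] at h1
    have h2 : orderOf (⟨(w : G), hwQ⟩ : Subgroup.centralizer ((Q : Subgroup G) : Set G)) ∣
        Nat.card (Subgroup.centralizer ((Q : Subgroup G) : Set G)) := orderOf_dvd_natCard _
    rw [Subgroup.orderOf_mk, hw'] at h2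
    have h21 : 21 ∣ Nat.card (Subgroup.centralizer ((Q : Subgroup G) : Set G)) :=
      Nat.Coprime.mul_dvd_of_dvd_of_dvd (by norm_num : Nat.Coprime 3 7) h1 h2
    have hle : Subgroup.centralizer ((Q : Subgroup G) : Set G) ≤
        Subgroup.normalizer ((Q : Subgroup G) : Set G) := Subgroup.centralizer_le_normalizer _
    have hge : Nat.card (Subgroup.normalizer ((Q : Subgroup G) : Set G)) ≤
        Nat.card (Subgroup.centralizer ((Q : Subgroup G) : Set G)) := by
      rw [hN21]; exact Nat.le_of_dvd Nat.card_pos h21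
    have heq := Subgroup.eq_of_le_of_card_ge hle hge
    apply Cfsg.Agent.Helper17.not_normalizer_le_centralizer Q (by rw [hS7 Q]; norm_num)
      (by rw [hS7 Q, hG]; norm_num)
    rw [heq]
  -- the Sylow 3 count in `M`
  have hinf : Subgroup.normalizer ((P : Subgroup G) : Set G) ⊓ Subgroup.centralizer ({y} : Set G) =
      (P : Subgroup G) := by
    apply le_antisymm
    · intro n hn
      rw [Subgroup.mem_inf] at hn
      obtain ⟨hn1, hn2⟩ := hn
      rw [Subgroup.mem_centralizer_singleton_iff] at hn2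
      exact hNy n hn1 hn2
    · exact le_inf Subgroup.le_normalizer hPM
  have hn3 : Nat.card (Sylow 3 (Subgroup.centralizer ({y} : Set G))) * 9 =
      Nat.card (Subgroup.centralizer ({y} : Set G)) ∧
      Nat.card (Sylow 3 (Subgroup.centralizer ({y} : Set G))) % 3 = 1 := by
    refine ⟨?_, ?_⟩
    · have e1' : Nat.card (Sylow 3 (Subgroup.centralizer ({y} : Set G))) = (Subgroup.normalizer
          (((P.subtype hPM : Sylow 3 (Subgroup.centralizer ({y} : Set G))) :
            Subgroup (Subgroup.centralizer ({y} : Set G))) :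
            Set (Subgroup.centralizer ({y} : Set G)))).index :=
        Sylow.card_eq_index_normalizer (P.subtype hPM)
      have e2 := Subgroup.card_mul_index (Subgroup.normalizer
          (((P.subtype hPM : Sylow 3 (Subgroup.centralizer ({y} : Set G))) :
            Subgroup (Subgroup.centralizer ({y} : Set G))) :
            Set (Subgroup.centralizer ({y} : Set G))))
      have e3 := Cfsg.Agent.Helper17.card_normalizer_subtype (Subgroup.centralizer ({y} : Set G)) P hPM
      rw [hinf, hP9] at e3
      rw [e3, ← e1'] at e2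
      rw [← e2, mul_comm]
    · exact card_sylow_modEq_one 3 (Subgroup.centralizer ({y} : Set G))
  obtain ⟨hn3a, hn3b⟩ := hn3
  obtain ⟨k, hk⟩ := hd9
  have hnk : Nat.card (Sylow 3 (Subgroup.centralizer ({y} : Set G))) = k := by
    rw [hk] at hn3a
    have : Nat.card (Sylow 3 (Subgroup.centralizer ({y} : Set G))) * 9 = k * 9 := by
      rw [hn3a, mul_comm]
    exact Nat.eq_of_mul_eq_mul_right (by norm_num) this
  rw [hnk] at hn3b
  rw [hk] at hdG hn5 hn7 ⊢
  have hk280 : k ∣ 280 :=
    Nat.dvd_of_mul_dvd_mul_left (by norm_num : 0 < 9) (by simpa using hdG)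
  have hkle : k ≤ 280 := Nat.le_of_dvd (by norm_num) hk280
  have hk5 : ¬ 5 ∣ k := fun h => hn5 (Dvd.dvd.mul_left h 9)
  have hk7 : ¬ 7 ∣ k := fun h => hn7 (Dvd.dvd.mul_left h 9)
  have hkmem : k ∈ Nat.divisors 280 := Nat.mem_divisors.mpr ⟨hk280, by norm_num⟩
  have hdivs : Nat.divisors 280 = {1, 2, 4, 5, 7, 8, 10, 14, 20, 28, 35, 40, 56, 70, 140, 280} := by
    decide
  rw [hdivs] at hkmem
  simp only [Finset.mem_insert, Finset.mem_singleton] at hkmem
  rcases hkmem with rfl | rfl | rfl | rfl | rfl | rfl | rfl | rfl | rfl | rfl | rfl | rfl | rfl | rfl | rfl | rfl <;>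
    first | (left; rfl) | (right; rfl) | omega

end Cfsg.Agent.Helper85.O2520
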