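import Mathlib
import Cfsg.Prelude.Def_Blocks
import Cfsg.Agent.Lib.Helper55.O2520Defs
import Cfsg.Agent.Lib.Helper17.Simple
import Cfsg.Agent.Lib.Helper17.SylowLink
import Cfsg.Agent.Lib.Helper17.PrimeSylow

/-!
# O2520 (helper55 server, S0984) wave 2 piece (OVG): the overgroup lemma (helper85)
-/

set_option autoImplicit false

namespace Cfsg.Agent.Helper85.O2520

open Cfsg Cfsg.Agent.Helper55.O2520
open scoped Classical

universe u

/-- a group of order 252 whose Sylow 7-subgroups are not normal has at most 36 elements of order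
different from 7; stated as: a subgroup of order 36 contains every such element -/
theorem h85_order252 {K : Type u} [Group K] [Finite K] (hK : Nat.card K = 252)
    (h36 : Nat.card (Sylow 7 K) = 36) (M : Subgroup K) (hM : Nat.card M = 36) :
    ∀ x : K, orderOf x ≠ 7 → x ∈ M := by
  haveI : Fact (Nat.Prime 7) := ⟨by norm_num⟩
  haveI := Fintype.ofFinite K
  have hK' : Nat.card K = 7 ^ 1 * 36 := by rw [hK]; norm_num
  have hS7 : ∀ Q : Sylow 7 K, Nat.card (Q : Subgroup K) = 7 := fun Q => by
    have := Cfsg.Agent.Helper17.sylow_card_eq Q hK' (by norm_num)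
    simpa using this
  have hcount := Cfsg.Agent.Helper17.card_orderOf_eq_prime (G := K) (p := 7) hS7
  rw [h36] at hcount
  -- finsets
  have hA : (Finset.univ.filter (fun x : K => orderOf x = 7)).card = 216 := by
    rw [← Fintype.card_subtype, ← Nat.card_eq_fintype_card, hcount]
  have hsplit := Finset.card_filter_add_card_filter_not (s := (Finset.univ : Finset K))
    (fun x : K => orderOf x = 7)
  have huniv : (Finset.univ : Finset K).card = 252 := by
    rw [Finset.card_univ, ← Nat.card_eq_fintype_card, hK]
  have hB : (Finset.univ.filter (fun x : K => ¬ orderOf x = 7)).card = 36 := by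
    rw [hA, huniv] at hsplit
    omega
  have hT : (Finset.univ.filter (fun x : K => x ∈ M)).card = 36 := by
    rw [← Fintype.card_subtype, ← Nat.card_eq_fintype_card]
    exact hM
  have hsub : Finset.univ.filter (fun x : K => x ∈ M) ⊆
      Finset.univ.filter (fun x : K => ¬ orderOf x = 7) := by
    intro x hx
    rw [Finset.mem_filter] at hx ⊢
    refine ⟨hx.1, ?_⟩
    intro ho
    have h1 : orderOf (⟨x, hx.2⟩ : M) ∣ Nat.card M := orderOf_dvd_natCard _
    rw [Subgroup.orderOf_mk, ho, hM] at h1
    omega
  have heq := Finset.eq_of_subset_of_card_le hsub (by rw [hB, hT])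
  intro x hx
  have : x ∈ Finset.univ.filter (fun x : K => ¬ orderOf x = 7) := by
    rw [Finset.mem_filter]; exact ⟨Finset.mem_univ _, hx⟩
  rw [← heq, Finset.mem_filter] at this
  exact this.2

section grp
variable {G : Type u} [Group G] [Finite G] [IsSimpleGroup G] (hG : Nat.card G = 2520)
include hG

/-- the case `|K| = 252` of the overgroup lemma -/
theorem h85_no252 (h7 : Nat.card (Sylow 7 G) = 120) (P : Sylow 3 G)
    (hN : Nat.card (Subgroup.normalizer ((P : Subgroup G) : Set G)) = 36) (K : Subgroup G)
    (h1 : Subgroup.normalizer ((P : Subgroup G) : Set G) < K) (hK : Nat.card K = 252) : False := by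
  haveI : Fact (Nat.Prime 7) := ⟨by norm_num⟩
  haveI : Fact (Nat.Prime 3) := ⟨by norm_num⟩
  have hK' : Nat.card K = 7 ^ 1 * 36 := by rw [hK]; norm_num
  have hG' : Nat.card G = 7 ^ 1 * 360 := by rw [hG]; norm_num
  obtain ⟨hd, hm⟩ := Cfsg.Agent.Helper17.sylow_count (G := K) hK' (by norm_num)
  have hle : Nat.card (Sylow 7 K) ≤ 36 := Nat.le_of_dvd (by norm_num) hd
  have hcases : Nat.card (Sylow 7 K) = 1 ∨ Nat.card (Sylow 7 K) = 36 := by
    generalize Nat.card (Sylow 7 K) = n at hd hm hle
    interval_cases n <;> first | omega | (exfalso; revert hd; decide)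
  rcases hcases with h | h
  · -- a normal Sylow 7-subgroup of `K`
    haveI : Subsingleton (Sylow 7 K) := (Nat.card_eq_one_iff_unique.mp h).1
    obtain ⟨Q⟩ : Nonempty (Sylow 7 K) := inferInstance
    have hQn : (Q : Subgroup K).Normal := Sylow.normal_of_subsingleton Q
    have hQc : Nat.card (Q : Subgroup K) = 7 := by
      have := Cfsg.Agent.Helper17.sylow_card_eq Q hK' (by norm_num)
      simpa using this
    have hQ'c : Nat.card ((Q : Subgroup K).map K.subtype) = 7 := by
      rw [Subgroup.card_map_of_injective K.subtype_injective, hQc]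
    have hpg : IsPGroup 7 ((Q : Subgroup K).map K.subtype) := by
      apply IsPGroup.of_card (n := 1)
      rw [hQ'c, pow_one]
    obtain ⟨R, hR⟩ := hpg.exists_le_sylow
    have hRc : Nat.card (R : Subgroup G) = 7 := by
      have := Cfsg.Agent.Helper17.sylow_card_eq R hG' (by norm_num)
      simpa using this
    have hQR : (Q : Subgroup K).map K.subtype = (R : Subgroup G) :=
      Subgroup.eq_of_le_of_card_ge hR (by rw [hRc, hQ'c])
    have hKn : K ≤ Subgroup.normalizer ((R : Subgroup G) : Set G) := by
      have h2 := Subgroup.le_normalizer_map (H := (Q : Subgroup K)) K.subtype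
      rw [Subgroup.normalizer_eq_top, ← MonoidHom.range_eq_map, Subgroup.range_subtype, hQR] at h2
      exact h2
    have hNR : Nat.card (Subgroup.normalizer ((R : Subgroup G) : Set G)) = 21 := by
      have h3 : Nat.card (Sylow 7 G) = (Subgroup.normalizer ((R : Subgroup G) : Set G)).index :=
        Sylow.card_eq_index_normalizer R
      have h4 := Subgroup.card_mul_index (Subgroup.normalizer ((R : Subgroup G) : Set G))
      rw [← h3, h7, hG] at h4
      omega
    have := Subgroup.card_le_of_le hKn
    omega
  · -- counting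
    have hPK : (P : Subgroup G) ≤ K := le_trans Subgroup.le_normalizer h1.le
    have hMc : Nat.card ((Subgroup.normalizer ((P : Subgroup G) : Set G)).subgroupOf K) = 36 := by
      rw [← hN]
      exact Nat.card_congr (Subgroup.subgroupOfEquivOfLe h1.le).toEquiv
    have key := h85_order252 (K := K) hK h _ hMc
    have hP9 : Nat.card (P : Subgroup G) = 9 := by
      have hG3 : Nat.card G = 3 ^ 2 * 280 := by rw [hG]; norm_num
      have := Cfsg.Agent.Helper17.sylow_card_eq P hG3 (by norm_num)
      simpa using this
    -- every element of `K` normalises `P`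
    have hKN : K ≤ Subgroup.normalizer ((P : Subgroup G) : Set G) := by
      intro k hk
      suffices hsm : k • P = P from Sylow.smul_eq_iff_mem_normalizer.mp hsm
      have hle : ((k • P : Sylow 3 G) : Subgroup G) ≤
          Subgroup.normalizer ((P : Subgroup G) : Set G) := by
        intro y hy
        rw [Sylow.coe_subgroup_smul, Subgroup.mem_smul_pointwise_iff_exists] at hy
        obtain ⟨x, hx, rfl⟩ := hy
        have hxK : x ∈ K := hPK hx
        have hyK : MulAut.conj k • x ∈ K := by
          rw [MulAut.smul_def, MulAut.conj_apply]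
          exact K.mul_mem (K.mul_mem hk hxK) (K.inv_mem hk)
        have hord : orderOf (⟨MulAut.conj k • x, hyK⟩ : K) ≠ 7 := by
          rw [Subgroup.orderOf_mk, MulAut.smul_def, MulAut.conj_apply]
          have e : orderOf (k * x * k⁻¹) = orderOf x := by
            have := (MulAut.conj k).toMulEquiv
            exact orderOf_injective (MulAut.conj k).toMonoidHom (MulAut.conj k).injective x
          rw [e]
          have h1 : orderOf (⟨x, hx⟩ : (P : Subgroup G)) ∣ Nat.card (P : Subgroup G) :=
            orderOf_dvd_natCard _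
          rw [Subgroup.orderOf_mk, hP9] at h1
          intro h7'
          rw [h7'] at h1
          omega
        have := key ⟨MulAut.conj k • x, hyK⟩ hord
        rw [Subgroup.mem_subgroupOf] at this
        exact this
      have hpg : IsPGroup 3 ((k • P : Sylow 3 G) : Subgroup G) := (k • P).2
      have h2 : ((k • P : Sylow 3 G) : Subgroup G) ⊓
          Subgroup.normalizer ((P : Subgroup G) : Set G) =
          ((k • P : Sylow 3 G) : Subgroup G) ⊓ (P : Subgroup G) := hpg.inf_normalizer_sylow P
      rw [inf_eq_left.mpr hle] at h2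
      have hle' : ((k • P : Sylow 3 G) : Subgroup G) ≤ (P : Subgroup G) := by
        rw [h2]; exact inf_le_right
      exact Sylow.ext ((k • P).3 P.2 hle').symm
    exact absurd (lt_of_lt_of_le h1 hKN) (lt_irrefl _)

/-- (OVG) OVERGROUP LEMMA. |N(P)| = 36. |K| = 36k, k ∣ 70, 1 < k < 70; index 70/k ≥ 7 (embed_alt: 2520 ∣ idx!/2)
so k ∈ {2,5,7,10}. k = 2, 5: n_3(K) = |K : N_K(P)| = k is not ≡ 1 mod 3. k = 7: |K| = 252, a Sylow 7 Q of K,
N_K(Q) ≤ N_G(Q) of order 21, n_7(K) ∈ {12, 36}, ≡ 1 mod 7 gives 36; K has 216 elements of order 7, the other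
36 elements are exactly N(P) (36 elements of order prime to 7), so N(P) is normal in K, P (its only Sylow 3)
is normal in K, K ≤ N(P), contradiction. k = 10: 360. -/
theorem overgroup (h7 : Nat.card (Sylow 7 G) = 120) (h3 : Nat.card (Sylow 3 G) = 70)
    (P : Sylow 3 G) (K : Subgroup G)
    (h1 : Subgroup.normalizer ((P : Subgroup G) : Set G) < K) (h2 : K ≠ ⊤) : Nat.card K = 360 := by
  haveI : Fact (Nat.Prime 3) := ⟨by norm_num⟩
  have hna : ¬ IsMulCommutative G :=
    Cfsg.Agent.Helper17.not_comm_of_not_prime (by rw [hG]; norm_num)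
  -- |N| = 36
  have hN : Nat.card (Subgroup.normalizer ((P : Subgroup G) : Set G)) = 36 := by
    have h := Sylow.card_eq_index_normalizer P
    have h' := Subgroup.card_mul_index (Subgroup.normalizer ((P : Subgroup G) : Set G))
    have h'' : Nat.card (Sylow 3 G) = (Subgroup.normalizer ((P : Subgroup G) : Set G)).index := h
    rw [← h'', h3, hG] at h'
    omega
  have hd1 : 36 ∣ Nat.card K := by rw [← hN]; exact Subgroup.card_dvd_of_le h1.le
  have hd2 : Nat.card K ∣ 2520 := by rw [← hG]; exact Subgroup.card_subgroup_dvd_card K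
  have hne1 : Nat.card K ≠ 36 := by
    intro h
    have := Subgroup.eq_of_le_of_card_ge h1.le (by rw [hN, h])
    exact absurd this (ne_of_lt h1)
  have hne2 : Nat.card K ≠ 2520 := by
    intro h
    apply h2
    rw [← Subgroup.card_eq_iff_eq_top, h, hG]
  have hfact := Cfsg.Agent.Helper17.two_mul_card_dvd_factorial hna K h2
  have hidx := Subgroup.card_mul_index K
  rw [hG] at hfact hidx
  -- Sylow 3 count in K
  have hPK : (P : Subgroup G) ≤ K := le_trans Subgroup.le_normalizer h1.le
  have hn3 : Nat.card (Sylow 3 K) * 36 = Nat.card K ∧ Nat.card (Sylow 3 K) % 3 = 1 := by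
    refine ⟨?_, ?_⟩
    · have e1 := Sylow.card_eq_index_normalizer (P.subtype hPK)
      have e1' : Nat.card (Sylow 3 K) = (Subgroup.normalizer
          (((P.subtype hPK : Sylow 3 K) : Subgroup K) : Set K)).index := e1
      have e2 := Subgroup.card_mul_index (Subgroup.normalizer
          (((P.subtype hPK : Sylow 3 K) : Subgroup K) : Set K))
      have e3 := Cfsg.Agent.Helper17.card_normalizer_subtype K P hPK
      rw [inf_eq_left.mpr h1.le, hN] at e3
      rw [e3, ← e1'] at e2
      rw [← e2, mul_comm]
    · have := card_sylow_modEq_one 3 K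
      exact this
  obtain ⟨hn3a, hn3b⟩ := hn3
  obtain ⟨j, hj⟩ := hd1
  have hj70 : j ∣ 70 := by
    rw [hj] at hd2
    exact Nat.dvd_of_mul_dvd_mul_left (by norm_num : 0 < 36) (by simpa using hd2)
  have hjle : j ≤ 70 := Nat.le_of_dvd (by norm_num) hj70
  have hnj : Nat.card (Sylow 3 K) = j := by
    rw [hj] at hn3a
    have : Nat.card (Sylow 3 K) * 36 = j * 36 := by rw [hn3a, mul_comm]
    exact Nat.eq_of_mul_eq_mul_right (by norm_num) this
  rw [hnj] at hn3b
  have hjcases : j = 7 ∨ j = 10 ∨ j = 70 ∨ j = 1 := by
    interval_cases j <;> first | omega | (exfalso; revert hj70; decide)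
  rcases hjcases with rfl | rfl | rfl | rfl
  · exfalso
    exact h85_no252 hG h7 P hN K h1 (by rw [hj])
  · rw [hj]
  · exfalso; apply hne2; rw [hj]
  · exfalso; apply hne1; rw [hj]

end grp

end Cfsg.Agent.Helper85.O2520
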