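import Mathlib
import Cfsg.Agent.Lib.Helper17.Simple

/-!
# O4320 (IDX) for helper50's server (S0977): a proper subgroup of a simple group of order 4320 has index ≥ 9.
-/

set_option autoImplicit false

namespace Cfsg.Agent.Helper85.O4320

universe u

variable {G : Type u} [Group G] [Finite G] [IsSimpleGroup G]

/-- (IDX) `Helper17.Simple.two_mul_card_dvd_factorial`: `2 * 4320 ∣ (H.index)!`, and `8640 ∤ 8!`. -/
theorem index_ge_nine (hG : Nat.card G = 4320) (H : Subgroup G) (hH : H ≠ ⊤) : 9 ≤ H.index := by
  have hnp : ¬ (Nat.card G).Prime := by rw [hG]; norm_num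
  have hd := Cfsg.Agent.Helper17.two_mul_card_dvd_factorial
    (Cfsg.Agent.Helper17.not_comm_of_not_prime hnp) H hH
  rw [hG] at hd
  by_contra hlt
  push Not at hlt
  have h8 : (H.index).factorial ∣ (8 : ℕ).factorial := Nat.factorial_dvd_factorial (by omega)
  have h := dvd_trans hd h8
  revert h
  decide

end Cfsg.Agent.Helper85.O4320
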