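import Mathlib
import Cfsg.Agent.Lib.Helper41.PGrow

/-!
# O459648 (helper53 server, S1022) piece (B4a): `endgame_setup` (helper85)
-/

set_option autoImplicit false

namespace Cfsg.Agent.Helper85.O459648

/-- (B4a) (B2) twice: `S0 ⊇ V` of order 8 inside `N_G(V) = N`, then `K2 ⊇ S0` of order 16 inside
`N_G(S0)`; `g ∈ K2 \ S0`; `g * g ∈ S0` (index 2); `g ∉ N` else `16 ∣ 456` -/
theorem endgame_setup {G : Type*} [Group G] [Finite G] (hG : Nat.card G = 459648)
    (N V : Subgroup G) (hN : Nat.card N = 456) (hV : Nat.card V = 4)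
    (hNV : Subgroup.normalizer (V : Set G) = N) :
    ∃ (S0 : Subgroup G) (g : G), Nat.card S0 = 8 ∧ V ≤ S0 ∧ S0 ≤ N ∧ g ∉ N ∧
      g ∈ Subgroup.normalizer (S0 : Set G) ∧ g * g ∈ S0 := by
  haveI : Fact (Nat.Prime 2) := ⟨Nat.prime_two⟩
  have hV' : Nat.card V = 2 ^ 2 := by rw [hV]; norm_num
  obtain ⟨S0, hS0, hVS, hSN⟩ :=
    Cfsg.Agent.Helper41.PGrow.h41_exists_succ_normalizer V hV' (by rw [hG]; norm_num)
  obtain ⟨K2, hK2, hSK, hKN⟩ :=
    Cfsg.Agent.Helper41.PGrow.h41_exists_succ_normalizer S0 hS0 (by rw [hG]; norm_num)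
  rw [hNV] at hSN
  have hS8 : Nat.card S0 = 8 := by rw [hS0]; norm_num
  have hK16 : Nat.card K2 = 16 := by rw [hK2]; norm_num
  -- an element of `K2` outside `S0`
  have hex : ∃ g ∈ K2, g ∉ S0 := by
    by_contra hcon
    push Not at hcon
    have hle : K2 ≤ S0 := fun x hx => hcon x hx
    have := Subgroup.card_le_of_le hle
    omega
  obtain ⟨g, hgK, hgS⟩ := hex
  -- index two
  have hidx : (S0.subgroupOf K2).index = 2 := by
    have h1 := Subgroup.card_mul_index (S0.subgroupOf K2)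
    have h2 : Nat.card (S0.subgroupOf K2) = 8 := by
      rw [← hS8]
      exact Nat.card_congr (Subgroup.subgroupOfEquivOfLe hSK).toEquiv
    rw [h2, hK16] at h1
    omega
  have hgg : g * g ∈ S0 := by
    have := Subgroup.mul_self_mem_of_index_two hidx (⟨g, hgK⟩ : K2)
    rw [Subgroup.mem_subgroupOf] at this
    simpa using this
  refine ⟨S0, g, hS8, hVS, hSN, ?_, hKN hgK, hgg⟩
  intro hgN
  -- `N ⊓ K2` has order dividing `gcd 456 16 = 8` and contains `S0`
  have hd1 : Nat.card (N ⊓ K2 : Subgroup G) ∣ 456 := by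
    rw [← hN]; exact Subgroup.card_dvd_of_le inf_le_left
  have hd2 : Nat.card (N ⊓ K2 : Subgroup G) ∣ 16 := by
    rw [← hK16]; exact Subgroup.card_dvd_of_le inf_le_right
  have hd3 : Nat.card (N ⊓ K2 : Subgroup G) ∣ 8 := by
    have := Nat.dvd_gcd hd1 hd2
    norm_num at this
    exact this
  have hle : S0 ≤ N ⊓ K2 := le_inf hSN hSK
  have hcard : Nat.card (N ⊓ K2 : Subgroup G) ≤ Nat.card S0 := by
    rw [hS8]; exact Nat.le_of_dvd (by norm_num) hd3
  have heq : S0 = N ⊓ K2 := Subgroup.eq_of_le_of_card_ge hle hcard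
  apply hgS
  rw [heq]
  exact ⟨hgN, hgK⟩

end Cfsg.Agent.Helper85.O459648
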