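import Mathlib
import Cfsg.Agent.Lib.Helper74.M11Defs
import Cfsg.Agent.S1017
import Cfsg.Agent.S1010

/-!
# O5040 server (helper74, S0978): piece (N40).
-/

set_option autoImplicit false

namespace Cfsg.Agent.Helper85.O5040

open Cfsg.Agent.Helper74.M11

variable {G : Type*} [Group G] [Finite G]

/-- pure arithmetic of (N40). -/
theorem h85_n40_arith (n k c : ℕ) (h : n * (k * (5 * c)) = 5040) (hk : k ∣ 4) (hk1 : k ≠ 1)
    (hn : n % 5 = 1) (h7 : ¬ 7 ∣ c) (h21 : n ≠ 21) (h90 : k * (5 * c) ≠ 90) :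
    k * (5 * c) = 40 := by
  have hk4 : k ≤ 4 := Nat.le_of_dvd (by norm_num) hk
  have hc : c ∣ 5040 := ⟨n * k * 5, by rw [← h]; ring⟩
  have hc' : c ≤ 5040 := Nat.le_of_dvd (by norm_num) hc
  have hkpos : 0 < k := Nat.pos_of_dvd_of_pos hk (by norm_num)
  have hcpos : 0 < c := Nat.pos_of_dvd_of_pos hc (by norm_num)
  -- `k ∈ {2, 4}`
  have hk24 : k = 2 ∨ k = 4 := by
    interval_cases k
    · exact absurd rfl hk1
    · exact Or.inl rfl
    · norm_num at hk
    · exact Or.inr rfl
  rcases hk24 with rfl | rfl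
  · -- `n * c = 504`
    have h1 : n * c = 504 := by nlinarith
    have hcd : c ∣ 504 := ⟨n, by rw [← h1]; ring⟩
    have hc504 : c ≤ 504 := Nat.le_of_dvd (by norm_num) hcd
    have hn' : n = 504 / c := by
      rw [← h1, Nat.mul_div_cancel _ hcpos]
    interval_cases c <;> simp_all <;> omega
  · have h1 : n * c = 252 := by nlinarith
    have hcd : c ∣ 252 := ⟨n, by rw [← h1]; ring⟩
    have hc252 : c ≤ 252 := Nat.le_of_dvd (by norm_num) hcd
    have hn' : n = 252 / c := by
      rw [← h1, Nat.mul_div_cancel _ hcpos]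
    interval_cases c <;> simp_all <;> omega

theorem card_normalizer_sylow_five [IsSimpleGroup G] (hG : Nat.card G = 5040)
    (h7 : ∀ g : G, orderOf g = 7 → Nat.card (Cen g) = 7) (R : Sylow 5 G)
    (h90 : Nat.card (NorS (R : Subgroup G)) ≠ 90) :
    Nat.card (NorS (R : Subgroup G)) = 40 := by
  haveI : Fact (Nat.Prime 5) := ⟨by norm_num⟩
  have hR : Nat.card (R : Subgroup G) = 5 := by
    have := Cfsg.Agent.S1017.sylow_card_eq R 1 1008 (by rw [hG]; norm_num) (by norm_num)
    simpa using this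
  obtain ⟨k, c, hk, hk1, hC, hN⟩ :=
    Cfsg.Agent.S1017.normalizer_structure R hR (by rw [hG]; norm_num)
  have hmul := Cfsg.Agent.S1017.card_sylow_mul_card_normalizer R
  have hmod := Cfsg.Agent.S1017.card_sylow_mod (G := G) (p := 5)
  have h21 := Cfsg.Agent.S1010.result (G := G)
  have h7c : ¬ 7 ∣ c := by
    intro hd
    have hd' : 7 ∣ Nat.card (CenS (R : Subgroup G)) := by
      rw [hC]; exact Dvd.dvd.mul_left hd 5
    haveI : Fact (Nat.Prime 7) := ⟨by norm_num⟩
    obtain ⟨x, hx⟩ := exists_prime_orderOf_dvd_card' 7 hd'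
    have hx' : orderOf (x : G) = 7 := by rw [Subgroup.orderOf_coe]; exact hx
    have hle : (R : Subgroup G) ≤ Cen (x : G) := by
      intro r hr
      rw [Subgroup.mem_centralizer_iff]
      intro h hh
      rw [Set.mem_singleton_iff] at hh
      rw [hh]
      exact ((Subgroup.mem_centralizer_iff.1 x.2) r hr).symm
    have hdvd := Subgroup.card_dvd_of_le hle
    rw [hR, h7 _ hx'] at hdvd
    norm_num at hdvd
  show Nat.card (Subgroup.normalizer ((R : Subgroup G) : Set G)) = 40
  have h90' : Nat.card (Subgroup.normalizer ((R : Subgroup G) : Set G)) ≠ 90 := h90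
  rw [hN] at hmul h90' ⊢
  rw [hG] at hmul
  exact h85_n40_arith _ k c hmul hk hk1 hmod h7c h21 h90'

end Cfsg.Agent.Helper85.O5040
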