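import Mathlib
import Cfsg.Agent.S1017
import Cfsg.Agent.Lib.Helper17.Sieve

/-!
# No nonabelian simple group of order 5376 = 2^8 * 3 * 7 (exercise order for S0983)

`n_7 * k * c = 768` with `|C(P_7)| = 7 c` forces `c` even, so an involution `t` commutes with an
element `x` of order 7.  On the 21 Sylow 2-subgroups `x` has no fixed point, so `|Fix t| ≡ 0` mod 7,
and `|Fix t| ≡ 21` mod 4 (`t` is an even permutation): `|Fix t| = 21`, `t = 1`.
-/

set_option autoImplicit false

namespace Cfsg.Agent.Helper85.SV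

open MulAction Subgroup

theorem num5376 (n k c : ℕ) (h : n * (k * (7 * c)) = 5376) (hk : k ∣ 6) (hk1 : k ≠ 1)
    (hn : n % 7 = 1) : 2 ∣ c := by
  by_contra hodd
  have hc2 : Nat.Coprime c 2 :=
    Nat.coprime_comm.1 ((Nat.Prime.coprime_iff_not_dvd Nat.prime_two).2 hodd)
  have hc256 : Nat.Coprime c (2 ^ 8) := hc2.pow_right 8
  have hcd : c ∣ 3 * 2 ^ 8 := by
    refine ⟨n * k, ?_⟩
    have e : n * (k * (7 * c)) = 7 * (c * (n * k)) := by ring
    rw [e] at h
    have := Nat.eq_of_mul_eq_mul_left (by norm_num : 0 < 7) (h.trans (by norm_num : 5376 = 7 * (3 * 2 ^ 8)))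
    exact this.symm
  have hc3 : c ∣ 3 := hc256.dvd_of_dvd_mul_right hcd
  have hcle : c ≤ 3 := Nat.le_of_dvd (by norm_num) hc3
  have hk6 : k ≤ 6 := Nat.le_of_dvd (by norm_num) hk
  interval_cases c <;> interval_cases k <;> omega

theorem no_5376.{u} : Cfsg.Agent.Helper17.Sieve.NoSimple.{u} 5376 := by
  intro G _ _ _ hna hG
  haveI : Fact (Nat.Prime 2) := ⟨Nat.prime_two⟩
  haveI : Fact (Nat.Prime 7) := ⟨by norm_num⟩
  have h2lt : 2 < Nat.card G := by rw [hG]; norm_num
  -- Sylow 7
  obtain ⟨P⟩ : Nonempty (Sylow 7 G) := inferInstance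
  have hP : Nat.card (P : Subgroup G) = 7 := by
    have := Cfsg.Agent.S1017.sylow_card_eq P 1 768 (by rw [hG]; norm_num) (by norm_num)
    simpa using this
  obtain ⟨k, c, hk, hk1, hC, hN⟩ :=
    Cfsg.Agent.S1017.normalizer_structure P hP (by rw [hG]; norm_num)
  have hcount := Cfsg.Agent.S1017.card_sylow_mul_card_normalizer P
  have hmod := Cfsg.Agent.S1017.card_sylow_mod (G := G) (p := 7)
  have hceven : 2 ∣ c := by
    refine num5376 (Nat.card (Sylow 7 G)) k c ?_ (by simpa using hk) hk1 hmod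
    rw [← hN, hcount, hG]
  -- an involution in C(P)
  have h2C : 2 ∣ Nat.card (Subgroup.centralizer ((P : Subgroup G) : Set G)) := by
    rw [hC]; exact Dvd.dvd.mul_left hceven 7
  obtain ⟨t, ht⟩ := exists_prime_orderOf_dvd_card' 2 h2C
  have ht2 : orderOf (t : G) = 2 := by rw [Subgroup.orderOf_coe]; exact ht
  -- an element of order 7 in P
  obtain ⟨x, hx⟩ := exists_prime_orderOf_dvd_card' 7
    (show 7 ∣ Nat.card (P : Subgroup G) by rw [hP])
  have hx7 : orderOf (x : G) = 7 := by rw [Subgroup.orderOf_coe]; exact hx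
  have hcomm : Commute (x : G) (t : G) := by
    have := t.2
    rw [Subgroup.mem_centralizer_iff] at this
    exact this x x.2
  -- the number of Sylow 2-subgroups is 21
  have hn2 := Cfsg.Agent.Helper17.sylow_count (G := G) (p := 2) (k := 8) (m := 21)
    (by rw [hG]; norm_num) (by norm_num)
  have hne2 : Nat.card (Sylow 2 G) ≠ 1 :=
    Cfsg.Agent.Helper17.sylow_count_ne_one (G := G) (p := 2) (k := 8) (m := 21) (by rw [hG]; norm_num)
      (by norm_num) (by norm_num) (by norm_num)
  have hfac := Cfsg.Agent.Helper17.sylow_count_factorial hna hne2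
  have hn21 : Nat.card (Sylow 2 G) = 21 := by
    have hle : Nat.card (Sylow 2 G) ≤ 21 := Nat.le_of_dvd (by norm_num) hn2.1
    rw [hG] at hfac
    have hd := hn2.1
    generalize Nat.card (Sylow 2 G) = n at hle hfac hd hne2
    have hcases : n = 1 ∨ n = 3 ∨ n = 7 ∨ n = 21 := by
      interval_cases n <;> omega
    rcases hcases with h | h | h | h
    · exact absurd h hne2
    · subst h; norm_num [Nat.factorial] at hfac
    · subst h; norm_num [Nat.factorial] at hfac
    · exact h
  -- x fixes no Sylow 2-subgroup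
  have hxfix : ∀ Q : Sylow 2 G, (x : G) • Q ≠ Q := by
    intro Q hQ
    have hxN : (x : G) ∈ Subgroup.normalizer ((Q : Subgroup G) : Set G) :=
      Sylow.smul_eq_iff_mem_normalizer.mp hQ
    have hNQ := Cfsg.Agent.S1017.card_sylow_mul_card_normalizer Q
    rw [hn21, hG] at hNQ
    have hN256 : Nat.card (Subgroup.normalizer ((Q : Subgroup G) : Set G)) = 256 := by omega
    have hdvd : orderOf (x : G) ∣ 256 := by
      rw [← hN256]
      have := orderOf_dvd_natCard (⟨(x : G), hxN⟩ : Subgroup.normalizer ((Q : Subgroup G) : Set G))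
      rwa [Subgroup.orderOf_mk] at this
    rw [hx7] at hdvd
    norm_num at hdvd
  have hfx : Nat.card ↥(fixedBy (Sylow 2 G) (t : G) ∩ fixedBy (Sylow 2 G) (x : G)) = 0 := by
    have : fixedBy (Sylow 2 G) (t : G) ∩ fixedBy (Sylow 2 G) (x : G) = ∅ := by
      ext Q
      simp only [Set.mem_inter_iff, mem_fixedBy, Set.mem_empty_iff_false, iff_false, not_and]
      intro _ h
      exact hxfix Q h
    rw [this]; simp
  have h7 := Cfsg.Agent.S1017.card_fixedBy_modEq_inter (α := Sylow 2 G) (x : G) (t : G) hcomm hx7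
  rw [hfx] at h7
  have h4 := Cfsg.Agent.S1017.card_fixedBy_mod_four h2lt (α := Sylow 2 G) (t : G) ht2
  rw [hn21] at h4
  have hle := Cfsg.Agent.S1017.card_fixedBy_le (α := Sylow 2 G) (t : G)
  rw [hn21] at hle
  have hfix21 : Nat.card (fixedBy (Sylow 2 G) (t : G)) = 21 := by
    unfold Nat.ModEq at h7 h4
    omega
  have hnt : ∃ (g : G) (Q : Sylow 2 G), g • Q ≠ Q :=
    Cfsg.Agent.S1017.sylow_action_nontrivial (by rw [hn21]; norm_num)
  have ht1 : (t : G) = 1 :=
    Cfsg.Agent.S1017.eq_one_of_forall_smul_eq hnt (t : G)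
      (Cfsg.Agent.S1017.forall_smul_eq_of_card (t : G) (by rw [hfix21, hn21]))
  rw [ht1, orderOf_one] at ht2
  norm_num at ht2

end Cfsg.Agent.Helper85.SV
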