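import Mathlib
import Cfsg.Agent.Lib.Helper17.Simple
import Cfsg.Agent.Lib.Helper85.SV5376

/-!
# O6232 server (helper17, S0983), piece N5376: no simple group of order 5376
-/

set_option autoImplicit false

namespace Cfsg.Agent.Helper85.O6232

open Cfsg MulAction

universe u

theorem no_5376 {G : Type u} [Group G] [Finite G] [IsSimpleGroup G] : Nat.card G ≠ 5376 := by
  intro hG
  have hna : ¬ IsMulCommutative G :=
    Cfsg.Agent.Helper17.not_comm_of_not_prime (by rw [hG]; norm_num)
  exact Cfsg.Agent.Helper85.SV.no_5376.{u} G hna hG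

end Cfsg.Agent.Helper85.O6232
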