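import Mathlib
import Cfsg.Prelude.Def_FusionComponents
import Cfsg.Agent.Lib.Helper87.FusionSaturated

set_option autoImplicit false

namespace Cfsg.Agent.Helper85

open Cfsg Cfsg.FusionSystem Cfsg.Agent.Helper87

variable {Ω₁ Ω₂ : Type*} [Group Ω₁] [Group Ω₂] {S₁ : Subgroup Ω₁} {S₂ : Subgroup Ω₂}
variable {F₁ : FusionSystem S₁} {F₂ : FusionSystem S₂} {E : FusionSystem (S₁.prod S₂)}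

theorem fst_mem_map {P : Subgroup (Ω₁ × Ω₂)} {x : Ω₁ × Ω₂} (hx : x ∈ P) :
    x.1 ∈ P.map (MonoidHom.fst Ω₁ Ω₂) := ⟨x, hx, rfl⟩

theorem snd_mem_map {P : Subgroup (Ω₁ × Ω₂)} {x : Ω₁ × Ω₂} (hx : x ∈ P) :
    x.2 ∈ P.map (MonoidHom.snd Ω₁ Ω₂) := ⟨x, hx, rfl⟩

theorem map_fst_le {P : Subgroup (Ω₁ × Ω₂)} (hP : P ≤ S₁.prod S₂) : P.map (MonoidHom.fst Ω₁ Ω₂) ≤ S₁ := by
  rintro _ ⟨x, hx, rfl⟩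
  exact (Subgroup.mem_prod.1 (hP hx)).1

theorem map_snd_le {P : Subgroup (Ω₁ × Ω₂)} (hP : P ≤ S₁.prod S₂) : P.map (MonoidHom.snd Ω₁ Ω₂) ≤ S₂ := by
  rintro _ ⟨x, hx, rfl⟩
  exact (Subgroup.mem_prod.1 (hP hx)).2

/-- maps of a product system, at function level -/
theorem prod_mor_iff (hE : IsProductSystem F₁ F₂ E) {P : Subgroup (Ω₁ × Ω₂)} {f : Ω₁ × Ω₂ → Ω₁ × Ω₂} :
    Mor E P f ↔ P ≤ S₁.prod S₂ ∧ ∃ (f₁ : Ω₁ → Ω₁) (f₂ : Ω₂ → Ω₂),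
      Mor F₁ (P.map (MonoidHom.fst Ω₁ Ω₂)) f₁ ∧ Mor F₂ (P.map (MonoidHom.snd Ω₁ Ω₂)) f₂ ∧
        ∀ x ∈ P, f x = (f₁ x.1, f₂ x.2) := by
  constructor
  · rintro ⟨φ, hφ, e⟩
    obtain ⟨hP, φ₁, hφ₁, φ₂, hφ₂, h⟩ := (hE P φ).1 hφ
    refine ⟨hP, extFun φ₁, extFun φ₂, mor_of_mem hφ₁, mor_of_mem hφ₂, fun x hx => ?_⟩
    rw [← e ⟨x, hx⟩, h ⟨x, hx⟩ (fst_mem_map hx) (snd_mem_map hx), extFun_mem φ₁ (fst_mem_map hx),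
      extFun_mem φ₂ (snd_mem_map hx)]
  · rintro ⟨hP, f₁, f₂, ⟨φ₁, hφ₁, e₁⟩, ⟨φ₂, hφ₂, e₂⟩, h⟩
    refine ⟨MonoidHom.prod (φ₁.comp ((MonoidHom.fst Ω₁ Ω₂).subgroupMap P))
      (φ₂.comp ((MonoidHom.snd Ω₁ Ω₂).subgroupMap P)), ?_, fun x => ?_⟩
    · rw [hE P]
      exact ⟨hP, φ₁, hφ₁, φ₂, hφ₂, fun x h₁ h₂ => rfl⟩
    · rw [h x x.2, ← e₁ ⟨_, fst_mem_map x.2⟩, ← e₂ ⟨_, snd_mem_map x.2⟩]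
      rfl

theorem finite_prod [Finite S₁] [Finite S₂] : Finite (S₁.prod S₂) :=
  Finite.of_equiv _ (Subgroup.prodEquiv S₁ S₂).symm.toEquiv

theorem isPGroup_prod {p : ℕ} (h₁ : IsPGroup p S₁) (h₂ : IsPGroup p S₂) : IsPGroup p (S₁.prod S₂) := by
  rintro ⟨⟨x₁, x₂⟩, hx⟩
  obtain ⟨hx₁, hx₂⟩ := Subgroup.mem_prod.1 hx
  obtain ⟨k₁, hk₁⟩ := h₁ ⟨x₁, hx₁⟩
  obtain ⟨k₂, hk₂⟩ := h₂ ⟨x₂, hx₂⟩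
  have e₁ : x₁ ^ p ^ k₁ = 1 := congrArg Subtype.val hk₁
  have e₂ : x₂ ^ p ^ k₂ = 1 := congrArg Subtype.val hk₂
  refine ⟨k₁ + k₂, Subtype.ext ?_⟩
  show ((x₁, x₂) : Ω₁ × Ω₂) ^ p ^ (k₁ + k₂) = 1
  rw [Prod.pow_mk, pow_add, pow_mul, e₁, one_pow, mul_comm, pow_mul, e₂, one_pow]
  rfl

end Cfsg.Agent.Helper85
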