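import Mathlib
import Cfsg.Agent.Lib.Helper85.ProdSys1

set_option autoImplicit false

namespace Cfsg.Agent.Helper85

open Cfsg Cfsg.FusionSystem Cfsg.Agent.Helper87

variable {Ω₁ Ω₂ : Type*} [Group Ω₁] [Group Ω₂] {S₁ : Subgroup Ω₁} {S₂ : Subgroup Ω₂}
variable {F₁ : FusionSystem S₁} {F₂ : FusionSystem S₂} {E : FusionSystem (S₁.prod S₂)}

theorem normalizer_fst {P : Subgroup (Ω₁ × Ω₂)} {n : Ω₁ × Ω₂}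
    (hn : n ∈ Subgroup.normalizer (P : Set (Ω₁ × Ω₂))) :
    n.1 ∈ Subgroup.normalizer ((P.map (MonoidHom.fst Ω₁ Ω₂) : Subgroup Ω₁) : Set Ω₁) := by
  rw [Subgroup.mem_normalizer_iff]
  intro x₁
  constructor
  · rintro ⟨x, hx, rfl⟩
    exact ⟨n * x * n⁻¹, (Subgroup.mem_normalizer_iff.1 hn x).1 hx, rfl⟩
  · rintro ⟨y, hy, e⟩
    have h1 : n⁻¹ * y * n⁻¹⁻¹ ∈ P := (Subgroup.mem_normalizer_iff.1 (Subgroup.inv_mem _ hn) y).1 hy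
    refine ⟨n⁻¹ * y * n⁻¹⁻¹, h1, ?_⟩
    show n.1⁻¹ * y.1 * n.1⁻¹⁻¹ = x₁
    have e' : y.1 = n.1 * x₁ * n.1⁻¹ := e
    rw [e']; group

theorem normalizer_snd {P : Subgroup (Ω₁ × Ω₂)} {n : Ω₁ × Ω₂}
    (hn : n ∈ Subgroup.normalizer (P : Set (Ω₁ × Ω₂))) :
    n.2 ∈ Subgroup.normalizer ((P.map (MonoidHom.snd Ω₁ Ω₂) : Subgroup Ω₂) : Set Ω₂) := by
  rw [Subgroup.mem_normalizer_iff]
  intro x₂
  constructor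
  · rintro ⟨x, hx, rfl⟩
    exact ⟨n * x * n⁻¹, (Subgroup.mem_normalizer_iff.1 hn x).1 hx, rfl⟩
  · rintro ⟨y, hy, e⟩
    have h1 : n⁻¹ * y * n⁻¹⁻¹ ∈ P := (Subgroup.mem_normalizer_iff.1 (Subgroup.inv_mem _ hn) y).1 hy
    refine ⟨n⁻¹ * y * n⁻¹⁻¹, h1, ?_⟩
    show n.2⁻¹ * y.2 * n.2⁻¹⁻¹ = x₂
    have e' : y.2 = n.2 * x₂ * n.2⁻¹ := e
    rw [e']; group

theorem normalizerIn_map_fst_le (P : Subgroup (Ω₁ × Ω₂)) :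
    (normalizerIn (S₁.prod S₂) P).map (MonoidHom.fst Ω₁ Ω₂) ≤
      normalizerIn S₁ (P.map (MonoidHom.fst Ω₁ Ω₂)) := by
  rintro _ ⟨n, hn, rfl⟩
  exact ⟨(Subgroup.mem_prod.1 hn.1).1, normalizer_fst hn.2⟩

theorem normalizerIn_map_snd_le (P : Subgroup (Ω₁ × Ω₂)) :
    (normalizerIn (S₁.prod S₂) P).map (MonoidHom.snd Ω₁ Ω₂) ≤
      normalizerIn S₂ (P.map (MonoidHom.snd Ω₁ Ω₂)) := by
  rintro _ ⟨n, hn, rfl⟩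
  exact ⟨(Subgroup.mem_prod.1 hn.1).2, normalizer_snd hn.2⟩

end Cfsg.Agent.Helper85
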