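import Mathlib
import Cfsg.Agent.Lib.Helper85.ProdSys2

set_option autoImplicit false

namespace Cfsg.Agent.Helper85

open Cfsg Cfsg.FusionSystem Cfsg.Agent.Helper87

variable {Ω₁ Ω₂ : Type*} [Group Ω₁] [Group Ω₂] {S₁ : Subgroup Ω₁} {S₂ : Subgroup Ω₂}
variable {F₁ : FusionSystem S₁} {F₂ : FusionSystem S₂} {E : FusionSystem (S₁.prod S₂)}

/-- in the product of two saturated systems every fully normalized subgroup is receptive -/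
theorem prod_receptive [Finite S₁] [Finite S₂] {p : ℕ} [Fact p.Prime] (h₁ : IsPGroup p S₁)
    (h₂ : IsPGroup p S₂) (hF₁ : F₁.IsSaturated p) (hF₂ : F₂.IsSaturated p)
    (hE : IsProductSystem F₁ F₂ E) {P : Subgroup (Ω₁ × Ω₂)} (hP : E.IsFullyNormalized P) :
    E.IsReceptive P := by
  classical
  haveI : Finite (S₁.prod S₂) := finite_prod
  have hPS : P ≤ S₁.prod S₂ := hP.1
  have hP₁ : P.map (MonoidHom.fst Ω₁ Ω₂) ≤ S₁ := map_fst_le hPS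
  have hP₂ : P.map (MonoidHom.snd Ω₁ Ω₂) ≤ S₂ := map_snd_le hPS
  obtain ⟨Q₁, hc₁, hQ₁⟩ := exists_fullyNormalized_conj F₁ hP₁
  obtain ⟨Q₂, hc₂, hQ₂⟩ := exists_fullyNormalized_conj F₂ hP₂
  obtain ⟨ψ₁, hψ₁, hψ₁iso⟩ := exists_map_normalizer_to_fullyNormalized h₁ hF₁ hQ₁ hc₁
  obtain ⟨ψ₂, hψ₂, hψ₂iso⟩ := exists_map_normalizer_to_fullyNormalized h₂ hF₂ hQ₂ hc₂
  have hN₁ := normalizerIn_map_fst_le (S₁ := S₁) (S₂ := S₂) P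
  have hN₂ := normalizerIn_map_snd_le (S₁ := S₁) (S₂ := S₂) P
  have hψ : Mor E (normalizerIn (S₁.prod S₂) P) (fun x => (ψ₁ x.1, ψ₂ x.2)) := by
    rw [prod_mor_iff hE]
    exact ⟨inf_le_left, ψ₁, ψ₂, hψ₁.restrict hN₁, hψ₂.restrict hN₂, fun _ _ => rfl⟩
  have hPN : P ≤ normalizerIn (S₁.prod S₂) P := le_normalizerIn hPS
  have hψP := hψ.restrict hPN
  have hisoP : Iso E P hψP.image (fun x => (ψ₁ x.1, ψ₂ x.2)) := Iso.of_mor hψP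
  have hmaps : ∀ n ∈ normalizerIn (S₁.prod S₂) P,
      (fun x : Ω₁ × Ω₂ => (ψ₁ x.1, ψ₂ x.2)) n ∈ normalizerIn (S₁.prod S₂) hψP.image :=
    fun n hn => map_normalizerIn hψ hisoP hn
  have hcard : Nat.card (normalizerIn (S₁.prod S₂) hψP.image) ≤ Nat.card (normalizerIn (S₁.prod S₂) P) :=
    hP.2 _ (isConj_iff.2 ⟨_, hisoP⟩)
  have hisoN : Iso E (normalizerIn (S₁.prod S₂) P) (normalizerIn (S₁.prod S₂) hψP.image)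
      (fun x => (ψ₁ x.1, ψ₂ x.2)) := iso_of_card_le hψ inf_le_left hmaps hcard
  obtain ⟨ψinv, hψinv, einv1, einv2⟩ := hisoN.symm
  rw [isReceptive_iff]
  refine ⟨hPS, fun R f h => ?_⟩
  obtain ⟨hRS, f₁, f₂, hf₁, hf₂, ef⟩ := (prod_mor_iff hE).1 h.mor
  have hfP₁ : ∀ x ∈ R.map (MonoidHom.fst Ω₁ Ω₂), f₁ x ∈ P.map (MonoidHom.fst Ω₁ Ω₂) := by
    rintro _ ⟨x, hx, rfl⟩
    have := h.map_mem hx
    rw [ef x hx] at this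
    exact fst_mem_map this
  have hfP₂ : ∀ x ∈ R.map (MonoidHom.snd Ω₁ Ω₂), f₂ x ∈ P.map (MonoidHom.snd Ω₁ Ω₂) := by
    rintro _ ⟨x, hx, rfl⟩
    have := h.map_mem hx
    rw [ef x hx] at this
    exact snd_mem_map this
  have hχ₁ : Iso F₁ (R.map (MonoidHom.fst Ω₁ Ω₂)) Q₁ (fun x => ψ₁ (f₁ x)) := by
    refine ⟨hf₁.comp hψ₁ (fun x hx => le_normalizerIn hP₁ (hfP₁ x hx)), fun q => ⟨fun hq => ?_, ?_⟩⟩
    · obtain ⟨x₁, hx₁, rfl⟩ := hψ₁iso.surj hq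
      obtain ⟨x, hx, rfl⟩ := hx₁
      obtain ⟨r, hr, rfl⟩ := h.surj hx
      refine ⟨r.1, fst_mem_map hr, ?_⟩
      rw [ef r hr]
      rfl
    · rintro ⟨x, hx, rfl⟩
      exact hψ₁iso.map_mem (hfP₁ x hx)
  have hχ₂ : Iso F₂ (R.map (MonoidHom.snd Ω₁ Ω₂)) Q₂ (fun x => ψ₂ (f₂ x)) := by
    refine ⟨hf₂.comp hψ₂ (fun x hx => le_normalizerIn hP₂ (hfP₂ x hx)), fun q => ⟨fun hq => ?_, ?_⟩⟩
    · obtain ⟨x₂, hx₂, rfl⟩ := hψ₂iso.surj hq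
      obtain ⟨x, hx, rfl⟩ := hx₂
      obtain ⟨r, hr, rfl⟩ := h.surj hx
      refine ⟨r.2, snd_mem_map hr, ?_⟩
      rw [ef r hr]
      rfl
    · rintro ⟨x, hx, rfl⟩
      exact hψ₂iso.map_mem (hfP₂ x hx)
  obtain ⟨χb₁, hχb₁, eχ₁⟩ := (isReceptive_iff.1 (receptive_of_fullyNormalized h₁ hF₁ hQ₁)).2 _ _ hχ₁
  obtain ⟨χb₂, hχb₂, eχ₂⟩ := (isReceptive_iff.1 (receptive_of_fullyNormalized h₂ hF₂ hQ₂)).2 _ _ hχ₂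
  -- the element `k` attached to `n` in the extender normalizes `P`
  have hkey : ∀ n ∈ h.ext, ∃ k ∈ normalizerIn (S₁.prod S₂) P,
      ∀ x ∈ R, (f₁ (n.1 * x.1 * n.1⁻¹), f₂ (n.2 * x.2 * n.2⁻¹)) = (k.1 * f₁ x.1 * k.1⁻¹, k.2 * f₂ x.2 * k.2⁻¹) := by
    intro n hn
    obtain ⟨hnS, hnR, k, hk, ek⟩ := h.mem_ext.1 hn
    have hkP : k ∈ Subgroup.normalizer (P : Set (Ω₁ × Ω₂)) := by
      haveI : Finite P := finite_of_le hPS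
      haveI : Finite (P : Set (Ω₁ × Ω₂)) := ‹Finite P›
      apply Subgroup.mem_normalizer_fintype
      intro y hy
      obtain ⟨x, hx, rfl⟩ := h.surj hy
      rw [← ek x hx]
      exact h.map_mem ((Subgroup.mem_normalizer_iff.1 hnR x).1 hx)
    refine ⟨k, ⟨hk, hkP⟩, fun x hx => ?_⟩
    have e1 := ek x hx
    have hx' : n * x * n⁻¹ ∈ R := (Subgroup.mem_normalizer_iff.1 hnR x).1 hx
    rw [ef _ hx', ef x hx] at e1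
    exact e1
  have hext₁ : h.ext.map (MonoidHom.fst Ω₁ Ω₂) ≤ hχ₁.ext := by
    rintro _ ⟨n, hn, rfl⟩
    obtain ⟨k, hkN, ek⟩ := hkey n hn
    obtain ⟨hnS, hnR, -⟩ := h.mem_ext.1 hn
    have hk₁ : k.1 ∈ normalizerIn S₁ (P.map (MonoidHom.fst Ω₁ Ω₂)) := hN₁ (fst_mem_map hkN)
    refine (Iso.mem_ext hχ₁).2 ⟨(Subgroup.mem_prod.1 hnS).1, normalizer_fst hnR, ψ₁ k.1, hψ₁.mem hk₁, ?_⟩
    rintro _ ⟨x, hx, rfl⟩
    have e2 : f₁ (n.1 * x.1 * n.1⁻¹) = k.1 * f₁ x.1 * k.1⁻¹ := congrArg Prod.fst (ek x hx)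
    show ψ₁ (f₁ (n.1 * x.1 * n.1⁻¹)) = ψ₁ k.1 * ψ₁ (f₁ x.1) * (ψ₁ k.1)⁻¹
    rw [e2, hψ₁.map_conj hk₁ (le_normalizerIn hP₁ (hfP₁ _ (fst_mem_map hx)))]
  have hext₂ : h.ext.map (MonoidHom.snd Ω₁ Ω₂) ≤ hχ₂.ext := by
    rintro _ ⟨n, hn, rfl⟩
    obtain ⟨k, hkN, ek⟩ := hkey n hn
    obtain ⟨hnS, hnR, -⟩ := h.mem_ext.1 hn
    have hk₂ : k.2 ∈ normalizerIn S₂ (P.map (MonoidHom.snd Ω₁ Ω₂)) := hN₂ (snd_mem_map hkN)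
    refine (Iso.mem_ext hχ₂).2 ⟨(Subgroup.mem_prod.1 hnS).2, normalizer_snd hnR, ψ₂ k.2, hψ₂.mem hk₂, ?_⟩
    rintro _ ⟨x, hx, rfl⟩
    have e2 : f₂ (n.2 * x.2 * n.2⁻¹) = k.2 * f₂ x.2 * k.2⁻¹ := congrArg Prod.snd (ek x hx)
    show ψ₂ (f₂ (n.2 * x.2 * n.2⁻¹)) = ψ₂ k.2 * ψ₂ (f₂ x.2) * (ψ₂ k.2)⁻¹
    rw [e2, hψ₂.map_conj hk₂ (le_normalizerIn hP₂ (hfP₂ _ (snd_mem_map hx)))]
  have hgb : Mor E h.ext (fun x => (χb₁ x.1, χb₂ x.2)) := by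
    rw [prod_mor_iff hE]
    exact ⟨h.ext_le_normalizerIn.trans inf_le_left, χb₁, χb₂, hχb₁.restrict hext₁, hχb₂.restrict hext₂,
      fun _ _ => rfl⟩
  have egb : ∀ x ∈ R, ((χb₁ x.1, χb₂ x.2) : Ω₁ × Ω₂) = (ψ₁ (f x).1, ψ₂ (f x).2) := by
    intro x hx
    rw [eχ₁ _ (fst_mem_map hx), eχ₂ _ (snd_mem_map hx), ef x hx]
  have hisoR : Iso E R hψP.image (fun x => (χb₁ x.1, χb₂ x.2)) :=
    (h.comp hisoP).congr (fun x hx => (egb x hx).symm)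
  have hmaps2 : ∀ n ∈ h.ext,
      (fun x : Ω₁ × Ω₂ => (χb₁ x.1, χb₂ x.2)) n ∈ normalizerIn (S₁.prod S₂) hψP.image := by
    intro n hn
    exact ⟨hgb.mem hn, hgb.map_normalizer h.le_ext hisoR hn (h.mem_ext.1 hn).2.1⟩
  refine ⟨fun x => ψinv ((χb₁ x.1, χb₂ x.2)), hgb.comp hψinv.mor hmaps2, fun x hx => ?_⟩
  show ψinv (χb₁ x.1, χb₂ x.2) = f x
  rw [egb x hx]
  exact einv1 _ (hPN (h.map_mem hx))

end Cfsg.Agent.Helper85
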