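import Mathlib
import Cfsg.Agent.Lib.Helper85.ProdSys3
import Cfsg.Agent.Lib.Helper85.SurjMor2
import Cfsg.Agent.Lib.Helper87.FusionAlperin

set_option autoImplicit false

namespace Cfsg.Agent.Helper85

open Cfsg Cfsg.FusionSystem Cfsg.Agent.Helper87

variable {Ω₁ Ω₂ : Type*} [Group Ω₁] [Group Ω₂] {S₁ : Subgroup Ω₁} {S₂ : Subgroup Ω₂}
variable {F₁ : FusionSystem S₁} {F₂ : FusionSystem S₂} {E : FusionSystem (S₁.prod S₂)}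

theorem map_fst_prod (S₁ : Subgroup Ω₁) (S₂ : Subgroup Ω₂) :
    (S₁.prod S₂).map (MonoidHom.fst Ω₁ Ω₂) = S₁ := by
  apply le_antisymm (map_fst_le le_rfl)
  intro x hx
  exact ⟨(x, 1), Subgroup.mem_prod.2 ⟨hx, S₂.one_mem⟩, rfl⟩

theorem map_snd_prod (S₁ : Subgroup Ω₁) (S₂ : Subgroup Ω₂) :
    (S₁.prod S₂).map (MonoidHom.snd Ω₁ Ω₂) = S₂ := by
  apply le_antisymm (map_snd_le le_rfl)
  intro x hx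
  exact ⟨(1, x), Subgroup.mem_prod.2 ⟨S₁.one_mem, hx⟩, rfl⟩

/-- first projection on the product subgroup -/
def prFst (S₁ : Subgroup Ω₁) (S₂ : Subgroup Ω₂) : ↥(S₁.prod S₂) →* ↥S₁ where
  toFun x := ⟨x.1.1, (Subgroup.mem_prod.1 x.2).1⟩
  map_one' := rfl
  map_mul' _ _ := rfl

/-- second projection on the product subgroup -/
def prSnd (S₁ : Subgroup Ω₁) (S₂ : Subgroup Ω₂) : ↥(S₁.prod S₂) →* ↥S₂ where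
  toFun x := ⟨x.1.2, (Subgroup.mem_prod.1 x.2).2⟩
  map_one' := rfl
  map_mul' _ _ := rfl

theorem prFst_surjective (S₁ : Subgroup Ω₁) (S₂ : Subgroup Ω₂) : Function.Surjective (prFst S₁ S₂) :=
  fun s => ⟨⟨(s, 1), Subgroup.mem_prod.2 ⟨s.2, S₂.one_mem⟩⟩, rfl⟩

theorem prSnd_surjective (S₁ : Subgroup Ω₁) (S₂ : Subgroup Ω₂) : Function.Surjective (prSnd S₁ S₂) :=
  fun s => ⟨⟨(1, s), Subgroup.mem_prod.2 ⟨S₁.one_mem, s.2⟩⟩, rfl⟩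

/-- the projection `Aut_E(S₁ × S₂) → Aut_{F₁}(S₁)` -/
theorem prod_autHom_fst (hE : IsProductSystem F₁ F₂ E) :
    ∃ ρ : E.autGroup (S₁.prod S₂) →* F₁.autGroup S₁, ∀ (a : E.autGroup (S₁.prod S₂)) (x : ↥(S₁.prod S₂)),
      ((ρ a : F₁.autGroup S₁) : MulAut S₁) (prFst S₁ S₂ x) = prFst S₁ S₂ ((a : MulAut ↥(S₁.prod S₂)) x) := by
  have hdecomp : ∀ a ∈ E.autGroup (S₁.prod S₂), ∃ (f₁ : Ω₁ → Ω₁) (f₂ : Ω₂ → Ω₂), Mor F₁ S₁ f₁ ∧ Mor F₂ S₂ f₂ ∧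
      ∀ x : ↥(S₁.prod S₂), ((a x : ↥(S₁.prod S₂)) : Ω₁ × Ω₂) = (f₁ x.1.1, f₂ x.1.2) := by
    intro a ha
    obtain ⟨-, f₁, f₂, hf₁, hf₂, e⟩ := (prod_mor_iff hE).1 ((mem_autGroup_iff le_rfl).1 ha)
    rw [map_fst_prod] at hf₁
    rw [map_snd_prod] at hf₂
    refine ⟨f₁, f₂, hf₁, hf₂, fun x => ?_⟩
    rw [← e x x.2, extAut_apply]
  have hA : ∀ a ∈ E.autGroup (S₁.prod S₂), ∀ x, prFst S₁ S₂ x = 1 → prFst S₁ S₂ (a x) = 1 := by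
    intro a ha x hx
    obtain ⟨f₁, f₂, hf₁, hf₂, e⟩ := hdecomp a ha
    have h1 : x.1.1 = 1 := congrArg Subtype.val hx
    apply Subtype.ext
    show ((a x : ↥(S₁.prod S₂)) : Ω₁ × Ω₂).1 = 1
    rw [e x, h1]
    exact hf₁.map_one
  obtain ⟨ρ₀, hρ₀⟩ := exists_descend_hom (prFst S₁ S₂) (prFst_surjective S₁ S₂) (E.autGroup (S₁.prod S₂)) hA
  have hmem : ∀ a : E.autGroup (S₁.prod S₂), ρ₀ a ∈ F₁.autGroup S₁ := by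
    intro a
    obtain ⟨f₁, f₂, hf₁, hf₂, e⟩ := hdecomp a a.2
    rw [mem_autGroup_iff le_rfl]
    refine hf₁.congr (fun x₁ hx₁ => ?_)
    rw [extAut_mem _ hx₁]
    have h2 := hρ₀ a ⟨(x₁, 1), Subgroup.mem_prod.2 ⟨hx₁, S₂.one_mem⟩⟩
    have h3 : prFst S₁ S₂ ⟨(x₁, 1), Subgroup.mem_prod.2 ⟨hx₁, S₂.one_mem⟩⟩ = ⟨x₁, hx₁⟩ := rfl
    rw [h3] at h2
    rw [h2]
    show f₁ x₁ = (((a : MulAut ↥(S₁.prod S₂)) ⟨(x₁, 1), _⟩ : ↥(S₁.prod S₂)) : Ω₁ × Ω₂).1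
    rw [e]
  exact ⟨ρ₀.codRestrict (F₁.autGroup S₁) hmem, fun a x => hρ₀ a x⟩

/-- the projection `Aut_E(S₁ × S₂) → Aut_{F₂}(S₂)` -/
theorem prod_autHom_snd (hE : IsProductSystem F₁ F₂ E) :
    ∃ ρ : E.autGroup (S₁.prod S₂) →* F₂.autGroup S₂, ∀ (a : E.autGroup (S₁.prod S₂)) (x : ↥(S₁.prod S₂)),
      ((ρ a : F₂.autGroup S₂) : MulAut S₂) (prSnd S₁ S₂ x) = prSnd S₁ S₂ ((a : MulAut ↥(S₁.prod S₂)) x) := by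
  have hdecomp : ∀ a ∈ E.autGroup (S₁.prod S₂), ∃ (f₁ : Ω₁ → Ω₁) (f₂ : Ω₂ → Ω₂), Mor F₁ S₁ f₁ ∧ Mor F₂ S₂ f₂ ∧
      ∀ x : ↥(S₁.prod S₂), ((a x : ↥(S₁.prod S₂)) : Ω₁ × Ω₂) = (f₁ x.1.1, f₂ x.1.2) := by
    intro a ha
    obtain ⟨-, f₁, f₂, hf₁, hf₂, e⟩ := (prod_mor_iff hE).1 ((mem_autGroup_iff le_rfl).1 ha)
    rw [map_fst_prod] at hf₁
    rw [map_snd_prod] at hf₂
    refine ⟨f₁, f₂, hf₁, hf₂, fun x => ?_⟩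
    rw [← e x x.2, extAut_apply]
  have hA : ∀ a ∈ E.autGroup (S₁.prod S₂), ∀ x, prSnd S₁ S₂ x = 1 → prSnd S₁ S₂ (a x) = 1 := by
    intro a ha x hx
    obtain ⟨f₁, f₂, hf₁, hf₂, e⟩ := hdecomp a ha
    have h1 : x.1.2 = 1 := congrArg Subtype.val hx
    apply Subtype.ext
    show ((a x : ↥(S₁.prod S₂)) : Ω₁ × Ω₂).2 = 1
    rw [e x, h1]
    exact hf₂.map_one
  obtain ⟨ρ₀, hρ₀⟩ := exists_descend_hom (prSnd S₁ S₂) (prSnd_surjective S₁ S₂) (E.autGroup (S₁.prod S₂)) hA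
  have hmem : ∀ a : E.autGroup (S₁.prod S₂), ρ₀ a ∈ F₂.autGroup S₂ := by
    intro a
    obtain ⟨f₁, f₂, hf₁, hf₂, e⟩ := hdecomp a a.2
    rw [mem_autGroup_iff le_rfl]
    refine hf₂.congr (fun x₂ hx₂ => ?_)
    rw [extAut_mem _ hx₂]
    have h2 := hρ₀ a ⟨(1, x₂), Subgroup.mem_prod.2 ⟨S₁.one_mem, hx₂⟩⟩
    have h3 : prSnd S₁ S₂ ⟨(1, x₂), Subgroup.mem_prod.2 ⟨S₁.one_mem, hx₂⟩⟩ = ⟨x₂, hx₂⟩ := rfl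
    rw [h3] at h2
    rw [h2]
    show f₂ x₂ = (((a : MulAut ↥(S₁.prod S₂)) ⟨(1, x₂), _⟩ : ↥(S₁.prod S₂)) : Ω₁ × Ω₂).2
    rw [e]
  exact ⟨ρ₀.codRestrict (F₂.autGroup S₂) hmem, fun a x => hρ₀ a x⟩

end Cfsg.Agent.Helper85
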