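import Mathlib
import Cfsg.Agent.Lib.Helper85.ProdSys4

set_option autoImplicit false

namespace Cfsg.Agent.Helper85

open Cfsg Cfsg.FusionSystem Cfsg.Agent.Helper87

variable {Ω₁ Ω₂ : Type*} [Group Ω₁] [Group Ω₂] {S₁ : Subgroup Ω₁} {S₂ : Subgroup Ω₂}
variable {F₁ : FusionSystem S₁} {F₂ : FusionSystem S₂} {E : FusionSystem (S₁.prod S₂)}

/-- in the product of two saturated systems, the whole group is fully automized -/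
theorem prod_fullyAutomized_top [Finite S₁] [Finite S₂] {p : ℕ} [Fact p.Prime] (h₁ : IsPGroup p S₁)
    (h₂ : IsPGroup p S₂) (hF₁ : F₁.IsSaturated p) (hF₂ : F₂.IsSaturated p)
    (hE : IsProductSystem F₁ F₂ E) : E.IsFullyAutomized p (S₁.prod S₂) := by
  classical
  haveI : Finite (S₁.prod S₂) := finite_prod
  have hpS : IsPGroup p (S₁.prod S₂) := isPGroup_prod h₁ h₂
  obtain ⟨-, Syl₁, hSyl₁⟩ := fullyAutomized_of_fullyNormalized h₁ hF₁ (fullyNormalized_self F₁)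
  obtain ⟨-, Syl₂, hSyl₂⟩ := fullyAutomized_of_fullyNormalized h₂ hF₂ (fullyNormalized_self F₂)
  obtain ⟨ρ₁, hρ₁⟩ := prod_autHom_fst hE
  obtain ⟨ρ₂, hρ₂⟩ := prod_autHom_snd hE
  have hIp : IsPGroup p ((autInducedBy (S₁.prod S₂) (S₁.prod S₂)).subgroupOf (E.autGroup (S₁.prod S₂))) :=
    (isPGroup_autInducedBy hpS _).comap_subtype
  -- conjugation by an element of the product, as an element of `Aut_E`
  have hconj : ∀ s ∈ S₁.prod S₂, ∃ a : E.autGroup (S₁.prod S₂),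
      a ∈ (autInducedBy (S₁.prod S₂) (S₁.prod S₂)).subgroupOf (E.autGroup (S₁.prod S₂)) ∧
      ∀ x : ↥(S₁.prod S₂), (((a : MulAut ↥(S₁.prod S₂)) x : ↥(S₁.prod S₂)) : Ω₁ × Ω₂) = s * x * s⁻¹ := by
    intro s hs
    have hsN : s ∈ Subgroup.normalizer ((S₁.prod S₂ : Subgroup (Ω₁ × Ω₂)) : Set (Ω₁ × Ω₂)) :=
      Subgroup.le_normalizer hs
    have hc : conjAut (S₁.prod S₂) s hsN ∈ autInducedBy (S₁.prod S₂) (S₁.prod S₂) :=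
      conjAut_mem_autInducedBy hs hsN
    exact ⟨⟨conjAut (S₁.prod S₂) s hsN, autInducedBy_le_autGroup E le_rfl hc⟩,
      Subgroup.mem_subgroupOf.2 hc, fun x => rfl⟩
  refine ⟨le_rfl, ⟨(autInducedBy (S₁.prod S₂) (S₁.prod S₂)).subgroupOf (E.autGroup (S₁.prod S₂)), hIp, ?_⟩, rfl⟩
  intro Y hY hIY
  apply le_antisymm _ hIY
  intro y hy
  -- first coordinate
  have hle₁ : (Syl₁ : Subgroup (F₁.autGroup S₁)) ≤ Y.map ρ₁ := by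
    intro b hb
    rw [hSyl₁, Subgroup.mem_subgroupOf] at hb
    obtain ⟨s₁, hs₁, es₁⟩ := mem_autInducedBy_iff.1 hb
    obtain ⟨a, haI, ea⟩ := hconj (s₁, 1) (Subgroup.mem_prod.2 ⟨hs₁, S₂.one_mem⟩)
    refine ⟨a, hIY haI, ?_⟩
    apply Subtype.ext
    ext x₁
    obtain ⟨x, rfl⟩ := prFst_surjective S₁ S₂ x₁
    rw [hρ₁ a x, es₁]
    show (((a : MulAut ↥(S₁.prod S₂)) x : ↥(S₁.prod S₂)) : Ω₁ × Ω₂).1 = _
    rw [ea x]
    rfl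
  have hle₂ : (Syl₂ : Subgroup (F₂.autGroup S₂)) ≤ Y.map ρ₂ := by
    intro b hb
    rw [hSyl₂, Subgroup.mem_subgroupOf] at hb
    obtain ⟨s₂, hs₂, es₂⟩ := mem_autInducedBy_iff.1 hb
    obtain ⟨a, haI, ea⟩ := hconj (1, s₂) (Subgroup.mem_prod.2 ⟨S₁.one_mem, hs₂⟩)
    refine ⟨a, hIY haI, ?_⟩
    apply Subtype.ext
    ext x₂
    obtain ⟨x, rfl⟩ := prSnd_surjective S₁ S₂ x₂
    rw [hρ₂ a x, es₂]
    show (((a : MulAut ↥(S₁.prod S₂)) x : ↥(S₁.prod S₂)) : Ω₁ × Ω₂).2 = _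
    rw [ea x]
    rfl
  have heq₁ : Y.map ρ₁ = (Syl₁ : Subgroup (F₁.autGroup S₁)) := Syl₁.is_maximal' (hY.map ρ₁) hle₁
  have heq₂ : Y.map ρ₂ = (Syl₂ : Subgroup (F₂.autGroup S₂)) := Syl₂.is_maximal' (hY.map ρ₂) hle₂
  have hy₁ : ρ₁ y ∈ (Syl₁ : Subgroup (F₁.autGroup S₁)) := heq₁ ▸ Subgroup.mem_map_of_mem ρ₁ hy
  have hy₂ : ρ₂ y ∈ (Syl₂ : Subgroup (F₂.autGroup S₂)) := heq₂ ▸ Subgroup.mem_map_of_mem ρ₂ hy
  rw [hSyl₁, Subgroup.mem_subgroupOf] at hy₁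
  rw [hSyl₂, Subgroup.mem_subgroupOf] at hy₂
  obtain ⟨s₁, hs₁, es₁⟩ := mem_autInducedBy_iff.1 hy₁
  obtain ⟨s₂, hs₂, es₂⟩ := mem_autInducedBy_iff.1 hy₂
  rw [Subgroup.mem_subgroupOf, mem_autInducedBy_iff]
  refine ⟨(s₁, s₂), Subgroup.mem_prod.2 ⟨hs₁, hs₂⟩, fun x => ?_⟩
  have e₁ := es₁ (prFst S₁ S₂ x)
  have e₂ := es₂ (prSnd S₁ S₂ x)
  rw [hρ₁ y x] at e₁
  rw [hρ₂ y x] at e₂
  exact Prod.ext e₁ e₂

end Cfsg.Agent.Helper85
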