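import Mathlib

/-!
# REE (BDEC) for helper36's server (S1091/S1069/S1073): `B ⊓ T = (U ⊓ T)(H ⊓ T)`.
-/

set_option autoImplicit false

namespace Cfsg.Agent.Helper85.REE

universe u

/-- (BDEC) -/
theorem borel_fixed_decomp {M : Type u} [Group M] (T B N H U : Subgroup M)
    (hBN : B ⊓ N = H)
    (hUB : U ≤ B)
    (hHU : ∀ h ∈ H, ∀ x ∈ U, h * x * h⁻¹ ∈ U)
    (hUNU : ∀ g ∈ T, ∃ u₁ ∈ U ⊓ T, ∃ n ∈ N ⊓ T, ∃ u ∈ U ⊓ T, g = u₁ * n * u) :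
    ∀ b ∈ B ⊓ T, ∃ u ∈ U ⊓ T, ∃ h ∈ H ⊓ T, b = u * h := by
  intro b hb
  obtain ⟨u₁, hu₁, n, hn, u, hu, hbe⟩ := hUNU b hb.2
  have hnB : n ∈ B := by
    have h1 : n = u₁⁻¹ * b * u⁻¹ := by rw [hbe]; group
    rw [h1]
    exact B.mul_mem (B.mul_mem (B.inv_mem (hUB hu₁.1)) hb.1) (B.inv_mem (hUB hu.1))
  have hnH : n ∈ H := by rw [← hBN]; exact ⟨hnB, hn.1⟩
  refine ⟨u₁ * (n * u * n⁻¹), ⟨U.mul_mem hu₁.1 (hHU n hnH u hu.1),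
    T.mul_mem hu₁.2 (T.mul_mem (T.mul_mem hn.2 hu.2) (T.inv_mem hn.2))⟩, n, ⟨hnH, hn.2⟩, ?_⟩
  rw [hbe]; group

end Cfsg.Agent.Helper85.REE
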