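import Mathlib
import Cfsg.Prelude.Def_LieExceptional
import Cfsg.Agent.Lib.Helper6.BNSimple

/-!
# REE (SIMPLE) for helper36's server: a perfect group with a rank-one BN-pair, solvable `B` of trivial core, is simple
and not commutative.
-/

set_option autoImplicit false

namespace Cfsg.Agent.Helper85.REE

open Cfsg

universe u

/-- (SIMPLE) -/
theorem simple_rank_one {G : Type u} [Group G] [Nontrivial G] (P : Cfsg.BNPair G) (s : G) (hS : P.S = {s})
    (hsolv : Group.IsSolvable ↥P.B) (hperf : commutator G = ⊤) (hcore : P.B.normalCore = ⊥) :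
    IsSimpleGroup G ∧ ¬ IsMulCommutative G := by
  have hirr : P.Irreducible := by
    intro J hJ hJne hdiff
    exfalso
    obtain ⟨x, hx⟩ := hJne
    obtain ⟨y, hyS, hyJ⟩ := hdiff
    have hxs : x = s := by
      have := hJ hx
      rw [hS] at this
      exact this
    have hys : y = s := by
      rw [hS] at hyS
      exact hyS
    exact hyJ (hys ▸ hxs ▸ hx)
  refine ⟨Cfsg.Agent.Helper6.simple_of_irreducible P hirr hsolv hperf hcore, ?_⟩
  intro hcomm
  have hbot : commutator G = ⊥ := by
    rw [commutator_def, Subgroup.commutator_eq_bot_iff_le_centralizer]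
    intro x _ y _
    exact (hcomm.is_comm.comm y x)
  rw [hperf] at hbot
  exact top_ne_bot hbot

end Cfsg.Agent.Helper85.REE
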