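import Mathlib
import Cfsg.Prelude.Def_ChevStructure
import Cfsg.Agent.Lib.Helper36.REEDefs

/-!
# REE (UMU) + (UMH) for helper36's server: `U_n⁻ ≤ U` and `U_{nh}⁻ = U_n⁻` for `h` normalising the root subgroups.
-/

set_option autoImplicit false

namespace Cfsg.Agent.Helper85.REE

open Cfsg Cfsg.Lie Cfsg.Agent.Helper36.REE

universe u

/-- (UMU) -/
theorem Um_le_pos (D : ChevalleyDatum) {F : Type u} [Field F] (n : GL D.Idx F) :
    Um D F n ≤ D.posUnipotent F := by
  unfold Um ChevalleyDatum.posUnipotent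
  apply Subgroup.closure_mono
  rintro x ⟨r, t, hr, -, hx⟩
  exact ⟨r, t, hr, hx⟩

/-- (UMH) -/
theorem Um_mul_diag (D : ChevalleyDatum) {F : Type u} [Field F] (n h : GL D.Idx F)
    (hh : ∀ r, D.IsPosRoot r →
      (D.rootSubgroup F r).map (MulAut.conj h).toMonoidHom = D.rootSubgroup F r) :
    Um D F (n * h) = Um D F n := by
  unfold Um
  congr 1
  ext x
  constructor
  · rintro ⟨r, t, hr, hle, hx⟩
    refine ⟨r, t, hr, ?_, hx⟩
    have : (D.rootSubgroup F r).map (MulAut.conj (n * h)).toMonoidHom =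
        ((D.rootSubgroup F r).map (MulAut.conj h).toMonoidHom).map (MulAut.conj n).toMonoidHom := by
      rw [Subgroup.map_map]
      congr 1
      ext y
      simp [MulAut.conj_apply, mul_assoc]
    rw [this, hh r hr] at hle
    exact hle
  · rintro ⟨r, t, hr, hle, hx⟩
    refine ⟨r, t, hr, ?_, hx⟩
    have : (D.rootSubgroup F r).map (MulAut.conj (n * h)).toMonoidHom =
        ((D.rootSubgroup F r).map (MulAut.conj h).toMonoidHom).map (MulAut.conj n).toMonoidHom := by
      rw [Subgroup.map_map]
      congr 1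
      ext y
      simp [MulAut.conj_apply, mul_assoc]
    rw [this, hh r hr]
    exact hle

end Cfsg.Agent.Helper85.REE
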