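import Mathlib
import Cfsg.Agent.Lib.Helper93.RU0
import Cfsg.Agent.Lib.Helper82.RUA
import Cfsg.Agent.Lib.Helper12.RW0
import Cfsg.Agent.Lib.Helper76.RWG5

/-!
# RW project (helper12 server, S2279): pieces (G6a) (G6b) (G6) (S1) (S0) (helper85)
-/

set_option autoImplicit false

namespace Cfsg.Agent.Helper85.RW

open Matrix Cfsg.Agent.Helper93.RU Cfsg.Agent.Helper12.RW

variable {F : Type*} [Field F] {m : ℕ}

/-- (G6a) -/
theorem Pv_shift (i k : ℤ) : ((uEl m F) ^ i).1 *ᵥ Pv m F k = Pv m F (k + i) := by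
  unfold Pv
  rw [Matrix.mulVec_mulVec, ← Matrix.SpecialLinearGroup.coe_mul, ← _root_.zpow_add, add_comm i k]

/-- (G6b) -/
theorem Qv_shift (i j : ℤ) : Qv m F j ᵥ* (((uEl m F) ^ i)⁻¹).1 = Qv m F (j + i) := by
  unfold Qv
  rw [Matrix.vecMul_vecMul, ← Matrix.SpecialLinearGroup.coe_mul, ← _root_.zpow_neg,
    ← _root_.zpow_add, ← neg_add j i]

theorem h85_mm_zero : mm m F 0 = 0 := by
  have h := Cfsg.Agent.Helper76.RW.mm_nat (F := F) (m := m) 0
  rw [Nat.choose_eq_zero_of_lt (by omega)] at h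
  simpa using h

theorem h85_Tk_dot (k j : ℤ) (a : F) (h : mm m F (k - j) = 0) :
    (a • Qv m F j) ⬝ᵥ Pv m F k = 0 := by
  rw [smul_dotProduct, Cfsg.Agent.Helper76.RW.gram, h, smul_zero]

/-- (G6) uses G6a G6b G1 `Helper82.RU.tvS_conj` -/
theorem Tk_conj (i k j : ℤ) (a : F) (h : mm m F (k - j) = 0) :
    (uEl m F) ^ i * Tk k j a * ((uEl m F) ^ i)⁻¹ = Tk (k + i) (j + i) a := by
  unfold Tk
  rw [(Cfsg.Agent.Helper82.RU.tvS_conj ((uEl m F) ^ i) (Pv m F k) (a • Qv m F j)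
    (h85_Tk_dot k j a h)).2, Pv_shift, Matrix.smul_vecMul, Qv_shift]

/-- (S1) uses G6 -/
theorem sig_conj (c : F) (i j : ℤ) :
    (uEl m F) ^ i * sig c j * ((uEl m F) ^ i)⁻¹ = sig (m := m) c (j + i) := by
  have h1 := Tk_conj (F := F) (m := m) i j j c (by rw [sub_self]; exact h85_mm_zero)
  have h2 := Tk_conj (F := F) (m := m) i (j + 1) (j + 1) c (by rw [sub_self]; exact h85_mm_zero)
  unfold sig
  rw [add_right_comm j i 1, ← h1, ← h2]
  group

theorem h85_Pv_zero : Pv m F 0 = eV (lastI m) := by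
  unfold Pv
  rw [_root_.zpow_zero, Matrix.SpecialLinearGroup.coe_one, Matrix.one_mulVec]

theorem h85_Qv_zero : Qv m F 0 = eV 0 := by
  unfold Qv
  rw [neg_zero, _root_.zpow_zero, Matrix.SpecialLinearGroup.coe_one, Matrix.vecMul_one]

/-- (S0) `g u g⁻¹ u⁻¹ = g (u g⁻¹ u⁻¹) = τ_0 τ_1⁻¹`; uses G6 with `i = 1`, G7 -/
theorem sig_zero (c : F) :
    gEl c * uEl m F * (gEl c)⁻¹ * (uEl m F)⁻¹ = sig (m := m) c 0 := by
  have hg : gEl (m := m) c = Tk 0 0 c := by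
    unfold gEl Tk
    rw [h85_Pv_zero, h85_Qv_zero]
  have h1 := Tk_conj (F := F) (m := m) 1 0 0 c (by rw [sub_self]; exact h85_mm_zero)
  rw [_root_.zpow_one] at h1
  unfold sig
  rw [hg, ← h1]
  group

end Cfsg.Agent.Helper85.RW
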