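import Mathlib
import Cfsg.Prelude.Def_FusionSystem
import Cfsg.Agent.Lib.Helper86.RelGrpFus
import Cfsg.Agent.S5119
import Cfsg.Agent.S5118

set_option autoImplicit false

/-! Relative version of S5118 (after helper86): for `H ≤ K ≤ G` with `K` normalizing `H` and `T` a Sylow
`p`-subgroup of `K`, the system `F_{T ∩ H}(H)` is normal in `F_T(K)`. -/

namespace Cfsg.Agent.Helper85

open Cfsg Cfsg.FusionSystem Cfsg.Agent.Helper87 Cfsg.Agent.Helper84 Cfsg.Agent.Helper86 Cfsg.Agent.S5119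
open scoped Pointwise

variable {G : Type*} [Group G]

theorem conj_mem_of_le_normalizer {H K : Subgroup G} (hn : K ≤ Subgroup.normalizer (H : Set G))
    {x g : G} (hx : x ∈ H) (hg : g ∈ K) : g * x * g⁻¹ ∈ H :=
  (Subgroup.mem_normalizer_iff.1 (hn hg) x).1 hx

theorem rel_isSubsystem {K T H : Subgroup G} (hTK : T ≤ K) (hHK : H ≤ K) :
    (fusionSystemOfSubgroup H (T ⊓ H) inf_le_right).IsSubsystemOf (fusionSystemOfSubgroup K T hTK) := by
  rintro P φ ⟨hPT, hφT, g, hgH, eg⟩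
  exact ⟨hPT.trans inf_le_left, fun x => (hφT x).1, g, hHK hgH, eg⟩

theorem rel_stronglyClosed {K T H : Subgroup G} (hTK : T ≤ K)
    (hn : K ≤ Subgroup.normalizer (H : Set G)) :
    (fusionSystemOfSubgroup K T hTK).StronglyClosed (T ⊓ H) := by
  refine ⟨inf_le_left, ?_⟩
  rintro R hR φ ⟨-, hφS, g, hgK, eg⟩ x
  refine ⟨hφS x, ?_⟩
  rw [eg]
  exact conj_mem_of_le_normalizer hn (hR x.2).2 hgK

theorem rel_siFun {K T H : Subgroup G} (hTK : T ≤ K)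
    (hn : K ≤ Subgroup.normalizer (H : Set G)) :
    SIfun (fusionSystemOfSubgroup H (T ⊓ H) inf_le_right) (fusionSystemOfSubgroup K T hTK) := by
  intro P Q R f g g' hPQ hQT hf hfQ hg hR hg'
  obtain ⟨φ, ⟨hPT, hφT, h, hhH, eh⟩, eφ⟩ := hf
  obtain ⟨ψ, ⟨hQS, hψS, k, hkK, ek⟩, eψ⟩ := hg
  have hf' : ∀ x ∈ P, f x = h * x * h⁻¹ := fun x hx => by rw [← eφ ⟨x, hx⟩, eh]
  have hg'' : ∀ q ∈ Q, g q = k * q * k⁻¹ := fun q hq => by rw [← eψ ⟨q, hq⟩, ek]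
  have hgS : ∀ q ∈ Q, g q ∈ T := fun q hq => by rw [← eψ ⟨q, hq⟩]; exact hψS _
  have hRT : R ≤ T ⊓ H := by
    intro y hy
    obtain ⟨x, hx, rfl⟩ := (hR y).1 hy
    refine ⟨hgS x (hPQ hx), ?_⟩
    rw [hg'' x (hPQ hx)]
    exact conj_mem_of_le_normalizer hn (hPT hx).2 hkK
  have key : ∀ y ∈ R, (k * h * k⁻¹) * y * (k * h * k⁻¹)⁻¹ = g (f (g' y)) := by
    intro y hy
    obtain ⟨x, hx, rfl⟩ := (hR y).1 hy
    rw [hg' x hx, hg'' _ (hfQ x hx), hf' x hx, hg'' x (hPQ hx)]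
    group
  refine ⟨conjHom R (k * h * k⁻¹), ⟨hRT, ?_, k * h * k⁻¹,
    conj_mem_of_le_normalizer hn hhH hkK, fun _ => rfl⟩, fun y => key y y.2⟩
  intro y
  show (k * h * k⁻¹) * (y : G) * (k * h * k⁻¹)⁻¹ ∈ T ⊓ H
  rw [key y y.2]
  obtain ⟨x, hx, e⟩ := (hR y).1 y.2
  rw [← e, hg' x hx]
  refine ⟨hgS _ (hfQ x hx), ?_⟩
  rw [hg'' _ (hfQ x hx)]
  exact conj_mem_of_le_normalizer hn (hQT (hfQ x hx)).2 hkK

theorem rel_normalizer_le_normalizer_centralizerIn {H K : Subgroup G}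
    (hn : K ≤ Subgroup.normalizer (H : Set G)) (T : Subgroup G) :
    normalizerIn K T ≤ Subgroup.normalizer ((centralizerIn H T : Subgroup G) : Set G) := by
  intro n hn'
  have hnK : n ∈ K := hn'.1
  have hnN : n ∈ Subgroup.normalizer ((Subgroup.centralizer (T : Set G) : Subgroup G) : Set G) :=
    normalizer_le_normalizer_centralizer T hn'.2
  rw [Subgroup.mem_normalizer_iff] at hnN ⊢
  intro x
  constructor
  · rintro ⟨hxK, hxC⟩
    exact ⟨conj_mem_of_le_normalizer hn hxK hnK, (hnN x).1 hxC⟩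
  · rintro ⟨hxK, hxC⟩
    refine ⟨?_, (hnN x).2 hxC⟩
    have : x = n⁻¹ * (n * x * n⁻¹) * n⁻¹⁻¹ := by group
    rw [this]
    exact conj_mem_of_le_normalizer hn hxK (K.inv_mem hnK)

section sylow

variable [Finite G] {p : ℕ} [Fact p.Prime]

theorem rel_exists_adjust {K T₀ H : Subgroup G} (hT₀ : IsSylIn p T₀ K) (hHK : H ≤ K)
    (hn : K ≤ Subgroup.normalizer (H : Set G)) {h : G} (hhH : h ∈ H)
    (hhN : h ∈ Subgroup.normalizer (((T₀ ⊓ H : Subgroup G)) : Set G)) :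
    ∃ z ∈ centralizerIn H (T₀ ⊓ H),
      z⁻¹ * h ∈ Subgroup.normalizer
        (((T₀ ⊓ H) ⊔ centralizerIn T₀ (T₀ ⊓ H) : Subgroup G) : Set G) := by
  set T : Subgroup G := T₀ ⊓ H with hTdef
  set CS : Subgroup G := centralizerIn T₀ T with hCSdef
  set C : Subgroup G := centralizerIn H T with hCdef
  set P₀ : Subgroup G := T ⊔ CS with hP₀def
  have hTsyl : IsSylIn p T H := hT₀.inf_normal hHK hn
  have hTN : IsSylIn p T (normalizerIn H T) :=
    hTsyl.of_le (le_inf inf_le_right Subgroup.le_normalizer) inf_le_left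
  have hCle : C ≤ normalizerIn H T :=
    le_inf inf_le_left (inf_le_right.trans (Subgroup.centralizer_le_normalizer _))
  have hTC : IsSylIn p (T ⊓ C) C := hTN.inf_normal hCle (le_normalizer_centralizerIn H T)
  have hP₀S : P₀ ≤ T₀ := sup_le inf_le_left inf_le_left
  have hP₀p : IsPGroup p P₀ := hT₀.2.1.to_le hP₀S
  have hP₀NT : P₀ ≤ Subgroup.normalizer (T : Set G) :=
    sup_le Subgroup.le_normalizer (inf_le_right.trans (Subgroup.centralizer_le_normalizer _))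
  have hP₀NK : P₀ ≤ normalizerIn K T := le_inf (hP₀S.trans hT₀.1) hP₀NT
  have hNC := rel_normalizer_le_normalizer_centralizerIn hn T
  have hP₀C : IsSylIn p (P₀ ⊓ C) C :=
    hTC.of_card_ge inf_le_right (hP₀p.to_le inf_le_left)
      (Subgroup.card_le_of_le (inf_le_inf_right _ le_sup_left))
  have hsyl : IsSylIn p P₀ (P₀ ⊔ C) :=
    Cfsg.Agent.S5118.isSylIn_sup hP₀p (hP₀NK.trans hNC) hP₀C
  have hhNC : h ∈ Subgroup.normalizer ((C : Subgroup G) : Set G) :=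
    hNC ⟨hHK hhH, hhN⟩
  have hconjle : P₀.map (MulAut.conj h).toMonoidHom ≤ P₀ ⊔ C := by
    rw [Subgroup.map_sup]
    apply sup_le
    · rintro _ ⟨x, hx, rfl⟩
      exact le_sup_left (a := P₀) (le_sup_left (a := T) ((Subgroup.mem_normalizer_iff.1 hhN x).1 hx))
    · rintro _ ⟨c, hc, rfl⟩
      show h * c * h⁻¹ ∈ P₀ ⊔ C
      have e : h * c * h⁻¹ = (h * c * h⁻¹ * c⁻¹) * c := by group
      rw [e]
      refine Subgroup.mul_mem _ (le_sup_right (a := P₀) ⟨?_, ?_⟩)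
        (le_sup_left (a := P₀) (le_sup_right (a := T) hc))
      · have e2 : h * c * h⁻¹ * c⁻¹ = h * (c * h⁻¹ * c⁻¹) := by group
        rw [e2]
        exact H.mul_mem hhH (conj_mem_of_le_normalizer hn (H.inv_mem hhH) (hT₀.1 hc.1))
      · have hcC : c ∈ Subgroup.centralizer (T : Set G) := hc.2
        have h1 := (Subgroup.mem_normalizer_iff.1 (normalizer_le_normalizer_centralizer T hhN) c).1 hcC
        exact Subgroup.mul_mem _ h1 (Subgroup.inv_mem _ hcC)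
  have hsyl' : IsSylIn p (P₀.map (MulAut.conj h).toMonoidHom) (P₀ ⊔ C) :=
    hsyl.of_card_ge hconjle (hP₀p.map _) (by rw [card_map_conj])
  obtain ⟨m, hm, e⟩ := hsyl.exists_conj hsyl'
  have hmM : m ∈ ((C ⊔ P₀ : Subgroup G) : Set G) := by rw [sup_comm]; exact hm
  rw [Subgroup.coe_mul_of_right_le_normalizer_left C P₀ (hP₀NK.trans hNC)] at hmM
  obtain ⟨z, hz, a, ha, rfl⟩ := hmM
  refine ⟨z, hz, Cfsg.Agent.S5118.mem_normalizer_of_map_conj_eq ?_⟩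
  rw [← Cfsg.Agent.S5118.map_conj_mul, e, ← Cfsg.Agent.S5118.map_conj_mul P₀ z a,
    map_conj_map_conj_inv, map_conj_eq_self_of_mem ha]

/-- Relative version of S5118. -/
theorem rel_isNormalIn {K T₀ H : Subgroup G} (hTK : T₀ ≤ K) (hT₀ : IsSylIn p T₀ K) (hHK : H ≤ K)
    (hn : K ≤ Subgroup.normalizer (H : Set G)) :
    (fusionSystemOfSubgroup H (T₀ ⊓ H) inf_le_right).IsNormalIn
      (fusionSystemOfSubgroup K T₀ hTK) p := by
  have hTsyl : IsSylIn p (T₀ ⊓ H) H := hT₀.inf_normal hHK hn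
  have hEsat := fsos_saturated (inf_le_right : T₀ ⊓ H ≤ H) hTsyl
  have hFsat := fsos_saturated hTK hT₀
  haveI : Finite T₀ := Finite.of_injective (fun x : T₀ => (x : G)) Subtype.val_injective
  have hinv := invariant_of_siFun hT₀.2.1 hFsat (rel_isSubsystem hTK hHK)
    (rel_stronglyClosed hTK hn) (rel_siFun hTK hn)
  refine ⟨⟨hEsat, hFsat, hinv⟩, ?_⟩
  intro α hα
  rw [fsos_autGroup_eq _ _ _ _ le_rfl, Cfsg.Agent.Helper84.mem_autInducedBy_iff] at hα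
  obtain ⟨h, hhH, eh⟩ := hα
  have hhN : h ∈ Subgroup.normalizer (((T₀ ⊓ H : Subgroup G)) : Set G) :=
    mem_normalizer_of_autInduced eh
  obtain ⟨z, hz, hk⟩ := rel_exists_adjust hT₀ hHK hn hhH hhN
  have hP₀S : (T₀ ⊓ H) ⊔ centralizerIn T₀ (T₀ ⊓ H) ≤ T₀ :=
    sup_le inf_le_left inf_le_left
  have hkH : z⁻¹ * h ∈ H := H.mul_mem (H.inv_mem hz.1) hhH
  have hzC : ∀ t ∈ T₀ ⊓ H, z⁻¹ * t * z = t := by
    intro t ht
    have := hz.2 t ht
    calc z⁻¹ * t * z = z⁻¹ * (t * z) := by group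
      _ = z⁻¹ * (z * t) := by rw [this]
      _ = t := by group
  have hkT : ∀ t ∈ T₀ ⊓ H, (z⁻¹ * h) * t * (z⁻¹ * h)⁻¹ = h * t * h⁻¹ := by
    intro t ht
    have h1 : h * t * h⁻¹ ∈ T₀ ⊓ H := (Subgroup.mem_normalizer_iff.1 hhN t).1 ht
    calc (z⁻¹ * h) * t * (z⁻¹ * h)⁻¹ = z⁻¹ * (h * t * h⁻¹) * z := by group
      _ = h * t * h⁻¹ := hzC _ h1
  have hkNT : z⁻¹ * h ∈ Subgroup.normalizer (((T₀ ⊓ H : Subgroup G)) : Set G) := by
    apply Subgroup.mul_mem _ _ hhN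
    apply Subgroup.inv_mem
    exact Subgroup.centralizer_le_normalizer _ hz.2
  refine ⟨Cfsg.Agent.Helper87.conjAut _ (z⁻¹ * h) hk, ?_, ?_, ?_⟩
  · rw [fsos_autGroup_eq _ _ _ _ hP₀S, Cfsg.Agent.Helper84.mem_autInducedBy_iff]
    exact ⟨z⁻¹ * h, hHK hkH, fun x => rfl⟩
  · intro x
    show (z⁻¹ * h) * (x : G) * (z⁻¹ * h)⁻¹ = _
    rw [hkT x x.2, eh]
  · intro c hc
    show (c : G)⁻¹ * ((z⁻¹ * h) * (c : G) * (z⁻¹ * h)⁻¹) ∈
      (T₀ ⊓ H) ⊓ Subgroup.centralizer (((T₀ ⊓ H : Subgroup G)) : Set G)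
    have hcS : (c : G) ∈ T₀ := hc.1
    have hcC : (c : G) ∈ Subgroup.centralizer (((T₀ ⊓ H : Subgroup G)) : Set G) := hc.2
    have hβc : (z⁻¹ * h) * (c : G) * (z⁻¹ * h)⁻¹ ∈
        (T₀ ⊓ H) ⊔ centralizerIn T₀ (T₀ ⊓ H) :=
      (Subgroup.mem_normalizer_iff.1 hk c).1 c.2
    refine ⟨⟨?_, ?_⟩, ?_⟩
    · exact Subgroup.mul_mem _ (Subgroup.inv_mem _ hcS) (hP₀S hβc)
    · have e : (c : G)⁻¹ * ((z⁻¹ * h) * (c : G) * (z⁻¹ * h)⁻¹) =
          ((c : G)⁻¹ * (z⁻¹ * h) * (c : G)⁻¹⁻¹) * (z⁻¹ * h)⁻¹ := by group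
      rw [e]
      exact H.mul_mem (conj_mem_of_le_normalizer hn hkH (K.inv_mem (hTK hcS))) (H.inv_mem hkH)
    · have h1 := (Subgroup.mem_normalizer_iff.1
        (normalizer_le_normalizer_centralizer _ hkNT) c).1 hcC
      exact Subgroup.mul_mem _ (Subgroup.inv_mem _ hcC) h1

end sylow

end Cfsg.Agent.Helper85
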