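import Mathlib
import Cfsg.Prelude.Def_Local
import Cfsg.Prelude.Def_Transfer
import Cfsg.Prelude.Def_Solvable
import Cfsg.Agent.Lib.Helper54.PSolv
import Cfsg.Agent.Lib.Helper76.SolvPSolv
import Cfsg.Agent.Lib.Helper55.Cores
import Cfsg.Agent.Lib.Helper11.AZ6
import Cfsg.Agent.Lib.Helper86.GroupLemmas

/-!
# Group lemmas for the residual series (S5156)

* `pElC p G` : the subgroup generated by the `p`-elements (`O^{p'}(G)`).
* `isPSolvable_of_normal` : extensions of `p`-solvable groups are `p`-solvable.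
* `exists_proper_residual` : a nontrivial `p`-solvable group has `O^{p'}(G) ≠ G` or `O^p(G) ≠ G`.
* `centralizer_pCore_le_of_normal` : normal subgroups of groups of characteristic `p` have characteristic `p`.
-/

set_option autoImplicit false

namespace Cfsg.Agent.Helper85.Res

open Cfsg

universe u

section pel

variable {G : Type*} [Group G]

/-- `O^{p'}(G)`: the subgroup generated by the elements of `p`-power order -/
def pElC (p : ℕ) (G : Type*) [Group G] : Subgroup G :=
  Subgroup.closure {g : G | ∃ k : ℕ, orderOf g = p ^ k}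

instance pElC_normal (p : ℕ) : (pElC p G).Normal := by
  constructor
  intro n hn g
  unfold pElC at *
  induction hn using Subgroup.closure_induction with
  | mem x hx =>
    apply Subgroup.subset_closure
    obtain ⟨k, hk⟩ := hx
    refine ⟨k, ?_⟩
    have : g * x * g⁻¹ = MulAut.conj g x := rfl
    rw [this, MulEquiv.orderOf_eq]
    exact hk
  | one => simp
  | mul x y _ _ hx hy =>
    have : g * (x * y) * g⁻¹ = (g * x * g⁻¹) * (g * y * g⁻¹) := by group
    rw [this]
    exact Subgroup.mul_mem _ hx hy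
  | inv x _ hx =>
    have : g * x⁻¹ * g⁻¹ = (g * x * g⁻¹)⁻¹ := by group
    rw [this]
    exact Subgroup.inv_mem _ hx

theorem pElC_def (p : ℕ) (G : Type*) [Group G] :
    pElC p G = Subgroup.closure {g : G | ∃ k : ℕ, orderOf g = p ^ k} := rfl

theorem le_pElC_of_isPGroup {p : ℕ} [Fact p.Prime] {P : Subgroup G} (hP : IsPGroup p P) : P ≤ pElC p G := by
  intro x hx
  apply Subgroup.subset_closure
  obtain ⟨k, hk⟩ := hP ⟨x, hx⟩
  have h1 : x ^ p ^ k = 1 := by
    have := congrArg Subtype.val hk
    simpa using this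
  obtain ⟨j, -, hj⟩ := (Nat.dvd_prime_pow (Fact.out : p.Prime)).1 (orderOf_dvd_of_pow_eq_one h1)
  exact ⟨j, hj⟩

/-- `O^{p'}(O^{p'}(G)) = O^{p'}(G)` -/
theorem pElC_subtype_eq_top (p : ℕ) : pElC p ↥(pElC p G) = ⊤ := by
  rw [eq_top_iff]
  rintro ⟨x, hx⟩ -
  have key : ∀ y (hy : y ∈ pElC p G), (⟨y, hy⟩ : ↥(pElC p G)) ∈ pElC p ↥(pElC p G) := by
    intro y hy
    unfold pElC at hy
    induction hy using Subgroup.closure_induction with
    | mem y hy =>
      obtain ⟨k, hk⟩ := hy
      apply Subgroup.subset_closure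
      refine ⟨k, ?_⟩
      rw [← hk]
      exact Subgroup.orderOf_mk y _
    | one => exact Subgroup.one_mem _
    | mul a b ha hb iha ihb =>
      have : (⟨a * b, Subgroup.mul_mem _ ha hb⟩ : ↥(pElC p G)) = ⟨a, ha⟩ * ⟨b, hb⟩ := rfl
      rw [this]
      exact Subgroup.mul_mem _ iha ihb
    | inv a ha iha =>
      have : (⟨a⁻¹, Subgroup.inv_mem _ ha⟩ : ↥(pElC p G)) = (⟨a, ha⟩ : ↥(pElC p G))⁻¹ := rfl
      rw [this]
      exact Subgroup.inv_mem _ iha
  exact key x hx

end pel

section psolv

theorem isPSolvable_of_subsingleton (p : ℕ) (G : Type*) [Group G] [Subsingleton G] : IsPSolvable p G := by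
  refine ⟨0, fun _ => ⊥, rfl, ?_, monotone_const, fun _ => inferInstance, fun i => i.elim0⟩
  exact Subsingleton.elim _ _

theorem isPSolvable_of_card {p : ℕ} (G : Type*) [Group G]
    (h : (∃ m : ℕ, Nat.card G = p ^ m) ∨ (Nat.card G).Coprime p) : IsPSolvable p G := by
  haveI : Subsingleton (G ⧸ (⊤ : Subgroup G)) := QuotientGroup.subsingleton_quotient_top
  refine Cfsg.Agent.Helper76.IsPSolvable.of_quotient (⊤ : Subgroup G) ?_
    (isPSolvable_of_subsingleton p _)
  rw [Subgroup.card_top]
  exact h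

/-- extensions of `p`-solvable groups are `p`-solvable -/
theorem isPSolvable_of_normal_aux (p : ℕ) [hp : Fact p.Prime] : ∀ n : ℕ, ∀ (G : Type u) [Group G] [Finite G],
    Nat.card G ≤ n → ∀ (N : Subgroup G) [N.Normal], IsPSolvable p ↥N → IsPSolvable p (G ⧸ N) →
      IsPSolvable p G := by
  intro n
  induction n with
  | zero =>
    intro G _ _ hn
    have : 0 < Nat.card G := Nat.card_pos
    omega
  | succ n ih =>
    intro G _ _ hn N _ hN hQ
    by_cases hNbot : N = ⊥
    · subst hNbot
      exact Cfsg.Agent.Helper54.IsPSolvable.of_surjective hQ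
        (QuotientGroup.quotientBot (G := G)).toMonoidHom (QuotientGroup.quotientBot (G := G)).surjective
    · -- a nontrivial characteristic `p`- or `p'`-subgroup of `N`
      have hcores : ¬ (pCore p ↥N = ⊥ ∧ pPrimeCore p ↥N = ⊥) := by
        rintro ⟨h1, h2⟩
        apply hNbot
        rw [eq_bot_iff]
        intro x hx
        have := Cfsg.Agent.Helper11.AZ.isPSolvable_trivial_of_cores hN h1 h2 ⟨x, hx⟩
        have := congrArg Subtype.val this
        simpa using this
      obtain ⟨M₀, hM₀char, hM₀ne, hM₀card⟩ : ∃ M₀ : Subgroup ↥N, M₀.Characteristic ∧ M₀ ≠ ⊥ ∧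
          ((∃ m : ℕ, Nat.card M₀ = p ^ m) ∨ (Nat.card M₀).Coprime p) := by
        by_cases h1 : pCore p ↥N = ⊥
        · have h2 : pPrimeCore p ↥N ≠ ⊥ := fun h2 => hcores ⟨h1, h2⟩
          exact ⟨pPrimeCore p ↥N, inferInstance, h2, Or.inr (Cfsg.Agent.Helper55.pPrimeCore_coprime p)⟩
        · refine ⟨pCore p ↥N, inferInstance, h1, Or.inl ?_⟩
          exact (IsPGroup.iff_card.1 Cfsg.Agent.Helper55.isPGroup_pCore)
      let M : Subgroup G := M₀.map N.subtype
      haveI hMn : M.Normal := ConjAct.normal_of_characteristic_of_normal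
      have hMcard : Nat.card M = Nat.card M₀ :=
        Nat.card_congr (M₀.equivMapOfInjective N.subtype N.subtype_injective).symm.toEquiv
      have hMne : M ≠ ⊥ := by
        intro h
        apply hM₀ne
        rw [eq_bot_iff]
        intro x hx
        have : (x : G) ∈ M := ⟨x, hx, rfl⟩
        rw [h, Subgroup.mem_bot] at this
        rw [Subgroup.mem_bot]
        exact Subtype.ext this
      have hMgt : 1 < Nat.card M := by
        rw [Subgroup.one_lt_card_iff_ne_bot]
        exact hMne
      have hcardQ : Nat.card (G ⧸ M) ≤ n := by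
        have h1 : Nat.card G = Nat.card (G ⧸ M) * Nat.card M :=
          Subgroup.card_eq_card_quotient_mul_card_subgroup M
        have h2 : 0 < Nat.card (G ⧸ M) := Nat.card_pos
        nlinarith
      -- the image of `N` in `G ⧸ M`
      let Nb : Subgroup (G ⧸ M) := N.map (QuotientGroup.mk' M)
      haveI hNbn : Nb.Normal :=
        Subgroup.Normal.map inferInstance _ (QuotientGroup.mk'_surjective M)
      have hNb : IsPSolvable p ↥Nb :=
        Cfsg.Agent.Helper54.IsPSolvable.of_surjective hN ((QuotientGroup.mk' M).subgroupMap N)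
          ((QuotientGroup.mk' M).subgroupMap_surjective N)
      have hle : N ≤ Nb.comap (QuotientGroup.mk' M) := by
        intro x hx
        exact ⟨x, hx, rfl⟩
      have hQb : IsPSolvable p ((G ⧸ M) ⧸ Nb) := by
        refine Cfsg.Agent.Helper54.IsPSolvable.of_surjective hQ
          (QuotientGroup.map N Nb (QuotientGroup.mk' M) hle) ?_
        intro y
        induction y using QuotientGroup.induction_on with
        | H y =>
          induction y using QuotientGroup.induction_on with
          | H g => exact ⟨(g : G ⧸ N), rfl⟩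
      have hGM : IsPSolvable p (G ⧸ M) := ih (G ⧸ M) hcardQ Nb hNb hQb
      refine Cfsg.Agent.Helper76.IsPSolvable.of_quotient M ?_ hGM
      rw [hMcard]
      exact hM₀card

theorem isPSolvable_of_normal {p : ℕ} [Fact p.Prime] {G : Type u} [Group G] [Finite G] (N : Subgroup G)
    [N.Normal] (hN : IsPSolvable p ↥N) (hQ : IsPSolvable p (G ⧸ N)) : IsPSolvable p G :=
  isPSolvable_of_normal_aux p (Nat.card G) G le_rfl N hN hQ

/-- a normal `p`-solvable subgroup of `p`-power or `p'` index -/
theorem isPSolvable_of_normal_index {p : ℕ} [Fact p.Prime] {G : Type u} [Group G] [Finite G] (N : Subgroup G)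
    [N.Normal] (hN : IsPSolvable p ↥N) (hidx : (∃ m : ℕ, N.index = p ^ m) ∨ N.index.Coprime p) :
    IsPSolvable p G := by
  apply isPSolvable_of_normal N hN
  apply isPSolvable_of_card
  rw [← Subgroup.index_eq_card]
  exact hidx

end psolv

section top

variable {G : Type*} [Group G] [Finite G]

theorem exists_top_step {n : ℕ} (H : Fin (n + 1) → Subgroup G) (h0 : H 0 ≠ ⊤) (hl : H (Fin.last n) = ⊤) :
    ∃ i : Fin n, H i.castSucc ≠ ⊤ ∧ H i.succ = ⊤ := by
  by_contra hcon
  have hall : ∀ i : Fin (n + 1), H i ≠ ⊤ := by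
    intro i
    induction i using Fin.induction with
    | zero => exact h0
    | succ j ih =>
      intro hj
      exact hcon ⟨j, ih, hj⟩
  exact hall _ hl

theorem mem_of_index_coprime_order {L : Subgroup G} [L.Normal] {g : G}
    (h : (orderOf g).Coprime L.index) : g ∈ L := by
  rw [← QuotientGroup.eq_one_iff]
  have h1 : orderOf (g : G ⧸ L) ∣ orderOf g := by
    apply orderOf_dvd_of_pow_eq_one
    rw [← QuotientGroup.mk_pow, pow_orderOf_eq_one]
    rfl
  have h2 : orderOf (g : G ⧸ L) ∣ L.index := by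
    rw [Subgroup.index_eq_card]
    exact orderOf_dvd_natCard _
  have h3 : orderOf (g : G ⧸ L) ∣ 1 := by
    rw [← Nat.Coprime.gcd_eq_one h]
    exact Nat.dvd_gcd h1 h2
  exact orderOf_eq_one_iff.1 (Nat.dvd_one.1 h3)

/-- a nontrivial `p`-solvable group has a proper `O^{p'}` or a proper `O^p` -/
theorem exists_proper_residual {p : ℕ} [hp : Fact p.Prime] [Nontrivial G] (hG : IsPSolvable p G) :
    pElC p G ≠ ⊤ ∨ pResidual p G ≠ ⊤ := by
  obtain ⟨n, H, h0, hl, -, hnorm, hstep⟩ := hG
  have hbt : (⊥ : Subgroup G) ≠ ⊤ := bot_ne_top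
  obtain ⟨i, hi1, hi2⟩ := exists_top_step H (by rw [h0]; exact hbt) hl
  haveI := hnorm i.castSucc
  have hidx := hstep i
  rw [hi2, Subgroup.relIndex_top_right] at hidx
  rcases hidx with ⟨m, hm⟩ | hcop
  · right
    intro htop
    apply hi1
    rw [eq_top_iff, ← htop]
    unfold pResidual
    rw [Subgroup.closure_le]
    intro g hg
    apply mem_of_index_coprime_order
    rw [hm]
    exact Nat.Coprime.pow_right m hg
  · left
    intro htop
    apply hi1
    rw [eq_top_iff, ← htop]
    unfold pElC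
    rw [Subgroup.closure_le]
    rintro g ⟨k, hk⟩
    apply mem_of_index_coprime_order
    rw [hk]
    exact Nat.Coprime.pow_left k hcop.symm

end top

section charp

variable {G : Type*} [Group G] [Finite G]

/-- an element of order prime to `p` acting on a `p`-group `Q` with `[Q, d] ≤ R` and `[R, d] = 1` centralizes `Q` -/
theorem commute_of_stabilizes {p : ℕ} [hp : Fact p.Prime] {R : Subgroup G} (hR : IsPGroup p R)
    {d q : G} (hd : (orderOf d).Coprime p) (hqR : q⁻¹ * (d * q * d⁻¹) ∈ R)
    (hRd : ∀ r ∈ R, d * r * d⁻¹ = r) : d * q * d⁻¹ = q := by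
  set r := q⁻¹ * (d * q * d⁻¹) with hr
  have hdq : d * q * d⁻¹ = q * r := by rw [hr]; group
  have hpow : ∀ k : ℕ, d ^ k * q * (d ^ k)⁻¹ = q * r ^ k := by
    intro k
    induction k with
    | zero => simp
    | succ k ih =>
      have h1 : d ^ (k + 1) * q * (d ^ (k + 1))⁻¹ = d * (d ^ k * q * (d ^ k)⁻¹) * d⁻¹ := by
        rw [pow_succ']; group
      rw [h1, ih]
      have h2 : d * (q * r ^ k) * d⁻¹ = (d * q * d⁻¹) * (d * r ^ k * d⁻¹) := by group
      rw [h2, hdq, hRd (r ^ k) (Subgroup.pow_mem _ hqR k), pow_succ]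
      group
  have h1 : r ^ orderOf d = 1 := by
    have := hpow (orderOf d)
    rw [pow_orderOf_eq_one, one_mul, inv_one, mul_one] at this
    exact mul_left_cancel (a := q) (by rw [← this, mul_one])
  obtain ⟨k, hk⟩ := hR ⟨r, hqR⟩
  have h2 : r ^ p ^ k = 1 := by
    have := congrArg Subtype.val hk
    simpa using this
  have h3 : orderOf r ∣ 1 := by
    have hc : (orderOf d).Coprime (p ^ k) := Nat.Coprime.pow_right k hd
    rw [← Nat.Coprime.gcd_eq_one hc]
    exact Nat.dvd_gcd (orderOf_dvd_of_pow_eq_one h1) (orderOf_dvd_of_pow_eq_one h2)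
  have h4 : r = 1 := orderOf_eq_one_iff.1 (Nat.dvd_one.1 h3)
  rw [hdq, h4, mul_one]

/-- normal subgroups of a group of characteristic `p` have characteristic `p` -/
theorem centralizer_pCore_le_of_normal {p : ℕ} [hp : Fact p.Prime]
    (hG : Subgroup.centralizer ((pCore p G : Subgroup G) : Set G) ≤ pCore p G) (N : Subgroup G) [hN : N.Normal] :
    Subgroup.centralizer ((pCore p ↥N : Subgroup ↥N) : Set ↥N) ≤ pCore p ↥N := by
  set R₀ : Subgroup ↥N := pCore p ↥N with hR₀
  set C : Subgroup ↥N := Subgroup.centralizer (R₀ : Set ↥N) with hC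
  haveI hCn : C.Normal := Subgroup.normal_centralizer
  -- `R = O_p(N)` as a subgroup of `G`
  let R : Subgroup G := R₀.map N.subtype
  have hRp : IsPGroup p R := (Cfsg.Agent.Helper55.isPGroup_pCore (G := ↥N) (p := p)).map N.subtype
  have hRQ : R ≤ pCore p G := Cfsg.Agent.Helper55.pCore_map_le p N
  have hQp : IsPGroup p (pCore p G) := Cfsg.Agent.Helper55.isPGroup_pCore
  haveI hQn : (pCore p G).Normal := inferInstance
  -- `Q ∩ N ≤ R`
  have hQN : ∀ x : G, x ∈ pCore p G → ∀ hx : x ∈ N, (⟨x, hx⟩ : ↥N) ∈ R₀ := by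
    intro x hxQ hxN
    have hle : (pCore p G).subgroupOf N ≤ pCore p ↥N := by
      apply Cfsg.Agent.Helper55.le_pCore
      · infer_instance
      · exact hQp.comap_of_injective N.subtype N.subtype_injective
    exact hle (Subgroup.mem_subgroupOf.2 hxQ)
  -- every element of `C` is a `p`-element
  have hCp : IsPGroup p C := by
    rintro ⟨c, hc⟩
    have hN0 : orderOf (c : G) ≠ 0 := (orderOf_pos (c : G)).ne'
    obtain ⟨a, m, hm, hNm⟩ := Nat.exists_eq_pow_mul_and_not_dvd hN0 p hp.out.ne_one
    refine ⟨a, ?_⟩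
    -- `d = c ^ (p ^ a)` has order prime to `p`
    set d : G := (c : G) ^ p ^ a with hd
    have hdm : d ^ m = 1 := by
      rw [hd, ← pow_mul, ← hNm, pow_orderOf_eq_one]
    have hdcop : (orderOf d).Coprime p :=
      Nat.Coprime.coprime_dvd_left (orderOf_dvd_of_pow_eq_one hdm)
        ((Nat.Prime.coprime_iff_not_dvd hp.out).2 hm).symm
    have hdN : d ∈ N := Subgroup.pow_mem _ c.2 _
    have hdC : (⟨d, hdN⟩ : ↥N) ∈ C := by
      have : (⟨d, hdN⟩ : ↥N) = c ^ p ^ a := Subtype.ext (by simp [hd])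
      rw [this]
      exact Subgroup.pow_mem _ hc _
    -- `d` centralizes `R`
    have hdR : ∀ r ∈ R, d * r * d⁻¹ = r := by
      rintro _ ⟨r, hr, rfl⟩
      have := Subgroup.mem_centralizer_iff.1 hdC r hr
      have h2 := congrArg Subtype.val this
      simp only [Subgroup.coe_mul] at h2
      show d * (r : G) * d⁻¹ = (r : G)
      rw [← h2]; group
    -- `d` centralizes `Q`
    have hdQ : d ∈ Subgroup.centralizer ((pCore p G : Subgroup G) : Set G) := by
      rw [Subgroup.mem_centralizer_iff]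
      intro q hq
      have hqR : q⁻¹ * (d * q * d⁻¹) ∈ R := by
        have h1 : q⁻¹ * (d * q * d⁻¹) ∈ pCore p G :=
          Subgroup.mul_mem _ (Subgroup.inv_mem _ hq) (hQn.conj_mem q hq d)
        have h2 : q⁻¹ * (d * q * d⁻¹) ∈ N := by
          have : q⁻¹ * (d * q * d⁻¹) = (q⁻¹ * d * q⁻¹⁻¹) * d⁻¹ := by group
          rw [this]
          exact Subgroup.mul_mem _ (hN.conj_mem d hdN q⁻¹) (Subgroup.inv_mem _ hdN)
        exact ⟨⟨_, h2⟩, hQN _ h1 h2, rfl⟩
      have := commute_of_stabilizes hRp hdcop hqR hdR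
      calc q * d = (d * q * d⁻¹) * d := by rw [this]
        _ = d * q := by group
    have hdQ' : d ∈ pCore p G := hG hdQ
    obtain ⟨k, hk⟩ := hQp ⟨d, hdQ'⟩
    have h2 : d ^ p ^ k = 1 := by
      have := congrArg Subtype.val hk
      simpa using this
    have h3 : orderOf d ∣ 1 := by
      have hc : (orderOf d).Coprime (p ^ k) := Nat.Coprime.pow_right k hdcop
      rw [← Nat.Coprime.gcd_eq_one hc]
      exact Nat.dvd_gcd dvd_rfl (orderOf_dvd_of_pow_eq_one h2)
    have h4 : d = 1 := orderOf_eq_one_iff.1 (Nat.dvd_one.1 h3)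
    apply Subtype.ext
    apply Subtype.ext
    simp only [Subgroup.coe_pow, Subgroup.coe_one]
    exact h4
  exact Cfsg.Agent.Helper55.le_pCore hCn hCp

end charp

end Cfsg.Agent.Helper85.Res
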