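import Mathlib
import Cfsg.Agent.Lib.Helper84.FusT5
import Cfsg.Agent.Lib.Helper84.GrpHyp
import Cfsg.Agent.Lib.Helper87.ModelSolv
import Cfsg.Agent.Lib.Helper88.RealizedNormal
import Cfsg.Agent.S5203
import Cfsg.Agent.S5139
import Cfsg.Agent.Lib.Helper85.ResA
import Cfsg.Agent.Lib.Helper73.PullbackSys
import Cfsg.Agent.Lib.Helper85.QuotLift
import Cfsg.Agent.Lib.Helper87.FusionEssential

/-!
# Residual subsystems of realized fusion systems (S5156)

`F` over `S ≤ Ω` realized by `ι : S →* G` with `ι(S)` Sylow in the finite group `G`.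

* `realized_hyperfocal` : `hyp(F) = ι⁻¹(O^p(G))` (transport of the hyperfocal subgroup theorem).
* `realized_pResidual_same` : the `p`-residual subsystem of `F` is the subsystem induced by `O^p(G)`.
-/

set_option autoImplicit false

namespace Cfsg.Agent.Helper85.Res

open Cfsg Cfsg.FusionSystem Cfsg.Agent.Helper87 Cfsg.Agent.Helper85
open Cfsg.Agent.Helper84.T1 Cfsg.Agent.Helper84.T2
open Cfsg.Agent.Helper88.RealizedNormal
open Cfsg.Agent.S5203 (Same same_of_sub sub_of_ppower)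

variable {Ω : Type*} [Group Ω] {S : Subgroup Ω} {G : Type*} [Group G]

/-- the isomorphism `S ≅ ι(S)` of a realization -/
theorem tr_of_realized {F : FusionSystem S} {ι : S →* G} (hr : F.IsRealizedBy ι) :
    Tr S ι.range (au ι) (au (backHom ι hr.1)) :=
  ⟨fun _ hx => au_mem_range' ι hx, fun _ hx _ hy => au_mul ι hx hy,
    fun y _ => au_backHom_mem ι hr.1 y, fun _ hx => au_back_au ι hr.1 hx,
    fun _ hy => au_au_back ι hr.1 hy⟩

/-- a realized system is isomorphic to the group fusion system on the image -/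
theorem rel_of_realized {F : FusionSystem S} {ι : S →* G} (hr : F.IsRealizedBy ι) :
    Rel (tr_of_realized hr) F (groupFusionSystem ι.range) where
  le := le_rfl
  eq := ((tr_of_realized hr).img_top).symm
  fwd := by
    intro P f hf
    obtain ⟨hPS, hfS, g, hg⟩ := (realized_mor_iff hr).1 hf
    rw [gfs_mor_iff]
    refine ⟨(tr_of_realized hr).img_le P, fun y hy => ?_, g, fun y hy => ?_⟩
    · exact au_mem_range' ι (hfS _ ((tr_of_realized hr).inv_mem_of_mem_img hy))
    · have hy' := ((tr_of_realized hr).mem_img).1 hy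
      rw [hg _ hy'.2, au_au_back ι hr.1 hy'.1]
  bwd := by
    intro P' f' hf'
    obtain ⟨hP', hf'S, g, hg⟩ := gfs_mor_iff.1 hf'
    rw [realized_mor_iff hr]
    refine ⟨(tr_of_realized hr).symm.img_le P', fun x _ => au_backHom_mem ι hr.1 _, g, fun x hx => ?_⟩
    have hx' := ((tr_of_realized hr).symm.mem_img).1 hx
    rw [au_au_back ι hr.1 (hf'S _ hx'.2), hg _ hx'.2]

/-- hyperfocal subgroup theorem for realized systems -/
theorem realized_hyperfocal [Finite G] {p : ℕ} [Fact p.Prime] {F : FusionSystem S} {ι : S →* G}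
    (hr : F.IsRealizedBy ι) (T : Sylow p G) (hT : (T : Subgroup G) = ι.range) :
    F.hyperfocalSubgroup p = preimageAlong ι (pResidual p G) := by
  have h := tr_of_realized hr
  have hrel := rel_of_realized hr
  have h1 := Cfsg.Agent.Helper84.T5.hyperfocal hrel p
  have h2 : (groupFusionSystem (T : Subgroup G)).hyperfocalSubgroup p = (T : Subgroup G) ⊓ pResidual p G :=
    le_antisymm (Cfsg.Agent.Helper84.hyperfocal_le_pResidual p (T : Subgroup G))
      (Cfsg.Agent.Helper84.inf_pResidual_le_hyperfocal p T)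
  rw [hT] at h2
  ext x
  rw [mem_pre]
  constructor
  · intro hx
    have hxS := hyperfocal_le_self F p hx
    refine ⟨hxS, ?_⟩
    have h3 : au ι x ∈ h.img (F.hyperfocalSubgroup p) := h.map_mem_img hx hxS
    rw [← h1, h2] at h3
    exact h3.2
  · rintro ⟨hxS, hx⟩
    have h3 : au ι x ∈ (groupFusionSystem ι.range).hyperfocalSubgroup p := by
      rw [h2]; exact ⟨au_mem_range' ι hxS, hx⟩
    rw [h1] at h3
    have h4 := h.inv_mem_of_mem_img h3
    rwa [au_back_au ι hr.1 hxS] at h4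

/-- powers of an automorphism induced by `g` are induced by the powers of `g` -/
theorem au_extAut_pow {ι : S →* G} {P : Subgroup Ω} (α : MulAut P) {g : G}
    (hg : ∀ x ∈ P, au ι (extAut α x) = g * au ι x * g⁻¹) (j : ℕ) :
    ∀ x ∈ P, au ι (extAut (α ^ j) x) = g ^ j * au ι x * (g ^ j)⁻¹ := by
  induction j with
  | zero =>
    intro x hx
    rw [pow_zero, pow_zero, extAut_one hx]; group
  | succ j ih =>
    intro x hx
    rw [pow_succ', extAut_mul _ _ hx, hg _ (extAut_mem_self _ hx), ih x hx, pow_succ']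
    group

/-- the `p`-residual subsystem of a realized system is induced by `O^p(G)` -/
theorem realized_pResidual_same [Finite S] [Finite G] {p : ℕ} [Fact p.Prime] (hS : IsPGroup p S)
    {F : FusionSystem S} {ι : S →* G} (hr : F.IsRealizedBy ι) (T : Sylow p G)
    (hT : (T : Subgroup G) = ι.range) (D : FusionSystem (F.hyperfocalSubgroup p))
    (hD : F.IsPResidual p D) : Same D (pullSys F hr (pResidual p G)) := by
  haveI hKn : (pResidual p G).Normal := Cfsg.Agent.Helper86.pResidual_normal p G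
  have hhyp := realized_hyperfocal hr T hT
  have hE'sat : (pullSys F hr (pResidual p G)).IsSaturated p := pullSys_saturated hr T hT _
  have hE'F := pullSys_isSubsystemOf hr (pResidual p G)
  have hidx' : (pullSys F hr (pResidual p G)).HasPPowerIndexIn F p := by
    refine ⟨hE'F, hhyp.le, fun P hP => ?_⟩
    have hPS : P ≤ S := hP.trans (preimageAlong_le ι _)
    haveI : Finite P := finite_of_le hPS
    rw [Subgroup.map_le_iff_le_comap]
    show Subgroup.closure {g : F.autGroup P | Nat.Coprime (orderOf g) p} ≤ _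
    rw [Subgroup.closure_le]
    intro a ha
    show (a : MulAut P) ∈ (pullSys F hr (pResidual p G)).autGroup P
    rw [mem_autGroup_iff hP, mor_pullSys_iff]
    have ha2 : Mor F P (extAut (a : MulAut P)) := (mem_autGroup_iff hPS).1 a.2
    obtain ⟨-, -, g, hg⟩ := (realized_mor_iff hr).1 ha2
    have hcop : (orderOf (a : MulAut P)).Coprime p := by
      rw [Subgroup.orderOf_coe]; exact ha
    obtain ⟨k, hk1, hk2⟩ := Cfsg.Agent.S5139.exists_pow_coprime p g (orderOf_pos (a : MulAut P)) hcop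
    have hak : (a : MulAut P) ^ k = (a : MulAut P) := by
      have := (pow_eq_pow_iff_modEq (x := (a : MulAut P)) (n := k) (m := 1)).2 hk1
      rwa [pow_one] at this
    refine ⟨hP, fun x hx => hP (extAut_mem_self _ hx), g ^ k, Subgroup.subset_closure hk2, fun x hx => ?_⟩
    have := au_extAut_pow (a : MulAut P) hg k x hx
    rwa [hak] at this
  haveI hfin1 : Finite (F.hyperfocalSubgroup p) := finite_of_le (hyperfocal_le_self F p)
  haveI hfin2 : Finite (preimageAlong ι (pResidual p G)) := finite_of_le (preimageAlong_le ι _)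
  have h1 := sub_of_ppower (hS.to_le (hyperfocal_le_self F p)) hD.1 hD.2.1 hidx' hhyp.le
  have h2 := sub_of_ppower (hS.to_le (preimageAlong_le ι _)) hE'sat hE'F hD.2 hhyp.ge
  exact same_of_sub h1 h2

/-! ### Models -/

theorem mem_of_mor_extFun {F : FusionSystem S} {P : Subgroup Ω} {φ : P →* Ω} (h : Mor F P (extFun φ)) :
    φ ∈ F.Hom P := by
  obtain ⟨ψ, hψ, e⟩ := h
  have : ψ = φ := MonoidHom.ext (fun x => by rw [e x, extFun_apply])
  rw [← this]; exact hψ

theorem sub_of_mor {T₁ T₂ : Subgroup Ω} {E : FusionSystem T₁} {F : FusionSystem T₂}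
    (h : ∀ (P : Subgroup Ω) (f : Ω → Ω), Mor E P f → Mor F P f) : E.IsSubsystemOf F := by
  intro P φ hφ
  exact mem_of_mor_extFun (h P _ (mor_of_mem hφ))

theorem mor_of_sub {T₁ T₂ : Subgroup Ω} {E : FusionSystem T₁} {F : FusionSystem T₂}
    (h : E.IsSubsystemOf F) {P : Subgroup Ω} {f : Ω → Ω} (hf : Mor E P f) : Mor F P f := by
  obtain ⟨φ, hφ, e⟩ := hf
  exact ⟨φ, h P hφ, e⟩

/-- a system with the same maps as a system with a model has that model -/
theorem model_of_same {p : ℕ} {T₁ T₂ : Subgroup Ω} {D : FusionSystem T₁} {X : FusionSystem T₂}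
    (hs : Same D X) {K : Type*} [Group K] {κ : T₂ →* K} (hX : X.IsModel p K κ) :
    ∃ κ' : T₁ →* K, D.IsModel p K κ' := by
  have e : T₁ = T₂ := hs.base_eq
  subst e
  have : D = X := Cfsg.Agent.S5203.eq_of_same hs
  subst this
  exact ⟨κ, hX⟩

/-- a power of `g`, congruent to the first power modulo the `p`-power `n`, of `p`-power order -/
theorem exists_pow_ppower {M : Type*} [Group M] [Finite M] (p : ℕ) [hp : Fact p.Prime] (g : M) {n j : ℕ}
    (hn : n = p ^ j) : ∃ k : ℕ, k ≡ 1 [MOD n] ∧ ∃ l : ℕ, orderOf (g ^ k) = p ^ l := by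
  have hN0 : orderOf g ≠ 0 := (orderOf_pos g).ne'
  obtain ⟨a, m, hm, hN⟩ := Nat.exists_eq_pow_mul_and_not_dvd hN0 p hp.out.ne_one
  have hmcop : m.Coprime n := by
    rw [hn]
    exact Nat.Coprime.pow_right j ((Nat.Prime.coprime_iff_not_dvd hp.out).2 hm).symm
  have hk1 : m ^ (Nat.totient n) ≡ 1 [MOD n] := Nat.ModEq.pow_totient hmcop
  have hnpos : 0 < n := by rw [hn]; exact pow_pos hp.out.pos j
  have hk2 : m ∣ m ^ (Nat.totient n) := dvd_pow_self _ (Nat.totient_pos.2 hnpos).ne'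
  refine ⟨_, hk1, ?_⟩
  generalize m ^ (Nat.totient n) = k at hk1 hk2
  have h1 : (g ^ k) ^ (p ^ a) = 1 := by
    rw [← pow_mul]
    apply orderOf_dvd_iff_pow_eq_one.1
    rw [hN, mul_comm k]
    exact Nat.mul_dvd_mul_left _ hk2
  obtain ⟨l, -, hl⟩ := (Nat.dvd_prime_pow hp.out).1 (orderOf_dvd_of_pow_eq_one h1)
  exact ⟨l, hl⟩

/-- `ι` with codomain restricted to a subgroup containing its range -/
def codHom (ι : S →* G) (H : Subgroup G) (hle : ι.range ≤ H) : S →* ↥H :=
  ι.codRestrict H (fun s => hle ⟨s, rfl⟩)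

theorem au_codHom (ι : S →* G) (H : Subgroup G) (hle : ι.range ≤ H) {x : Ω} (hx : x ∈ S) :
    ((au (codHom ι H hle) x : ↥H) : G) = au ι x := by
  rw [au_mem _ hx, au_mem _ hx]; rfl

theorem codHom_injective {ι : S →* G} (hinj : Function.Injective ι) (H : Subgroup G) (hle : ι.range ≤ H) :
    Function.Injective (codHom ι H hle) := by
  intro a b hab
  exact hinj (congrArg Subtype.val hab)

theorem mor_iff_of_realized_cod {E₁ : FusionSystem S} {ι : S →* G} {H : Subgroup G} {hle : ι.range ≤ H}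
    (hr₁ : E₁.IsRealizedBy (codHom ι H hle)) {P : Subgroup Ω} {f : Ω → Ω} :
    Mor E₁ P f ↔ P ≤ S ∧ (∀ x ∈ P, f x ∈ S) ∧ ∃ h ∈ H, ∀ x ∈ P, au ι (f x) = h * au ι x * h⁻¹ := by
  rw [realized_mor_iff hr₁]
  constructor
  · rintro ⟨hP, hf, g, hg⟩
    refine ⟨hP, hf, g.1, g.2, fun x hx => ?_⟩
    have := congrArg Subtype.val (hg x hx)
    simp only [Subgroup.coe_mul, Subgroup.coe_inv] at this
    rwa [au_codHom _ _ _ (hf x hx), au_codHom _ _ _ (hP hx)] at this
  · rintro ⟨hP, hf, h, hh, hg⟩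
    refine ⟨hP, hf, ⟨h, hh⟩, fun x hx => Subtype.ext ?_⟩
    simp only [Subgroup.coe_mul, Subgroup.coe_inv]
    rw [au_codHom _ _ _ (hf x hx), au_codHom _ _ _ (hP hx)]
    exact hg x hx

section model

variable [Finite S] {p : ℕ} [Fact p.Prime]

/-- normal subgroups of a model are models of the induced subsystems -/
theorem model_pullSys {F : FusionSystem S} {ι : S →* G} (hm : F.IsModel p G ι) (N : Subgroup G) [N.Normal] :
    (pullSys F hm.2.1 N).IsModel p ↥N (Cfsg.Agent.Helper88.RealizedNormal.resHom ι N) := by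
  haveI : Finite G := hm.1
  obtain ⟨T, hT⟩ := hm.2.2.1
  refine ⟨inferInstance, pullSys_realized hm.2.1 N, ?_, centralizer_pCore_le_of_normal hm.2.2.2 N⟩
  have hTsyl : Cfsg.Agent.Helper84.IsSylIn p ((T : Subgroup G) ⊓ N) N :=
    (Cfsg.Agent.Helper84.sylow_isSylIn_top T).inf_normal le_top (by rw [Subgroup.normalizer_eq_top])
  obtain ⟨R, hR⟩ := hTsyl.exists_sylow
  refine ⟨R, ?_⟩
  rw [hR]
  ext y
  rw [Subgroup.mem_subgroupOf]
  constructor
  · rintro ⟨hyT, -⟩
    rw [hT] at hyT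
    obtain ⟨s, hs⟩ := hyT
    have hsN : (s : Ω) ∈ preimageAlong ι N := mem_pre.2 ⟨s.2, by rw [au_mem ι s.2, hs]; exact y.2⟩
    refine ⟨⟨s, hsN⟩, Subtype.ext ?_⟩
    rw [resHom_coe, au_mem ι s.2]
    exact hs
  · rintro ⟨x, rfl⟩
    refine ⟨?_, (Cfsg.Agent.Helper88.RealizedNormal.resHom ι N x).2⟩
    rw [resHom_coe, hT]
    exact au_mem_range' ι (preimageAlong_le ι N x.2)

/-- elements of `O^{p'}(G)` induce automorphisms of `O_p(F)` lying in any subsystem of index prime to `p` -/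
theorem exists_iso_core {F : FusionSystem S} {ι : S →* G} (hm : F.IsModel p G ι) {E : FusionSystem S}
    (hidx : E.HasPrimeToPIndexIn F p) {h : G} (hh : h ∈ pElC p G) :
    ∃ a, Iso E (preimageAlong ι (pCore p G)) (preimageAlong ι (pCore p G)) a ∧
      ∀ x ∈ preimageAlong ι (pCore p G), au ι (a x) = h * au ι x * h⁻¹ := by
  haveI : Finite G := hm.1
  have hr := hm.2.1
  obtain ⟨T, hT⟩ := hm.2.2.1
  have hQS : preimageAlong ι (pCore p G) ≤ S := preimageAlong_le ι _
  have hcr : pCore p G ≤ ι.range := hT ▸ Cfsg.Agent.Helper55.pCore_le_sylow T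
  have himg : imageAlong ι (preimageAlong ι (pCore p G)) = pCore p G := img_pre rfl hcr
  haveI : (imageAlong ι (preimageAlong ι (pCore p G))).Normal := by rw [himg]; infer_instance
  have key : pElC p G ≤ (E.autGroup (preimageAlong ι (pCore p G))).comap
      (Cfsg.Agent.Helper87.ModelSolv.autHom ι hr.1 hQS) := by
    unfold pElC
    rw [Subgroup.closure_le]
    rintro g ⟨k, hk⟩
    show Cfsg.Agent.Helper87.ModelSolv.autHom ι hr.1 hQS g ∈ E.autGroup _
    have h1 : Cfsg.Agent.Helper87.ModelSolv.autHom ι hr.1 hQS g ∈ F.autGroup _ :=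
      Cfsg.Agent.Helper87.ModelSolv.autHom_mem_autGroup hr hQS g
    have h2 : orderOf (Cfsg.Agent.Helper87.ModelSolv.autHom ι hr.1 hQS g) ∣ p ^ k := by
      rw [← hk]; exact orderOf_map_dvd _ g
    obtain ⟨j, -, hj⟩ := (Nat.dvd_prime_pow (Fact.out : p.Prime)).1 h2
    have h3 : (⟨_, h1⟩ : F.autGroup (preimageAlong ι (pCore p G))) ∈
        Subgroup.closure {α : F.autGroup (preimageAlong ι (pCore p G)) | ∃ k : ℕ, orderOf α = p ^ k} := by
      apply Subgroup.subset_closure
      refine ⟨j, ?_⟩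
      rw [← hj]
      exact Subgroup.orderOf_mk _ _
    exact hidx.2 _ hQS ⟨_, h3, rfl⟩
  have h1 : Cfsg.Agent.Helper87.ModelSolv.autHom ι hr.1 hQS h ∈ E.autGroup _ := key hh
  refine ⟨extAut (Cfsg.Agent.Helper87.ModelSolv.autHom ι hr.1 hQS h),
    iso_of_mor_extAut ((mem_autGroup_iff hQS).1 h1), fun x hx => ?_⟩
  rw [extAut_mem _ hx]
  exact Cfsg.Agent.Helper87.ModelSolv.au_autHom ι hr.1 hQS h ⟨x, hx⟩

/-- maps induced by elements of `O^{p'}(G)` lie in every saturated subsystem of index prime to `p` -/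
theorem mor_of_pElC (hS : IsPGroup p S) {F : FusionSystem S} {ι : S →* G} (hm : F.IsModel p G ι)
    {E : FusionSystem S} (hEsat : E.IsSaturated p) (hidx : E.HasPrimeToPIndexIn F p)
    {P : Subgroup Ω} {f : Ω → Ω} (hP : P ≤ S) (hf : ∀ x ∈ P, f x ∈ S) {h : G} (hh : h ∈ pElC p G)
    (hfh : ∀ x ∈ P, au ι (f x) = h * au ι x * h⁻¹) : Mor E P f := by
  haveI : Finite G := hm.1
  have hr := hm.2.1
  obtain ⟨T, hT⟩ := hm.2.2.1
  have hcen := hm.2.2.2
  have hQS : preimageAlong ι (pCore p G) ≤ S := preimageAlong_le ι _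
  have hcr : pCore p G ≤ ι.range := hT ▸ Cfsg.Agent.Helper55.pCore_le_sylow T
  have himg : imageAlong ι (preimageAlong ι (pCore p G)) = pCore p G := img_pre rfl hcr
  have hQsc : F.StronglyClosed (preimageAlong ι (pCore p G)) := pullSys_stronglyClosed hr (pCore p G)
  have hSQ : S ≤ Subgroup.normalizer (preimageAlong ι (pCore p G) : Set Ω) :=
    stronglyClosed_le_normalizer hQsc
  obtain ⟨a, ha, hah⟩ := exists_iso_core hm hidx hh
  have hfn : E.IsFullyNormalized (preimageAlong ι (pCore p G)) :=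
    fullyNormalized_of_le_normalizer E hQS hSQ
  have hrec : E.IsReceptive (preimageAlong ι (pCore p G)) := receptive_of_fullyNormalized hS hEsat hfn
  obtain ⟨g, hg, hga⟩ := (isReceptive_iff.1 hrec).2 _ a ha
  have hPext : P ≤ ha.ext := by
    intro x hx
    rw [Iso.mem_ext]
    refine ⟨hP hx, hSQ (hP hx), f x, hf x hx, fun q hq => ?_⟩
    have hxS := hP hx
    have hqS := hQS hq
    have hconjQ : x * q * x⁻¹ ∈ preimageAlong ι (pCore p G) :=
      ((Subgroup.mem_normalizer_iff).1 (hSQ hxS) q).1 hq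
    apply au_injOn hr.1 (hQS (ha.map_mem hconjQ))
      (S.mul_mem (S.mul_mem (hf x hx) (hQS (ha.map_mem hq))) (S.inv_mem (hf x hx)))
    rw [hah _ hconjQ, au_conj ι hxS hqS, au_conj ι (hf x hx) (hQS (ha.map_mem hq)), hah q hq, hfh x hx]
    group
  have hgF : Mor F ha.ext g := mor_of_sub hidx.1 hg
  obtain ⟨-, -, g₀, hg₀⟩ := (realized_mor_iff hr).1 hgF
  have hz : h⁻¹ * g₀ ∈ Subgroup.centralizer ((pCore p G : Subgroup G) : Set G) := by
    rw [Subgroup.mem_centralizer_iff]
    intro y hy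
    rw [← himg] at hy
    obtain ⟨q, hqS, hqQ, rfl⟩ := mem_img.1 hy
    have h1 : g₀ * au ι q * g₀⁻¹ = h * au ι q * h⁻¹ := by
      rw [← hg₀ q (ha.le_ext hqQ), hga q hqQ, hah q hqQ]
    calc au ι q * (h⁻¹ * g₀) = h⁻¹ * (h * au ι q * h⁻¹) * g₀ := by group
      _ = h⁻¹ * (g₀ * au ι q * g₀⁻¹) * g₀ := by rw [h1]
      _ = (h⁻¹ * g₀) * au ι q := by group
  have hzQ : h⁻¹ * g₀ ∈ pCore p G := hcen hz
  rw [← himg] at hzQ
  obtain ⟨z', hz'S, hz'Q, hz'⟩ := mem_img.1 hzQ
  have hmem : ∀ x ∈ P, z'⁻¹ * x * z'⁻¹⁻¹ ∈ ha.ext := fun x hx =>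
    ha.ext.mul_mem (ha.ext.mul_mem (ha.ext.inv_mem (ha.le_ext hz'Q)) (hPext hx))
      (ha.ext.inv_mem (ha.ext.inv_mem (ha.le_ext hz'Q)))
  have hfx : ∀ x ∈ P, f x = g (z'⁻¹ * x * z'⁻¹⁻¹) := by
    intro x hx
    have hxS := hP hx
    apply au_injOn hr.1 (hf x hx) (hgF.mem (hmem x hx))
    rw [hg₀ _ (hmem x hx), au_conj ι (S.inv_mem hz'S) hxS, au_inv ι hz'S, hz', hfh x hx]
    group
  have hc : Mor E P (fun x => z'⁻¹ * x * z'⁻¹⁻¹) := Mor.conj hP (S.inv_mem hz'S)
  exact (hc.comp hg hmem).congr (fun x hx => (hfx x hx).symm)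

/-- the `p'`-residual subsystem of a system with a model `G` has the model `O^{p'}(G)` -/
theorem model_pPrime (hS : IsPGroup p S) {F : FusionSystem S} {ι : S →* G} (hm : F.IsModel p G ι)
    {E : FusionSystem S} (hE : F.IsPPrimeResidual p E) :
    ∃ hle : ι.range ≤ pElC p G, E.IsModel p ↥(pElC p G) (codHom ι (pElC p G) hle) := by
  haveI : Finite G := hm.1
  have hr := hm.2.1
  obtain ⟨T, hT⟩ := hm.2.2.1
  have hle : ι.range ≤ pElC p G := by
    rw [← hT]; exact le_pElC_of_isPGroup T.isPGroup'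
  refine ⟨hle, ?_⟩
  have hinj' : Function.Injective (codHom ι (pElC p G) hle) := codHom_injective hr.1 _ hle
  have hr₁ : (Cfsg.Agent.Helper73.PullbackSys.pullSysOf (codHom ι (pElC p G) hle) hinj').IsRealizedBy
      (codHom ι (pElC p G) hle) := Cfsg.Agent.Helper73.PullbackSys.pullSysOf_realized _ hinj'
  have hTH : (T : Subgroup G) ≤ pElC p G := hT ▸ hle
  have hT' : ((T.subtype hTH : Sylow p ↥(pElC p G)) : Subgroup ↥(pElC p G)) =
      (codHom ι (pElC p G) hle).range := by
    rw [Sylow.coe_subtype]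
    ext y
    rw [Subgroup.mem_subgroupOf, hT]
    constructor
    · rintro ⟨s, hs⟩
      exact ⟨s, Subtype.ext hs⟩
    · rintro ⟨s, rfl⟩
      exact ⟨s, rfl⟩
  have hE₁sat := realized_saturated hr₁ (T.subtype hTH) hT'
  have hE₁F : (Cfsg.Agent.Helper73.PullbackSys.pullSysOf (codHom ι (pElC p G) hle) hinj').IsSubsystemOf F := by
    apply sub_of_mor
    intro P f hf
    obtain ⟨hP, hfS, h, -, hfh⟩ := (mor_iff_of_realized_cod hr₁).1 hf
    exact (realized_mor_iff hr).2 ⟨hP, hfS, h, hfh⟩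
  have hidx₁ : (Cfsg.Agent.Helper73.PullbackSys.pullSysOf (codHom ι (pElC p G) hle) hinj').HasPrimeToPIndexIn
      F p := by
    refine ⟨hE₁F, fun P hP => ?_⟩
    haveI : Finite P := finite_of_le hP
    rw [Subgroup.map_le_iff_le_comap, Subgroup.closure_le]
    rintro a ⟨k, hk⟩
    show (a : MulAut P) ∈ (Cfsg.Agent.Helper73.PullbackSys.pullSysOf (codHom ι (pElC p G) hle)
      hinj').autGroup P
    rw [mem_autGroup_iff hP, mor_iff_of_realized_cod hr₁]
    have ha2 : Mor F P (extAut (a : MulAut P)) := (mem_autGroup_iff hP).1 a.2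
    obtain ⟨-, -, g, hg⟩ := (realized_mor_iff hr).1 ha2
    have hord : orderOf (a : MulAut P) = p ^ k := by
      rw [Subgroup.orderOf_coe]; exact hk
    obtain ⟨j, hj1, l, hj2⟩ := exists_pow_ppower p g hord
    have haj : (a : MulAut P) ^ j = (a : MulAut P) := by
      have := (pow_eq_pow_iff_modEq (x := (a : MulAut P)) (n := j) (m := 1)).2 hj1
      rwa [pow_one] at this
    refine ⟨hP, fun x hx => hP (extAut_mem_self _ hx), g ^ j, Subgroup.subset_closure ⟨l, hj2⟩,
      fun x hx => ?_⟩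
    have := au_extAut_pow (a : MulAut P) hg j x hx
    rwa [haj] at this
  have h1 : E.IsSubsystemOf _ := hE.2.2 _ hE₁sat hidx₁
  have h2 : (Cfsg.Agent.Helper73.PullbackSys.pullSysOf (codHom ι (pElC p G) hle) hinj').IsSubsystemOf E := by
    apply sub_of_mor
    intro P f hf
    obtain ⟨hP, hfS, h, hh, hfh⟩ := (mor_iff_of_realized_cod hr₁).1 hf
    exact mor_of_pElC hS hm hE.1 hE.2.1 hP hfS hh hfh
  have hsame : ∀ P, E.Hom P = (Cfsg.Agent.Helper73.PullbackSys.pullSysOf (codHom ι (pElC p G) hle)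
      hinj').Hom P := fun P => Set.Subset.antisymm (h1 P) (h2 P)
  have hrE : E.IsRealizedBy (codHom ι (pElC p G) hle) :=
    ⟨hinj', fun P hP φ hφ => by rw [hsame P]; exact hr₁.2 P hP φ hφ⟩
  exact ⟨inferInstance, hrE, ⟨T.subtype hTH, hT'⟩, centralizer_pCore_le_of_normal hm.2.2.2 _⟩

end model

end Cfsg.Agent.Helper85.Res
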