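import Mathlib
import Cfsg.Agent.Lib.Helper85.ResB
import Cfsg.Agent.Lib.Helper85.Solvable8
import Cfsg.Agent.Lib.Helper85.Solvable5
import Cfsg.Agent.Lib.Helper84.FusZ5
import Cfsg.Agent.Lib.Helper69.PSolvSub
import Cfsg.Agent.S5120
import Cfsg.Agent.S5141
import Cfsg.Agent.S5140
import Cfsg.Agent.S5113
import Cfsg.Agent.S5124

/-!
# The terminating residual series (S5156)

* `constrained_of_hasTerm` : a saturated system with a terminating residual series is solvable, hence constrained.
* `model_isPSolvable_of_hasTerm` : its models are `p`-solvable.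
* `hasTerm_of_model` : a system with a `p`-solvable model has a terminating residual series.
-/

set_option autoImplicit false

namespace Cfsg.Agent.Helper85.Res

open Cfsg Cfsg.FusionSystem Cfsg.Agent.Helper87 Cfsg.Agent.Helper85
open Cfsg.Agent.Helper88.RealizedNormal
open scoped commutatorElement

universe u

section chain

variable {Ω : Type*} [Group Ω] {S : Subgroup Ω}

/-- in a finite `p`-group a proper normal subgroup has a strictly larger normal subgroup with abelian quotient -/
theorem exists_next_normal [Finite S] {p : ℕ} [Fact p.Prime] (hS : IsPGroup p S) {U : Subgroup Ω}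
    (hUS : U ≤ S) (hUn : (U.subgroupOf S).Normal) (hne : U ≠ S) :
    ∃ U' : Subgroup Ω, U ≤ U' ∧ (∃ u ∈ U', u ∉ U) ∧ U' ≤ S ∧ (U'.subgroupOf S).Normal ∧ ⁅U', U'⁆ ≤ U := by
  haveI := hUn
  have hUb : U.subgroupOf S ≠ ⊤ := by
    intro h
    exact hne (le_antisymm hUS (Subgroup.subgroupOf_eq_top.1 h))
  haveI : Nontrivial (S ⧸ U.subgroupOf S) := QuotientGroup.nontrivial_iff.2 hUb
  have hQp : IsPGroup p (S ⧸ U.subgroupOf S) := hS.to_quotient _
  haveI hZ : Nontrivial (Subgroup.center (S ⧸ U.subgroupOf S)) := hQp.center_nontrivial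
  let V : Subgroup S := (Subgroup.center (S ⧸ U.subgroupOf S)).comap (QuotientGroup.mk' (U.subgroupOf S))
  haveI hVn : V.Normal := inferInstance
  have hVeq : (V.map S.subtype).subgroupOf S = V :=
    Subgroup.comap_map_eq_self_of_injective (Subgroup.subtype_injective S) V
  refine ⟨V.map S.subtype, ?_, ?_, Subgroup.map_subtype_le V, ?_, ?_⟩
  · intro x hx
    refine ⟨⟨x, hUS hx⟩, ?_, rfl⟩
    show QuotientGroup.mk' (U.subgroupOf S) ⟨x, hUS hx⟩ ∈ Subgroup.center _
    have : QuotientGroup.mk' (U.subgroupOf S) ⟨x, hUS hx⟩ = 1 := by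
      rw [QuotientGroup.mk'_apply, QuotientGroup.eq_one_iff, Subgroup.mem_subgroupOf]
      exact hx
    rw [this]
    exact Subgroup.one_mem _
  · obtain ⟨⟨z, hz⟩, hz1⟩ := exists_ne (1 : Subgroup.center (S ⧸ U.subgroupOf S))
    obtain ⟨s, rfl⟩ := QuotientGroup.mk'_surjective (U.subgroupOf S) z
    refine ⟨(s : Ω), ⟨s, hz, rfl⟩, fun hsU => hz1 ?_⟩
    apply Subtype.ext
    show QuotientGroup.mk' (U.subgroupOf S) s = 1
    rw [QuotientGroup.mk'_apply, QuotientGroup.eq_one_iff, Subgroup.mem_subgroupOf]
    exact hsU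
  · rw [hVeq]; exact hVn
  · rw [Subgroup.commutator_le]
    rintro _ ⟨a, ha, rfl⟩ _ ⟨b, hb, rfl⟩
    have hab : ⁅a, b⁆ ∈ U.subgroupOf S := by
      rw [← QuotientGroup.eq_one_iff, ← QuotientGroup.mk'_apply, map_commutatorElement]
      have ha' : QuotientGroup.mk' (U.subgroupOf S) a ∈ Subgroup.center _ := ha
      rw [commutatorElement_eq_one_iff_mul_comm]
      exact ((Subgroup.mem_center_iff.1 ha') _).symm
    have := Subgroup.mem_subgroupOf.1 hab
    simpa [commutatorElement_def] using this

/-- above the hyperfocal subgroup of a saturated system there is a chain of strongly closed subgroups with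
abelian quotients -/
theorem hasChainFrom_of_hyperfocal_le [Finite S] {p : ℕ} [Fact p.Prime] (hS : IsPGroup p S)
    {E : FusionSystem S} (hE : E.IsSaturated p) : ∀ (m : ℕ) (U : Subgroup Ω), U ≤ S →
      (U.subgroupOf S).Normal → E.hyperfocalSubgroup p ≤ U → Nat.card S - Nat.card U = m →
        HasChainFrom E U := by
  intro m
  induction m using Nat.strong_induction_on with
  | _ m ih =>
    intro U hUS hUn hU hm
    by_cases hne : U = S
    · rw [hne]; exact hasChainFrom_top E
    · obtain ⟨U', hUU', ⟨u, huU', huU⟩, hU'S, hU'n, hab⟩ := exists_next_normal hS hUS hUn hne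
      have hUsc : E.StronglyClosed U := Cfsg.Agent.S5120.stronglyClosed_of_hyperfocal_le hS hE hUS hUn hU
      have hlt : Nat.card U < Nat.card U' := card_lt_of_not_mem hUU' hU'S huU' huU
      have hle : Nat.card U' ≤ Nat.card S := Subgroup.card_le_of_le hU'S
      exact hasChainFrom_cons hUsc hUU' hab
        (ih (Nat.card S - Nat.card U') (by omega) U' hU'S hU'n (hU.trans hUU') rfl)

theorem hyperfocal_normal {T : Subgroup Ω} (E : FusionSystem T) (p : ℕ) :
    ((E.hyperfocalSubgroup p).subgroupOf T).Normal := by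
  constructor
  intro n hn g
  rw [Subgroup.mem_subgroupOf] at hn ⊢
  exact Cfsg.Agent.S5124.conj_mem E p g.2 hn

/-- a terminating residual series gives a chain of strongly closed subgroups with abelian quotients -/
theorem hasChain_of_hasTerm {p : ℕ} [Fact p.Prime] : ∀ {S : Subgroup Ω} (F : FusionSystem S) (q : ℕ),
    F.HasTerminatingResidualSeries q → q = p → Finite S → IsPGroup p S → F.IsSaturated p →
      HasChainFrom F ⊥ := by
  intro S F q h
  induction h with
  | trivial F q hbot =>
    intro _ _ _ _
    exact ⟨0, fun _ => ⊥, rfl, hbot.symm, monotone_const, fun _ => stronglyClosed_bot F, fun i => i.elim0⟩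
  | @step S F E q D hFE hED hD ih =>
    intro hq hfin hS hF
    subst hq
    have hEsat := hFE.1
    have hTS : E.hyperfocalSubgroup q ≤ S := hyperfocal_le_self E q
    haveI : Finite (E.hyperfocalSubgroup q) := finite_of_le hTS
    have hTp : IsPGroup q (E.hyperfocalSubgroup q) := hS.to_le hTS
    have hTn := hyperfocal_normal E q
    have hDn : D.IsNormalIn E q :=
      Cfsg.Agent.S5120.result q hS E hEsat _ hTS hTn le_rfl D hED.1 hED.2
    have hDchain : HasChainFrom D ⊥ := ih rfl inferInstance hTp hED.1
    have hET : HasChainFrom E (E.hyperfocalSubgroup q) :=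
      hasChainFrom_of_hyperfocal_le hS hEsat _ _ hTS hTn le_rfl rfl
    have hEbot : HasChainFrom E ⊥ := hasChainFrom_bot_of_invariant hDn.1.2.2 hDchain hET
    have hEn : E.IsNormalIn F q :=
      Cfsg.Agent.S5141.result q hS F hF F (Cfsg.Agent.Helper84.Z5.normal_self hS F hF).1 E hFE
    exact hasChainFrom_bot_of_invariant hEn.1.2.2 hEbot (hasChainFrom_top F)

theorem constrained_of_hasTerm [Finite S] {p : ℕ} [Fact p.Prime] (hS : IsPGroup p S) {F : FusionSystem S}
    (hF : F.IsSaturated p) (h : F.HasTerminatingResidualSeries p) : F.IsConstrained p :=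
  constrained_of_solvable hS hF
    ((solvable_iff_hasChainFrom hS hF).2 (hasChain_of_hasTerm F p h rfl inferInstance hS hF))

end chain

section grp

theorem pElC_index_coprime {G : Type*} [Group G] [Finite G] {p : ℕ} [hp : Fact p.Prime] :
    (pElC p G).index.Coprime p := by
  obtain ⟨T⟩ : Nonempty (Sylow p G) := inferInstance
  have hTH : (T : Subgroup G) ≤ pElC p G := le_pElC_of_isPGroup T.isPGroup'
  have h1 : (pElC p G).index ∣ (T : Subgroup G).index := Subgroup.index_dvd_of_le hTH
  have h2 : ¬ p ∣ (T : Subgroup G).index := T.not_dvd_index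
  exact ((Nat.Prime.coprime_iff_not_dvd hp.out).2 (fun h => h2 (h.trans h1))).symm

theorem pResidual_index_pow {G : Type*} [Group G] [Finite G] {p : ℕ} [hp : Fact p.Prime] :
    ∃ m : ℕ, (pResidual p G).index = p ^ m := by
  haveI := Cfsg.Agent.Helper86.pResidual_normal p G
  obtain ⟨k, hk⟩ := (IsPGroup.iff_card).mp (Cfsg.Agent.Helper86.isPGroup_quotient_pResidual p G)
  exact ⟨k, by rw [Subgroup.index_eq_card]; exact hk⟩

end grp

section main

variable {Ω : Type u} [Group Ω]

/-- the residual step on the group side: from a model `G` of `F` to a model `O^p(O^{p'}(G))` of `D` -/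
theorem exists_model_step {S : Subgroup Ω} [Finite S] {p : ℕ} [Fact p.Prime] (hS : IsPGroup p S)
    {F E : FusionSystem S} {D : FusionSystem (E.hyperfocalSubgroup p)} (hFE : F.IsPPrimeResidual p E)
    (hED : E.IsPResidual p D) {G : Type u} [Group G] {ι : S →* G} (hm : F.IsModel p G ι) :
    ∃ κ' : ↥(E.hyperfocalSubgroup p) →* ↥(pResidual p ↥(pElC p G)),
      D.IsModel p ↥(pResidual p ↥(pElC p G)) κ' := by
  haveI : Finite G := hm.1
  obtain ⟨hle, hmE⟩ := model_pPrime hS hm hFE
  obtain ⟨T', hT'⟩ := hmE.2.2.1
  have hsame := realized_pResidual_same hS hmE.2.1 T' hT' D hED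
  haveI : (pResidual p ↥(pElC p G)).Normal := Cfsg.Agent.Helper86.pResidual_normal p _
  have hmK := model_pullSys hmE (pResidual p ↥(pElC p G))
  exact model_of_same hsame hmK

/-- the models of a system with a terminating residual series are `p`-solvable -/
theorem model_isPSolvable_of_hasTerm {p : ℕ} [Fact p.Prime] : ∀ {S : Subgroup Ω} (F : FusionSystem S) (q : ℕ),
    F.HasTerminatingResidualSeries q → q = p → Finite S → IsPGroup p S →
      ∀ (G : Type u) [Group G] (ι : S →* G), F.IsModel p G ι → IsPSolvable p G := by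
  intro S F q h
  induction h with
  | @trivial S F q hbot =>
    intro _ _ _ G _ ι hm
    haveI : Finite G := hm.1
    obtain ⟨T, hT⟩ := hm.2.2.1
    have hrange : ι.range = ⊥ := by
      rw [eq_bot_iff]
      rintro _ ⟨s, rfl⟩
      have hs : (s : Ω) ∈ (⊥ : Subgroup Ω) := hbot ▸ s.2
      have hs1 : s = 1 := Subtype.ext (Subgroup.mem_bot.1 hs)
      rw [hs1, map_one]
      exact Subgroup.one_mem _
    have hcore : pCore p G = ⊥ := by
      rw [eq_bot_iff, ← hrange, ← hT]
      exact Cfsg.Agent.Helper55.pCore_le_sylow T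
    have hcen := hm.2.2.2
    rw [hcore] at hcen
    have htriv : ∀ g : G, g = 1 := by
      intro g
      have : g ∈ Subgroup.centralizer (((⊥ : Subgroup G) : Subgroup G) : Set G) := by
        rw [Subgroup.mem_centralizer_iff]
        intro y hy
        have hy1 : y = 1 := Subgroup.mem_bot.1 hy
        rw [hy1, one_mul, mul_one]
      exact Subgroup.mem_bot.1 (hcen this)
    haveI : Subsingleton G := ⟨fun a b => by rw [htriv a, htriv b]⟩
    exact isPSolvable_of_subsingleton p G
  | @step S F E q D hFE hED hD ih =>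
    intro hq hfin hS G _ ι hm
    subst hq
    haveI : Finite G := hm.1
    obtain ⟨κ', hκ'⟩ := exists_model_step hS hFE hED hm
    have hTS : E.hyperfocalSubgroup q ≤ S := hyperfocal_le_self E q
    haveI : Finite (E.hyperfocalSubgroup q) := finite_of_le hTS
    have hTp : IsPGroup q (E.hyperfocalSubgroup q) := hS.to_le hTS
    have hK : IsPSolvable q ↥(pResidual q ↥(pElC q G)) := ih rfl inferInstance hTp _ κ' hκ'
    haveI : (pResidual q ↥(pElC q G)).Normal := Cfsg.Agent.Helper86.pResidual_normal q _
    have hH : IsPSolvable q ↥(pElC q G) :=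
      isPSolvable_of_normal_index (pResidual q ↥(pElC q G)) hK (Or.inl pResidual_index_pow)
    exact isPSolvable_of_normal_index (pElC q G) hH (Or.inr pElC_index_coprime)

/-- a system with a `p`-solvable model has a terminating residual series -/
theorem hasTerm_of_model {p : ℕ} [Fact p.Prime] : ∀ n : ℕ, ∀ (S : Subgroup Ω), Finite S → IsPGroup p S →
    ∀ (F : FusionSystem S) (G : Type u) [Group G] (ι : S →* G), F.IsModel p G ι → Nat.card G ≤ n →
      IsPSolvable p G → F.HasTerminatingResidualSeries p := by
  intro n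
  induction n with
  | zero =>
    intro S _ _ F G _ ι hm hn _
    haveI : Finite G := hm.1
    have : 0 < Nat.card G := Nat.card_pos
    omega
  | succ n ih =>
    intro S hfin hS F G _ ι hm hn hsol
    by_cases hbot : S = ⊥
    · exact FusionSystem.HasTerminatingResidualSeries.trivial F p hbot
    · haveI : Finite G := hm.1
      have hF : F.IsSaturated p := (model_constrained hm).1
      obtain ⟨E, hFE⟩ := Cfsg.Agent.S5140.result p hS F hF
      have hEsat := hFE.1
      have hTS : E.hyperfocalSubgroup p ≤ S := hyperfocal_le_self E p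
      haveI : Finite (E.hyperfocalSubgroup p) := finite_of_le hTS
      have hTp : IsPGroup p (E.hyperfocalSubgroup p) := hS.to_le hTS
      obtain ⟨D, ⟨hDsat, hDidx⟩, -⟩ := Cfsg.Agent.S5113.result p hS E hEsat _ hTS le_rfl
      have hED : E.IsPResidual p D := ⟨hDsat, hDidx⟩
      obtain ⟨κ', hκ'⟩ := exists_model_step hS hFE hED hm
      have hHsol : IsPSolvable p ↥(pElC p G) := Cfsg.Agent.Helper69.IsPSolvable.subgroup' hsol _
      have hKsol : IsPSolvable p ↥(pResidual p ↥(pElC p G)) :=
        Cfsg.Agent.Helper69.IsPSolvable.subgroup' hHsol _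
      -- `O^{p'}(G)` is nontrivial
      obtain ⟨T, hT⟩ := hm.2.2.1
      have hle : ι.range ≤ pElC p G := by
        rw [← hT]; exact le_pElC_of_isPGroup T.isPGroup'
      haveI hHnt : Nontrivial ↥(pElC p G) := by
        have hex : ∃ s ∈ S, s ≠ 1 := by
          by_contra hcon
          apply hbot
          rw [eq_bot_iff]
          intro s hs
          by_contra hs1
          exact hcon ⟨s, hs, fun h => hs1 (Subgroup.mem_bot.2 h)⟩
        obtain ⟨s, hs, hs1⟩ := hex
        refine ⟨⟨⟨ι ⟨s, hs⟩, hle ⟨_, rfl⟩⟩, 1, fun h => hs1 ?_⟩⟩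
        have h1 : ι ⟨s, hs⟩ = 1 := congrArg Subtype.val h
        have h2 : (⟨s, hs⟩ : S) = 1 := hm.2.1.1 (by rw [h1, map_one])
        exact congrArg Subtype.val h2
      have hKtop : pResidual p ↥(pElC p G) ≠ ⊤ := by
        rcases exists_proper_residual hHsol with h | h
        · exact absurd (pElC_subtype_eq_top p) h
        · exact h
      have hcard : Nat.card ↥(pResidual p ↥(pElC p G)) ≤ n := by
        have h1 : Nat.card ↥(pResidual p ↥(pElC p G)) * (pResidual p ↥(pElC p G)).index =
            Nat.card ↥(pElC p G) := Subgroup.card_mul_index _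
        have h2 : (pResidual p ↥(pElC p G)).index ≠ 1 := fun h => hKtop (Subgroup.index_eq_one.1 h)
        have h3 : (pResidual p ↥(pElC p G)).index ≠ 0 := Subgroup.index_ne_zero_of_finite
        have h4 : Nat.card ↥(pElC p G) ≤ Nat.card G := Subgroup.card_le_card_group _
        have h5 : 0 < Nat.card ↥(pResidual p ↥(pElC p G)) := Nat.card_pos
        have h6 : 2 ≤ (pResidual p ↥(pElC p G)).index := by omega
        nlinarith
      have hDterm := ih (E.hyperfocalSubgroup p) inferInstance hTp D _ κ' hκ' hcard hKsol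
      exact FusionSystem.HasTerminatingResidualSeries.step F E p D hFE hED hDterm

end main

end Cfsg.Agent.Helper85.Res
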