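import Mathlib
import Cfsg.Prelude.Def_Solvable
import Cfsg.Agent.Lib.Helper85.Cocycle
import Cfsg.Agent.Lib.Helper87.FusionAlperin

set_option autoImplicit false

namespace Cfsg.Agent.Helper85

open Cfsg Cfsg.Agent.Helper87

open scoped IsMulCommutative in
/-- an automorphism of a finite group `G` with `C_G(O_p(G)) ≤ O_p(G)` fixing a Sylow `p`-subgroup elementwise is
conjugation by an element of `C_G(O_p(G))` -/
theorem aut_fixing_sylow_inner {G : Type*} [Group G] [Finite G] {p : ℕ} [Fact p.Prime] (T : Sylow p G)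
    (hcen : Subgroup.centralizer ((pCore p G : Subgroup G) : Set G) ≤ pCore p G)
    (ψ : G ≃* G) (hψ : ∀ t ∈ (T : Subgroup G), ψ t = t) :
    ∃ u ∈ Subgroup.centralizer ((pCore p G : Subgroup G) : Set G), ∀ g : G, ψ g = u * g * u⁻¹ := by
  haveI hQn : (pCore p G).Normal := pCore_normal p G
  have hQT : pCore p G ≤ T := pCore_le_sylow T
  haveI hZn : (Subgroup.centralizer ((pCore p G : Subgroup G) : Set G)).Normal := Subgroup.normal_centralizer
  haveI hcomm : IsMulCommutative (Subgroup.centralizer ((pCore p G : Subgroup G) : Set G)) := by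
    refine ⟨⟨fun a b => ?_⟩⟩
    apply Subtype.ext
    show (a : G) * b = b * a
    exact ((Subgroup.mem_centralizer_iff.1 a.2) b (hcen b.2)).symm
  have hmemZ : ∀ g : G, ψ g * g⁻¹ ∈ Subgroup.centralizer ((pCore p G : Subgroup G) : Set G) := by
    intro g
    rw [Subgroup.mem_centralizer_iff]
    intro q hq
    have hq' : g⁻¹ * q * g ∈ pCore p G := by
      have := hQn.conj_mem q hq g⁻¹
      rwa [inv_inv] at this
    have h1 : ψ (g⁻¹ * q * g) = g⁻¹ * q * g := hψ _ (hQT hq')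
    have h2 : ψ q = q := hψ _ (hQT hq)
    have h3 : ψ (g * (g⁻¹ * q * g) * g⁻¹) = ψ g * ψ (g⁻¹ * q * g) * (ψ g)⁻¹ := by
      rw [map_mul, map_mul, map_inv]
    have h4 : g * (g⁻¹ * q * g) * g⁻¹ = q := by group
    rw [h4, h1, h2] at h3
    -- q = ψ g * (g⁻¹ * q * g) * (ψ g)⁻¹
    calc q * (ψ g * g⁻¹) = (ψ g * (g⁻¹ * q * g) * (ψ g)⁻¹) * (ψ g * g⁻¹) := by rw [← h3]
      _ = ψ g * g⁻¹ * q := by group
  have hpZ : IsPGroup p (Subgroup.centralizer ((pCore p G : Subgroup G) : Set G)) :=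
    (pCore_isPGroup (p := p) (G := G)).to_le hcen
  obtain ⟨e, he⟩ := (IsPGroup.iff_card).1 hpZ
  have hcop : Nat.Coprime (T : Subgroup G).index (Nat.card (Subgroup.centralizer ((pCore p G : Subgroup G) : Set G))) := by
    rw [he]
    apply Nat.Coprime.pow_right
    exact ((Nat.Prime.coprime_iff_not_dvd Fact.out).2 T.not_dvd_index).symm
  obtain ⟨z, hz⟩ := cocycle_coboundary
    (A := Subgroup.centralizer ((pCore p G : Subgroup G) : Set G))
    (MulAut.conjNormal (H := Subgroup.centralizer ((pCore p G : Subgroup G) : Set G))) (T : Subgroup G)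
    (Nat.card (Subgroup.centralizer ((pCore p G : Subgroup G) : Set G)))
    (fun a => pow_card_eq_one') hcop (fun g => ⟨ψ g * g⁻¹, hmemZ g⟩)
    (fun g h => by
      apply Subtype.ext
      show ψ (g * h) * (g * h)⁻¹ = (ψ g * g⁻¹) * (g * (ψ h * h⁻¹) * g⁻¹)
      rw [map_mul]; group)
    (fun t ht => by
      apply Subtype.ext
      show ψ t * t⁻¹ = 1
      rw [hψ t ht, mul_inv_cancel])
  refine ⟨(z : G)⁻¹, Subgroup.inv_mem _ z.2, fun g => ?_⟩
  have h1 := congrArg Subtype.val (hz g)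
  have h2 : ψ g * g⁻¹ = (z : G)⁻¹ * (g * z * g⁻¹) := h1
  calc ψ g = (ψ g * g⁻¹) * g := by group
    _ = (z : G)⁻¹ * (g * z * g⁻¹) * g := by rw [h2]
    _ = (z : G)⁻¹ * g * ((z : G)⁻¹)⁻¹ := by group

end Cfsg.Agent.Helper85
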