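import Mathlib
import Cfsg.Agent.Lib.Helper14.SPIDefs
import Cfsg.Agent.S0752

/-!
# SPI (EVEN) for helper14's server (S5961): a subspace on which an alternating form is nondegenerate
has even dimension (S0752 applied to `B.restrict W`).
-/

set_option autoImplicit false

namespace Cfsg.Agent.Helper85.SPI

open Module Polynomial Cfsg.Agent.Helper14.SPI

/-- (EVEN) a subspace on which an alternating form is nondegenerate has even dimension
(S0752.result applied to `B.restrict W`). -/
theorem even_finrank_of_nondegOn {F V : Type*} [Field F] [AddCommGroup V] [Module F V]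
    [FiniteDimensional F V] (B : LinearMap.BilinForm F V) (hB : B.IsAlt)
    (W : Submodule F V) (hW : NondegOn B W) : Even (finrank F W) := by
  have hAlt : (B.restrict W).IsAlt := fun w => hB (w : V)
  obtain ⟨m, k, b, -, -, -, hrad⟩ := Cfsg.Agent.S0752.result (B.restrict W) hAlt
  have hk : k = 0 := by
    by_contra hk
    have hkpos : 0 < k := Nat.pos_of_ne_zero hk
    let j : Fin k := ⟨0, hkpos⟩
    have hne : (b (Sum.inr j) : V) ≠ 0 := by
      intro h0
      exact b.ne_zero (Sum.inr j) (Subtype.ext h0)
    obtain ⟨v, hvW, hv⟩ := hW (b (Sum.inr j) : V) (b (Sum.inr j)).2 hne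
    exact hv (hrad j ⟨v, hvW⟩)
  subst hk
  have hcard : finrank F W = Fintype.card ((Fin m ⊕ Fin m) ⊕ Fin 0) :=
    Module.finrank_eq_card_basis b
  rw [hcard]
  simp only [Fintype.card_sum, Fintype.card_fin, add_zero]
  exact ⟨m, rfl⟩

end Cfsg.Agent.Helper85.SPI
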