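import Mathlib
import Cfsg.Agent.Lib.Helper14.SPIDefs
import Cfsg.Agent.Lib.Helper85.SPIEVEN
import Cfsg.Agent.Lib.Helper85.SPICNT

/-!
# SPI (CDVD) for helper14's server (S5961): from (CNT) + (EVEN): `c ∣ dim W`.
-/

set_option autoImplicit false

namespace Cfsg.Agent.Helper85.SPI

open Module Polynomial Cfsg.Agent.Helper14.SPI

/-- arithmetic core of (CDVD). -/
theorem h85_cOf_dvd (q r n : ℕ) (h1 : orderOf (q : ZMod r) ∣ n) (h2 : Even n) : cOf q r ∣ n := by
  unfold cOf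
  split_ifs with hev
  · exact h1
  · have hodd : Odd (orderOf (q : ZMod r)) := Nat.not_even_iff_odd.mp hev
    have hcop : Nat.Coprime 2 (orderOf (q : ZMod r)) := (Nat.coprime_two_left).2 hodd
    exact hcop.mul_dvd_of_dvd_of_dvd h2.two_dvd h1

/-- (CDVD) from (CNT) + (EVEN): `c ∣ dim W`. -/
theorem c_dvd_finrank {F V : Type*} [Field F] [Fintype F] [AddCommGroup V] [Module F V]
    [FiniteDimensional F V] (B : LinearMap.BilinForm F V) (hB : B.IsAlt)
    (x : V →ₗ[F] V) (r : ℕ) [Fact r.Prime]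
    (hrq : ¬ r ∣ Fintype.card F) (hxr : x ^ r = 1)
    (W : Submodule F V) (hWx : W.map x ≤ W) (hW : NondegOn B W)
    (hfpf : ∀ v ∈ W, x v = v → v = 0) :
    cOf (Fintype.card F) r ∣ finrank F W :=
  h85_cOf_dvd _ _ _ (order_dvd_finrank x r hrq hxr W hWx hfpf) (even_finrank_of_nondegOn B hB W hW)

end Cfsg.Agent.Helper85.SPI
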