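import Mathlib
import Cfsg.Agent.Lib.Helper14.SPIDefs

/-!
# SPI (FREE) for helper14's server (S5961): `S_t` acts freely on the ordered decompositions.
-/

set_option autoImplicit false

namespace Cfsg.Agent.Helper85.SPI

open Module Polynomial Cfsg.Agent.Helper14.SPI

/-- `OmegaProp` is invariant under reindexing by a permutation. -/
theorem h85_omegaProp_comp {F : Type*} [Field F] (d a : ℕ) {t : ℕ}
    (D : Fin t → Submodule F (Fin d ⊕ Fin d → F)) (σ : Equiv.Perm (Fin t))
    (h : OmegaProp d a D) : OmegaProp d a (fun j => D (σ j)) := by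
  obtain ⟨hdec, hnd, horth⟩ := h
  refine ⟨⟨hdec.two_le, hdec.pos, fun i => hdec.finrank_eq (σ i), ?_, ?_⟩, fun j => hnd (σ j), ?_⟩
  · exact hdec.indep.comp σ.injective
  · have := hdec.iSup_eq_top
    rw [← this]
    exact Equiv.iSup_comp (g := D) σ
  · intro j j' hjj'
    exact horth (σ j) (σ j') (fun h => hjj' (σ.injective h))

/-- the members of a decomposition are pairwise different. -/
theorem h85_omegaProp_injective {F : Type*} [Field F] (d a : ℕ) {t : ℕ}
    (D : Fin t → Submodule F (Fin d ⊕ Fin d → F)) (h : OmegaProp d a D) : Function.Injective D := by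
  obtain ⟨hdec, -, -⟩ := h
  intro i j hij
  by_contra hne
  have hdis : Disjoint (D i) (D j) := hdec.indep.pairwiseDisjoint hne
  rw [← hij, disjoint_self] at hdis
  have h1 := hdec.finrank_eq i
  rw [hdis, finrank_bot] at h1
  exact absurd h1.symm (Nat.pos_iff_ne_zero.mp hdec.pos)

/-- (FREE) `S_t` acts freely on the ordered decompositions (`D` is injective). -/
theorem factorial_dvd_card {F : Type*} [Field F] [Fintype F] (d a t : ℕ) :
    t.factorial ∣ Nat.card {D : Fin t → Submodule F (Fin d ⊕ Fin d → F) // OmegaProp d a D} := by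
  classical
  letI : MulAction (Equiv.Perm (Fin t))
      {D : Fin t → Submodule F (Fin d ⊕ Fin d → F) // OmegaProp d a D} :=
    { smul := fun σ D => ⟨fun j => D.1 (σ⁻¹ j), h85_omegaProp_comp d a D.1 σ⁻¹ D.2⟩
      one_smul := fun D => by
        apply Subtype.ext
        funext j
        show D.1 ((1 : Equiv.Perm (Fin t))⁻¹ j) = D.1 j
        simp
      mul_smul := fun σ τ D => by
        apply Subtype.ext
        funext j
        show D.1 ((σ * τ)⁻¹ j) = D.1 (τ⁻¹ (σ⁻¹ j))
        rw [mul_inv_rev]
        rfl }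
  have hfree : ∀ D : {D : Fin t → Submodule F (Fin d ⊕ Fin d → F) // OmegaProp d a D},
      MulAction.stabilizer (Equiv.Perm (Fin t)) D = ⊥ := by
    intro D
    rw [eq_bot_iff]
    intro σ hσ
    rw [MulAction.mem_stabilizer_iff] at hσ
    rw [Subgroup.mem_bot]
    have hinj := h85_omegaProp_injective d a D.1 D.2
    have h1 : ∀ j, D.1 (σ⁻¹ j) = D.1 j := fun j => congrFun (congrArg Subtype.val hσ) j
    have h2 : σ⁻¹ = 1 := by
      ext j
      rw [hinj (h1 j)]
      rfl
    exact inv_eq_one.mp h2
  have e := MulAction.selfEquivOrbitsQuotientProd hfree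
  rw [Nat.card_congr e, Nat.card_prod, Nat.card_eq_fintype_card (α := Equiv.Perm (Fin t)),
    Fintype.card_perm, Fintype.card_fin]
  exact Dvd.intro_left _ rfl

end Cfsg.Agent.Helper85.SPI
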