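import Mathlib
import Cfsg.Agent.Lib.Helper14.SPIDefs
import Cfsg.Agent.S0776

/-!
# SPI (NE) core for helper14's server (S5961): decompositions exist, with (SPLIT) as a hypothesis.
-/

set_option autoImplicit false

namespace Cfsg.Agent.Helper85.SPI

open Module Polynomial Cfsg.Agent.Helper14.SPI

/-- (NE) with the statement of (SPLIT), specialised to the standard symplectic space, as a hypothesis. -/
theorem h85_nonempty_omega_of_split {F : Type*} [Field F] (d a t : ℕ)
    (hsplit : ∀ (B : LinearMap.BilinForm F (Fin d ⊕ Fin d → F)) (_ : B.IsAlt)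
      (U : Submodule F (Fin d ⊕ Fin d → F)) (_ : NondegOn B U) (e : Fin t → ℕ)
      (_ : ∀ j, Even (e j)) (_ : ∑ j, e j = finrank F U),
      ∃ E : Fin t → Submodule F (Fin d ⊕ Fin d → F), IsOrthFam B U E ∧ ∀ j, finrank F (E j) = e j)
    (hat : 2 * d = a * t) (ha : 2 ≤ a)
    (hae : Even a) (ht : 2 ≤ t) :
    Nonempty {D : Fin t → Submodule F (Fin d ⊕ Fin d → F) // OmegaProp d a D} := by
  have hnd : NondegOn (Cfsg.Agent.S0776.sB d F) ⊤ := by
    intro u _ hu
    by_contra hcon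
    push Not at hcon
    exact hu ((Cfsg.Agent.S0776.sB_nondeg (m := d) (F := F)).1 u (fun v => hcon v Submodule.mem_top))
  have hsum : ∑ _j : Fin t, a = finrank F (⊤ : Submodule F (Fin d ⊕ Fin d → F)) := by
    rw [finrank_top, Module.finrank_pi, Fintype.card_sum, Fintype.card_fin, Finset.sum_const,
      Finset.card_univ, Fintype.card_fin, smul_eq_mul, mul_comm t a, ← hat]
    ring
  obtain ⟨E, hE, hEa⟩ := hsplit (Cfsg.Agent.S0776.sB d F) Cfsg.Agent.S0776.sB_alt ⊤ hnd
    (fun _ => a) (fun _ => hae) hsum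
  refine ⟨⟨E, ⟨ht, by omega, hEa, hE.indep, hE.sup⟩, ?_, ?_⟩⟩
  · intro j u hu hu0
    obtain ⟨v, hv, hne⟩ := hE.nondeg j u hu hu0
    exact ⟨v, hv, by rwa [Cfsg.Agent.S0776.sB_apply] at hne⟩
  · intro j j' hjj' u hu v hv
    have := hE.orth j j' hjj' u hu v hv
    rwa [Cfsg.Agent.S0776.sB_apply] at this

end Cfsg.Agent.Helper85.SPI
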