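import Mathlib
import Cfsg.Agent.Lib.Helper14.SPIDefs
import Cfsg.Agent.Lib.Helper85.SPINECore
import Cfsg.Agent.Lib.Helper62.SPISPLIT

/-!
# SPI (NE) for helper14's server (S5961): decompositions exist ((SPLIT) for `S0776.sB d F`, all `e j = a`).
-/

set_option autoImplicit false

namespace Cfsg.Agent.Helper85.SPI

open Module Polynomial Cfsg.Agent.Helper14.SPI

/-- (NE) decompositions exist (SPLIT for `S0776.sB d F` with all `e j = a`). -/
theorem nonempty_omega {F : Type*} [Field F] (d a t : ℕ) (hat : 2 * d = a * t) (ha : 2 ≤ a)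
    (hae : Even a) (ht : 2 ≤ t) :
    Nonempty {D : Fin t → Submodule F (Fin d ⊕ Fin d → F) // OmegaProp d a D} :=
  h85_nonempty_omega_of_split d a t
    (fun B hB U hU e he hsum => Cfsg.Agent.Helper62.SPI.exists_split B hB U hU e he hsum)
    hat ha hae ht

end Cfsg.Agent.Helper85.SPI
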