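import Mathlib
import Cfsg.Agent.Lib.Helper2.SR0
import Cfsg.Agent.Lib.Helper12.SRK7
import Cfsg.Agent.Lib.Helper94.SRA4
import Cfsg.Agent.Lib.Helper94.SRK9a
import Cfsg.Agent.Lib.Helper85.SRK3

/-!
# SR server (helper2, S2281), pieces (K8) `MM_sq` and (K9) `MM_top`
-/

set_option autoImplicit false

namespace Cfsg.Agent.Helper85.SR

open Matrix Cfsg Cfsg.Agent.Helper13 Cfsg.Agent.Helper84.SpRoot Cfsg.Agent.Helper5.SpAut
open Cfsg.Agent.Helper2.SR

section K
variable {F : Type*} [Field F] {n : ℕ}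
  {H : Subgroup (Matrix.symplecticGroup (Fin n) F)} {u l : Matrix.symplecticGroup (Fin n) F}
  {e0 e1 p : Fin n ⊕ Fin n → F} {κ γ : F}

/-- (K8) `sympT (a • p) κ = sympT p (κ a²)`, conjugate by `l` -/
theorem MM_sq (hyp : Hyp H u l e0 e1 p κ γ) : ∀ a : F, κ * a ^ 2 ∈ MM H e0 := by
  intro a
  by_cases ha : a = 0
  · subst ha
    show sympT e0 (κ * 0 ^ 2) ∈ H
    rw [zero_pow two_ne_zero, mul_zero, sympT_zero]
    exact H.one_mem
  · have h1 : a • p ∈ Orb H e0 := Cfsg.Agent.Helper12.SR.orb_smul_p hyp a ha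
    have h2 : sympT (a • p) κ ∈ H := h85_tv_of_orb h1 hyp.hκ
    rw [sympT_smul] at h2
    have h3 : l * sympT p (κ * a ^ 2) * l⁻¹ ∈ H :=
      H.mul_mem (H.mul_mem hyp.hl h2) (H.inv_mem hyp.hl)
    rw [conj_sympT, hyp.lp] at h3
    exact h3

/-- (K9) -/
theorem MM_top [Finite F] (hyp : Hyp H u l e0 e1 p κ γ) : ∀ c : F, c ∈ MM H e0 := by
  obtain ⟨M, hM⟩ := Cfsg.Agent.Helper94.SR.MM_addsub (H := H) (e0 := e0)
  have hMmem : ∀ c, c ∈ M ↔ c ∈ MM H e0 := fun c => by rw [← hM]; rfl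
  let S : AddSubgroup F :=
    { carrier := {c | κ * c ∈ M}
      zero_mem' := by
        show κ * 0 ∈ M
        rw [mul_zero]; exact M.zero_mem
      add_mem' := by
        intro a b ha hb
        show κ * (a + b) ∈ M
        rw [mul_add]; exact M.add_mem ha hb
      neg_mem' := by
        intro a ha
        show κ * (-a) ∈ M
        rw [mul_neg]; exact M.neg_mem ha }
  have hS : ∀ a : F, a ^ 2 ∈ S := fun a => (hMmem _).2 (MM_sq hyp a)
  have htop : S = ⊤ := Cfsg.Agent.Helper94.SR.sq_span S hS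
  intro c
  have hc : c / κ ∈ S := by rw [htop]; exact AddSubgroup.mem_top _
  have h2 : κ * (c / κ) ∈ M := hc
  rw [mul_div_cancel₀ c hyp.κ0] at h2
  exact (hMmem c).1 h2

end K

end Cfsg.Agent.Helper85.SR
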