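import Mathlib
import Cfsg.Prelude.Def_FusionSystem
import Cfsg.Agent.Lib.Helper85.RelNormal
import Cfsg.Agent.Lib.Helper85.ConjType
import Cfsg.Agent.Lib.Helper85.Constr3
import Cfsg.Agent.Lib.Helper84.FusAlp3

set_option autoImplicit false

/-! If `F_S(G)` is constrained and `H` is subnormal in `G`, then `S ∩ H` is a Sylow `p`-subgroup of `H`
and `F_{S ∩ H}(H)` is constrained (both inside `G` and as a system on a subgroup of `↥H`). -/

namespace Cfsg.Agent.Helper85

open Cfsg Cfsg.FusionSystem Cfsg.Agent.Helper87 Cfsg.Agent.Helper84 Cfsg.Agent.Helper86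

variable {G : Type*} [Group G]

theorem fsos_top_eq_gfs (S : Subgroup G) :
    fusionSystemOfSubgroup ⊤ S le_top = groupFusionSystem S := by
  apply fusionSystem_ext
  intro P
  ext φ
  exact (isConjType_fsos ⊤ S le_top P φ).trans (isConjType_gfs S P φ).symm

theorem fsos_constrained_congr {p : ℕ} {H T T' : Subgroup G} (e : T = T') (h : T ≤ H) (h' : T' ≤ H)
    (hc : (fusionSystemOfSubgroup H T h).IsConstrained p) :
    (fusionSystemOfSubgroup H T' h').IsConstrained p := by
  subst e
  exact hc

variable [Finite G] {p : ℕ} [Fact p.Prime]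

theorem subnormal_chain (S : Sylow p G)
    (hF : (groupFusionSystem (S : Subgroup G)).IsConstrained p) {K : Subgroup G}
    (hK : K.IsSubnormal) :
    IsSylIn p ((S : Subgroup G) ⊓ K) K ∧
      (fusionSystemOfSubgroup K ((S : Subgroup G) ⊓ K) inf_le_right).IsConstrained p := by
  induction hK with
  | top =>
    refine ⟨?_, ?_⟩
    · rw [inf_top_eq]
      exact sylow_isSylIn_top S
    · have h1 : (fusionSystemOfSubgroup ⊤ (S : Subgroup G) le_top).IsConstrained p := by
        rw [fsos_top_eq_gfs]
        exact hF
      exact fsos_constrained_congr (inf_top_eq _).symm _ _ h1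
  | step H K hle hsub hN ih =>
    obtain ⟨hsyl, hcon⟩ := ih
    have hn : K ≤ Subgroup.normalizer (H : Set G) :=
      (Subgroup.normal_subgroupOf_iff_le_normalizer hle).1 hN
    have hnorm := rel_isNormalIn (inf_le_right : (S : Subgroup G) ⊓ K ≤ K) hsyl hle hn
    have e : ((S : Subgroup G) ⊓ K) ⊓ H = (S : Subgroup G) ⊓ H := by
      rw [inf_assoc, inf_eq_right.2 hle]
    refine ⟨?_, ?_⟩
    · rw [← e]
      exact hsyl.inf_normal hle hn
    · haveI : Finite ((S : Subgroup G) ⊓ K : Subgroup G) :=
        Finite.of_injective (fun x : ((S : Subgroup G) ⊓ K : Subgroup G) => (x : G))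
          Subtype.val_injective
      have h1 := constrained_of_isNormalIn hsyl.2.1 hcon hnorm
      exact fsos_constrained_congr e _ _ h1

/-- transport of constrainedness from `F_T(H)` inside `G` to the group fusion system of `↥H`. -/
theorem gfs_subgroupOf_constrained_of_fsos {H T : Subgroup G} (hTH : T ≤ H) (hsyl : IsSylIn p T H)
    (hc : (fusionSystemOfSubgroup H T hTH).IsConstrained p) :
    (groupFusionSystem (T.subgroupOf H)).IsConstrained p := by
  obtain ⟨R, hR⟩ := hsyl.exists_sylow
  refine ⟨?_, ?_⟩
  · rw [← hR]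
    exact gfs_saturated R
  · obtain ⟨-, Q, hQn, hQc⟩ := hc
    have eT : (T.subgroupOf H).map H.subtype = T := Subgroup.map_subgroupOf_eq_of_le hTH
    have eH : (⊤ : Subgroup H).map H.subtype = H := by
      rw [← MonoidHom.range_eq_map, Subgroup.range_subtype]
    have key : ∀ (T' H' : Subgroup G) (hTH' : T' ≤ H') (_ : T' = (T.subgroupOf H).map H.subtype)
        (_ : H' = (⊤ : Subgroup H).map H.subtype),
        (fusionSystemOfSubgroup H' T' hTH').IsNormal Q → (fusionSystemOfSubgroup H' T' hTH').IsCentric Q →
        ∃ Q₁ : Subgroup H, (groupFusionSystem (T.subgroupOf H)).IsNormal Q₁ ∧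
          (groupFusionSystem (T.subgroupOf H)).IsCentric Q₁ := by
      intro T' H' hTH' e1 e2 hn hc
      subst e1 e2
      exact ⟨Q.comap H.subtype,
        transport_isNormal H.subtype H.subtype_injective (isConjType_gfs _)
          (isConjType_fsos _ _ _) hn,
        transport_isCentric H.subtype H.subtype_injective (isConjType_gfs _)
          (isConjType_fsos _ _ _) hc⟩
    exact key T H hTH eT.symm eH.symm hQn hQc

theorem gfs_subgroupOf_constrained (S : Sylow p G)
    (hF : (groupFusionSystem (S : Subgroup G)).IsConstrained p) {H : Subgroup G}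
    (hH : H.IsSubnormal) :
    (groupFusionSystem ((S : Subgroup G).subgroupOf H)).IsConstrained p := by
  obtain ⟨hsyl, hcon⟩ := subnormal_chain S hF hH
  have h1 := gfs_subgroupOf_constrained_of_fsos inf_le_right hsyl hcon
  have e : ((S : Subgroup G) ⊓ H).subgroupOf H = (S : Subgroup G).subgroupOf H :=
    Subgroup.inf_subgroupOf_right _ _
  rw [e] at h1
  exact h1

end Cfsg.Agent.Helper85
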