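import Mathlib
import Cfsg.Prelude.Def_FusionSystem
import Cfsg.Agent.Lib.Helper85.Gasch2
import Cfsg.Agent.Lib.Helper84.FusO9
import Cfsg.Agent.Lib.Helper84.FusBasic
import Cfsg.Agent.Lib.Helper87.FusionFactor
import Cfsg.Agent.S5124
import Cfsg.Agent.S5203

set_option autoImplicit false

/-! # Tate's theorem for fusion systems: preparations -/

namespace Cfsg.Agent.Helper85

open Cfsg Cfsg.FusionSystem Cfsg.Agent.Helper87 MulAction
open scoped commutatorElement

universe u

section Nilp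

variable {G : Type*} [Group G]

/-- in a nilpotent group, a normal subgroup `N` contained in `M ⊔ [N, G]` is contained in `M` -/
theorem le_of_le_sup_commutator [hG : Group.IsNilpotent G] {N M : Subgroup G} [hN : N.Normal] [hM : M.Normal]
    (h : N ≤ M ⊔ ⁅N, (⊤ : Subgroup G)⁆) : N ≤ M := by
  have key : ∀ n : ℕ, N ≤ M ⊔ (⊤ : Subgroup G).lowerCentralSeries n := by
    intro n
    induction n with
    | zero =>
      rw [Subgroup.lowerCentralSeries_zero]
      exact le_trans le_top le_sup_right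
    | succ n ih =>
      refine le_trans h (sup_le le_sup_left ?_)
      have h1 : ⁅N, (⊤ : Subgroup G)⁆ ≤ ⁅M ⊔ (⊤ : Subgroup G).lowerCentralSeries n, (⊤ : Subgroup G)⁆ :=
        Subgroup.commutator_mono ih le_rfl
      refine le_trans h1 ?_
      rw [Subgroup.commutator_le]
      intro g₁ hg₁ g₂ _
      rw [Subgroup.mem_sup_of_normal_right] at hg₁ ⊢
      obtain ⟨m, hm, c, hc, rfl⟩ := hg₁
      refine ⟨m * ⁅c, g₂⁆ * m⁻¹ * ⁅m, g₂⁆ * (m * ⁅c, g₂⁆ * m⁻¹)⁻¹, ?_, m * ⁅c, g₂⁆ * m⁻¹, ?_, ?_⟩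
      · apply hM.conj_mem
        rw [commutatorElement_def]
        have e : m * g₂ * m⁻¹ * g₂⁻¹ = m * (g₂ * m⁻¹ * g₂⁻¹) := by group
        rw [e]
        exact M.mul_mem hm (hM.conj_mem _ (M.inv_mem hm) _)
      · have hn : ((⊤ : Subgroup G).lowerCentralSeries (n + 1)).Normal := inferInstance
        apply hn.conj_mem
        exact Subgroup.commutator_mem_commutator hc (Subgroup.mem_top g₂)
      · simp only [commutatorElement_def]
        group
  obtain ⟨n, hn⟩ := Subgroup.nilpotent_iff_lowerCentralSeries.1 hG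
  have := key n
  rwa [hn, sup_bot_eq] at this

end Nilp

section Tate1

variable {Ω : Type u} [Group Ω] {S : Subgroup Ω} {F : FusionSystem S}

/-- every map of a saturated system is, modulo the hyperfocal subgroup, conjugation by an element of `S` -/
theorem inner_mod_hyperfocal [Finite S] {p : ℕ} [Fact p.Prime] (hS : IsPGroup p S) (hF : F.IsSaturated p)
    (P : Subgroup Ω) (f : Ω → Ω) (hf : Mor F P f) :
    ∃ s ∈ S, ∀ a ∈ P, s * (a⁻¹ * (s⁻¹ * f a * s)) * s⁻¹ ∈ F.hyperfocalSubgroup p := by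
  obtain ⟨s, hs, h⟩ := Cfsg.Agent.Helper84.exists_conj_omor hS hF P f hf
  refine ⟨s, hs, fun a ha => ?_⟩
  exact Cfsg.Agent.S5124.conj_mem F p hs (h.hyp a ha)

/-- the focal subgroup is the product of the hyperfocal subgroup and the commutator subgroup of `S` -/
theorem focal_eq [Finite S] {p : ℕ} [Fact p.Prime] (hS : IsPGroup p S) (hF : F.IsSaturated p) :
    F.focalSubgroup = F.hyperfocalSubgroup p ⊔ ⁅S, S⁆ := by
  apply le_antisymm
  · unfold focalSubgroup
    rw [Subgroup.closure_le]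
    rintro y ⟨P, φ, x, hφ, rfl⟩
    obtain ⟨s, hs, h⟩ := inner_mod_hyperfocal hS hF P (extFun φ) (mor_of_mem hφ)
    have hx := h x x.2
    rw [extFun_apply] at hx
    have hxS : (x : Ω) ∈ S := (F.le_of_mem hφ).1 x.2
    have e : (x : Ω)⁻¹ * φ x = ⁅(x : Ω)⁻¹, s⁆ * (s * ((x : Ω)⁻¹ * (s⁻¹ * φ x * s)) * s⁻¹) := by
      rw [commutatorElement_def]
      group
    rw [SetLike.mem_coe, e]
    apply Subgroup.mul_mem
    · exact Subgroup.mem_sup_right (Subgroup.commutator_mem_commutator (S.inv_mem hxS) hs)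
    · exact Subgroup.mem_sup_left hx
  · apply sup_le
    · apply Helper87.hyperfocal_le
      intro P hP α hα _ x
      apply Subgroup.subset_closure
      refine ⟨P, P.subtype.comp α.toMonoidHom, x, (Cfsg.Agent.Helper84.mem_autGroup_iff F hP α).1 hα, rfl⟩
    · rw [Subgroup.commutator_le]
      intro a ha b hb
      apply Subgroup.subset_closure
      refine ⟨S, conjHom S b, ⟨a⁻¹, S.inv_mem ha⟩, F.conj_mem le_rfl hb, ?_⟩
      show ⁅a, b⁆ = (a⁻¹)⁻¹ * (b * a⁻¹ * b⁻¹)
      rw [commutatorElement_def]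
      group

/-- the hyperfocal subgroup is generated by the quotients `x⁻¹ φ(x)` with `x` and `φ(x)` in it -/
theorem hyperfocal_le_closure [Finite S] {p : ℕ} [Fact p.Prime] (hS : IsPGroup p S) (hF : F.IsSaturated p) :
    F.hyperfocalSubgroup p ≤ Subgroup.closure {y : Ω | ∃ (P : Subgroup Ω) (φ : P →* Ω) (x : P),
      φ ∈ F.Hom P ∧ (x : Ω) ∈ F.hyperfocalSubgroup p ∧ φ x ∈ F.hyperfocalSubgroup p ∧ y = (x : Ω)⁻¹ * φ x} := by
  set T := F.hyperfocalSubgroup p with hT
  have hTS : T ≤ S := Helper87.hyperfocal_le_self F p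
  obtain ⟨E, hE, hEidx⟩ :=
    Cfsg.Agent.Helper84.exists_ppower_subsystem (p := p) (Nat.card S) S inferInstance hS le_rfl F hF T
      hTS le_rfl
  have hsc : F.StronglyClosed T := Cfsg.Agent.S5124.result p hS F hF
  have h1 : F.hyperfocalSubgroup p ≤ E.hyperfocalSubgroup p :=
    Cfsg.Agent.S5203.hyperfocal_le_of_ppower hS hEidx hsc
  refine le_trans h1 ?_
  apply Helper87.hyperfocal_le
  intro P hP α hα _ x
  apply Subgroup.subset_closure
  have hφE : P.subtype.comp α.toMonoidHom ∈ E.Hom P := (Cfsg.Agent.Helper84.mem_autGroup_iff E hP α).1 hα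
  refine ⟨P, P.subtype.comp α.toMonoidHom, x, hEidx.1 P hφE, hP x.2, hP (α x).2, rfl⟩

end Tate1

end Cfsg.Agent.Helper85
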