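import Mathlib
import Cfsg.Prelude.Def_FusionSystem
import Cfsg.Agent.Lib.Helper85.Tate1

set_option autoImplicit false

/-! # Tate's theorem for fusion systems -/

namespace Cfsg.Agent.Helper85

open Cfsg Cfsg.FusionSystem Cfsg.Agent.Helper87 MulAction
open scoped commutatorElement

universe u

section Tate2

variable {Ω : Type u} [Group Ω] {S : Subgroup Ω}

/-- **Tate's theorem**: if a saturated subsystem `H` of the saturated system `F` on the same `S` has the same focal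
subgroup modulo the Frattini subgroup, then it has the same hyperfocal subgroup -/
theorem tate_key [Finite S] {p : ℕ} [Fact p.Prime] (hS : IsPGroup p S) {F H : FusionSystem S}
    (hF : F.IsSaturated p) (hH : H.IsSaturated p) (hHF : H.IsSubsystemOf F)
    (h : (frattini ↥S).map S.subtype ⊔ F.focalSubgroup = (frattini ↥S).map S.subtype ⊔ H.focalSubgroup) :
    F.hyperfocalSubgroup p = H.hyperfocalSubgroup p := by
  have hRQ : H.hyperfocalSubgroup p ≤ F.hyperfocalSubgroup p := Cfsg.Agent.S5203.hyperfocal_mono hHF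
  have hQS : F.hyperfocalSubgroup p ≤ S := Helper87.hyperfocal_le_self F p
  have hRS : H.hyperfocalSubgroup p ≤ S := Helper87.hyperfocal_le_self H p
  apply le_antisymm _ hRQ
  set Q' : Subgroup S := (F.hyperfocalSubgroup p).subgroupOf S with hQ'
  set R' : Subgroup S := (H.hyperfocalSubgroup p).subgroupOf S with hR'
  haveI hQ'n : Q'.Normal := ⟨fun q hq s => by
    rw [hQ', Subgroup.mem_subgroupOf] at hq ⊢
    exact Cfsg.Agent.S5124.conj_mem F p s.2 hq⟩
  haveI hR'n : R'.Normal := ⟨fun q hq s => by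
    rw [hR', Subgroup.mem_subgroupOf] at hq ⊢
    exact Cfsg.Agent.S5124.conj_mem H p s.2 hq⟩
  suffices hsuff : Q' ≤ R' by
    intro x hx
    have := hsuff (x := ⟨x, hQS hx⟩) (Subgroup.mem_subgroupOf.2 hx)
    exact Subgroup.mem_subgroupOf.1 this
  haveI : Group.IsNilpotent S := hS.isNilpotent
  apply le_of_le_sup_commutator (M := R') (N := Q')
  set P₀ : Subgroup S := R' ⊔ ⁅Q', (⊤ : Subgroup S)⁆ with hP₀
  haveI hP₀n : P₀.Normal := by rw [hP₀]; infer_instance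
  have hR'Q' : R' ≤ Q' := fun x hx => Subgroup.mem_subgroupOf.2 (hRQ (Subgroup.mem_subgroupOf.1 hx))
  have hP₀Q : P₀ ≤ Q' := sup_le hR'Q' (Subgroup.commutator_le_left Q' ⊤)
  set N : Subgroup Q' := P₀.subgroupOf Q' with hN
  haveI hNn : N.Normal := by rw [hN]; infer_instance
  have hcomm : ∀ a b : Q' ⧸ N, a * b = b * a := by
    intro a b
    induction a using QuotientGroup.induction_on with
    | H a =>
    induction b using QuotientGroup.induction_on with
    | H b =>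
    rw [← QuotientGroup.mk_mul, ← QuotientGroup.mk_mul, QuotientGroup.eq]
    rw [hN, Subgroup.mem_subgroupOf, hP₀]
    apply Subgroup.mem_sup_right
    have e : (((a * b)⁻¹ * (b * a) : Q') : S) = ⁅((b : S))⁻¹, ((a : S))⁻¹⁆ := by
      rw [commutatorElement_def]
      push_cast
      group
    rw [e]
    exact Subgroup.commutator_mem_commutator (Q'.inv_mem b.2) (Subgroup.mem_top _)
  letI : CommGroup (Q' ⧸ N) := { (inferInstance : Group (Q' ⧸ N)) with mul_comm := hcomm }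
  let ν : Q' →* Q' ⧸ N := QuotientGroup.mk' N
  have hν : ∀ (s : S) (q : Q'), ν ⟨s * q * s⁻¹, hQ'n.conj_mem q q.2 s⟩ = ν q := by
    intro s q
    show (QuotientGroup.mk (⟨s * q * s⁻¹, hQ'n.conj_mem q q.2 s⟩ : Q') : Q' ⧸ N) = QuotientGroup.mk q
    rw [QuotientGroup.eq, hN, Subgroup.mem_subgroupOf, hP₀]
    apply Subgroup.mem_sup_right
    have e : (((⟨s * q * s⁻¹, hQ'n.conj_mem q q.2 s⟩ : Q')⁻¹ * q : Q') : S) = ⁅s * (q : S)⁻¹ * s⁻¹, s⁻¹⁆ := by
      rw [commutatorElement_def]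
      push_cast
      group
    rw [e]
    exact Subgroup.commutator_mem_commutator (hQ'n.conj_mem _ (Q'.inv_mem q.2) s) (Subgroup.mem_top _)
  have hinn : ∀ (P : Subgroup Ω) (f : Ω → Ω), Mor F P f →
      ∃ c : S, ∀ a b : S, (a : Ω) ∈ P → f a = b → (c⁻¹ * a * c)⁻¹ * b ∈ Q' := by
    intro P f hf
    obtain ⟨s, hs, h1⟩ := inner_mod_hyperfocal hS hF P f hf
    refine ⟨(⟨s, hs⟩ : S)⁻¹, fun a b ha hab => ?_⟩
    rw [hQ', Subgroup.mem_subgroupOf]
    have e : (((((⟨s, hs⟩ : S)⁻¹)⁻¹ * a * (⟨s, hs⟩ : S)⁻¹)⁻¹ * b : S) : Ω)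
        = s * ((a : Ω)⁻¹ * (s⁻¹ * f a * s)) * s⁻¹ := by
      rw [hab]
      push_cast
      group
    rw [e]
    exact h1 a ha
  have hgen : Q' ≤ Subgroup.closure {y : S | ∃ (P : Subgroup Ω) (φ : P →* Ω) (hφ : φ ∈ F.Hom P) (x : P),
        (⟨x, (F.le_of_mem hφ).1 x.2⟩ : S) ∈ Q' ∧ (⟨φ x, (F.le_of_mem hφ).2 x⟩ : S) ∈ Q' ∧
        y = (⟨x, (F.le_of_mem hφ).1 x.2⟩ : S)⁻¹ * ⟨φ x, (F.le_of_mem hφ).2 x⟩} := by
    set K := Subgroup.closure {y : S | ∃ (P : Subgroup Ω) (φ : P →* Ω) (hφ : φ ∈ F.Hom P) (x : P),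
        (⟨x, (F.le_of_mem hφ).1 x.2⟩ : S) ∈ Q' ∧ (⟨φ x, (F.le_of_mem hφ).2 x⟩ : S) ∈ Q' ∧
        y = (⟨x, (F.le_of_mem hφ).1 x.2⟩ : S)⁻¹ * ⟨φ x, (F.le_of_mem hφ).2 x⟩} with hK
    have h1 : F.hyperfocalSubgroup p ≤ K.map S.subtype := by
      refine le_trans (hyperfocal_le_closure hS hF) ?_
      rw [Subgroup.closure_le]
      rintro y ⟨P, φ, x, hφ, hx, hφx, rfl⟩
      refine ⟨(⟨x, (F.le_of_mem hφ).1 x.2⟩ : S)⁻¹ * ⟨φ x, (F.le_of_mem hφ).2 x⟩, ?_, rfl⟩
      apply Subgroup.subset_closure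
      exact ⟨P, φ, hφ, x, Subgroup.mem_subgroupOf.2 hx, Subgroup.mem_subgroupOf.2 hφx, rfl⟩
    intro q hq
    obtain ⟨y, hy, hyq⟩ := h1 (Subgroup.mem_subgroupOf.1 hq)
    have : y = q := Subtype.ext hyq
    rw [← this]
    exact hy
  obtain ⟨μ, k, hk, hμ⟩ := exists_hom_extension hS hF Q' hinn hgen ν hν
  -- the quotient is a `p`-group
  have hpq : IsPGroup p (Q' ⧸ N) := (hS.to_subgroup Q').to_quotient N
  obtain ⟨n, hn⟩ := IsPGroup.iff_card.1 hpq
  have hcop : (Nat.card (Q' ⧸ N)).Coprime k := by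
    rw [hn]
    apply Nat.Coprime.pow_left
    exact (Nat.Prime.coprime_iff_not_dvd Fact.out).2 hk
  have hroot : ∀ a : Q' ⧸ N, ∃ q : Q', μ q = a := by
    intro a
    obtain ⟨b, hb⟩ := (powCoprime hcop).surjective a
    obtain ⟨q, rfl⟩ := QuotientGroup.mk'_surjective N b
    refine ⟨q, ?_⟩
    rw [hμ q, ← hb]
    rfl
  have hsurj : Function.Surjective μ := fun a => by
    obtain ⟨q, hq⟩ := hroot a
    exact ⟨q, hq⟩
  have hμR : ∀ r : S, r ∈ R' → μ r = 1 := by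
    intro r hr
    have h1 := hμ ⟨r, hR'Q' hr⟩
    have h2 : ν ⟨r, hR'Q' hr⟩ = 1 := by
      show (QuotientGroup.mk (⟨r, hR'Q' hr⟩ : Q') : Q' ⧸ N) = 1
      rw [QuotientGroup.eq_one_iff, hN, Subgroup.mem_subgroupOf, hP₀]
      exact Subgroup.mem_sup_left hr
    rw [h2, one_pow] at h1
    exact h1
  have hμc : ∀ a b : S, μ ⁅a, b⁆ = 1 := by
    intro a b
    rw [commutatorElement_def, map_mul, map_mul, map_mul, map_inv, map_inv, mul_comm (μ a) (μ b),
      mul_inv_cancel_right, mul_inv_cancel]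
  have hfocH : H.focalSubgroup ≤ (μ.ker).map S.subtype := by
    rw [focal_eq hS hH]
    apply sup_le
    · intro x hx
      exact ⟨⟨x, hRS hx⟩, hμR _ (Subgroup.mem_subgroupOf.2 hx), rfl⟩
    · rw [Subgroup.commutator_le]
      intro a ha b hb
      exact ⟨⁅(⟨a, ha⟩ : S), ⟨b, hb⟩⁆, hμc _ _, rfl⟩
  have hΦ : frattini S ≤ (frattini (Q' ⧸ N)).comap μ := frattini_le_comap_frattini_of_surjective hsurj
  have hQfr : ∀ q : Q', μ q ∈ frattini (Q' ⧸ N) := by
    intro q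
    have h1 : ((q : S) : Ω) ∈ F.focalSubgroup := by
      rw [focal_eq hS hF]
      exact Subgroup.mem_sup_left (Subgroup.mem_subgroupOf.1 q.2)
    have h2 : ((q : S) : Ω) ∈ (frattini ↥S).map S.subtype ⊔ H.focalSubgroup := by
      rw [← h]
      exact Subgroup.mem_sup_right h1
    have h3 : (frattini ↥S).map S.subtype ⊔ H.focalSubgroup
        ≤ ((frattini (Q' ⧸ N)).comap μ).map S.subtype := by
      apply sup_le (Subgroup.map_mono hΦ)
      refine le_trans hfocH (Subgroup.map_mono ?_)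
      intro x hx
      rw [Subgroup.mem_comap, MonoidHom.mem_ker.1 hx]
      exact Subgroup.one_mem _
    obtain ⟨y, hy, hyq⟩ := h3 h2
    have : y = (q : S) := Subtype.ext hyq
    rw [← this]
    exact hy
  have htop : frattini (Q' ⧸ N) = ⊤ := by
    rw [eq_top_iff]
    intro a _
    obtain ⟨q, rfl⟩ := hroot a
    exact hQfr q
  have hbot : (⊥ : Subgroup (Q' ⧸ N)) = ⊤ := frattini_nongenerating (by rw [htop]; simp)
  intro q hq
  have h1 : (QuotientGroup.mk (⟨q, hq⟩ : Q') : Q' ⧸ N) ∈ (⊥ : Subgroup (Q' ⧸ N)) := by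
    rw [hbot]
    exact Subgroup.mem_top _
  rw [Subgroup.mem_bot, QuotientGroup.eq_one_iff, hN, Subgroup.mem_subgroupOf] at h1
  exact h1

end Tate2

end Cfsg.Agent.Helper85
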