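import Mathlib
import Cfsg.Prelude.Def_FusionSystem
import Cfsg.Agent.Lib.Helper85.Trans3
import Cfsg.Agent.Lib.Helper85.Trans4

set_option autoImplicit false

/-! # Lemmas on cyclic graphs in a characteristic biset, for the Thompson-Lyons transfer lemma -/

namespace Cfsg.Agent.Helper85

open Cfsg Cfsg.FusionSystem Cfsg.Agent.Helper87 MulAction

universe u

section Thompson1

variable {Ω : Type u} [Group Ω] {S : Subgroup Ω} {F : FusionSystem S}

/-- conjugate elements, at function level -/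
theorem isConjElt_iff {x y : Ω} : F.IsConjElt x y ↔ ∃ f, Mor F (Subgroup.zpowers x) f ∧ f x = y := by
  constructor
  · rintro ⟨φ, hφ, e⟩
    refine ⟨extFun φ, mor_of_mem hφ, ?_⟩
    rw [extFun_mem φ (Subgroup.mem_zpowers x), e]
  · rintro ⟨f, ⟨φ, hφ, e⟩, rfl⟩
    exact ⟨φ, hφ, e ⟨x, Subgroup.mem_zpowers x⟩⟩

theorem mor_zpow {P : Subgroup Ω} {f : Ω → Ω} (hf : Mor F P f) {x : Ω} (hx : x ∈ P) (k : ℤ) :
    f (x ^ k) = f x ^ k := by
  obtain ⟨φ, -, e⟩ := hf
  have h1 := e (⟨x, hx⟩ ^ k)
  have h2 := e ⟨x, hx⟩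
  rw [map_zpow] at h1
  simp only [Subgroup.coe_zpow] at h1
  rw [← h1, h2]

/-- the cyclic subgroup generated by `(u, v)` is the graph of the map `u ↦ v` -/
theorem isGraph_zpowers {u v : S} {f : Ω → Ω} (hf : Mor F (Subgroup.zpowers (u : Ω)) f)
    (hfu : f u = v) :
    IsGraph F (Subgroup.zpowers ((u, v) : S × S)) ∧
      dom (Subgroup.zpowers ((u, v) : S × S)) = Subgroup.zpowers (u : Ω) := by
  have hmem : ∀ a b : S, (a, b) ∈ Subgroup.zpowers ((u, v) : S × S) ↔
      (a : Ω) ∈ Subgroup.zpowers (u : Ω) ∧ f a = b := by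
    intro a b
    constructor
    · rintro ⟨k, hk⟩
      have h1 : u ^ k = a := by
        have := congrArg Prod.fst hk
        simpa using this
      have h2 : v ^ k = b := by
        have := congrArg Prod.snd hk
        simpa using this
      refine ⟨⟨k, ?_⟩, ?_⟩
      · show (u : Ω) ^ k = a
        rw [← h1]; simp
      · rw [← h1, ← h2]
        simp only [Subgroup.coe_zpow]
        rw [mor_zpow hf (Subgroup.mem_zpowers _), hfu]
    · rintro ⟨⟨k, hk⟩, hfa⟩
      refine ⟨k, ?_⟩
      have hk' : (u : Ω) ^ k = a := hk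
      apply Prod.ext
      · apply Subtype.ext
        simpa using hk'
      · apply Subtype.ext
        have : ((v ^ k : S) : Ω) = b := by
          rw [← hfa, ← hk', mor_zpow hf (Subgroup.mem_zpowers _), hfu]
          simp
        simpa using this
  exact ⟨⟨_, f, hf, hmem⟩, dom_eq_of_graph hf hmem⟩

variable {X : Type u} [MulAction (S × S) X]

theorem fixSet_zpowers (k : S × S) : (fixSet (Subgroup.zpowers k) : Set X) = {x | k • x = x} := by
  ext x
  constructor
  · intro hx
    exact hx k (Subgroup.mem_zpowers k)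
  · intro hx g hg
    have : Subgroup.zpowers k ≤ MulAction.stabilizer (S × S) x := by
      rw [Subgroup.zpowers_le]; exact hx
    exact this hg

/-- the marks of the cyclic graphs over a fixed element agree -/
theorem ncard_fix_pair_eq [Finite S]
    (hst : ∀ K K' : Subgroup (S × S), IsGraph F K → IsGraph F K' → F.IsConj (dom K) (dom K') →
      (fixSet K : Set X).ncard = (fixSet K' : Set X).ncard)
    {u v v' : S} (hv : F.IsConjElt (u : Ω) v) (hv' : F.IsConjElt (u : Ω) v') :
    ({x : X | ((u, v) : S × S) • x = x}).ncard = ({x : X | ((u, v') : S × S) • x = x}).ncard := by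
  obtain ⟨f, hf, hfu⟩ := isConjElt_iff.1 hv
  obtain ⟨f', hf', hfu'⟩ := isConjElt_iff.1 hv'
  obtain ⟨g1, d1⟩ := isGraph_zpowers hf hfu
  obtain ⟨g2, d2⟩ := isGraph_zpowers hf' hfu'
  rw [← fixSet_zpowers, ← fixSet_zpowers]
  apply hst _ _ g1 g2
  rw [d1, d2]
  exact isConj_refl hf.le

/-- a fixed pair `(u, v)` has `v` conjugate to `u` -/
theorem isConjElt_of_fix (hgr : ∀ x : X, IsGraph F (MulAction.stabilizer (S × S) x)) {u v : S} {x : X}
    (h : ((u, v) : S × S) • x = x) : F.IsConjElt (u : Ω) v := by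
  obtain ⟨Q, f, hf, hmem⟩ := hgr x
  obtain ⟨huQ, hfu⟩ := (hmem u v).1 h
  rw [isConjElt_iff]
  refine ⟨f, hf.restrict ?_, hfu⟩
  rw [Subgroup.zpowers_le]; exact huQ

end Thompson1

end Cfsg.Agent.Helper85
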