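import Mathlib
import Cfsg.Prelude.Def_FusionSystem
import Cfsg.Agent.Lib.Helper85.Thompson1

set_option autoImplicit false

/-! # Further lemmas for the Thompson-Lyons transfer lemma -/

namespace Cfsg.Agent.Helper85

open Cfsg Cfsg.FusionSystem Cfsg.Agent.Helper87 MulAction

universe u

section Sign

variable {G : Type*} [Group G]

open scoped Classical in
/-- the sign homomorphism of a subgroup of index two -/
noncomputable def signHom (K : Subgroup G) (hK : K.index = 2) : G →* ℤˣ :=
  MonoidHom.mk' (fun s => if s ∈ K then 1 else -1) (by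
    intro a b
    by_cases ha : a ∈ K <;> by_cases hb : b ∈ K
    · simp [ha, hb, K.mul_mem ha hb]
    · have : a * b ∉ K := fun h => hb ((Subgroup.mul_mem_iff_of_index_two hK).1 h |>.1 ha)
      simp [ha, hb, this]
    · have : a * b ∉ K := fun h => ha ((Subgroup.mul_mem_iff_of_index_two hK).1 h |>.2 hb)
      simp [ha, hb, this]
    · have : a * b ∈ K := (Subgroup.mul_mem_iff_of_index_two hK).2 ⟨fun h => absurd h ha, fun h => absurd h hb⟩
      simp [ha, hb, this])

theorem signHom_eq_one_iff (K : Subgroup G) (hK : K.index = 2) (s : G) : signHom K hK s = 1 ↔ s ∈ K := by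
  unfold signHom
  simp only [MonoidHom.mk'_apply]
  by_cases h : s ∈ K
  · simp [h]
  · simp only [h, if_false, iff_false]
    decide

theorem signHom_eq_neg_one_iff (K : Subgroup G) (hK : K.index = 2) (s : G) :
    signHom K hK s = -1 ↔ s ∉ K := by
  unfold signHom
  simp only [MonoidHom.mk'_apply]
  by_cases h : s ∈ K
  · simp only [h, if_true, not_true, iff_false]
    decide
  · simp [h]

end Sign

section Abstract

variable {G T X A : Type*} [Group G] [Group T] [MulAction G X] [MulAction T X] [SMulCommClass G T X]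
  [CommGroup A]

/-- the points whose orbit is fixed with displacement in the kernel of `lam` -/
theorem card_fixed_points_eq (hfree : ∀ (t : T) (x : X), t • x = x → t = 1) (lam : T →* A) (g : G) :
    Nat.card {x : X // ∃ b : T, lam b = 1 ∧ g • x = b • x}
      = Nat.card {o : Orb T X // orbMap T g o = o ∧ lam (bco T g o) = 1} * Nat.card T := by
  rw [← Nat.card_prod]
  have key : ∀ (o : Orb T X) (s : T) (b : T), g • (s • orbRep o) = b • (s • orbRep o) →
      orbMap T g o = o ∧ bco T g o = s⁻¹ * b * s := by
    intro o s b h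
    have h1 : orbMap T g o = o := by
      have e1 : (Quotient.mk'' (s • orbRep o) : Orb T X) = o := by rw [mk_smul, mk_orbRep]
      have e2 : orbMap T g (Quotient.mk'' (s • orbRep o) : Orb T X) = Quotient.mk'' (s • orbRep o) := by
        rw [orbMap_mk, h, mk_smul]
      rwa [e1] at e2
    refine ⟨h1, ?_⟩
    have h2 := bco_spec (T := T) g o
    rw [h1] at h2
    have h3 : g • orbRep o = (s⁻¹ * b * s) • orbRep o := by
      have : g • orbRep o = s⁻¹ • (g • (s • orbRep o)) := by
        rw [smul_comm g s, inv_smul_smul]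
      rw [this, h, ← mul_smul, ← mul_smul]
    have h4 : ((s⁻¹ * b * s)⁻¹ * bco T g o) • orbRep o = orbRep o := by
      rw [mul_smul, h2, h3, inv_smul_smul]
    have h5 := hfree _ _ h4
    calc bco T g o = (s⁻¹ * b * s) * ((s⁻¹ * b * s)⁻¹ * bco T g o) := by group
      _ = s⁻¹ * b * s := by rw [h5, mul_one]
  apply Nat.card_congr
  refine ⟨fun x => (⟨Quotient.mk'' x.1, ?_⟩, delta T x.1), fun os => ⟨os.2 • orbRep os.1.1, ?_⟩, ?_, ?_⟩
  · obtain ⟨x, b, hb, hx⟩ := x
    have hx' : g • (delta T x • orbRep (Quotient.mk'' x : Orb T X))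
        = b • (delta T x • orbRep (Quotient.mk'' x : Orb T X)) := by
      rw [delta_spec]; exact hx
    obtain ⟨h1, h2⟩ := key _ _ _ hx'
    refine ⟨h1, ?_⟩
    rw [h2, map_mul, map_mul, map_inv, hb, mul_one, inv_mul_cancel]
  · obtain ⟨⟨o, ho1, ho2⟩, s⟩ := os
    refine ⟨s * bco T g o * s⁻¹, ?_, ?_⟩
    · rw [map_mul, map_mul, map_inv, ho2, mul_one, mul_inv_cancel]
    · show g • (s • orbRep o) = (s * bco T g o * s⁻¹) • (s • orbRep o)
      have h2 := bco_spec (T := T) g o
      rw [ho1] at h2
      rw [smul_comm g s, ← h2, ← mul_smul, ← mul_smul]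
      congr 1
      group
  · rintro ⟨x, b, hb, hx⟩
    apply Subtype.ext
    exact delta_spec x
  · rintro ⟨⟨o, ho1, ho2⟩, s⟩
    apply Prod.ext
    · apply Subtype.ext
      show (Quotient.mk'' (s • orbRep o) : Orb T X) = o
      rw [mk_smul, mk_orbRep]
    · show delta T (s • orbRep o) = s
      rw [delta_smul hfree, delta_orbRep hfree, mul_one]

end Abstract

section Cent

variable {Ω : Type u} [Group Ω] {S : Subgroup Ω} {F : FusionSystem S}
variable {X : Type u} [MulAction (S × S) X]

/-- the centralizer of `v` acts freely on the fixed points of `(u, v)` -/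
theorem card_centralizer_dvd [Finite X] (hgr : ∀ x : X, IsGraph F (MulAction.stabilizer (S × S) x))
    (u v : S) :
    Nat.card (Subgroup.centralizer ({v} : Set S)) ∣ ({x : X | ((u, v) : S × S) • x = x}).ncard := by
  let Y := {x : X // ((u, v) : S × S) • x = x}
  have hmem : ∀ (c : Subgroup.centralizer ({v} : Set S)) (x : X), ((u, v) : S × S) • x = x →
      ((u, v) : S × S) • ((((1 : S), (c : S)) : S × S) • x) = (((1 : S), (c : S)) : S × S) • x := by
    intro c x hx
    have hc : v * (c : S) = (c : S) * v := Subgroup.mem_centralizer_iff.1 c.2 v rfl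
    rw [← mul_smul]
    have e : ((u, v) : S × S) * ((1 : S), (c : S)) = ((1 : S), (c : S)) * (u, v) := by
      apply Prod.ext
      · simp
      · exact hc
    rw [e, mul_smul, hx]
  letI : MulAction (Subgroup.centralizer ({v} : Set S)) Y :=
    { smul := fun c y => ⟨(((1 : S), (c : S)) : S × S) • y.1, hmem c y.1 y.2⟩
      one_smul := fun y => Subtype.ext (by
        show (((1 : S), ((1 : Subgroup.centralizer ({v} : Set S)) : S)) : S × S) • y.1 = y.1
        have : (((1 : S), ((1 : Subgroup.centralizer ({v} : Set S)) : S)) : S × S) = 1 := rfl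
        rw [this, one_smul])
      mul_smul := fun a b y => Subtype.ext (by
        show (((1 : S), ((a * b : Subgroup.centralizer ({v} : Set S)) : S)) : S × S) • y.1
          = (((1 : S), (a : S)) : S × S) • ((((1 : S), (b : S)) : S × S) • y.1)
        rw [← mul_smul]
        congr 1
        simp) }
  have hfree : ∀ (c : Subgroup.centralizer ({v} : Set S)) (y : Y), c • y = y → c = 1 := by
    intro c y h
    have h1 : (((1 : S), (c : S)) : S × S) • y.1 = y.1 := congrArg Subtype.val h
    exact Subtype.ext (rightAct_free hgr _ _ h1)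
  have := card_dvd_of_free hfree
  rw [← Nat.card_coe_set_eq]
  exact this

/-- for an involution the centralizer is the normalizer of the subgroup it generates -/
theorem card_centralizer_eq (v : S) (hv : v * v = 1) (hv1 : v ≠ 1) :
    Nat.card (Subgroup.centralizer ({v} : Set S)) = Nat.card (normalizerIn S (Subgroup.zpowers (v : Ω))) := by
  have hvinv : (v : Ω)⁻¹ = v := by
    have : v⁻¹ = v := inv_eq_of_mul_eq_one_left hv
    exact congrArg Subtype.val this
  have hzp : ∀ y : Ω, y ∈ Subgroup.zpowers (v : Ω) ↔ y = 1 ∨ y = v := by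
    intro y
    constructor
    · rintro ⟨k, rfl⟩
      have hvv : (v : Ω) * v = 1 := congrArg Subtype.val hv
      rcases Int.even_or_odd' k with ⟨j, hj | hj⟩
      · left
        show (v : Ω) ^ k = 1
        rw [hj, zpow_mul, zpow_two, hvv, one_zpow]
      · right
        show (v : Ω) ^ k = v
        rw [hj, zpow_add, zpow_mul, zpow_two, hvv, one_zpow, one_mul, zpow_one]
    · rintro (rfl | rfl)
      · exact Subgroup.one_mem _
      · exact Subgroup.mem_zpowers _
  apply Nat.card_congr
  refine ⟨fun c => ⟨((c : S) : Ω), (c : S).2, ?_⟩, fun n => ⟨⟨n.1, n.2.1⟩, ?_⟩, fun c => rfl, fun n => rfl⟩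
  · have hc : v * (c : S) = (c : S) * v := Subgroup.mem_centralizer_iff.1 c.2 v rfl
    have hc' : (v : Ω) * ((c : S) : Ω) = ((c : S) : Ω) * v := congrArg Subtype.val hc
    show ((c : S) : Ω) ∈ Subgroup.normalizer ((Subgroup.zpowers (v : Ω) : Subgroup Ω) : Set Ω)
    rw [Subgroup.mem_normalizer_iff]
    intro y
    have e : ∀ y : Ω, y = 1 ∨ y = v → ((c : S) : Ω) * y * ((c : S) : Ω)⁻¹ = y := by
      rintro y (rfl | rfl)
      · simp
      · rw [← hc']; group
    constructor
    · intro hy
      rw [e y ((hzp y).1 hy)]; exact hy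
    · intro hy
      have h1 := (hzp _).1 hy
      rcases h1 with h1 | h1
      · have : y = 1 := by
          have := congrArg (fun z => ((c : S) : Ω)⁻¹ * z * ((c : S) : Ω)) h1
          simpa [mul_assoc] using this
        rw [this]; exact Subgroup.one_mem _
      · have : y = v := by
          have h2 := e v (Or.inr rfl)
          rw [← h2] at h1
          have := congrArg (fun z => ((c : S) : Ω)⁻¹ * z * ((c : S) : Ω)) h1
          simpa [mul_assoc] using this
        rw [this]; exact Subgroup.mem_zpowers _
  · rw [Subgroup.mem_centralizer_iff]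
    intro w hw
    have hwv : w = v := hw
    rw [hwv]
    have hn : (n : Ω) ∈ Subgroup.normalizer ((Subgroup.zpowers (v : Ω) : Subgroup Ω) : Set Ω) := n.2.2
    have h1 := (Subgroup.mem_normalizer_iff.1 hn (v : Ω)).1 (Subgroup.mem_zpowers _)
    rcases (hzp _).1 h1 with h2 | h2
    · exfalso
      apply hv1
      apply Subtype.ext
      have := congrArg (fun z => (n : Ω)⁻¹ * z * (n : Ω)) h2
      simpa [mul_assoc] using this
    · apply Subtype.ext
      show (v : Ω) * (n : Ω) = (n : Ω) * v
      calc (v : Ω) * (n : Ω) = ((n : Ω) * v * (n : Ω)⁻¹) * n := by rw [h2]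
        _ = (n : Ω) * v := by group

end Cent

end Cfsg.Agent.Helper85
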