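import Mathlib
import Cfsg.Prelude.Def_FusionSystem
import Cfsg.Agent.Lib.Helper85.Thompson2

set_option autoImplicit false

/-! # The Thompson-Lyons transfer lemma for saturated fusion systems on `2`-groups -/

namespace Cfsg.Agent.Helper85

open Cfsg Cfsg.FusionSystem Cfsg.Agent.Helper87 MulAction

universe u

section Thompson3

variable {Ω : Type u} [Group Ω] {S : Subgroup Ω} {F : FusionSystem S}

theorem iso_zpowers {P Q : Subgroup Ω} {f : Ω → Ω} {x : Ω} (h : Iso F (Subgroup.zpowers x) Q f) :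
    Q = Subgroup.zpowers (f x) := by
  ext y
  rw [h.2]
  constructor
  · rintro ⟨_, ⟨k, rfl⟩, rfl⟩
    refine ⟨k, ?_⟩
    show f x ^ k = f (x ^ k)
    rw [mor_zpow h.1 (Subgroup.mem_zpowers x)]
  · rintro ⟨k, rfl⟩
    refine ⟨x ^ k, ⟨k, rfl⟩, ?_⟩
    show f (x ^ k) = f x ^ k
    rw [mor_zpow h.1 (Subgroup.mem_zpowers x)]

theorem isConj_zpowers_of_isConjElt {x y : Ω} (h : F.IsConjElt x y) :
    F.IsConj (Subgroup.zpowers x) (Subgroup.zpowers y) := by
  obtain ⟨f, hf, rfl⟩ := isConjElt_iff.1 h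
  have i := Iso.of_mor hf
  have := iso_zpowers (P := Subgroup.zpowers x) i
  rw [← this]
  exact isConj_iff.2 ⟨f, i⟩

theorem pow_two_dvd_of_lt {a b : ℕ} (h : 2 ^ a < 2 ^ b) : 2 ^ a * 2 ∣ 2 ^ b := by
  have hab : a < b := (Nat.pow_lt_pow_iff_right (by norm_num)).1 h
  rw [← pow_succ]
  exact pow_dvd_pow 2 hab

theorem thompson_transfer [Finite S] (hS : IsPGroup 2 S) (hF : F.IsSaturated 2)
    (T' : Subgroup S) (hT' : T'.index = 2) (u : S) (hu : u * u = 1) (hu1 : u ≠ 1)
    (h : ∀ v : S, F.IsConjElt (u : Ω) v → F.IsFullyNormalized (Subgroup.zpowers (v : Ω)) → v ∉ T') :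
    ∃ t : S →* ℤˣ, (∀ (P : Subgroup Ω) (φ : P →* Ω) (hφ : φ ∈ F.Hom P) (x : P),
        t ⟨φ x, (F.le_of_mem hφ).2 x⟩ = t ⟨x, (F.le_of_mem hφ).1 x.2⟩) ∧ t u = -1 := by
  classical
  haveI : Fact (Nat.Prime 2) := ⟨Nat.prime_two⟩
  obtain ⟨X, iX, fX, hgr, hst, k₀, hk₀, hpk₀⟩ := exists_char_biset hS hF
  letI : MulAction S X := rightAct S X
  have hsm : ∀ (t : S) (x : X), t • x = ((1 : S), t) • x := fun _ _ => rfl
  haveI : SMulCommClass (rightCentralizer S X) S X := ⟨fun γ t x => by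
    show (γ : Equiv.Perm X) (t • x) = t • (γ : Equiv.Perm X) x
    rw [hsm, hsm]
    exact mem_rightCentralizer.1 γ.2 t x⟩
  have hfree : ∀ (t : S) (x : X), t • x = x → t = 1 := fun t x h => rightAct_free hgr t x h
  haveI : Fintype (Orb S X) := Fintype.ofFinite _
  let lam : S →* ℤˣ := signHom T' hT'
  let τ : rightCentralizer S X →* ℤˣ := trf (X := X) hfree lam
  have hcard : Fintype.card (Orb S X) = k₀ := by
    have h1 := Nat.card_congr (orbEquiv (T := S) (X := X) hfree)
    rw [Nat.card_prod, hk₀, mul_comm, Nat.card_eq_fintype_card (α := Orb S X)] at h1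
    have hpos : 0 < Nat.card S := Nat.card_pos
    exact (Nat.eq_of_mul_eq_mul_right hpos h1).symm
  refine ⟨τ.comp (leftHom S X), ?_, ?_⟩
  · intro P φ hφ x
    obtain ⟨ε, hε⟩ := exists_intertwiner hgr hst (F.le_of_mem hφ).1 hφ (F.le_of_mem hφ).2
    show τ (leftHom S X ⟨φ x, _⟩) = τ (leftHom S X ⟨x, _⟩)
    rw [hε x, map_mul, map_mul, map_inv, mul_comm, inv_mul_cancel_left]
  -- the evaluation on the involution
  set g := leftHom S X u with hgdef
  have hg : g * g = 1 := by rw [← map_mul, hu, map_one]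
  have hgsm : ∀ x : X, g • x = ((u, (1 : S)) : S × S) • x := fun x => rfl
  show τ g = -1
  rw [trf_involution hfree lam g hg]
  -- conjugates of u are involutions
  have hinv : ∀ v : S, F.IsConjElt (u : Ω) v → v * v = 1 ∧ v ≠ 1 := by
    intro v hv
    obtain ⟨f, hf, hfu⟩ := isConjElt_iff.1 hv
    have hmem := Subgroup.mem_zpowers (u : Ω)
    constructor
    · apply Subtype.ext
      show (v : Ω) * v = 1
      rw [← hfu, ← hf.map_mul hmem hmem]
      have : (u : Ω) * u = 1 := congrArg Subtype.val hu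
      rw [this, hf.map_one]
    · intro hv1
      apply hu1
      apply Subtype.ext
      have h1 : f (u : Ω) = f 1 := by rw [hfu, hv1, hf.map_one]; rfl
      exact hf.inj hmem (Subgroup.one_mem _) h1
  -- a fully normalized conjugate
  have huS : Subgroup.zpowers (u : Ω) ≤ S := by rw [Subgroup.zpowers_le]; exact u.2
  obtain ⟨Q₀, hQ₀, hQ₀fn⟩ := exists_fullyNormalized_conj F huS
  obtain ⟨f₀, if₀⟩ := isConj_iff.1 hQ₀
  have hQ₀eq := iso_zpowers (P := Subgroup.zpowers (u : Ω)) if₀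
  set v₀ : S := ⟨f₀ u, if₀.1.mem (Subgroup.mem_zpowers _)⟩ with hv₀
  have hv₀conj : F.IsConjElt (u : Ω) v₀ := isConjElt_iff.2 ⟨f₀, if₀.1, rfl⟩
  rw [hQ₀eq] at hQ₀fn hQ₀
  set M := Nat.card (normalizerIn S (Subgroup.zpowers (v₀ : Ω))) with hM
  have hMle : ∀ v : S, F.IsConjElt (u : Ω) v →
      Nat.card (normalizerIn S (Subgroup.zpowers (v : Ω))) ≤ M := by
    intro v hv
    apply hQ₀fn.2
    exact isConj_trans (isConj_symm hQ₀) (isConj_zpowers_of_isConjElt hv)
  have hMlt : ∀ v : S, F.IsConjElt (u : Ω) v → v ∈ T' →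
      Nat.card (normalizerIn S (Subgroup.zpowers (v : Ω))) < M := by
    intro v hv hvT
    by_contra hge
    apply h v hv _ hvT
    refine ⟨by rw [Subgroup.zpowers_le]; exact v.2, fun Q hQ => ?_⟩
    have h1 : Nat.card (normalizerIn S Q) ≤ M := by
      apply hQ₀fn.2
      exact isConj_trans (isConj_trans (isConj_symm hQ₀) (isConj_zpowers_of_isConjElt hv)) hQ
    omega
  -- the common mark
  set c := ({x : X | ((u, v₀) : S × S) • x = x}).ncard with hc
  have hMc : M ∣ c := by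
    have h1 := card_centralizer_dvd hgr u v₀
    rwa [card_centralizer_eq v₀ (hinv v₀ hv₀conj).1 (hinv v₀ hv₀conj).2] at h1
  -- powers of two
  obtain ⟨a, ha⟩ := IsPGroup.iff_card.1 hS
  have hpow : ∀ K : Subgroup Ω, K ≤ S → ∃ j, Nat.card K = 2 ^ j := fun K hK => by
    haveI : Finite K := Finite.of_injective (Subgroup.inclusion hK) (Subgroup.inclusion_injective hK)
    exact IsPGroup.iff_card.1 (hS.to_le hK)
  have hNle : ∀ P : Subgroup Ω, normalizerIn S P ≤ S := fun P => inf_le_left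
  obtain ⟨m, hm⟩ := hpow _ (hNle (Subgroup.zpowers (v₀ : Ω)))
  have hma : m ≤ a := by
    have h1 : Nat.card (normalizerIn S (Subgroup.zpowers (v₀ : Ω))) ∣ Nat.card S :=
      Subgroup.card_dvd_of_le (hNle _)
    rw [hm, ha] at h1
    exact (Nat.pow_dvd_pow_iff_le_right (by norm_num)).1 h1
  -- the conjugates inside T'
  haveI hT'n : T'.Normal := Subgroup.normal_of_index_eq_two hT'
  have hWmem : ∀ (s : S) (v : S), v ∈ T' ∧ F.IsConjElt (u : Ω) v →
      s * v * s⁻¹ ∈ T' ∧ F.IsConjElt (u : Ω) ((s * v * s⁻¹ : S) : Ω) := by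
    rintro s v ⟨h1, h2⟩
    refine ⟨hT'n.conj_mem v h1 s, ?_⟩
    obtain ⟨f, hf, hfu⟩ := isConjElt_iff.1 h2
    rw [isConjElt_iff]
    refine ⟨fun x => (s : Ω) * f x * (s : Ω)⁻¹, hf.comp (Mor.conj (le_refl S) s.2) (fun x hx => hf.mem hx), ?_⟩
    show (s : Ω) * f (u : Ω) * (s : Ω)⁻¹ = _
    rw [hfu]; rfl
  letI : MulAction S {v : S // v ∈ T' ∧ F.IsConjElt (u : Ω) v} :=
    { smul := fun s w => ⟨s * w.1 * s⁻¹, hWmem s w.1 w.2⟩
      one_smul := fun w => Subtype.ext (by show (1 : S) * w.1 * (1 : S)⁻¹ = w.1; simp)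
      mul_smul := fun s s' w => Subtype.ext (by
        show (s * s') * w.1 * (s * s')⁻¹ = s * (s' * w.1 * s'⁻¹) * s⁻¹
        group) }
  have hWcard : 2 ^ (a + 1 - m) ∣ Nat.card {v : S // v ∈ T' ∧ F.IsConjElt (u : Ω) v} := by
    apply dvd_card_of_dvd_index (G := S)
    intro w
    have hstab : MulAction.stabilizer S w = Subgroup.centralizer ({w.1} : Set S) := by
      ext s
      rw [MulAction.mem_stabilizer_iff, Subgroup.mem_centralizer_iff]
      constructor
      · intro hs y hy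
        have hy' : y = w.1 := hy
        rw [hy']
        have h1 : s * w.1 * s⁻¹ = w.1 := congrArg Subtype.val hs
        calc w.1 * s = (s * w.1 * s⁻¹) * s := by rw [h1]
          _ = s * w.1 := by group
      · intro hs
        apply Subtype.ext
        show s * w.1 * s⁻¹ = w.1
        have := hs w.1 rfl
        rw [← this]; group
    rw [hstab]
    have h1 := Subgroup.card_mul_index (Subgroup.centralizer ({w.1} : Set S))
    rw [card_centralizer_eq w.1 (hinv w.1 w.2.2).1 (hinv w.1 w.2.2).2, ha] at h1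
    obtain ⟨j, hj⟩ := hpow _ (hNle (Subgroup.zpowers ((w.1 : S) : Ω)))
    have hjm : j < m := by
      have := hMlt w.1 w.2.2 w.2.1
      rw [hj, hM, hm] at this
      exact (Nat.pow_lt_pow_iff_right (by norm_num)).1 this
    rw [hj] at h1
    have hja : j ≤ a := by omega
    have h2 : (Subgroup.centralizer ({w.1} : Set S)).index = 2 ^ (a - j) := by
      have h3 : 2 ^ a = 2 ^ j * 2 ^ (a - j) := by rw [← pow_add]; congr 1; omega
      rw [h3] at h1
      exact Nat.eq_of_mul_eq_mul_left (by positivity) h1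
    rw [h2]
    apply pow_dvd_pow
    omega
  -- the count of the points
  have hYW : Nat.card {x : X // ∃ b : S, lam b = 1 ∧ g • x = b • x}
      = Nat.card {v : S // v ∈ T' ∧ F.IsConjElt (u : Ω) v} * c := by
    haveI : Fintype {v : S // v ∈ T' ∧ F.IsConjElt (u : Ω) v} := Fintype.ofFinite _
    have e : (Σ w : {v : S // v ∈ T' ∧ F.IsConjElt (u : Ω) v}, {x : X // ((u, w.1) : S × S) • x = x}) ≃
        {x : X // ∃ b : S, lam b = 1 ∧ g • x = b • x} := by
      refine Equiv.ofBijective (fun wx => ⟨wx.2.1, (wx.1.1)⁻¹, ?_, ?_⟩) ⟨?_, ?_⟩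
      · rw [signHom_eq_one_iff]
        exact T'.inv_mem wx.1.2.1
      · rw [hgsm, hsm]
        have h1 := wx.2.2
        have e1 : ((u, (1 : S)) : S × S) = ((1 : S), (wx.1.1)⁻¹) * (u, wx.1.1) := by simp
        rw [e1, mul_smul, h1]
      · rintro ⟨w, x, hx⟩ ⟨w', x', hx'⟩ hh
        have hxx : x = x' := congrArg (fun z : {x : X // ∃ b : S, lam b = 1 ∧ g • x = b • x} => z.1) hh
        subst hxx
        have h1 : (((1 : S), w.1⁻¹ * w'.1) : S × S) • x = x := by
          have e1 : (((1 : S), w.1⁻¹ * w'.1) : S × S) = (u, w.1)⁻¹ * (u, w'.1) := by simp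
          rw [e1, mul_smul, hx', inv_smul_eq_iff, hx]
        have h2 := rightAct_free hgr _ _ h1
        have h3 : w.1 = w'.1 := by
          calc w.1 = w.1 * (w.1⁻¹ * w'.1) := by rw [h2, mul_one]
            _ = w'.1 := by group
        have h4 : w = w' := Subtype.ext h3
        subst h4
        rfl
      · rintro ⟨x, b, hb, hx⟩
        rw [hgsm, hsm] at hx
        have hfix : ((u, b⁻¹) : S × S) • x = x := by
          have e1 : ((u, b⁻¹) : S × S) = ((1 : S), b)⁻¹ * (u, (1 : S)) := by simp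
          rw [e1, mul_smul, hx, inv_smul_smul]
        have hbT : b⁻¹ ∈ T' := T'.inv_mem ((signHom_eq_one_iff T' hT' b).1 hb)
        exact ⟨⟨⟨b⁻¹, hbT, isConjElt_of_fix hgr hfix⟩, ⟨x, hfix⟩⟩, rfl⟩
    rw [← Nat.card_congr e, Nat.card_sigma]
    have hterm : ∀ w : {v : S // v ∈ T' ∧ F.IsConjElt (u : Ω) v},
        Nat.card {x : X // ((u, w.1) : S × S) • x = x} = c := by
      intro w
      rw [hc, ← ncard_fix_pair_eq hst w.2.2 hv₀conj]
      exact Nat.card_coe_set_eq _
    rw [Finset.sum_congr rfl (fun w _ => hterm w), Finset.sum_const, Finset.card_univ, smul_eq_mul,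
      Nat.card_eq_fintype_card]
  have hN₀ := card_fixed_points_eq hfree lam g
  rw [hYW] at hN₀
  set N₀ := Nat.card {o : Orb S X // orbMap S g o = o ∧ lam (bco S g o) = 1} with hN₀def
  have hN₀even : 2 ∣ N₀ := by
    obtain ⟨q₁, hq₁⟩ := hWcard
    obtain ⟨q₂, hq₂⟩ := hMc
    rw [hq₁, hq₂, hM, hm, ha] at hN₀
    have h1 : 2 ^ (a + 1 - m) * q₁ * (2 ^ m * q₂) = 2 ^ a * (2 * (q₁ * q₂)) := by
      have : 2 ^ (a + 1 - m) * 2 ^ m = 2 ^ a * 2 := by
        rw [← pow_add, ← pow_succ]; congr 1; omega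
      calc 2 ^ (a + 1 - m) * q₁ * (2 ^ m * q₂) = (2 ^ (a + 1 - m) * 2 ^ m) * (q₁ * q₂) := by ring
        _ = 2 ^ a * (2 * (q₁ * q₂)) := by rw [this]; ring
    rw [h1, mul_comm N₀] at hN₀
    have h2 := Nat.eq_of_mul_eq_mul_left (by positivity) hN₀
    exact ⟨q₁ * q₂, h2.symm⟩
  -- the fixed orbits
  set Fix := Finset.univ.filter (fun o : Orb S X => orbMap S g o = o) with hFix
  have hFixodd : Odd Fix.card := by
    have hσ : (orbPerm (X := X) S g) ^ 2 ^ 1 = 1 := by
      ext o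
      show orbMap S g (orbMap S g o) = o
      rw [← orbMap_mul, hg, orbMap_one]
    have h1 := Equiv.Perm.card_compl_support_modEq (p := 2) hσ
    have h2 : (orbPerm (X := X) S g).supportᶜ = Fix := by
      ext o
      simp only [Finset.mem_compl, Equiv.Perm.mem_support, not_not, hFix, Finset.mem_filter,
        Finset.mem_univ, true_and]
      rfl
    rw [h2, hcard] at h1
    rw [Nat.odd_iff]
    have h3 : k₀ % 2 = 1 := by
      rcases Nat.mod_two_eq_zero_or_one k₀ with h0 | h0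
      · exact absurd (Nat.dvd_of_mod_eq_zero h0) hpk₀
      · exact h0
    rw [← h3]
    exact h1
  have hsplit : (Fix.filter (fun o => lam (bco S g o) = 1)).card = N₀ := by
    rw [hN₀def, Nat.card_eq_fintype_card, Fintype.card_subtype, hFix, Finset.filter_filter]
  have hprod : ∏ o ∈ Fix, lam (bco S g o) = (-1) ^ (Fix.filter (fun o => ¬ lam (bco S g o) = 1)).card := by
    have hterm : ∀ o ∈ Fix, lam (bco S g o) = if lam (bco S g o) = 1 then 1 else -1 := by
      intro o _
      rcases Int.units_eq_one_or (lam (bco S g o)) with h1 | h1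
      · rw [if_pos h1, h1]
      · rw [if_neg, h1]
        rw [h1]; decide
    rw [Finset.prod_congr rfl hterm, Finset.prod_ite, Finset.prod_const_one, one_mul, Finset.prod_const]
  rw [hprod]
  apply Odd.neg_one_pow
  have h1 := Finset.card_filter_add_card_filter_not (s := Fix) (fun o => lam (bco S g o) = 1)
  rw [hsplit] at h1
  obtain ⟨r, hr⟩ := hN₀even
  obtain ⟨r', hr'⟩ := hFixodd
  rw [Nat.odd_iff]
  omega

end Thompson3

end Cfsg.Agent.Helper85
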