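import Mathlib
import Cfsg.Agent.Lib.Helper14.OrthAutCount

/-!
# TRI server (helper43, S0817): piece (CA) `card_gamma`
(copy of `Cfsg.Agent.Helper14.OrthAutCount.card_mulAut` without `gammaPOmega = ⊤`).
-/

set_option autoImplicit false

namespace Cfsg.Agent.Helper85.Tri

open Matrix QuadraticMap Cfsg.Agent.Helper13 Cfsg.Agent.Helper43 Cfsg.Agent.Helper5.OrthAut
open Cfsg.Agent.Helper43.OGam Cfsg.Agent.Helper16.OSemiAut Cfsg.Agent.Helper14.OrthAutCount

variable {F : Type*} [Field F] [Fintype F] {ι : Type} [Fintype ι] [DecidableEq ι]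

/-- (CA) `|PΓO| = |Aut F| · |PGO-image|`, WITHOUT `gammaPOmega = ⊤`. -/
theorem card_gamma (Q : QuadraticForm F (ι → F)) (hQ : (polarBilin Q).Nondegenerate) {k : ℕ}
    (e f : Fin k → (ι → F)) (hef : IsHypFamily Q e f) (hk : 3 ≤ k) (hn : 5 ≤ Fintype.card ι)
    (hσ : ∀ σ : F ≃+* F, ∃ g : GL ι F, Cfsg.IsSemisimilarityPair (⇑Q) g σ) :
    Nat.card ↥(Cfsg.gammaPOmega F ⇑Q) =
      Nat.card (RingAut F) * Nat.card ↥(Cfsg.pgoAut F ⇑Q) := by
  have hι : Nonempty ι := by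
    by_contra h
    rw [not_nonempty_iff] at h
    rw [Fintype.card_eq_zero] at hn
    omega
  have hker : (Theta ⇑Q).ker ≤ Lin ⇑Q := by
    intro L hL
    rw [MonoidHom.mem_ker] at hL
    have h2 := (rigid Q hQ e f hef hk hn L hL (sig (⇑Q) L) (sig_spec (⇑Q) L)).2
    intro c x
    have h1 : (L : Equiv.Perm (ι → F)) (c • x) = sig (⇑Q) L c • (L : Equiv.Perm (ι → F)) x :=
      sig_spec (⇑Q) L c x
    rw [h1, h2]
  rw [← range_Theta]
  have hθs : Function.Surjective (Theta ⇑Q).rangeRestrict :=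
    MonoidHom.rangeRestrict_surjective _
  have hkerθ : (Theta ⇑Q).rangeRestrict.ker = (Theta ⇑Q).ker := MonoidHom.ker_rangeRestrict _
  have hidx : ((Lin ⇑Q).map (Theta ⇑Q).rangeRestrict).index = Nat.card (RingAut F) := by
    rw [Subgroup.index_map, hkerθ, sup_eq_left.mpr hker, MonoidHom.range_eq_top.mpr hθs,
      Subgroup.index_top, mul_one, ← sigHom_ker, Subgroup.index_ker,
      MonoidHom.range_eq_top.mpr (sigHom_surjective (⇑Q) hσ), Subgroup.card_top]
  have hcard : Nat.card ((Lin ⇑Q).map (Theta ⇑Q).rangeRestrict) =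
      Nat.card ↥(Cfsg.pgoAut F ⇑Q) := by
    rw [← map_Lin_eq_pgoAut]
    have h1 : ((Lin ⇑Q).map (Theta ⇑Q).rangeRestrict).map (Theta ⇑Q).range.subtype =
        (Lin ⇑Q).map (Theta ⇑Q) := by
      rw [Subgroup.map_map, MonoidHom.subtype_comp_rangeRestrict]
    rw [← h1, Subgroup.card_map_of_injective (Subgroup.subtype_injective _)]
  rw [← Subgroup.index_mul_card ((Lin ⇑Q).map (Theta ⇑Q).rangeRestrict), hidx, hcard]

end Cfsg.Agent.Helper85.Tri
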