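import Mathlib
import Cfsg.Agent.Lib.Helper13.OrthPermD
import Cfsg.Agent.Lib.Helper13.OrthPermE
import Cfsg.Agent.Lib.Helper90.OrthPermF1
import Cfsg.Agent.Lib.Helper44.OrthPermF2

/-!
# TRI server (helper43, S0817): piece (PP) `thP'`
(copy of `Cfsg.Agent.Helper13.OrthPermD.perm_core` keeping case 2 as the right disjunct).
-/

set_option autoImplicit false

namespace Cfsg.Agent.Helper85.Tri

open Matrix QuadraticMap Cfsg.Agent.Helper13 Cfsg.Agent.Helper43 Cfsg.Agent.Helper14.ReflGen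
open Cfsg.Agent.Helper13.OrthPermA Cfsg.Agent.Helper13.OrthPermB Cfsg.Agent.Helper93
open Cfsg.Agent.Helper13.OrthPermC Cfsg.Agent.Helper13.OrthPermD
open Cfsg.Agent.S0794
open scoped commutatorElement

variable {F : Type*} [Field F] [Fintype F] {ι : Type} [Fintype ι] [DecidableEq ι]
  {Q : QuadraticForm F (ι → F)}

/-- core with `F1`, `F2` as hypotheses -/
theorem h85_thP_core (h : WI3 Q)
    (α : (↥(EK Q) ⧸ Subgroup.center ↥(EK Q)) ≃* (↥(EK Q) ⧸ Subgroup.center ↥(EK Q)))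
    {u : ι → F} (hu0 : u ≠ 0) (hu : Q u = 0)
    (F1 : ∃ (u' : ι → F) (_ : u' ≠ 0) (hu' : Q u' = 0),
      Qb u' hu' ≤ (Pb u hu0 hu).map α.toMonoidHom)
    (F2 : ∀ (M A : Subgroup ↥(EK Q)), Subgroup.center ↥(EK Q) ≤ A → A ≤ M →
      (∀ m ∈ M, ∀ a ∈ A, m * a * m⁻¹ ∈ A) → ¬ A ≤ Subgroup.center ↥(EK Q) →
      (∀ a ∈ A, ∀ b ∈ A, ⁅a, b⁆ ∈ Subgroup.center ↥(EK Q)) →
      (∀ a ∈ A, a ^ ringChar F ∈ Subgroup.center ↥(EK Q)) →
      ∀ {u' : ι → F} (_ : u' ≠ 0) (hu' : Q u' = 0), rootGroup Q u' hu' ≤ M →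
      ∃ Y0 : Submodule F (ι → F), u' ∈ Y0 ∧ (∀ y ∈ Y0, Q y = 0) ∧
        ∀ m ∈ M, ∀ y ∈ Y0, m • y ∈ Y0) :
    (∃ (u' : ι → F) (_ : u' ≠ 0) (hu' : Q u' = 0),
      (Qb u hu).map α.toMonoidHom = Qb u' hu') ∨
    (∃ Y0 : Submodule F (ι → F), (∀ y ∈ Y0, Q y = 0) ∧
      (∀ x : ι → F, (∀ y ∈ Y0, polar (⇑Q) y x = 0) → x ∈ Y0) ∧
      (Qb u hu).map α.toMonoidHom = (Z0 (Q := Q) Y0).map (mkb Q)) := by
  obtain ⟨u2, hu20, hu2, hQM⟩ := F1
  have hrad : IsRad ((Pb u hu0 hu).map α.toMonoidHom) ((Qb u hu).map α.toMonoidHom) :=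
    (isRad_Pb h hu0 hu).map α
  have hmaxM := max_map α _ (Pb_max h hu0 hu)
  obtain ⟨hcomm, hpow⟩ := abel_facts α hu
  generalize hM : (Pb u hu0 hu).map α.toMonoidHom = M at *
  generalize hA' : (Qb u hu).map α.toMonoidHom = A' at *
  have hZMt : Subgroup.center ↥(EK Q) ≤ A'.comap (mkb Q) := by
    intro z hz
    show mkb Q z ∈ A'
    rw [(mkb_eq_one_iff z).2 hz]
    exact A'.one_mem
  obtain ⟨Y0, hu2Y, hY0, hMY⟩ := F2 (M.comap (mkb Q)) (A'.comap (mkb Q)) hZMt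
    (Subgroup.comap_mono hrad.le)
    (by
      intro m hm a ha
      show mkb Q (m * a * m⁻¹) ∈ A'
      rw [map_mul, map_mul, map_inv]
      exact hrad.norm _ hm _ ha)
    (by
      intro hcon
      apply hrad.ne
      rw [eq_bot_iff]
      intro a ha
      obtain ⟨g, rfl⟩ := mkb_surj a
      rw [Subgroup.mem_bot, mkb_eq_one_iff]
      exact hcon ha)
    (by
      intro a ha b hb
      rw [← mkb_eq_one_iff, map_commutatorElement, commutatorElement_eq_one_iff_mul_comm]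
      exact hcomm _ ha _ hb)
    (by
      intro a ha
      rw [← mkb_eq_one_iff, map_pow]
      exact hpow _ ha)
    hu20 hu2
    (by
      intro g hg
      exact hQM (Subgroup.mem_map_of_mem _ hg))
  have hMtSt : M.comap (mkb Q) ≤ St (Q := Q) Y0 := le_St _ hMY
  have hZSt : Subgroup.center ↥(EK Q) ≤ St (Q := Q) Y0 :=
    (hZMt.trans (Subgroup.comap_mono hrad.le)).trans hMtSt
  have hcm : ∀ K : Subgroup ↥(EK Q), Subgroup.center ↥(EK Q) ≤ K →
      (K.map (mkb Q)).comap (mkb Q) = K := by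
    intro K hK
    rw [Subgroup.comap_map_eq]
    have : (mkb Q).ker = Subgroup.center ↥(EK Q) := QuotientGroup.ker_mk' _
    rw [this]
    exact sup_eq_left.2 hK
  have hMle : M ≤ (St (Q := Q) Y0).map (mkb Q) := by
    intro m hm
    obtain ⟨g, rfl⟩ := mkb_surj m
    exact Subgroup.mem_map_of_mem _ (hMtSt hm)
  have hStM : (St (Q := Q) Y0).map (mkb Q) = M := by
    rcases hmaxM _ hMle with h1 | h1
    · exact h1
    · exfalso
      have h2 : St (Q := Q) Y0 = ⊤ := by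
        rw [← hcm _ hZSt, h1, Subgroup.comap_top]
      obtain ⟨g, hg⟩ := moved h hu20 hu2
      have h3 : g ∈ St (Q := Q) Y0 := by rw [h2]; exact Subgroup.mem_top _
      exact hg (polar_ts hY0 hu2Y ((h3 u2).2 hu2Y))
  have hSt : St (Q := Q) Y0 = M.comap (mkb Q) := by
    rw [← hStM, hcm _ hZSt]
  by_cases hc : ∀ y ∈ Y0, ∃ c : F, y = c • u2
  · -- case 1
    left
    refine ⟨u2, hu20, hu2, ?_⟩
    have hMP : M ≤ Pb u2 hu20 hu2 := by
      intro m hm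
      obtain ⟨g, rfl⟩ := mkb_surj m
      have hg : g ∈ St (Q := Q) Y0 := by rw [hSt]; exact hm
      obtain ⟨c, hc'⟩ := hc _ ((hg u2).2 hu2Y)
      exact Subgroup.mem_map_of_mem _ ((mem_Pt g).2 ⟨c, hc'⟩)
    have hMeq : Pb u2 hu20 hu2 = M := by
      rcases hmaxM _ hMP with h1 | h1
      · exact h1
      · exfalso
        have h2 : Pt u2 hu20 hu2 = ⊤ := by
          rw [← comap_Pb h, h1, Subgroup.comap_top]
        obtain ⟨g, hg⟩ := moved h hu20 hu2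
        have h3 : g ∈ Pt u2 hu20 hu2 := by rw [h2]; exact Subgroup.mem_top _
        obtain ⟨a, ha⟩ := (mem_Pt g).1 h3
        apply hg
        rw [ha, polar_smul_right, polar_self_sing hu2, smul_zero]
    have hrad2 := isRad_Pb h hu20 hu2
    rw [hMeq] at hrad2
    exact le_antisymm (hrad.min _ hrad2.le hrad2.norm hrad2.ne)
      (hrad2.min _ hrad.le hrad.norm hrad.ne)
  · -- case 2
    right
    push Not at hc
    obtain ⟨y2, hy2Y, hy2⟩ := hc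
    obtain ⟨hYY, hAZ⟩ := case2 h hrad hY0 hSt hu20 hu2Y hy2Y hy2
    exact ⟨Y0, hY0, hYY, hAZ⟩

/-- (PP) Theorem P'. -/
theorem thP' (h : WI3 Q)
    (α : (↥(EK Q) ⧸ Subgroup.center ↥(EK Q)) ≃* (↥(EK Q) ⧸ Subgroup.center ↥(EK Q)))
    {u : ι → F} (hu0 : u ≠ 0) (hu : Q u = 0) :
    (∃ (u' : ι → F) (_ : u' ≠ 0) (hu' : Q u' = 0),
      (Cfsg.Agent.Helper13.OrthPermC.Qb u hu).map α.toMonoidHom =
        Cfsg.Agent.Helper13.OrthPermC.Qb u' hu') ∨
    (∃ Y0 : Submodule F (ι → F), (∀ y ∈ Y0, Q y = 0) ∧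
      (∀ x : ι → F, (∀ y ∈ Y0, polar (⇑Q) y x = 0) → x ∈ Y0) ∧
      (Cfsg.Agent.Helper13.OrthPermC.Qb u hu).map α.toMonoidHom =
        (Cfsg.Agent.Helper13.OrthPermD.Z0 (Q := Q) Y0).map (Cfsg.Agent.Helper13.OrthPermC.mkb Q)) :=
  h85_thP_core h α hu0 hu (Cfsg.Agent.Helper90.OrthPermF1.exists_rootGroup_le_map h α hu0 hu)
    (fun M A hZA hAM hnorm hne hab hexp _ hu'0 hu' hR =>
      Cfsg.Agent.Helper44.OrthPermF2.exists_ts_invariant h M A hZA hAM hnorm hne hab hexp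
        hu'0 hu' hR)

end Cfsg.Agent.Helper85.Tri
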