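import Mathlib

set_option autoImplicit false

/-! Arithmetic for the uniform-partition criterion (S3575). -/

namespace Cfsg.Agent.Helper85.UP

open Nat

/-- `(a!)^b * b! ∣ (a*b)!` -/
theorem factorial_pow_mul_factorial_dvd (a : ℕ) (ha : 1 ≤ a) :
    ∀ b : ℕ, a.factorial ^ b * b.factorial ∣ (a * b).factorial := by
  intro b
  induction b with
  | zero => simp
  | succ b ih =>
    obtain ⟨q, hq⟩ := ih
    -- (a*b + a)! = (a*b)! * a! * choose (a*b+a) a
    have h1 : (a * b + a).choose a * (a * b).factorial * a.factorial = (a * b + a).factorial :=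
      Nat.add_choose_mul_factorial_mul_factorial (a * b) a
    -- choose (a*b+a) a = (b+1) * choose (a*b+a-1) (a-1)
    obtain ⟨a', rfl⟩ : ∃ a', a = a' + 1 := ⟨a - 1, by omega⟩
    have h2 : ((a' + 1) * b + a' + 1) * ((a' + 1) * b + a').choose a' =
        ((a' + 1) * b + a' + 1).choose (a' + 1) * (a' + 1) :=
      Nat.add_one_mul_choose_eq ((a' + 1) * b + a') a'
    have h3 : (b + 1) * ((a' + 1) * b + a').choose a' = ((a' + 1) * b + (a' + 1)).choose (a' + 1) := by
      have e : ((a' + 1) * b + a' + 1) = (a' + 1) * (b + 1) := by ring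
      rw [e] at h2
      have h4 : (a' + 1) * ((b + 1) * ((a' + 1) * b + a').choose a') =
          (a' + 1) * ((a' + 1) * (b + 1)).choose (a' + 1) := by
        rw [← mul_assoc, h2, mul_comm]
      have h5 := Nat.eq_of_mul_eq_mul_left (Nat.succ_pos a') h4
      rw [h5]
      congr 1
    have e2 : (a' + 1) * (b + 1) = (a' + 1) * b + (a' + 1) := by ring
    rw [e2, ← h1, ← h3, hq]
    refine ⟨q * ((a' + 1) * b + a').choose a', ?_⟩
    rw [pow_succ, Nat.factorial_succ b]
    ring

/-- a prime dividing the number of uniform partitions is at most `a*b`. -/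
theorem le_of_dvd_partition_number (a b r : ℕ) (ha : 1 ≤ a) (hr : r.Prime)
    (hrd : r ∣ (a * b).factorial / (a.factorial ^ b * b.factorial)) : r ≤ a * b := by
  have hd := factorial_pow_mul_factorial_dvd a ha b
  have h1 : (a * b).factorial / (a.factorial ^ b * b.factorial) ∣ (a * b).factorial :=
    Nat.div_dvd_of_dvd hd
  exact (Nat.Prime.dvd_factorial hr).1 (hrd.trans h1)

/-- the covering condition -/
def Cov (a b r : ℕ) : Prop :=
  ∀ j : ℕ, 1 ≤ j → j ≤ a * b / r → ∃ m : ℕ, m ≤ b / r ∧ a * m ≤ j ∧ j ≤ b * (a / r) + m * (a % r)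

/-- the intermediate criterion -/
def Crit (a b r : ℕ) : Prop :=
  (a % r) * (b % r) < r ∧ (b < r ∨ a % r ≤ (b % r) * (a / r) + 1)

theorem top_le_iff (a b r : ℕ) (hr : 0 < r) :
    a * b / r ≤ b * (a / r) + (b / r) * (a % r) ↔ (a % r) * (b % r) < r := by
  set A := a / r with hA
  set l := a % r with hl
  set B := b / r with hB
  set k := b % r with hk
  have ea : a = r * A + l := (Nat.div_add_mod a r).symm
  have eb : b = r * B + k := (Nat.div_add_mod b r).symm
  rw [← Nat.lt_succ_iff, Nat.div_lt_iff_lt_mul hr]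
  have e1 : a * b = r * (r * A * B + A * k + l * B) + l * k := by rw [ea, eb]; ring
  have e2 : (b * A + B * l).succ * r = r * (r * A * B + A * k + l * B) + r := by
    rw [Nat.succ_eq_add_one, eb]; ring
  rw [e1, e2]
  omega


theorem cov_of_crit (a b r : ℕ) (ha : 2 ≤ a) (hr : 2 ≤ r) (hc : Crit a b r) :
    Cov a b r := by
  have hr0 : 0 < r := by omega
  have ha0 : 0 < a := by omega
  have htop := top_le_iff a b r hr0
  unfold Crit at hc
  unfold Cov
  have ea : a = r * (a / r) + a % r := (Nat.div_add_mod a r).symm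
  have eb : b = r * (b / r) + b % r := (Nat.div_add_mod b r).symm
  generalize a / r = A at *
  generalize a % r = l at *
  generalize b / r = B at *
  generalize b % r = k at *
  obtain ⟨hlk, hgap⟩ := hc
  intro j hj1 hjJ
  by_cases hBj : B ≤ j / a
  · refine ⟨B, le_rfl, ?_, ?_⟩
    · calc a * B ≤ a * (j / a) := Nat.mul_le_mul_left _ hBj
        _ ≤ j := Nat.mul_div_le j a
    · exact hjJ.trans (htop.2 hlk)
  · have hBj' : j / a + 1 ≤ B := Nat.succ_le_of_lt (Nat.lt_of_not_le hBj)
    refine ⟨j / a, Nat.le_of_succ_le hBj', Nat.mul_div_le j a, ?_⟩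
    have h1 : j < a * (j / a + 1) := Nat.lt_mul_div_succ j ha0
    generalize j / a = m at *
    have hB1 : 1 ≤ B := by omega
    have hbr : r ≤ b := by
      rw [eb]
      calc r = r * 1 := (mul_one r).symm
        _ ≤ r * B := Nat.mul_le_mul_left _ hB1
        _ ≤ r * B + k := Nat.le_add_right _ _
    have hl2 : l ≤ k * A + 1 := by
      rcases hgap with h | h
      · omega
      · exact h
    have h2 : r * A * (m + 1) ≤ r * A * B := Nat.mul_le_mul_left _ hBj'
    have e1 : a * (m + 1) = r * A * (m + 1) + m * l + l := by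
      conv_lhs => rw [ea]
      ring
    have e2 : b * A + m * l = r * A * B + k * A + m * l := by
      conv_lhs => rw [eb]
      ring
    rw [e1] at h1
    rw [e2]
    omega

theorem crit_of_cov (a b r : ℕ) (ha : 2 ≤ a) (hr : 2 ≤ r) (hrab : r ≤ a * b)
    (hc : Cov a b r) : r ≤ a ∧ Crit a b r := by
  have hr0 : 0 < r := by omega
  have hJ1 : 1 ≤ a * b / r := (Nat.one_le_div_iff hr0).2 hrab
  have htop := top_le_iff a b r hr0
  unfold Crit
  unfold Cov at hc
  have ea : a = r * (a / r) + a % r := (Nat.div_add_mod a r).symm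
  have eb : b = r * (b / r) + b % r := (Nat.div_add_mod b r).symm
  have hlr : a % r < r := Nat.mod_lt _ hr0
  have hB1' : r ≤ b → 1 ≤ b / r := fun h => (Nat.one_le_div_iff hr0).2 h
  generalize a / r = A at *
  generalize a % r = l at *
  generalize b / r = B at *
  generalize b % r = k at *
  -- r ≤ a from j = 1
  have hra : r ≤ a := by
    obtain ⟨m, hm, h1, h2⟩ := hc 1 le_rfl hJ1
    have hm0 : m = 0 := by
      by_contra h
      have : 1 ≤ m := Nat.one_le_iff_ne_zero.2 h
      have : a * 1 ≤ a * m := Nat.mul_le_mul_left _ this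
      omega
    rw [hm0] at h2
    simp only [zero_mul, add_zero] at h2
    have hA1 : A ≠ 0 := by
      intro h0
      rw [h0] at h2
      simp at h2
    have : 1 ≤ A := Nat.one_le_iff_ne_zero.2 hA1
    rw [ea]
    calc r = r * 1 := (mul_one r).symm
      _ ≤ r * A := Nat.mul_le_mul_left _ this
      _ ≤ r * A + l := Nat.le_add_right _ _
  refine ⟨hra, ?_, ?_⟩
  · -- top
    obtain ⟨m, hm, h1, h2⟩ := hc (a * b / r) hJ1 le_rfl
    apply htop.1
    refine h2.trans ?_
    have : m * l ≤ B * l := Nat.mul_le_mul_right _ hm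
    omega
  · by_cases hbr : b < r
    · exact Or.inl hbr
    · right
      by_contra hcon
      have hl2 : k * A + 2 ≤ l := by omega
      have hB1 : 1 ≤ B := hB1' (by omega)
      -- j* = b*A + (B-1)*l + 1
      obtain ⟨B', hB'⟩ : ∃ B', B = B' + 1 := ⟨B - 1, by omega⟩
      have e3 : a * B = r * A * B + B' * l + l := by
        conv_lhs => rw [ea, hB']
        rw [hB']
        ring
      have e4 : b * A + B' * l + 1 = r * A * B + k * A + B' * l + 1 := by
        conv_lhs => rw [eb]
        ring
      have hjlt : b * A + B' * l + 1 < a * B := by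
        rw [e3, e4]; omega
      have haB : a * B ≤ a * b / r := by
        rw [Nat.le_div_iff_mul_le hr0]
        calc a * B * r = a * (r * B) := by ring
          _ ≤ a * b := Nat.mul_le_mul_left _ (by omega)
      obtain ⟨m, hm, h1, h2⟩ := hc (b * A + B' * l + 1) (by omega) (by omega)
      by_cases hmB : m = B
      · rw [hmB] at h1
        omega
      · have hm' : m ≤ B' := by omega
        have : m * l ≤ B' * l := Nat.mul_le_mul_right _ hm'
        omega

theorem cov_iff (a b r : ℕ) (ha : 2 ≤ a) (hr : 2 ≤ r) (hrab : r ≤ a * b) :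
    Cov a b r ↔ (r ≤ a ∧ Crit a b r) :=
  ⟨crit_of_cov a b r ha hr hrab, fun h => cov_of_crit a b r ha hr h.2⟩

/-- the intermediate criterion is the one of the statement -/
theorem crit_iff (a b r : ℕ) (hb : 2 ≤ b) (hr : 2 ≤ r) :
    Crit a b r ↔ (a % r = 0 ∨ (b % r = 0 ∧ a % r = 1) ∨
        (a % r ≠ 0 ∧ b % r ≠ 0 ∧ (b % r) * (a % r) < r ∧
          (b < r ∨ (b % r + r) * (a % r) ≤ (b % r) * a + r))) := by
  have hr0 : 0 < r := by omega
  unfold Crit
  have ea : a = r * (a / r) + a % r := (Nat.div_add_mod a r).symm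
  have eb : b = r * (b / r) + b % r := (Nat.div_add_mod b r).symm
  have hlr : a % r < r := Nat.mod_lt _ hr0
  have hkr : b % r < r := Nat.mod_lt _ hr0
  have hB0 : b < r → b / r = 0 := fun h => Nat.div_eq_of_lt h
  generalize a / r = A at *
  generalize a % r = l at *
  generalize b / r = B at *
  generalize b % r = k at *
  have key : (k + r) * l ≤ k * a + r ↔ l ≤ k * A + 1 := by
    have e1 : (k + r) * l = k * l + r * l := by ring
    have e2 : k * a + r = k * l + r * (k * A + 1) := by
      conv_lhs => rw [ea]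
      ring
    rw [e1, e2]
    constructor
    · intro h
      have : r * l ≤ r * (k * A + 1) := by omega
      exact Nat.le_of_mul_le_mul_left this hr0
    · intro h
      have : r * l ≤ r * (k * A + 1) := Nat.mul_le_mul_left _ h
      omega
  constructor
  · rintro ⟨h1, h2⟩
    by_cases hl0 : l = 0
    · exact Or.inl hl0
    · by_cases hk0 : k = 0
      · right; left
        refine ⟨hk0, ?_⟩
        rcases h2 with h | h
        · exfalso
          have : B = 0 := hB0 h
          rw [this, hk0] at eb
          omega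
        · rw [hk0] at h
          omega
      · right; right
        refine ⟨hl0, hk0, by rw [mul_comm]; exact h1, ?_⟩
        rcases h2 with h | h
        · exact Or.inl h
        · exact Or.inr (key.2 h)
  · rintro (h | ⟨h1, h2⟩ | ⟨h1, h2, h3, h4⟩)
    · rw [h]
      refine ⟨by omega, Or.inr (by omega)⟩
    · rw [h1, h2]
      refine ⟨by omega, Or.inr (by omega)⟩
    · refine ⟨by rw [mul_comm]; exact h3, ?_⟩
      rcases h4 with h | h
      · exact Or.inl h
      · exact Or.inr (key.1 h)

end Cfsg.Agent.Helper85.UP
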