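import Mathlib

set_option autoImplicit false

/-! Permutation lemmas for the uniform-partition criterion (S3575). -/

namespace Cfsg.Agent.Helper85.UP

open Equiv Equiv.Perm

section generic

variable {α : Type*} [Fintype α] [DecidableEq α]

/-- the support of a permutation with `σ ^ r = 1`, `r` prime, has size divisible by `r` -/
theorem dvd_card_support {r : ℕ} (hr : r.Prime) (σ : Perm α) (h : σ ^ r = 1) :
    r ∣ σ.support.card := by
  haveI : Fact r.Prime := ⟨hr⟩
  have hct : ∀ c ∈ σ.cycleType, c = r := pow_prime_eq_one_iff.mp h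
  rw [← sum_cycleType]
  exact Multiset.dvd_sum (fun c hc => by rw [hct c hc])

/-- two permutations of the same prime order with supports of the same size are conjugate -/
theorem isConj_of_prime_order {r : ℕ} (hr : r.Prime) (σ τ : Perm α) (hσ : orderOf σ = r)
    (hτ : orderOf τ = r) (hs : σ.support.card = τ.support.card) : IsConj σ τ := by
  rw [isConj_iff_cycleType_eq]
  obtain ⟨n₁, h₁⟩ := cycleType_prime_order (σ := σ) (by rw [hσ]; exact hr)
  obtain ⟨n₂, h₂⟩ := cycleType_prime_order (σ := τ) (by rw [hτ]; exact hr)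
  rw [hσ] at h₁
  rw [hτ] at h₂
  have e1 : σ.support.card = (n₁ + 1) * r := by
    rw [← sum_cycleType, h₁, Multiset.sum_replicate, smul_eq_mul]
  have e2 : τ.support.card = (n₂ + 1) * r := by
    rw [← sum_cycleType, h₂, Multiset.sum_replicate, smul_eq_mul]
  have e3 : (n₁ + 1) * r = (n₂ + 1) * r := by rw [← e1, ← e2, hs]
  have e4 : n₁ + 1 = n₂ + 1 := Nat.eq_of_mul_eq_mul_right hr.pos e3
  rw [h₁, h₂, e4]

end generic

/-- `σ` permutes the fibres of some map onto `β` all of whose fibres have `a` elements -/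
def FixesPart {α : Type*} (β : Type*) (a : ℕ) (σ : Perm α) : Prop :=
  ∃ f : α → β, (∀ j : β, Nat.card {x : α // f x = j} = a) ∧
    ∃ π : Perm β, ∀ x : α, f (σ x) = π (f x)

theorem FixesPart.of_isConj {α β : Type*} {a : ℕ} {σ τ : Perm α} (h : IsConj σ τ)
    (hτ : FixesPart β a τ) : FixesPart β a σ := by
  obtain ⟨c, hc⟩ := isConj_iff.1 h
  obtain ⟨f, hf, π, hπ⟩ := hτ
  have hcs : ∀ x, c (σ x) = τ (c x) := by
    intro x
    have : c * σ = τ * c := by rw [← hc]; group
    exact congrFun (congrArg (fun p : Perm α => (p : α → α)) this) x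
  refine ⟨fun x => f (c x), fun j => ?_, π, fun x => ?_⟩
  · rw [← hf j]
    exact Nat.card_congr (c.subtypeEquiv (fun x => Iff.rfl))
  · show f (c (σ x)) = π (f (c x))
    rw [hcs, hπ]

/-- transport of `FixesPart` along equivalences -/
theorem FixesPart.transport {α α' β β' : Type*} {a : ℕ} (e : α ≃ α') (e' : β ≃ β')
    {σ : Perm α} (h : FixesPart β a σ) : FixesPart β' a (e.permCongr σ) := by
  obtain ⟨f, hf, π, hπ⟩ := h
  refine ⟨fun x => e' (f (e.symm x)), fun j => ?_, e'.permCongr π, fun x => ?_⟩
  · rw [← hf (e'.symm j)]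
    refine Nat.card_congr (e.symm.subtypeEquiv (fun x => ?_))
    constructor
    · intro h1
      show f (e.symm x) = e'.symm j
      have h2 : e' (f (e.symm x)) = j := h1
      rw [← h2]; simp
    · intro h1
      show e' (f (e.symm x)) = j
      rw [h1]; simp
  · simp only [Equiv.permCongr_apply, Equiv.symm_apply_apply]
    rw [hπ]

section permCongr

variable {α β : Type*} [Fintype α] [DecidableEq α] [Fintype β] [DecidableEq β]

theorem permCongr_pow_apply (e : α ≃ β) (p : Perm α) (i : ℕ) (x : β) :
    ((e.permCongr p) ^ i) x = e ((p ^ i) (e.symm x)) := by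
  induction i generalizing x with
  | zero => simp
  | succ i ih =>
    rw [pow_succ', Perm.mul_apply, ih, pow_succ', Perm.mul_apply, Equiv.permCongr_apply]
    simp

theorem permCongr_pow_eq_one (e : α ≃ β) (p : Perm α) (i : ℕ) (h : p ^ i = 1) :
    (e.permCongr p) ^ i = 1 := by
  ext x
  rw [permCongr_pow_apply, h]
  simp

theorem card_support_permCongr (e : α ≃ β) (p : Perm α) :
    (e.permCongr p).support.card = p.support.card := by
  symm
  refine Finset.card_bij (fun y _ => e y) ?_ ?_ ?_
  · intro y hy
    rw [mem_support] at hy ⊢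
    rw [Equiv.permCongr_apply]
    simp only [Equiv.symm_apply_apply]
    intro h
    exact hy (e.injective h)
  · intro y₁ _ y₂ _ h
    exact e.injective h
  · intro x hx
    refine ⟨e.symm x, ?_, by simp⟩
    rw [mem_support] at hx ⊢
    rw [Equiv.permCongr_apply] at hx
    intro h
    apply hx
    rw [h]
    simp

end permCongr

/-! ### the block rotation -/

/-- rotate the second coordinate on the left summand -/
def blockRot (c r N : ℕ) : Perm ((Fin c × Fin r) ⊕ Fin N) :=
  Equiv.sumCongr (Equiv.prodCongr (Equiv.refl _) (finRotate r)) (Equiv.refl _)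

@[simp] theorem blockRot_inl (c r N : ℕ) (w : Fin c) (y : Fin r) :
    blockRot c r N (Sum.inl (w, y)) = Sum.inl (w, finRotate r y) := rfl

@[simp] theorem blockRot_inr (c r N : ℕ) (q : Fin N) :
    blockRot c r N (Sum.inr q) = Sum.inr q := rfl

theorem blockRot_pow_inl (c r N : ℕ) (i : ℕ) (w : Fin c) (y : Fin r) :
    (blockRot c r N ^ i) (Sum.inl (w, y)) = Sum.inl (w, (finRotate r ^ i) y) := by
  induction i with
  | zero => simp
  | succ i ih =>
    rw [pow_succ', Perm.mul_apply, ih, blockRot_inl, pow_succ', Perm.mul_apply]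

theorem blockRot_pow_inr (c r N : ℕ) (i : ℕ) (q : Fin N) :
    (blockRot c r N ^ i) (Sum.inr q) = Sum.inr q := by
  induction i with
  | zero => simp
  | succ i ih =>
    rw [pow_succ', Perm.mul_apply, ih, blockRot_inr]

theorem finRotate_pow_self {r : ℕ} (hr : 2 ≤ r) : finRotate r ^ r = 1 := by
  have h1 : orderOf (finRotate r) = r := by
    rw [← lcm_cycleType, cycleType_finRotate_of_le hr]
    simp
  have h2 := pow_orderOf_eq_one (finRotate r)
  rw [h1] at h2
  exact h2

theorem finRotate_ne {r : ℕ} (hr : 2 ≤ r) (y : Fin r) : finRotate r y ≠ y := by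
  have : y ∈ (finRotate r).support := by
    rw [support_finRotate_of_le hr]; exact Finset.mem_univ _
  exact mem_support.1 this

theorem blockRot_pow_self (c N : ℕ) {r : ℕ} (hr : 2 ≤ r) : blockRot c r N ^ r = 1 := by
  ext x
  rcases x with ⟨w, y⟩ | q
  · rw [blockRot_pow_inl, finRotate_pow_self hr]; rfl
  · rw [blockRot_pow_inr]; rfl

theorem card_support_blockRot (c N : ℕ) {r : ℕ} (hr : 2 ≤ r) :
    (blockRot c r N).support.card = c * r := by
  have : (Finset.univ : Finset (Fin c × Fin r)).card = c * r := by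
    rw [Finset.card_univ, Fintype.card_prod, Fintype.card_fin, Fintype.card_fin]
  rw [← this]
  symm
  refine Finset.card_bij (fun p _ => Sum.inl p) ?_ ?_ ?_
  · rintro ⟨w, y⟩ _
    rw [mem_support, blockRot_inl]
    intro h
    have h1 := Sum.inl_injective h
    exact finRotate_ne hr y (congrArg Prod.snd h1)
  · intro p₁ _ p₂ _ h
    exact Sum.inl_injective h
  · intro x hx
    rcases x with p | q
    · exact ⟨p, Finset.mem_univ _, rfl⟩
    · exfalso
      rw [mem_support, blockRot_inr] at hx
      exact hx rfl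

end Cfsg.Agent.Helper85.UP
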