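import Mathlib
import Cfsg.Agent.Lib.Helper85.UPb

set_option autoImplicit false

/-! The model permutations for the uniform-partition criterion (S3575). -/

namespace Cfsg.Agent.Helper85.UP

open Equiv Equiv.Perm

theorem card_cycModel (a r c : ℕ) (h : r * c ≤ a) :
    Fintype.card ((Fin c × Fin r) ⊕ Fin (a - r * c)) = a := by
  rw [Fintype.card_sum, Fintype.card_prod, Fintype.card_fin, Fintype.card_fin, Fintype.card_fin,
    mul_comm c r]
  omega

/-- a permutation of `Fin a` with `c` cycles of length `r` -/
noncomputable def cyc (a r c : ℕ) : Perm (Fin a) :=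
  if h : r * c ≤ a then
    (Fintype.equivFinOfCardEq (card_cycModel a r c h)).permCongr (blockRot c r (a - r * c))
  else 1

theorem cyc_pow (a c : ℕ) {r : ℕ} (hr : 2 ≤ r) : cyc a r c ^ r = 1 := by
  unfold cyc
  split_ifs with h
  · exact permCongr_pow_eq_one _ _ _ (blockRot_pow_self c _ hr)
  · exact one_pow _

theorem card_support_cyc (a c : ℕ) {r : ℕ} (hr : 2 ≤ r) (h : r * c ≤ a) :
    (cyc a r c).support.card = r * c := by
  unfold cyc
  rw [dif_pos h, card_support_permCongr, card_support_blockRot c _ hr, mul_comm]

/-- number of cycles in the `q`-th invariant block -/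
def cd (A t q : ℕ) : ℕ := min A (t - q * A)

theorem cd_le (A t q : ℕ) : cd A t q ≤ A := min_le_left _ _

theorem sum_cd (A t L : ℕ) : ∑ q ∈ Finset.range L, cd A t q = min t (L * A) := by
  induction L with
  | zero => simp
  | succ L ih =>
    rw [Finset.sum_range_succ, ih, Nat.succ_mul]
    unfold cd
    generalize L * A = u
    omega

section model

variable (a r m L A t : ℕ)

/-- per-block permutations -/
noncomputable def rho : ((Fin m × Fin r) ⊕ Fin L) → Perm (Fin a) :=
  Sum.elim (fun _ => 1) (fun q => cyc a r (cd A t q))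

/-- the model permutation -/
noncomputable def model : Perm (((Fin m × Fin r) ⊕ Fin L) × Fin a) :=
  Equiv.prodShear (blockRot m r L) (rho a r m L A t)

theorem model_inl (u : Fin m) (y : Fin r) (x : Fin a) :
    model a r m L A t (Sum.inl (u, y), x) = (Sum.inl (u, finRotate r y), x) := rfl

theorem model_inr (q : Fin L) (x : Fin a) :
    model a r m L A t (Sum.inr q, x) = (Sum.inr q, cyc a r (cd A t q) x) := rfl

theorem model_fst (p : ((Fin m × Fin r) ⊕ Fin L) × Fin a) :
    (model a r m L A t p).1 = blockRot m r L p.1 := rfl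

theorem model_pow_inl (i : ℕ) (u : Fin m) (y : Fin r) (x : Fin a) :
    (model a r m L A t ^ i) (Sum.inl (u, y), x) = (Sum.inl (u, (finRotate r ^ i) y), x) := by
  induction i with
  | zero => simp
  | succ i ih =>
    rw [pow_succ', Perm.mul_apply, ih, model_inl, pow_succ', Perm.mul_apply]

theorem model_pow_inr (i : ℕ) (q : Fin L) (x : Fin a) :
    (model a r m L A t ^ i) (Sum.inr q, x) = (Sum.inr q, (cyc a r (cd A t q) ^ i) x) := by
  induction i with
  | zero => simp
  | succ i ih =>
    rw [pow_succ', Perm.mul_apply, ih, model_inr, pow_succ', Perm.mul_apply]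

theorem model_pow_self (hr : 2 ≤ r) : model a r m L A t ^ r = 1 := by
  ext ⟨z, x⟩ : 1
  rcases z with ⟨u, y⟩ | q
  · rw [model_pow_inl, finRotate_pow_self hr]; rfl
  · rw [model_pow_inr, cyc_pow a _ hr]; rfl

theorem card_support_model (hr : 2 ≤ r) (hA : r * A ≤ a) :
    (model a r m L A t).support.card = r * (a * m + min t (L * A)) := by
  classical
  have h0 : (model a r m L A t).support =
      Finset.univ.filter (fun p => model a r m L A t p ≠ p) := by
    ext p; simp [mem_support]
  rw [h0, Finset.card_filter, Fintype.sum_prod_type, Fintype.sum_sum_type]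
  have h1 : ∀ p : Fin m × Fin r, (∑ x : Fin a,
      if model a r m L A t (Sum.inl p, x) ≠ (Sum.inl p, x) then 1 else 0) = a := by
    rintro ⟨u, y⟩
    have : ∀ x : Fin a, (if model a r m L A t (Sum.inl (u, y), x) ≠ (Sum.inl (u, y), x)
        then 1 else 0) = 1 := by
      intro x
      rw [if_pos]
      rw [model_inl]
      intro h
      have h2 := congrArg Prod.fst h
      have h3 := Sum.inl_injective h2
      exact finRotate_ne hr y (congrArg Prod.snd h3)
    rw [Finset.sum_congr rfl (fun x _ => this x)]
    simp
  have h2 : ∀ q : Fin L, (∑ x : Fin a,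
      if model a r m L A t (Sum.inr q, x) ≠ (Sum.inr q, x) then 1 else 0) = r * cd A t q := by
    intro q
    have hle : r * cd A t q ≤ a := (Nat.mul_le_mul_left r (cd_le A t q)).trans hA
    rw [← card_support_cyc a (cd A t q) hr hle]
    have h3 : (cyc a r (cd A t q)).support =
        Finset.univ.filter (fun x => cyc a r (cd A t q) x ≠ x) := by
      ext x; simp [mem_support]
    rw [h3, Finset.card_filter]
    refine Finset.sum_congr rfl (fun x _ => ?_)
    rw [model_inr]
    by_cases hx : cyc a r (cd A t q) x = x
    · rw [if_neg, if_neg]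
      · exact fun h => h hx
      · rw [hx]; exact fun h => h rfl
    · rw [if_pos, if_pos]
      · exact hx
      · intro h
        exact hx (congrArg Prod.snd h)
  rw [Finset.sum_congr rfl (fun p _ => h1 p), Finset.sum_congr rfl (fun q _ => h2 q)]
  rw [Finset.sum_const, Finset.card_univ, Fintype.card_prod, Fintype.card_fin, Fintype.card_fin,
    smul_eq_mul, ← Finset.mul_sum]
  have h4 : ∑ q : Fin L, cd A t q = min t (L * A) := by
    rw [← sum_cd A t L]
    exact Fin.sum_univ_eq_sum_range (fun q => cd A t q) L
  rw [h4]
  ring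

theorem fixesPart_model :
    FixesPart ((Fin m × Fin r) ⊕ Fin L) a (model a r m L A t) := by
  refine ⟨Prod.fst, fun z => ?_, blockRot m r L, fun p => model_fst a r m L A t p⟩
  have e : {p : ((Fin m × Fin r) ⊕ Fin L) × Fin a // p.1 = z} ≃ Fin a :=
    { toFun := fun p => p.1.2
      invFun := fun x => ⟨(z, x), rfl⟩
      left_inv := by
        rintro ⟨⟨z', x⟩, h⟩
        simp only at h
        subst h
        rfl
      right_inv := fun x => rfl }
  rw [Nat.card_congr e, Nat.card_eq_fintype_card, Fintype.card_fin]

end model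

/-- existence of permutations of order `r` with prescribed support fixing a uniform partition -/
theorem exists_model (a b r m t : ℕ) (hr : r.Prime) (hm : r * m ≤ b)
    (ht : t ≤ (b - r * m) * (a / r)) (hpos : 0 < a * m + t) :
    ∃ τ : Perm (Fin (a * b)), orderOf τ = r ∧ τ.support.card = r * (a * m + t) ∧
      FixesPart (Fin b) a τ := by
  have hr2 : 2 ≤ r := hr.two_le
  have hA : r * (a / r) ≤ a := Nat.mul_div_le a r
  have hZ : Fintype.card ((Fin m × Fin r) ⊕ Fin (b - r * m)) = b := by
    rw [Fintype.card_sum, Fintype.card_prod, Fintype.card_fin, Fintype.card_fin, Fintype.card_fin,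
      mul_comm m r]
    omega
  have hX : Fintype.card (((Fin m × Fin r) ⊕ Fin (b - r * m)) × Fin a) = a * b := by
    rw [Fintype.card_prod, hZ, Fintype.card_fin, mul_comm]
  let e := Fintype.equivFinOfCardEq hX
  let e' := Fintype.equivFinOfCardEq hZ
  let M := model a r m (b - r * m) (a / r) t
  have hsupp : (e.permCongr M).support.card = r * (a * m + t) := by
    rw [card_support_permCongr, card_support_model a r m (b - r * m) (a / r) t hr2 hA,
      min_eq_left ht]
  have hpow : (e.permCongr M) ^ r = 1 :=
    permCongr_pow_eq_one _ _ _ (model_pow_self a r m (b - r * m) (a / r) t hr2)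
  have hne : e.permCongr M ≠ 1 := by
    intro h
    rw [h, support_one, Finset.card_empty] at hsupp
    have : 0 < r * (a * m + t) := Nat.mul_pos hr.pos hpos
    omega
  haveI : Fact r.Prime := ⟨hr⟩
  refine ⟨e.permCongr M, orderOf_eq_prime hpow hne, hsupp, ?_⟩
  exact (fixesPart_model a r m (b - r * m) (a / r) t).transport e e'

end Cfsg.Agent.Helper85.UP
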