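import Mathlib
import Cfsg.Agent.Lib.Helper85.UPb

set_option autoImplicit false

/-! Structure of a permutation of prime order fixing a uniform partition (S3575). -/

namespace Cfsg.Agent.Helper85.UP

open Equiv Equiv.Perm

variable {α β : Type*} [Fintype α] [DecidableEq α] [Fintype β] [DecidableEq β]

theorem subtypePerm_pow_coe (σ : Perm α) {p : α → Prop} (hp : ∀ x, p (σ x) ↔ p x) (k : ℕ)
    (x : {x // p x}) : (((σ.subtypePerm hp) ^ k) x : α) = (σ ^ k) x := by
  induction k with
  | zero => simp
  | succ k ih =>
    rw [pow_succ', Perm.mul_apply, pow_succ', Perm.mul_apply, subtypePerm_apply]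
    simp only
    rw [ih]

/-- the moved points of `σ` in an invariant fibre: their number is divisible by `r` -/
theorem dvd_card_filter_support {r : ℕ} (hr : r.Prime) (σ : Perm α) (hσ : σ ^ r = 1)
    (p : α → Prop) [DecidablePred p] (hp : ∀ x, p (σ x) ↔ p x) :
    r ∣ (σ.support.filter p).card := by
  classical
  have h1 : (σ.subtypePerm hp) ^ r = 1 := by
    ext x
    rw [subtypePerm_pow_coe, hσ]
    rfl
  have h2 := dvd_card_support hr (σ.subtypePerm hp) h1
  have h3 : (σ.subtypePerm hp).support.card = (σ.support.filter p).card := by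
    refine Finset.card_bij (fun y _ => (y : α)) ?_ ?_ ?_
    · intro y hy
      rw [mem_support] at hy
      rw [Finset.mem_filter, mem_support]
      refine ⟨fun h => hy (Subtype.ext ?_), y.2⟩
      rw [subtypePerm_apply]
      exact h
    · intro y₁ _ y₂ _ h
      exact Subtype.ext h
    · intro x hx
      rw [Finset.mem_filter, mem_support] at hx
      refine ⟨⟨x, hx.2⟩, ?_, rfl⟩
      rw [mem_support]
      intro h
      apply hx.1
      have := congrArg Subtype.val h
      rw [subtypePerm_apply] at this
      exact this
  rw [← h3]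
  exact h2

/-- a permutation `σ` with `σ ^ r = 1` fixing a partition into `b` blocks of size `a`:
`m` block orbits of length `r`, all of whose points are moved, and at most `a / r` cycles in each
invariant block. -/
theorem bounds_of_fixesPart {a r : ℕ} (hr : r.Prime) (ha : 1 ≤ a) (σ : Perm α)
    (hσ : σ ^ r = 1) (h : FixesPart β a σ) :
    ∃ m : ℕ, r * m ≤ Fintype.card β ∧ r * (a * m) ≤ σ.support.card ∧
      σ.support.card ≤ r * (a * m) + (Fintype.card β - r * m) * (r * (a / r)) := by
  classical
  obtain ⟨f, hf, π, hπ⟩ := h
  have hsurj : ∀ i : β, ∃ x, f x = i := by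
    intro i
    have h1 : Nat.card {x : α // f x = i} ≠ 0 := by rw [hf i]; omega
    have h2 : Nonempty {x : α // f x = i} := by
      by_contra hne
      rw [not_nonempty_iff] at hne
      exact h1 Nat.card_of_isEmpty
    obtain ⟨⟨x, hx⟩⟩ := h2
    exact ⟨x, hx⟩
  have hpow : ∀ (k : ℕ) (x : α), f ((σ ^ k) x) = (π ^ k) (f x) := by
    intro k
    induction k with
    | zero => intro x; simp
    | succ k ih =>
      intro x
      rw [pow_succ', Perm.mul_apply, hπ, ih, pow_succ', Perm.mul_apply]
  have hπr : π ^ r = 1 := by
    ext i
    obtain ⟨x, rfl⟩ := hsurj i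
    rw [← hpow, hσ]
    rfl
  obtain ⟨m, hm⟩ := dvd_card_support hr π hπr
  have hfib : ∀ i : β, (Finset.univ.filter (fun x => f x = i)).card = a := by
    intro i
    rw [← hf i, Nat.card_eq_fintype_card, Fintype.card_subtype]
  have hdec : σ.support.card = ∑ i : β, (σ.support.filter (fun x => f x = i)).card :=
    Finset.card_eq_sum_card_fiberwise (f := f) (s := σ.support) (t := Finset.univ)
      (fun x _ => Finset.mem_univ _)
  have hmoved : ∀ i ∈ π.support, (σ.support.filter (fun x => f x = i)).card = a := by
    intro i hi
    rw [← hfib i]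
    congr 1
    ext x
    simp only [Finset.mem_filter, Finset.mem_univ, true_and, mem_support]
    constructor
    · exact fun h => h.2
    · intro hx
      refine ⟨fun hfix => ?_, hx⟩
      rw [mem_support] at hi
      apply hi
      rw [← hx, ← hπ, hfix]
  have hfixed : ∀ i ∈ (π.support)ᶜ, (σ.support.filter (fun x => f x = i)).card ≤ r * (a / r) := by
    intro i hi
    rw [Finset.mem_compl, mem_support, not_not] at hi
    have hp : ∀ x, f (σ x) = i ↔ f x = i := by
      intro x
      rw [hπ]
      constructor
      · intro h
        apply π.injective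
        rw [h, hi]
      · intro h; rw [h, hi]
    obtain ⟨q, hq⟩ := dvd_card_filter_support hr σ hσ (fun x => f x = i) hp
    have hle : (σ.support.filter (fun x => f x = i)).card ≤ a := by
      rw [← hfib i]
      apply Finset.card_le_card
      intro x hx
      rw [Finset.mem_filter] at hx ⊢
      exact ⟨Finset.mem_univ _, hx.2⟩
    rw [hq] at hle ⊢
    apply Nat.mul_le_mul_left
    rw [Nat.le_div_iff_mul_le hr.pos, mul_comm]
    exact hle
  have hsplit := Finset.sum_add_sum_compl π.support
    (fun i => (σ.support.filter (fun x => f x = i)).card)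
  have hs1 : ∑ i ∈ π.support, (σ.support.filter (fun x => f x = i)).card = r * (a * m) := by
    rw [Finset.sum_congr rfl hmoved, Finset.sum_const, smul_eq_mul, hm]
    ring
  have hs2 : ∑ i ∈ (π.support)ᶜ, (σ.support.filter (fun x => f x = i)).card ≤
      (Fintype.card β - r * m) * (r * (a / r)) := by
    have := Finset.sum_le_card_nsmul (π.support)ᶜ
      (fun i => (σ.support.filter (fun x => f x = i)).card) (r * (a / r)) hfixed
    rw [Finset.card_compl, hm, smul_eq_mul] at this
    exact this
  refine ⟨m, ?_, ?_, ?_⟩
  · rw [← hm]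
    exact Finset.card_le_univ _
  · rw [hdec, ← hsplit, hs1]
    exact Nat.le_add_right _ _
  · rw [hdec, ← hsplit, hs1]
    exact Nat.add_le_add_left hs2 _

end Cfsg.Agent.Helper85.UP
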