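import Mathlib
import Cfsg.Agent.Lib.Helper57.YoshidaE
import Cfsg.Agent.Lib.Helper85.YoF1

set_option autoImplicit false

/-!
# Yoshida's transfer theorem for a subgroup of index prime to `p`, part 2: the main induction

`P` is a `p`-subgroup of a subgroup `H` of index prime to `p` of the finite group `G`, and `lam : H →* A`.
(helper57's `stable_step`, `stable_all` are the case `H = P`.)
-/

namespace Cfsg.Agent.Helper85.YoF

open MulAction Subgroup
open Cfsg.Agent.Helper69.HW Cfsg.Agent.Helper57.Yoshida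

variable {G : Type*} [Group G]

set_option maxHeartbeats 800000 in
theorem stable_step_gen [Finite G] {p : ℕ} [hp : Fact p.Prime] (H P : Subgroup G) (hPH : P ≤ H)
    (hPp : IsPGroup p P)
    {A : Type*} [CommGroup A] (hNS : NoSing p P P A)
    (lam : H →* A)
    (hfix : ∀ g : G, (∀ q ∈ P, g⁻¹ * q * g ∈ H) → ∀ (x : G) (hx : x ∈ P) (hx' : g⁻¹ * x * g ∈ H),
      lam ⟨g⁻¹ * x * g, hx'⟩ = lam ⟨x, hPH hx⟩)
    (hrep : ∀ (x : G) (_ : x ∈ P) (g : G) (hx' : g⁻¹ * x * g ∈ H), ∃ (y : G) (hy : y ∈ P) (g' : G),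
      y = g'⁻¹ * x * g' ∧ lam ⟨y, hPH hy⟩ = lam ⟨g⁻¹ * x * g, hx'⟩)
    (e : ℕ) (hexp : ∀ s, lam s ^ e = 1) (hcop : Nat.Coprime H.index e)
    (hdef : ∀ (g y : G) (hy : y ∈ P) (hy' : g⁻¹ * y * g ∈ H),
      (lam ⟨g⁻¹ * y * g, hy'⟩ / lam ⟨y, hPH hy⟩) ^ p = 1) :
    ∀ (m : ℕ) (x : G) (hx : x ∈ P), orderOf x = m →
      ∀ (g : G) (hx' : g⁻¹ * x * g ∈ H), lam ⟨g⁻¹ * x * g, hx'⟩ = lam ⟨x, hPH hx⟩ := by
  classical
  set lam' : G → A := fun g => if hg : g ∈ H then lam ⟨g, hg⟩ else 1 with hlam'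
  have lam'_eq : ∀ g (hg : g ∈ H), lam' g = lam ⟨g, hg⟩ := fun g hg => dif_pos hg
  have lam'_mul : ∀ a b, a ∈ H → b ∈ H → lam' (a * b) = lam' a * lam' b := by
    intro a b ha hb
    rw [lam'_eq _ (H.mul_mem ha hb), lam'_eq _ ha, lam'_eq _ hb, ← map_mul]
    rfl
  have hdef' : ∀ g y, y ∈ P → g⁻¹ * y * g ∈ H →
      (lam' (g⁻¹ * y * g) / lam' y) ^ p = 1 := by
    intro g y hy hy'
    rw [lam'_eq _ (hPH hy), lam'_eq _ hy']
    exact hdef g y hy hy'
  intro m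
  induction m using Nat.strong_induction_on with
  | _ m ih =>
  have ih' : ∀ g y, y ∈ P → g⁻¹ * y * g ∈ H → orderOf y < m →
      lam' (g⁻¹ * y * g) = lam' y := by
    intro g y hy hy' hlt
    rw [lam'_eq _ (hPH hy), lam'_eq _ hy']
    exact ih _ hlt y hy rfl g hy'
  set τ : G →* A := MonoidHom.transfer lam with hτ
  have key : ∀ (x : G) (hx : x ∈ P), orderOf x = m →
      τ x = lam' x ^ H.index := by
    intro x hx hxm
    obtain ⟨Fx, hmemFx, heq⟩ := transfer_eq_prod_fixed H lam lam' lam'_eq x (lam' x)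
      (by
        intro k n hn1 hdvd hmem
        have hxpos : 0 < orderOf x := orderOf_pos x
        have hn0 : n ≠ 0 := fun h0 => by rw [h0, zero_dvd_iff] at hdvd; omega
        have hxn : x ^ n ∈ P := P.pow_mem hx n
        have hlt : orderOf (x ^ n) < m := by
          rw [orderOf_pow_of_dvd hn0 hdvd, ← hxm]
          exact Nat.div_lt_self hxpos (by omega)
        rw [ih' k (x ^ n) hxn hmem hlt, lam'_eq _ (hPH hxn), lam'_eq _ (hPH hx), ← map_pow]
        rfl)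
    rw [hτ, heq]
    suffices h : ∏ c ∈ Fx, lam' (c.out⁻¹ * x * c.out) / lam' x = 1 by rw [h, mul_one]
    set f : G ⧸ H → A := fun c => lam' (c.out⁻¹ * x * c.out) / lam' x with hf
    set FN : Finset (G ⧸ H) := Fx.filter (fun c => P ≤ stabilizer G c) with hFNdef
    set F' : Finset (G ⧸ H) := Fx.filter (fun c => ¬ P ≤ stabilizer G c)
      with hF'def
    have hmemF' : ∀ c, c ∈ F' ↔ x • c = c ∧ ¬ P ≤ stabilizer G c := by
      intro c; rw [hF'def, Finset.mem_filter, hmemFx]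
    have hsplit : ∏ c ∈ Fx, f c = (∏ c ∈ FN, f c) * ∏ c ∈ F', f c :=
      (Finset.prod_filter_mul_prod_filter_not Fx _ f).symm
    have hFN : ∏ c ∈ FN, f c = 1 := by
      apply Finset.prod_eq_one
      intro c hc
      rw [hFNdef, Finset.mem_filter, hmemFx] at hc
      obtain ⟨hcx, hcQ⟩ := hc
      have hn : ∀ q ∈ P, c.out⁻¹ * q * c.out ∈ H :=
        fun q hq => (smul_eq_iff_out_conj_mem _ q c).mp (mem_stabilizer_iff.mp (hcQ hq))
      have hmem : c.out⁻¹ * x * c.out ∈ H :=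
        (smul_eq_iff_out_conj_mem _ x c).mp hcx
      show lam' _ / lam' x = 1
      rw [lam'_eq _ hmem, lam'_eq _ (hPH hx), hfix c.out hn x hx hmem, div_self']
    rw [hsplit, hFN, one_mul]
    -- the cosets not fixed by P, grouped by orbits of Y = P ⟨x⟩ = P
    set Y : Subgroup G := P ⊔ zpowers x with hY
    have hYP : Y ≤ P := sup_le le_rfl ((zpowers_le).mpr hx)
    have hYH : Y ≤ H := hYP.trans hPH
    have hxY : x ∈ Y := le_sup_right (a := P) (b := zpowers x) (mem_zpowers x)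
    have hQY : P ≤ Y := le_sup_left
    set blk : G ⧸ H → Finset (G ⧸ H) :=
      fun c => F'.filter (fun c' => ∃ y ∈ Y, y • c = c') with hblk
    apply prod_eq_one_of_blocks f blk F'.card F' rfl
    · intro c hc
      rw [hblk, Finset.mem_filter]
      exact ⟨hc, 1, Y.one_mem, one_smul _ _⟩
    · intro c _
      rw [hblk]
      exact Finset.filter_subset _ _
    · intro a _ b hb
      rw [hblk, Finset.mem_filter] at hb
      obtain ⟨-, y, hyY, rfl⟩ := hb
      rw [hblk]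
      ext d
      simp only [Finset.mem_filter]
      constructor
      · rintro ⟨hd, y', hy'Y, rfl⟩
        exact ⟨hd, y' * y, Y.mul_mem hy'Y hyY, mul_smul _ _ _⟩
      · rintro ⟨hd, y', hy'Y, rfl⟩
        refine ⟨hd, y' * y⁻¹, Y.mul_mem hy'Y (Y.inv_mem hyY), ?_⟩
        rw [mul_smul, inv_smul_smul]
    · intro c hc
      obtain ⟨hcx, hcQ⟩ := (hmemF' c).mp hc
      set Yc : Subgroup G := Y ⊓ stabilizer G c with hYc
      have hne : Yc ≠ Y := by
        intro h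
        apply hcQ
        intro q hq
        have : q ∈ Yc := by rw [h]; exact hQY hq
        exact this.2
      obtain ⟨Y₁, hYcY₁, hY₁Y, hrel, hnorm, hcos, hzpow⟩ :=
        exists_max_normal (p := p) Y Yc (hPp.to_le hYP) inf_le_left hne
      have hxY₁ : x ∈ Y₁ := hYcY₁ ⟨hxY, mem_stabilizer_iff.mpr hcx⟩
      have hexz : ∃ z ∈ P, z ∉ Y₁ := by
        by_contra hcon
        have hcon' : ∀ z ∈ P, z ∈ Y₁ := fun z hz => by
          by_contra hz'
          exact hcon ⟨z, hz, hz'⟩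
        have hYY₁ : Y ≤ Y₁ := sup_le hcon' ((zpowers_le).mpr hxY₁)
        have : Y₁ = Y := le_antisymm hY₁Y hYY₁
        rw [this, Subgroup.relIndex_self] at hrel
        exact hp.out.one_lt.ne hrel
      obtain ⟨z, hzQ, hzY₁⟩ := hexz
      have hzY : z ∈ Y := hQY hzQ
      have hF : ∀ c', c' ∈ blk c ↔ x • c' = c' ∧ ∃ y ∈ Y, y • c = c' := by
        intro c'
        rw [hblk, Finset.mem_filter, hmemF']
        constructor
        · rintro ⟨⟨h1, -⟩, h2⟩
          exact ⟨h1, h2⟩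
        · rintro ⟨h1, y, hyY, rfl⟩
          refine ⟨⟨h1, fun hle => hcQ ?_⟩, y, hyY, rfl⟩
          intro q hq
          have hyP : y ∈ P := hYP hyY
          have h3 : y * q * y⁻¹ ∈ P := P.mul_mem (P.mul_mem hyP hq) (P.inv_mem hyP)
          have h4 := mem_stabilizer_iff.mp (hle h3)
          rw [mul_smul, mul_smul, inv_smul_smul] at h4
          exact mem_stabilizer_iff.mpr (smul_left_cancel y h4)
      obtain ⟨ν, hνp, hprodeq⟩ := orbit_prod_gen (p := p) H lam' lam'_mul Y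
        (fun g y hy hy' => hdef' g y (hYP hy) hy') x (hPH hx)
        (fun g y hy hy' hlt => ih' g y (hYP hy) hy' (hxm ▸ hlt)) Y₁ hYH hY₁Y hxY₁ z hzY hnorm
        (hcos z hzY hzY₁) (hzpow z hzY hzY₁) c
        (fun y hy hfix => hYcY₁ ⟨hy, mem_stabilizer_iff.mpr hfix⟩) (blk c) hF
      have hmemu : iterComm x z (p - 1) ∈ Y₁ :=
        iterComm_mem Y₁ x z hxY₁ (fun s hs => hnorm z hzY s hs) (p - 1)
      rw [hprodeq hmemu]
      exact hNS x hx z hzQ Y₁ hY₁Y hxY₁ hzY₁ hrel hnorm hcos ν hνp hmemu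
  intro x hx hxm g hx'
  obtain ⟨y, hy, g', hyx, hlamy⟩ := hrep x hx g hx'
  rw [← hlamy]
  have h1 := key x hx hxm
  have hord : orderOf y = m := by
    have h0 : y = MulAut.conj g'⁻¹ x := by rw [MulAut.conj_apply, inv_inv]; exact hyx
    rw [h0, MulEquiv.orderOf_eq, hxm]
  have h2 := key y hy hord
  have h3 : τ y = τ x := by
    rw [hyx, map_mul, map_mul, map_inv, mul_comm, ← mul_assoc, mul_inv_cancel, one_mul]
  rw [h3, h1, lam'_eq _ (hPH hx), lam'_eq _ (hPH hy)] at h2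
  set r : A := lam ⟨y, hPH hy⟩ / lam ⟨x, hPH hx⟩ with hr
  have hr1 : r ^ H.index = 1 := by
    rw [hr, div_pow, ← h2, div_self']
  have hr2 : r ^ e = 1 := by
    rw [hr, div_pow, hexp, hexp, div_self']
  have hg : r ^ Nat.gcd H.index e = 1 := pow_gcd_eq_one.mpr ⟨hr1, hr2⟩
  rw [hcop, pow_one] at hg
  exact div_eq_one.mp hg

theorem stable_all_gen [Finite G] {p : ℕ} [hp : Fact p.Prime] (H P : Subgroup G) (hPH : P ≤ H)
    (hPp : IsPGroup p P) (hidx : ¬ p ∣ H.index)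
    {A : Type*} [CommGroup A] (hNS : NoSing p P P A) :
    ∀ (a : ℕ) (lam : H →* A),
      (∀ g : G, (∀ q ∈ P, g⁻¹ * q * g ∈ H) → ∀ (x : G) (hx : x ∈ P) (hx' : g⁻¹ * x * g ∈ H),
        lam ⟨g⁻¹ * x * g, hx'⟩ = lam ⟨x, hPH hx⟩) →
      (∀ (x : G) (_ : x ∈ P) (g : G) (hx' : g⁻¹ * x * g ∈ H), ∃ (y : G) (hy : y ∈ P) (g' : G),
        y = g'⁻¹ * x * g' ∧ lam ⟨y, hPH hy⟩ = lam ⟨g⁻¹ * x * g, hx'⟩) →
      (∀ s, lam s ^ p ^ a = 1) →
      ∀ (x : G) (hx : x ∈ P) (g : G) (hx' : g⁻¹ * x * g ∈ H),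
        lam ⟨g⁻¹ * x * g, hx'⟩ = lam ⟨x, hPH hx⟩ := by
  intro a
  induction a with
  | zero =>
    intro lam _ _ hexp x hx g hx'
    have h1 := hexp ⟨x, hPH hx⟩
    have h2 := hexp ⟨g⁻¹ * x * g, hx'⟩
    rw [pow_zero, pow_one] at h1 h2
    rw [h1, h2]
  | succ a iha =>
    intro lam hfix hrep hexp x hx g hx'
    set mu : H →* A := (powMonoidHom p).comp lam with hmu
    have hmu_apply : ∀ s, mu s = lam s ^ p := fun s => rfl
    have hmu_fix : ∀ g : G, (∀ q ∈ P, g⁻¹ * q * g ∈ H) → ∀ (x : G) (hx : x ∈ P)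
        (hx' : g⁻¹ * x * g ∈ H), mu ⟨g⁻¹ * x * g, hx'⟩ = mu ⟨x, hPH hx⟩ := by
      intro g hg x hx hx'
      rw [hmu_apply, hmu_apply, hfix g hg x hx hx']
    have hmu_rep : ∀ (x : G) (_ : x ∈ P) (g : G) (hx' : g⁻¹ * x * g ∈ H), ∃ (y : G) (hy : y ∈ P)
        (g' : G), y = g'⁻¹ * x * g' ∧ mu ⟨y, hPH hy⟩ = mu ⟨g⁻¹ * x * g, hx'⟩ := by
      intro x hx g hx'
      obtain ⟨y, hy, g', h1, h2⟩ := hrep x hx g hx'
      exact ⟨y, hy, g', h1, by rw [hmu_apply, hmu_apply, h2]⟩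
    have hmu_exp : ∀ s, mu s ^ p ^ a = 1 := by
      intro s
      rw [hmu_apply, ← pow_mul, ← pow_succ']
      exact hexp s
    have hmuG := iha mu hmu_fix hmu_rep hmu_exp
    have hdef : ∀ (g y : G) (hy : y ∈ P) (hy' : g⁻¹ * y * g ∈ H),
        (lam ⟨g⁻¹ * y * g, hy'⟩ / lam ⟨y, hPH hy⟩) ^ p = 1 := by
      intro g y hy hy'
      rw [div_pow, div_eq_one, ← hmu_apply, ← hmu_apply]
      exact hmuG y hy g hy'
    have hcop : Nat.Coprime H.index (p ^ (a + 1)) := by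
      apply Nat.Coprime.pow_right
      exact ((Nat.Prime.coprime_iff_not_dvd hp.out).mpr hidx).symm
    exact stable_step_gen H P hPH hPp hNS lam hfix hrep (p ^ (a + 1)) hexp hcop hdef (orderOf x) x hx
      rfl g hx'

end Cfsg.Agent.Helper85.YoF
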