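import Mathlib
import Cfsg.Agent.Lib.Helper57.YoshidaE
import Cfsg.Agent.Lib.Helper57.YoshidaH
import Cfsg.Agent.Lib.Helper47.Frat

set_option autoImplicit false

/-!
# A `p`-group with a singularity maps onto `C_p ≀ C_p` (after helper57's proof of S2807)
-/

namespace Cfsg.Agent.Helper85.YoF

open MulAction Subgroup
open Cfsg.Agent.Helper57.Yoshida

theorem coe_iterComm' {G : Type*} [Group G] (H : Subgroup G) (a b : H) (k : ℕ) :
    ((iterComm a b k : H) : G) = iterComm (a : G) (b : G) k := by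
  induction k with
  | zero => rfl
  | succ k ih =>
    rw [iterComm_succ, iterComm_succ, ← ih]
    rfl

set_option maxHeartbeats 800000 in
/-- a `p`-subgroup without a quotient `C_p ≀ C_p` has no singularities -/
theorem noSing_of_not_surj {G : Type*} [Group G] {p : ℕ} [hp : Fact p.Prime] (P : Subgroup G) [Finite P]
    (hT : IsPGroup p P)
    (hcon : ¬ ∃ (W : Sylow p (Equiv.Perm (Fin (p ^ 2))))
      (f : P →* (W : Subgroup (Equiv.Perm (Fin (p ^ 2))))), Function.Surjective f)
    (A : Type*) [CommGroup A] : NoSing p P P A := by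
  classical
  have hpp : p.Prime := hp.out
  intro x hx z hz Y₁ hY₁Y hxY₁ hzY₁ hrel hnorm hcos ν hνp hmemu
  by_contra hne
  apply hcon
  have hYS : P ⊔ Subgroup.zpowers x = P :=
    sup_eq_left.mpr ((Subgroup.zpowers_le).mpr hx)
  rw [hYS] at hY₁Y hrel hnorm hcos
  set M : Subgroup P := Y₁.subgroupOf P with hM
  have hidx : M.index = p := hrel
  haveI hMn : M.Normal := by
    constructor
    intro m hm t
    rw [hM, Subgroup.mem_subgroupOf] at hm ⊢
    have := hnorm ((t : G)⁻¹) (P.inv_mem t.2) (m : G) hm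
    rw [inv_inv] at this
    exact this
  set z' : P := ⟨z, hz⟩ with hz'
  set x' : P := ⟨x, hx⟩ with hx'
  have hx'M : x' ∈ M := Subgroup.mem_subgroupOf.mpr hxY₁
  have hu'M : iterComm x' z' (p - 1) ∈ M := by
    rw [hM, Subgroup.mem_subgroupOf, coe_iterComm']
    exact hmemu
  set ν' : M →* A := ν.comp (Subgroup.subgroupOfEquivOfLe hY₁Y).toMonoidHom with hν'
  have hν'u : ν' ⟨iterComm x' z' (p - 1), hu'M⟩ = ν ⟨iterComm x z (p - 1), hmemu⟩ := by
    rw [hν', MonoidHom.comp_apply]
    congr 1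
    apply Subtype.ext
    show ((iterComm x' z' (p - 1) : P) : G) = _
    rw [coe_iterComm']
  set E : Subgroup A := ν'.range with hE
  haveI : Finite E := Finite.of_surjective ν'.rangeRestrict ν'.rangeRestrict_surjective
  have hEp : ∀ e : E, e ^ p = 1 := by
    rintro ⟨_, m, rfl⟩
    apply Subtype.ext
    show ν' m ^ p = 1
    rw [hν', MonoidHom.comp_apply]
    exact hνp _
  set a : E := ν'.rangeRestrict ⟨iterComm x' z' (p - 1), hu'M⟩ with ha
  have ha1 : a ≠ 1 := by
    intro h1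
    apply hne
    rw [← hν'u]
    exact congrArg Subtype.val h1
  have hfr := Cfsg.Agent.Helper47.frattini_eq_bot_of_elementary (p := p) hEp
  have hexE₀ : ∃ E₀ : Subgroup E, IsCoatom E₀ ∧ a ∉ E₀ := by
    by_contra hc
    have hc' : ∀ E₀ : Subgroup E, IsCoatom E₀ → a ∈ E₀ := fun E₀ h => by
      by_contra h'
      exact hc ⟨E₀, h, h'⟩
    have hmem : a ∈ frattini E := by
      simp only [frattini, Order.radical, Subgroup.mem_iInf]
      exact fun H hH => hc' H hH
    rw [hfr, Subgroup.mem_bot] at hmem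
    exact ha1 hmem
  obtain ⟨E₀, hcoat, haE₀⟩ := hexE₀
  have hEpg : IsPGroup p E := fun e => ⟨1, by rw [pow_one]; exact hEp e⟩
  obtain ⟨Y', hE₀Y', -, hrel', -, -, -⟩ := exists_max_normal (p := p) (⊤ : Subgroup E) E₀
    (hEpg.to_subgroup ⊤) le_top hcoat.1
  rw [Subgroup.relIndex_top_right] at hrel'
  have hY'E₀ : E₀ = Y' := by
    apply eq_of_le_of_not_lt hE₀Y'
    intro hlt
    have := hcoat.2 Y' hlt
    rw [this, Subgroup.index_top] at hrel'
    exact hpp.one_lt.ne hrel'
  have hE₀idx : E₀.index = p := by rw [hY'E₀]; exact hrel'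
  have hB : Nat.card (E ⧸ E₀) = p := by rw [← Subgroup.index_eq_card, hE₀idx]
  set θ : M →* E ⧸ E₀ := (QuotientGroup.mk' E₀).comp ν'.rangeRestrict with hθ
  have hu : ∃ h : iterComm x' z' (p - 1) ∈ M, θ ⟨iterComm x' z' (p - 1), h⟩ ≠ 1 := by
    refine ⟨hu'M, ?_⟩
    rw [hθ, MonoidHom.comp_apply, QuotientGroup.mk'_apply]
    intro h1
    exact haE₀ ((QuotientGroup.eq_one_iff _).mp h1)
  exact exists_surj_sylow hT M hidx z' hB θ x' hx'M hu

end Cfsg.Agent.Helper85.YoF
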