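import Mathlib
import Cfsg.Agent.Lib.Helper85.Trans1

set_option autoImplicit false

/-!
# The stabilizer of an orbit in a set with two commuting actions, the second one free
-/

namespace Cfsg.Agent.Helper85.YoF

open MulAction Cfsg.Agent.Helper85

section Gadget2

variable {G T X A : Type*} [Group G] [Group T] [MulAction G X] [MulAction T X] [SMulCommClass G T X]
  [CommGroup A]

/-- the action on the orbit space, as an action -/
@[reducible] def orbAction (G T X : Type*) [Group G] [Group T] [MulAction G X] [MulAction T X]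
    [SMulCommClass G T X] : MulAction G (Orb T X) where
  smul g i := orbMap T g i
  one_smul := orbMap_one
  mul_smul := orbMap_mul

/-- the stabilizer of an orbit of the second action -/
def stabOrb (G : Type*) {T X : Type*} [Group G] [Group T] [MulAction G X] [MulAction T X]
    [SMulCommClass G T X] (i₀ : Orb T X) : Subgroup G :=
  letI := orbAction G T X
  MulAction.stabilizer G i₀

theorem mem_stabOrb {i₀ : Orb T X} {g : G} : g ∈ stabOrb G i₀ ↔ orbMap T g i₀ = i₀ := Iff.rfl

theorem stabOrb_spec {i₀ : Orb T X} {g : G} (hg : g ∈ stabOrb G i₀) :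
    bco T g i₀ • orbRep i₀ = g • orbRep i₀ := by
  have := bco_spec (T := T) g i₀
  rw [mem_stabOrb.1 hg] at this
  exact this

theorem mem_stabOrb_of_smul {i₀ : Orb T X} {g : G} {t : T} (h : g • orbRep i₀ = t • orbRep i₀) :
    g ∈ stabOrb G i₀ := by
  rw [mem_stabOrb]
  have h1 : orbMap T g (Quotient.mk'' (orbRep i₀) : Orb T X) = Quotient.mk'' (g • orbRep i₀) := rfl
  rw [mk_orbRep, h, mk_smul, mk_orbRep] at h1
  exact h1

variable (hfree : ∀ (t : T) (x : X), t • x = x → t = 1)
include hfree

theorem bco_eq_of_smul {i₀ : Orb T X} {g : G} {t : T} (h : g • orbRep i₀ = t • orbRep i₀) :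
    bco T g i₀ = t := by
  have hg := mem_stabOrb_of_smul (G := G) h
  have h1 := stabOrb_spec hg
  rw [h] at h1
  have h2 : (t⁻¹ * bco T g i₀) • orbRep i₀ = orbRep i₀ := by
    rw [mul_smul, h1, inv_smul_smul]
  have h3 := hfree _ _ h2
  calc bco T g i₀ = t * (t⁻¹ * bco T g i₀) := by group
    _ = t := by rw [h3, mul_one]

/-- the homomorphism from the stabilizer of an orbit induced by a homomorphism of the freely acting group -/
noncomputable def projHom (lam : T →* A) (i₀ : Orb T X) : stabOrb G i₀ →* A where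
  toFun g := (lam (bco T (g : G) i₀))⁻¹
  map_one' := by
    rw [Subgroup.coe_one, bco_one hfree, map_one, inv_one]
  map_mul' a b := by
    rw [Subgroup.coe_mul, bco_mul hfree, mem_stabOrb.1 b.2, map_mul, mul_inv, mul_comm]

theorem projHom_apply (lam : T →* A) (i₀ : Orb T X) (g : stabOrb G i₀) :
    projHom hfree lam i₀ g = (lam (bco T (g : G) i₀))⁻¹ := rfl

theorem projHom_eq_of_smul (lam : T →* A) {i₀ : Orb T X} {g : G} {t : T}
    (h : g • orbRep i₀ = t • orbRep i₀) (hg : g ∈ stabOrb G i₀) :
    projHom hfree lam i₀ ⟨g, hg⟩ = (lam t)⁻¹ := by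
  rw [projHom_apply]
  show (lam (bco T g i₀))⁻¹ = _
  rw [bco_eq_of_smul hfree h]

/-- a permutation commuting with the free action and moving one orbit to another -/
theorem exists_perm_orb (i j : Orb T X) :
    ∃ ε : Equiv.Perm X, (∀ (t : T) (x : X), ε (t • x) = t • ε x) ∧
      (Quotient.mk'' (ε (orbRep i)) : Orb T X) = j := by
  classical
  let e := orbEquiv (T := T) (X := X) hfree
  let ε : Equiv.Perm X := e.trans ((Equiv.prodCongr (Equiv.swap i j) (Equiv.refl T)).trans e.symm)
  have hε : ∀ x : X, ε x = delta T x • orbRep (Equiv.swap i j (Quotient.mk'' x : Orb T X)) := fun x => rfl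
  refine ⟨ε, ?_, ?_⟩
  · intro t x
    rw [hε, hε, delta_smul hfree, mk_smul, mul_smul]
  · rw [hε, mk_smul, mk_orbRep, mk_orbRep, Equiv.swap_apply_left]

omit hfree in
theorem index_stabOrb [Finite X] (i₀ : Orb T X)
    (htr : ∀ i j : Orb T X, ∃ g : G, orbMap T g i = j) :
    (stabOrb G i₀).index = Nat.card (Orb T X) := by
  letI := orbAction G T X
  haveI : MulAction.IsPretransitive G (Orb T X) := ⟨htr⟩
  exact MulAction.index_stabilizer_of_transitive G i₀

omit hfree in
theorem card_orb_mul [Finite X] (hfree : ∀ (t : T) (x : X), t • x = x → t = 1) :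
    Nat.card (Orb T X) * Nat.card T = Nat.card X := by
  rw [Nat.card_congr (orbEquiv (T := T) (X := X) hfree), Nat.card_prod]

end Gadget2

end Cfsg.Agent.Helper85.YoF
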