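import Mathlib
import Cfsg.Prelude.Def_FusionSystem
import Cfsg.Agent.Lib.Helper85.Trans3
import Cfsg.Agent.Lib.Helper85.YoF2
import Cfsg.Agent.Lib.Helper85.YoF3
import Cfsg.Agent.Lib.Helper85.YoF4

set_option autoImplicit false

/-!
# Yoshida's theorem for fusion systems: homomorphisms stable under `Aut_F(S)` are stable under `F`
when `S` has no quotient `C_p ≀ C_p`
-/

namespace Cfsg.Agent.Helper85.YoF

open Cfsg Cfsg.FusionSystem Cfsg.Agent.Helper87 Cfsg.Agent.Helper85 MulAction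

universe u

section YoF5

variable {Ω : Type u} [Group Ω] {S : Subgroup Ω} {F : FusionSystem S}

/-- the basic computation: a conjugate of a left multiplication that maps `ξ₀` into its right orbit gives an element
of the stabilizer of the translated point -/
theorem mem_stabilizer_of_conj {X : Type u} [MulAction (S × S) X] (γ : rightCentralizer S X) (x t : S) (ξ₀ : X)
    (h : ((γ⁻¹ * leftHom S X x * γ : rightCentralizer S X) : Equiv.Perm X) ξ₀ = ((1 : S), t) • ξ₀) :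
    ((x, t⁻¹) : S × S) ∈ MulAction.stabilizer (S × S) ((γ : Equiv.Perm X) ξ₀) := by
  rw [MulAction.mem_stabilizer_iff]
  have h1 : ((γ⁻¹ * leftHom S X x * γ : rightCentralizer S X) : Equiv.Perm X) ξ₀ =
      ((γ : Equiv.Perm X))⁻¹ (((x, (1 : S)) : S × S) • (γ : Equiv.Perm X) ξ₀) := by
    simp only [Subgroup.coe_mul, Subgroup.coe_inv, Equiv.Perm.coe_mul, Function.comp_apply]
    rw [leftHom_apply]
  rw [h1] at h
  have h2 : ((x, (1 : S)) : S × S) • (γ : Equiv.Perm X) ξ₀ = (γ : Equiv.Perm X) (((1 : S), t) • ξ₀) := by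
    rw [← h]
    simp
  rw [mem_rightCentralizer.1 γ.2 t ξ₀] at h2
  have e : ((x, t⁻¹) : S × S) = ((1 : S), t⁻¹) * (x, (1 : S)) := by simp
  rw [e, mul_smul, h2, ← mul_smul]
  have e2 : (((1 : S), t⁻¹) : S × S) * ((1 : S), t) = 1 := by simp
  rw [e2, one_smul]

set_option maxHeartbeats 1600000 in
/-- **Yoshida's theorem for fusion systems**, in terms of homomorphisms: if `S` has no quotient `C_p ≀ C_p`, a
homomorphism from `S` to an abelian `p`-group which is stable under `Aut_F(S)` is stable under the whole system -/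
theorem stable_of_not_surj [Finite S] {p : ℕ} [Fact p.Prime] (hS : IsPGroup p S) (hF : F.IsSaturated p)
    (hcon : ¬ ∃ (W : Sylow p (Equiv.Perm (Fin (p ^ 2))))
      (f : S →* (W : Subgroup (Equiv.Perm (Fin (p ^ 2))))), Function.Surjective f)
    {A : Type*} [CommGroup A] (lam : S →* A) (a : ℕ) (hexp : ∀ s, lam s ^ p ^ a = 1)
    (hN : ∀ f : Ω → Ω, Mor F S f → ∀ (s : S) (hs : f s ∈ S), lam ⟨f s, hs⟩ = lam s) :
    ∀ (R : Subgroup Ω) (f : Ω → Ω), Mor F R f → ∀ (x : Ω) (_ : x ∈ R) (hxS : x ∈ S) (hfx : f x ∈ S),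
      lam ⟨f x, hfx⟩ = lam ⟨x, hxS⟩ := by
  classical
  obtain ⟨X, iX, fX, hgr, hst, k₀, hk₀, hpk₀⟩ := exists_char_biset hS hF
  letI : MulAction S X := rightAct S X
  have hsm : ∀ (t : S) (x : X), t • x = ((1 : S), t) • x := fun _ _ => rfl
  haveI : SMulCommClass (rightCentralizer S X) S X := ⟨fun γ t x => by
    show (γ : Equiv.Perm X) (t • x) = t • (γ : Equiv.Perm X) x
    rw [hsm, hsm]
    exact mem_rightCentralizer.1 γ.2 t x⟩
  have hfree : ∀ (t : S) (x : X), t • x = x → t = 1 := fun t x h => rightAct_free hgr t x h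
  have hγsm : ∀ (γ : rightCentralizer S X) (x : X), γ • x = (γ : Equiv.Perm X) x := fun _ _ => rfl
  -- cardinality of the orbit space
  have hcard : Nat.card (Orb S X) = k₀ := by
    have h1 := card_orb_mul (T := S) (X := X) hfree
    rw [hk₀, mul_comm] at h1
    exact Nat.eq_of_mul_eq_mul_left Nat.card_pos h1
  -- an orbit fixed by the left action
  letI iOrb : MulAction (rightCentralizer S X) (Orb S X) := orbAction (rightCentralizer S X) S X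
  letI iOrbS : MulAction S (Orb S X) := MulAction.compHom (Orb S X) (leftHom S X)
  obtain ⟨i₀, hi₀⟩ := hS.nonempty_fixed_point_of_prime_not_dvd_card (Orb S X) (by rw [hcard]; exact hpk₀)
  have hi₀' : ∀ s : S, orbMap S (leftHom S X s) i₀ = i₀ := fun s => hi₀ s
  set ξ₀ : X := orbRep i₀ with hξ₀
  set H : Subgroup (rightCentralizer S X) := stabOrb (rightCentralizer S X) i₀ with hH
  set P : Subgroup (rightCentralizer S X) := (leftHom S X).range with hP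
  have hPH : P ≤ H := by
    rintro _ ⟨s, rfl⟩
    exact mem_stabOrb.2 (hi₀' s)
  have hPp : IsPGroup p P :=
    hS.of_surjective (leftHom S X).rangeRestrict (leftHom S X).rangeRestrict_surjective
  have hNS : Cfsg.Agent.Helper57.Yoshida.NoSing p P P A :=
    noSing_of_not_surj P hPp (fun ⟨W, f, hf⟩ => hcon ⟨W, f.comp (leftHom S X).rangeRestrict,
      hf.comp (leftHom S X).rangeRestrict_surjective⟩) A
  have htr : ∀ i j : Orb S X, ∃ g : rightCentralizer S X, orbMap S g i = j := by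
    intro i j
    obtain ⟨ε, hε1, hε2⟩ := exists_perm_orb hfree i j
    refine ⟨⟨ε, mem_rightCentralizer.2 (fun b x => hε1 b x)⟩, ?_⟩
    have h1 : orbMap S (⟨ε, mem_rightCentralizer.2 (fun b x => hε1 b x)⟩ : rightCentralizer S X)
        (Quotient.mk'' (orbRep i) : Orb S X) = Quotient.mk'' (ε (orbRep i)) := rfl
    rw [mk_orbRep] at h1
    rw [h1]
    exact hε2
  have hidx : ¬ p ∣ H.index := by
    rw [hH, index_stabOrb i₀ htr, hcard]
    exact hpk₀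
  set Λ : H →* A := projHom hfree lam i₀ with hΛ
  have hΛexp : ∀ s, Λ s ^ p ^ a = 1 := by
    intro s
    rw [hΛ, projHom_apply, inv_pow, hexp, inv_one]
  -- the value of `Λ` on a conjugate of a left multiplication
  have hA : ∀ (g : rightCentralizer S X) (s : S) (y : rightCentralizer S X)
      (_ : y = g⁻¹ * leftHom S X s * g) (hmem : y ∈ H) (Q : Subgroup Ω) (f : Ω → Ω)
      (_ : ∀ a b : S, (a, b) ∈ MulAction.stabilizer (S × S) ((g : Equiv.Perm X) ξ₀) ↔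
        (a : Ω) ∈ Q ∧ f a = b),
      (s : Ω) ∈ Q ∧ ∃ hfs : f s ∈ S, Λ ⟨y, hmem⟩ = lam ⟨f s, hfs⟩ := by
    intro g s y hy hmem Q f hQ
    subst hy
    have h1 := stabOrb_spec hmem
    set t : S := bco S (g⁻¹ * leftHom S X s * g) i₀ with ht
    have h2 := mem_stabilizer_of_conj g s t ξ₀ (by
      rw [← hsm, ← hγsm]
      exact h1.symm)
    obtain ⟨hsQ, hfs⟩ := (hQ s t⁻¹).1 h2
    have hfsS : f s ∈ S := by rw [hfs]; exact (t⁻¹).2
    refine ⟨hsQ, hfsS, ?_⟩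
    rw [hΛ, projHom_apply, ← map_inv]
    congr 1
    exact Subtype.ext hfs.symm
  -- the value of `Λ` on a left multiplication
  have hB : ∀ s : S, Λ ⟨leftHom S X s, hPH ⟨s, rfl⟩⟩ = lam s := by
    obtain ⟨Q₀, α, hα, hQ₀⟩ := hgr ξ₀
    have hQ₀' : ∀ a b : S, (a, b) ∈ MulAction.stabilizer (S × S)
        (((1 : rightCentralizer S X) : Equiv.Perm X) ξ₀) ↔ (a : Ω) ∈ Q₀ ∧ α a = b := hQ₀
    have hall : ∀ s : S, (s : Ω) ∈ Q₀ ∧ ∃ hfs : α s ∈ S,
        Λ ⟨leftHom S X s, hPH ⟨s, rfl⟩⟩ = lam ⟨α s, hfs⟩ := fun s =>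
      hA 1 s (leftHom S X s) (by rw [inv_one, one_mul, mul_one]) (hPH ⟨s, rfl⟩) Q₀ α hQ₀'
    have hSQ₀ : S ≤ Q₀ := fun s hs => (hall ⟨s, hs⟩).1
    intro s
    obtain ⟨-, hfs, e⟩ := hall s
    rw [e]
    exact hN α (hα.restrict hSQ₀) s hfs
  have hfix : ∀ g : rightCentralizer S X, (∀ q ∈ P, g⁻¹ * q * g ∈ H) →
      ∀ (x : rightCentralizer S X) (hx : x ∈ P) (hx' : g⁻¹ * x * g ∈ H),
      Λ ⟨g⁻¹ * x * g, hx'⟩ = Λ ⟨x, hPH hx⟩ := by
    intro g hg x hx hx'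
    obtain ⟨s, rfl⟩ := hx
    obtain ⟨Q, f, hf, hQ⟩ := hgr ((g : Equiv.Perm X) ξ₀)
    obtain ⟨hsQ, hfs, e⟩ := hA g s _ rfl hx' Q f hQ
    rw [e, hB s]
    have hSQ : S ≤ Q := fun s' hs' => (hA g ⟨s', hs'⟩ _ rfl (hg _ ⟨_, rfl⟩) Q f hQ).1
    exact hN f (hf.restrict hSQ) s hfs
  have hrep : ∀ (x : rightCentralizer S X) (_ : x ∈ P) (g : rightCentralizer S X)
      (hx' : g⁻¹ * x * g ∈ H), ∃ (y : rightCentralizer S X) (hy : y ∈ P) (g' : rightCentralizer S X),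
      y = g'⁻¹ * x * g' ∧ Λ ⟨y, hPH hy⟩ = Λ ⟨g⁻¹ * x * g, hx'⟩ := by
    intro x hx g hx'
    obtain ⟨s, rfl⟩ := hx
    obtain ⟨Q, f, hf, hQ⟩ := hgr ((g : Equiv.Perm X) ξ₀)
    obtain ⟨hsQ, hfs, e⟩ := hA g s _ rfl hx' Q f hQ
    obtain ⟨φ, hφ, eφ⟩ := hf
    obtain ⟨ε, hε⟩ := exists_intertwiner hgr hst (F.le_of_mem hφ).1 hφ (F.le_of_mem hφ).2
    have h1 := hε ⟨s, hsQ⟩
    refine ⟨leftHom S X ⟨f s, hfs⟩, ⟨_, rfl⟩, ε⁻¹, ?_, ?_⟩
    · rw [inv_inv]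
      have e1 : (⟨f s, hfs⟩ : S) = ⟨φ ⟨s, hsQ⟩, (F.le_of_mem hφ).2 ⟨s, hsQ⟩⟩ :=
        Subtype.ext (eφ ⟨s, hsQ⟩).symm
      rw [e1, h1]
    · rw [hB, e]
  have hall := stable_all_gen H P hPH hPp hidx hNS a Λ hfix hrep hΛexp
  intro R f hf x hxR hxS hfx
  obtain ⟨φ, hφ, eφ⟩ := hf
  obtain ⟨ε, hε⟩ := exists_intertwiner hgr hst (F.le_of_mem hφ).1 hφ (F.le_of_mem hφ).2
  have h1 := hε ⟨x, hxR⟩
  have hy : (ε⁻¹)⁻¹ * leftHom S X ⟨x, hxS⟩ * ε⁻¹ = leftHom S X ⟨f x, hfx⟩ := by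
    rw [inv_inv]
    have e1 : (⟨f x, hfx⟩ : S) = ⟨φ ⟨x, hxR⟩, (F.le_of_mem hφ).2 ⟨x, hxR⟩⟩ :=
      Subtype.ext (eφ ⟨x, hxR⟩).symm
    rw [e1, h1]
  have hmem : (ε⁻¹)⁻¹ * leftHom S X ⟨x, hxS⟩ * ε⁻¹ ∈ H := by
    rw [hy]
    exact hPH ⟨_, rfl⟩
  have h2 := hall (leftHom S X ⟨x, hxS⟩) ⟨_, rfl⟩ ε⁻¹ hmem
  have e2 : (⟨(ε⁻¹)⁻¹ * leftHom S X ⟨x, hxS⟩ * ε⁻¹, hmem⟩ : H) =
      ⟨leftHom S X ⟨f x, hfx⟩, hPH ⟨_, rfl⟩⟩ := Subtype.ext hy
  rw [e2, hB, hB] at h2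
  exact h2

end YoF5

end Cfsg.Agent.Helper85.YoF
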